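import Cfsg.Agent.Lib.Fusion.Saturation

/-!
The fusion system of a finite group on a Sylow subgroup is saturated.
-/

set_option autoImplicit false

namespace Cfsg

namespace FusionSystem

variable {G : Type*} [Group G] {p : ℕ} [Fact p.Prime]

section sylowIn

/-- `A` is a Sylow `p`-subgroup of `B`, phrased in the ambient group. -/
def IsSylowIn (p : ℕ) (A B : Subgroup G) : Prop :=
  A ≤ B ∧ IsPGroup p A ∧ ¬ p ∣ A.relIndex B

variable [Finite G] {A B C X : Subgroup G}

theorem isSylowIn_iff (hAB : A ≤ B) :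
    IsSylowIn p A B ↔ ∃ R : Sylow p B, (R : Subgroup B) = A.subgroupOf B := by
  constructor
  · rintro ⟨-, hA, hi⟩
    exact ⟨(hA.of_equiv (Subgroup.subgroupOfEquivOfLe hAB).symm).toSylow hi, rfl⟩
  · rintro ⟨R, hR⟩
    refine ⟨hAB, ?_, ?_⟩
    · have h := R.2
      rw [hR] at h
      exact h.of_equiv (Subgroup.subgroupOfEquivOfLe hAB)
    · show ¬ p ∣ (A.subgroupOf B).index
      rw [← hR]
      exact R.not_dvd_index

theorem IsSylowIn.exists_conj_le (h : IsSylowIn p A B) (hX : IsPGroup p X) (hXB : X ≤ B) :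
    ∃ b ∈ B, ∀ x ∈ X, b * x * b⁻¹ ∈ A := by
  obtain ⟨R, hR⟩ := (isSylowIn_iff h.1).mp h
  obtain ⟨b, hb⟩ := exists_conj_mem_sylow R (hX.of_equiv (Subgroup.subgroupOfEquivOfLe hXB).symm)
  refine ⟨b, b.2, fun x hx => ?_⟩
  have := hb ⟨x, hXB hx⟩ hx
  rw [hR] at this
  exact this

theorem IsSylowIn.card_le (h : IsSylowIn p A B) (hX : IsPGroup p X) (hXB : X ≤ B) :
    Nat.card X ≤ Nat.card A := by
  obtain ⟨b, -, hb⟩ := h.exists_conj_le hX hXB
  exact Nat.card_le_card_of_injective (fun x : X => (⟨_, hb x x.2⟩ : A))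
    fun x y e => Subtype.ext (mul_left_cancel (mul_right_cancel (congrArg Subtype.val e)))

theorem IsSylowIn.eq_of_le (h : IsSylowIn p A B) (hX : IsPGroup p X) (hXB : X ≤ B) (hAX : A ≤ X) :
    A = X :=
  Subgroup.eq_of_le_of_card_ge hAX (h.card_le hX hXB)

theorem exists_isSylowIn (p : ℕ) [Fact p.Prime] (B : Subgroup G) :
    ∃ A, IsSylowIn p A B := by
  obtain ⟨R⟩ : Nonempty (Sylow p B) := Sylow.nonempty
  refine ⟨(R : Subgroup B).map B.subtype, (isSylowIn_iff (Subgroup.map_subtype_le _)).mpr ⟨R, ?_⟩⟩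
  exact (Subgroup.comap_map_eq_self_of_injective B.subtype_injective _).symm

theorem isSylowIn_of_card_eq (h : IsSylowIn p A B) (hX : IsPGroup p X) (hXB : X ≤ B)
    (hc : Nat.card A ≤ Nat.card X) : IsSylowIn p X B := by
  refine ⟨hXB, hX, ?_⟩
  have e : Nat.card X = Nat.card A := le_antisymm (h.card_le hX hXB) hc
  have h1 : Nat.card X * X.relIndex B = Nat.card A * A.relIndex B := by
    rw [← Nat.card_congr (Subgroup.subgroupOfEquivOfLe hXB).toEquiv,
      ← Nat.card_congr (Subgroup.subgroupOfEquivOfLe h.1).toEquiv]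
    exact (Subgroup.card_mul_index _).trans (Subgroup.card_mul_index _).symm
  rw [e] at h1
  rw [Nat.eq_of_mul_eq_mul_left Nat.card_pos h1]
  exact h.2.2

theorem IsSylowIn.inf_of_normal (h : IsSylowIn p A B) (hCB : C ≤ B)
    (hC : B ≤ Subgroup.normalizer (C : Set G)) : IsSylowIn p (A ⊓ C) C := by
  refine ⟨inf_le_right, h.2.1.to_le inf_le_left, ?_⟩
  obtain ⟨R, hR⟩ := exists_isSylowIn p C
  obtain ⟨b, hbB, hb⟩ := h.exists_conj_le hR.2.1 (hR.1.trans hCB)
  exact (isSylowIn_of_card_eq hR (h.2.1.to_le inf_le_left) inf_le_right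
    (Nat.card_le_card_of_injective
      (fun x => (⟨_, hb x x.2, (Subgroup.mem_normalizer_iff.mp (hC hbB) x).mp (hR.1 x.2)⟩ :
        (A ⊓ C : Subgroup G)))
      fun x y e => Subtype.ext (mul_left_cancel (mul_right_cancel (congrArg Subtype.val e))))).2.2

theorem IsSylowIn.sup_of_normalizes (h : IsSylowIn p A C) {T : Subgroup G} (hT : IsPGroup p T)
    (hAT : A ≤ T) (hTC : T ≤ Subgroup.normalizer (C : Set G)) : IsSylowIn p T (T ⊔ C) := by
  refine ⟨le_sup_left, hT, ?_⟩
  let f : C ⧸ T.subgroupOf C ↪ ↥(T ⊔ C) ⧸ T.subgroupOf (T ⊔ C) :=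
    Subgroup.quotientSubgroupOfEmbeddingOfLE T (le_sup_right : C ≤ T ⊔ C)
  have hsurj : Function.Surjective f := by
    intro y
    induction y using QuotientGroup.induction_on with
    | H m =>
      have hm : ((m : G))⁻¹ ∈ (↑(T ⊔ C) : Set G) := (T ⊔ C).inv_mem m.2
      rw [Subgroup.coe_mul_of_left_le_normalizer_right T C hTC] at hm
      obtain ⟨t, ht, c, hc, e⟩ := hm
      refine ⟨QuotientGroup.mk ⟨c⁻¹, C.inv_mem hc⟩, ?_⟩
      show QuotientGroup.mk (Subgroup.inclusion le_sup_right (⟨c⁻¹, C.inv_mem hc⟩ : C)) =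
        (QuotientGroup.mk m : ↥(T ⊔ C) ⧸ T.subgroupOf (T ⊔ C))
      rw [QuotientGroup.eq, Subgroup.mem_subgroupOf]
      show (c⁻¹)⁻¹ * (m : G) ∈ T
      have hm' : (m : G) = c⁻¹ * t⁻¹ := by
        rw [← inv_inv (m : G), ← e]
        simp
      rw [hm', inv_inv, mul_inv_cancel_left]
      exact T.inv_mem ht
  have hle : T.relIndex (T ⊔ C) = T.relIndex C :=
    (Nat.card_congr (Equiv.ofBijective f ⟨f.injective, hsurj⟩)).symm
  rw [hle]
  have : A ≤ T ⊓ C := le_inf hAT h.1
  have heq : A = T ⊓ C := h.eq_of_le (hT.to_le inf_le_left) inf_le_right this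
  intro hd
  apply h.2.2
  rw [heq, Subgroup.inf_relIndex_right]
  exact hd

end sylowIn

section group

variable {S P Q : Subgroup G}

theorem mem_groupFusionSystem_hom {φ : P →* G} :
    φ ∈ (groupFusionSystem S).Hom P ↔
      P ≤ S ∧ (∀ x : P, φ x ∈ S) ∧ ∃ g : G, ∀ x : P, φ x = g * (x : G) * g⁻¹ := Iff.rfl

theorem conjHom_mem_groupFusionSystem {g : G} (hP : P ≤ S) (h : ∀ x ∈ P, g * x * g⁻¹ ∈ S) :
    conjHom P g ∈ (groupFusionSystem S).Hom P :=
  ⟨hP, fun x => h x x.2, g, fun _ => rfl⟩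

theorem range_conjHom (g : G) : (conjHom P g).range = P.map (MulAut.conj g).toMonoidHom := by
  rw [conjHom, MonoidHom.range_comp, Subgroup.range_subtype]

theorem isConj_groupFusionSystem_iff :
    (groupFusionSystem S).IsConj P Q ↔
      P ≤ S ∧ Q ≤ S ∧ ∃ g : G, P.map (MulAut.conj g).toMonoidHom = Q := by
  constructor
  · rintro ⟨φ, ⟨hP, hφS, g, hg⟩, rfl⟩
    refine ⟨hP, ?_, g, ?_⟩
    · rintro _ ⟨x, rfl⟩
      exact hφS x
    · rw [show φ = conjHom P g from MonoidHom.ext hg, range_conjHom]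
  · rintro ⟨hP, hQ, g, rfl⟩
    exact ⟨conjHom P g, conjHom_mem_groupFusionSystem hP fun x hx => hQ ⟨x, hx, rfl⟩, range_conjHom g⟩

theorem autGroup_groupFusionSystem (hP : P ≤ S) :
    (groupFusionSystem S).autGroup P = autInducedBy ⊤ P := by
  ext α
  rw [(groupFusionSystem S).mem_autGroup_iff hP]
  constructor
  · rintro ⟨-, -, g, hg⟩
    exact Subgroup.subset_closure ⟨g, trivial, hg⟩
  · intro hα
    obtain ⟨g, -, hN, he⟩ := mem_autInducedBy_iff.mp hα
    exact ⟨hP, fun x => hP (α x).2, g, he⟩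

variable [Finite G]

theorem isPGroup_normalizerIn (S : Sylow p G) : IsPGroup p (normalizerIn (S : Subgroup G) P) :=
  S.2.to_le normalizerIn_le

/-- Every subgroup of `S` is conjugate to one whose normaliser in `S` is Sylow in its normaliser. -/
theorem exists_conj_isSylowIn (S : Sylow p G) (hP : P ≤ S) :
    ∃ g : G, P.map (MulAut.conj g).toMonoidHom ≤ S ∧
      IsSylowIn p (normalizerIn (S : Subgroup G) (P.map (MulAut.conj g).toMonoidHom))
        (Subgroup.normalizer ((P.map (MulAut.conj g).toMonoidHom : Subgroup G) : Set G)) := by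
  obtain ⟨T, hT⟩ := exists_isSylowIn p (Subgroup.normalizer (P : Set G))
  obtain ⟨g, hg⟩ := exists_conj_mem_sylow S hT.2.1
  refine ⟨g, ?_⟩
  have hPT : P ≤ T := by
    have hPp : IsPGroup p P := S.2.to_le hP
    obtain ⟨b, hb, hb'⟩ := hT.exists_conj_le hPp Subgroup.le_normalizer
    intro x hx
    have hx' : b⁻¹ * x * b ∈ P := (Subgroup.mem_normalizer_iff''.mp hb x).mp hx
    have := hb' _ hx'
    simpa [mul_assoc] using this
  have hQS : P.map (MulAut.conj g).toMonoidHom ≤ S := by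
    rintro _ ⟨x, hx, rfl⟩
    exact hg x (hPT hx)
  refine ⟨hQS, ?_⟩
  let Q := P.map (MulAut.conj g).toMonoidHom
  let T' := T.map (MulAut.conj g).toMonoidHom
  have hN : (Subgroup.normalizer (P : Set G)).map (MulAut.conj g).toMonoidHom =
      Subgroup.normalizer (Q : Set G) :=
    Subgroup.map_normalizer_eq_of_bijective P (MulEquiv.bijective (MulAut.conj g))
  have hT'S : T' ≤ normalizerIn (S : Subgroup G) Q := by
    refine le_inf ?_ (hN ▸ Subgroup.map_mono hT.1)
    rintro _ ⟨x, hx, rfl⟩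
    exact hg x hx
  have hT' : IsSylowIn p T' (Subgroup.normalizer (Q : Set G)) := by
    refine ⟨hN ▸ Subgroup.map_mono hT.1, hT.2.1.map _, ?_⟩
    rw [← hN, Subgroup.relIndex_map_map_of_injective _ _ (MulEquiv.injective (MulAut.conj g))]
    exact hT.2.2
  have := hT'.eq_of_le (isPGroup_normalizerIn S) inf_le_right hT'S
  rwa [← this]

theorem centralizerIn_isSylowIn (hQ : IsSylowIn p (normalizerIn S Q) (Subgroup.normalizer (Q : Set G))) :
    IsSylowIn p (centralizerIn S Q) (Subgroup.centralizer (Q : Set G)) := by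
  have h := hQ.inf_of_normal (Subgroup.centralizer_le_normalizer _)
    (C := Subgroup.centralizer (Q : Set G)) (by
      intro g hg
      refine Subgroup.mem_normalizer_iff.mpr fun x => ?_
      have key : ∀ {a : G}, a ∈ Subgroup.normalizer (Q : Set G) → ∀ {c : G},
          c ∈ Subgroup.centralizer (Q : Set G) → a * c * a⁻¹ ∈ Subgroup.centralizer (Q : Set G) := by
        intro a ha c hc
        refine Subgroup.mem_centralizer_iff.mpr fun q hq => ?_
        have h1 := Subgroup.mem_centralizer_iff.mp hc _ ((Subgroup.mem_normalizer_iff''.mp ha q).mp hq)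
        calc q * (a * c * a⁻¹) = a * ((a⁻¹ * q * a) * c) * a⁻¹ := by group
          _ = a * c * a⁻¹ * q := by rw [h1]; group
      exact ⟨key hg, fun h => by simpa [mul_assoc] using key (Subgroup.inv_mem _ hg) h⟩)
  have e : normalizerIn S Q ⊓ Subgroup.centralizer (Q : Set G) = centralizerIn S Q := by
    rw [normalizerIn, inf_assoc, inf_eq_right.mpr (Subgroup.centralizer_le_normalizer _)]
    rfl
  rwa [e] at h

/-- Maps onto a subgroup with Sylow centraliser extend (via an element centralising it). -/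
theorem exists_conj_extender_le (S : Sylow p G) (hQ : Q ≤ S)
    (hC : IsSylowIn p (centralizerIn (S : Subgroup G) Q) (Subgroup.centralizer (Q : Set G)))
    (g : G) (X : Subgroup G) (hX : IsPGroup p X)
    (h : ∀ x ∈ X, g * x * g⁻¹ ∈
      normalizerIn (S : Subgroup G) Q ⊔ Subgroup.centralizer (Q : Set G)) :
    ∃ c ∈ Subgroup.centralizer (Q : Set G), ∀ x ∈ X, c * g * x * (c * g)⁻¹ ∈ (S : Subgroup G) := by
  have hn : normalizerIn (S : Subgroup G) Q ≤
      Subgroup.normalizer (Subgroup.centralizer (Q : Set G) : Set G) := by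
    intro a ha
    refine Subgroup.mem_normalizer_iff.mpr fun x => ?_
    have key : ∀ {a : G}, a ∈ Subgroup.normalizer (Q : Set G) → ∀ {c : G},
        c ∈ Subgroup.centralizer (Q : Set G) → a * c * a⁻¹ ∈ Subgroup.centralizer (Q : Set G) := by
      intro a ha c hc
      refine Subgroup.mem_centralizer_iff.mpr fun q hq => ?_
      have h1 := Subgroup.mem_centralizer_iff.mp hc _ ((Subgroup.mem_normalizer_iff''.mp ha q).mp hq)
      calc q * (a * c * a⁻¹) = a * ((a⁻¹ * q * a) * c) * a⁻¹ := by group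
        _ = a * c * a⁻¹ * q := by rw [h1]; group
    exact ⟨key ha.2, fun h => by simpa [mul_assoc] using key (Subgroup.inv_mem _ ha.2) h⟩
  have hM := hC.sup_of_normalizes (isPGroup_normalizerIn S) centralizerIn_le_normalizerIn hn
  obtain ⟨m, hm, hm'⟩ := hM.exists_conj_le (hX.map (MulAut.conj g).toMonoidHom) (by
    rintro _ ⟨x, hx, rfl⟩
    exact h x hx)
  rw [← SetLike.mem_coe, Subgroup.coe_mul_of_left_le_normalizer_right _ _ hn] at hm
  obtain ⟨n, hnN, c, hc, rfl⟩ := hm
  refine ⟨c, hc, fun x hx => ?_⟩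
  have h1 := (hm' (g * x * g⁻¹) ⟨x, hx, rfl⟩).1
  have h2 := S.1.mul_mem (S.1.mul_mem (S.1.inv_mem (normalizerIn_le hnN)) h1) (normalizerIn_le hnN)
  simpa [mul_assoc] using h2

theorem isReceptive_of_isSylowIn_centralizer (S : Sylow p G) (hQ : Q ≤ S)
    (hC : IsSylowIn p (centralizerIn (S : Subgroup G) Q) (Subgroup.centralizer (Q : Set G))) :
    (groupFusionSystem (S : Subgroup G)).IsReceptive Q := by
  refine ⟨hQ, fun P φ hφ hr => ?_⟩
  obtain ⟨hP, hφS, g, hg⟩ := hφ
  have hN : extender (S : Subgroup G) P φ ≤ (S : Subgroup G) := fun x hx =>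
    normalizerIn_le (extender_le_normalizerIn hφS hx)
  obtain ⟨c, hc, hcS⟩ := exists_conj_extender_le S hQ hC g _ (S.2.to_le hN) (by
    intro x hx
    obtain ⟨-, hxN, h, hhS, hh⟩ := (mem_extender_iff hφS).mp hx
    have key : ∀ y ∈ Q, h * y * h⁻¹ = g * x * g⁻¹ * y * (g * x * g⁻¹)⁻¹ := by
      intro y hy
      obtain ⟨z, rfl⟩ := hr.ge hy
      rw [← hh z ((Subgroup.mem_normalizer_iff.mp hxN z).mp z.2), hg, hg]
      group
    have hxQ : g * x * g⁻¹ ∈ Subgroup.normalizer (Q : Set G) := by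
      refine Subgroup.mem_normalizer_iff.mpr fun y => ?_
      constructor
      · intro hy
        obtain ⟨z, rfl⟩ := hr.ge hy
        have hz := (Subgroup.mem_normalizer_iff.mp hxN z).mp z.2
        refine hr.le ⟨⟨_, hz⟩, ?_⟩
        rw [hg, hg]
        group
      · intro hy
        obtain ⟨z, hz⟩ := hr.ge hy
        have hz' := (Subgroup.mem_normalizer_iff''.mp hxN z).mp z.2
        refine hr.le ⟨⟨_, hz'⟩, ?_⟩
        rw [hg] at hz ⊢
        have hy' : y = (g * x * g⁻¹)⁻¹ * (g * z * g⁻¹) * (g * x * g⁻¹) := by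
          rw [hz]; group
        rw [hy']
        group
    have hhN : h ∈ Subgroup.normalizer (Q : Set G) := by
      refine Subgroup.mem_normalizer_iff.mpr fun y => ⟨fun hy => ?_, fun hy => ?_⟩
      · rw [key y hy]
        exact (Subgroup.mem_normalizer_iff.mp hxQ y).mp hy
      · have hu : (g * x * g⁻¹)⁻¹ * (h * y * h⁻¹) * (g * x * g⁻¹) ∈ Q :=
          (Subgroup.mem_normalizer_iff''.mp hxQ _).mp hy
        have h1 := key _ hu
        have h2 : h * ((g * x * g⁻¹)⁻¹ * (h * y * h⁻¹) * (g * x * g⁻¹)) * h⁻¹ = h * y * h⁻¹ := by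
          rw [h1]; group
        rwa [mul_left_cancel (mul_right_cancel h2)] at hu
    have hcen : h⁻¹ * (g * x * g⁻¹) ∈ Subgroup.centralizer (Q : Set G) := by
      refine Subgroup.mem_centralizer_iff.mpr fun y hy => ?_
      calc y * (h⁻¹ * (g * x * g⁻¹)) = h⁻¹ * (h * y * h⁻¹) * (g * x * g⁻¹) := by group
        _ = h⁻¹ * (g * x * g⁻¹) * y := by rw [key y hy]; group
    have := Subgroup.mul_mem_sup (show h ∈ normalizerIn (S : Subgroup G) Q from ⟨hhS, hhN⟩) hcen
    rwa [mul_inv_cancel_left] at this)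
  refine ⟨conjHom _ (c * g), conjHom_mem_groupFusionSystem hN hcS, fun x hxP hxN => ?_⟩
  show c * g * x * (c * g)⁻¹ = φ ⟨x, hxP⟩
  rw [hg]
  have hy : g * x * g⁻¹ ∈ Q := hr.le ⟨⟨x, hxP⟩, hg _⟩
  have := Subgroup.mem_centralizer_iff.mp hc _ hy
  calc c * g * x * (c * g)⁻¹ = c * (g * x * g⁻¹) * c⁻¹ := by group
    _ = g * x * g⁻¹ := by rw [← this]; group

theorem isFullyAutomized_of_isSylowIn_normalizer (S : Sylow p G) (hQ : Q ≤ S)
    (hN : IsSylowIn p (normalizerIn (S : Subgroup G) Q) (Subgroup.normalizer (Q : Set G))) :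
    (groupFusionSystem (S : Subgroup G)).IsFullyAutomized p Q := by
  refine ⟨hQ, ?_⟩
  rw [autGroup_groupFusionSystem hQ]
  have hle : autInducedBy (S : Subgroup G) Q ≤ autInducedBy ⊤ Q := autInducedBy_mono le_top
  have hp : IsPGroup p ((autInducedBy (S : Subgroup G) Q).subgroupOf (autInducedBy ⊤ Q)) :=
    (isPGroup_autInducedBy S.2).of_equiv (Subgroup.subgroupOfEquivOfLe hle).symm
  refine ⟨hp.toSylow ?_, rfl⟩
  intro hdvd
  apply hN.2.2
  refine dvd_trans hdvd ?_
  show (autInducedBy (S : Subgroup G) Q).relIndex (autInducedBy ⊤ Q) ∣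
    ((normalizerIn (S : Subgroup G) Q).subgroupOf (Subgroup.normalizer (Q : Set G))).index
  have hsub : ((S : Subgroup G).subgroupOf (Subgroup.normalizer (Q : Set G))) =
      (normalizerIn (S : Subgroup G) Q).subgroupOf (Subgroup.normalizer (Q : Set G)) := by
    ext x
    exact ⟨fun hx => ⟨hx, x.2⟩, fun hx => hx.1⟩
  rw [autInducedBy_eq_map, autInducedBy_eq_map, Subgroup.top_subgroupOf, hsub,
    Subgroup.relIndex_map_map]
  rw [top_sup_eq, Subgroup.relIndex_top_right]
  exact Subgroup.index_dvd_of_le le_sup_left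

theorem groupFusionSystem_isSaturated (S : Sylow p G) :
    (groupFusionSystem (S : Subgroup G)).IsSaturated p := by
  intro P hP
  obtain ⟨g, hQ, hN⟩ := exists_conj_isSylowIn S hP
  exact ⟨_, isConj_groupFusionSystem_iff.mpr ⟨hP, hQ, g, rfl⟩,
    isFullyAutomized_of_isSylowIn_normalizer S hQ hN,
    isReceptive_of_isSylowIn_centralizer S hQ (centralizerIn_isSylowIn hN)⟩

theorem isFullyNormalized_groupFusionSystem_iff (S : Sylow p G) (hP : P ≤ S) :
    (groupFusionSystem (S : Subgroup G)).IsFullyNormalized P ↔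
      IsSylowIn p (normalizerIn (S : Subgroup G) P) (Subgroup.normalizer (P : Set G)) := by
  constructor
  · intro h
    obtain ⟨g, hQ, hN⟩ := exists_conj_isSylowIn S hP
    obtain ⟨T, hT⟩ := exists_isSylowIn p (Subgroup.normalizer (P : Set G))
    refine isSylowIn_of_card_eq hT (isPGroup_normalizerIn S) inf_le_right ?_
    have h1 := h.2 _ (isConj_groupFusionSystem_iff.mpr ⟨hP, hQ, g, rfl⟩)
    refine le_trans ?_ h1
    refine le_trans (le_of_eq (Subgroup.card_map_of_injective (f := (MulAut.conj g : G ≃* G).toMonoidHom) ?_).symm) ?_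
    · exact MulEquiv.injective (MulAut.conj g)
    refine hN.card_le (hT.2.1.map _) ?_
    rw [← Subgroup.map_normalizer_eq_of_bijective P (MulEquiv.bijective (MulAut.conj g))]
    exact Subgroup.map_mono hT.1
  · intro h
    refine ⟨hP, fun Q hQ => ?_⟩
    obtain ⟨-, hQS, g, rfl⟩ := isConj_groupFusionSystem_iff.mp hQ
    refine le_trans (le_of_eq (Subgroup.card_map_of_injective (f := (MulAut.conj g⁻¹ : G ≃* G).toMonoidHom) ?_).symm) ?_
    · exact MulEquiv.injective (MulAut.conj g⁻¹)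
    refine h.card_le ((isPGroup_normalizerIn S).map _) ?_
    rintro _ ⟨x, hx, rfl⟩
    have hx2 := hx.2
    refine Subgroup.mem_normalizer_iff.mpr fun y => ?_
    have hmap : ∀ z, z ∈ P ↔ g * z * g⁻¹ ∈ P.map (MulAut.conj g).toMonoidHom := fun z =>
      ⟨fun hz => ⟨z, hz, rfl⟩, fun ⟨w, hw, e⟩ => mul_left_cancel (mul_right_cancel e) ▸ hw⟩
    rw [hmap y, hmap, Subgroup.mem_normalizer_iff.mp hx2 (g * y * g⁻¹)]
    simp [mul_assoc]

theorem isFullyCentralized_groupFusionSystem_iff (S : Sylow p G) (hP : P ≤ S) :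
    (groupFusionSystem (S : Subgroup G)).IsFullyCentralized P ↔
      IsSylowIn p (centralizerIn (S : Subgroup G) P) (Subgroup.centralizer (P : Set G)) := by
  constructor
  · intro h
    obtain ⟨g, hQ, hN⟩ := exists_conj_isSylowIn S hP
    obtain ⟨T, hT⟩ := exists_isSylowIn p (Subgroup.centralizer (P : Set G))
    refine isSylowIn_of_card_eq hT (S.2.to_le centralizerIn_le) inf_le_right ?_
    have h1 := h.2 _ (isConj_groupFusionSystem_iff.mpr ⟨hP, hQ, g, rfl⟩)
    refine le_trans ?_ h1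
    refine le_trans (le_of_eq (Subgroup.card_map_of_injective (f := (MulAut.conj g : G ≃* G).toMonoidHom) ?_).symm) ?_
    · exact MulEquiv.injective (MulAut.conj g)
    refine (centralizerIn_isSylowIn hN).card_le (hT.2.1.map _) ?_
    rintro _ ⟨x, hx, rfl⟩
    refine Subgroup.mem_centralizer_iff.mpr ?_
    rintro _ ⟨z, hz, rfl⟩
    have h1 := Subgroup.mem_centralizer_iff.mp (hT.1 hx) z hz
    show g * z * g⁻¹ * (g * x * g⁻¹) = g * x * g⁻¹ * (g * z * g⁻¹)
    calc g * z * g⁻¹ * (g * x * g⁻¹) = g * (z * x) * g⁻¹ := by group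
      _ = _ := by rw [h1]; group
  · intro h
    exact (isReceptive_of_isSylowIn_centralizer S hP h).isFullyCentralized

end group

end FusionSystem

end Cfsg
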