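import Cfsg.Agent.Lib.Fusion.Saturation
import Mathlib.GroupTheory.Nilpotent
import Mathlib.GroupTheory.QuotientGroup.Basic

/-!
Alperin's fusion theorem for saturated fusion systems, and strongly `p`-embedded subgroups.
-/

set_option autoImplicit false

namespace Cfsg

section StronglyEmbedded

variable {p : ℕ} [Fact p.Prime] {X : Type*} [Group X]

theorem not_pRankLE_zero_of_ne_bot [Finite X] {Q : Subgroup X} (hQ : IsPGroup p Q) (h : Q ≠ ⊥) :
    ¬ PRankLE p 0 Q := by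
  intro hr
  have : Nontrivial Q := (Subgroup.nontrivial_iff_ne_bot Q).mpr h
  obtain ⟨n, hn, hc⟩ := hQ.nontrivial_iff_card.mp this
  obtain ⟨x, hx⟩ := exists_prime_orderOf_dvd_card' (G := Q) p (hc ▸ dvd_pow_self p (by omega))
  have h1 := hr (Subgroup.zpowers x) inferInstance (fun a ha => by
    have := orderOf_dvd_of_mem_zpowers ha
    rw [hx] at this
    exact orderOf_dvd_iff_pow_eq_one.mp this)
  rw [Nat.card_zpowers, hx, pow_zero] at h1
  exact absurd h1 (not_le.mpr (Fact.out : p.Prime).one_lt)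

theorem normalizer_le_kGeneratedCore [Finite X] {T Q : Subgroup X} (hT : IsPGroup p T) (hQT : Q ≤ T)
    (hQ : Q ≠ ⊥) : Subgroup.normalizer (Q : Set X) ≤ kGeneratedCore p 1 T :=
  le_iSup_of_le (⟨Q, hQT, not_pRankLE_zero_of_ne_bot (hT.to_le hQT) hQ⟩ :
    {Q : Subgroup X // Q ≤ T ∧ ¬ PRankLE p (1 - 1) Q}) le_rfl

/-- The defining property of a strongly `p`-embedded subgroup. -/
theorem mem_of_conj_le_of_kGeneratedCore_le [Finite X] {Y : Subgroup X} (T : Sylow p X)
    (hY : kGeneratedCore p 1 (T : Subgroup X) ≤ Y) {Z : Subgroup X} (hZ : IsPGroup p Z) (hZ1 : Z ≠ ⊥)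
    (hZY : Z ≤ Y) {g : X} (hg : ∀ z ∈ Z, g * z * g⁻¹ ∈ Y) : g ∈ Y := by
  suffices key : ∀ (d : ℕ) (Z : Subgroup X), Nat.card X - Nat.card Z = d → IsPGroup p Z → Z ≠ ⊥ →
      Z ≤ Y → ∀ g : X, (∀ z ∈ Z, g * z * g⁻¹ ∈ Y) → g ∈ Y by
    exact key _ Z rfl hZ hZ1 hZY g hg
  intro d
  induction d using Nat.strong_induction_on with
  | _ d ih =>
  intro Z hd hZ hZ1 hZY g hg
  have hTp : IsPGroup p (T : Subgroup X) := T.2
  have hT1 : (T : Subgroup X) ≠ ⊥ := fun h => hZ1 (by
    obtain ⟨a, ha⟩ := exists_conj_mem_sylow T hZ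
    rw [Subgroup.eq_bot_iff_forall]
    intro z hz
    have := ha z hz
    rw [h, Subgroup.mem_bot, conj_eq_one_iff] at this
    exact this)
  have hTY : (T : Subgroup X) ≤ Y :=
    Subgroup.le_normalizer.trans ((normalizer_le_kGeneratedCore hTp le_rfl hT1).trans hY)
  -- conjugate `Z` and its image into `T` inside `Y`
  let TY : Sylow p Y := T.subtype hTY
  have conjIn : ∀ {W : Subgroup X}, IsPGroup p W → W ≤ Y →
      ∃ y ∈ Y, ∀ w ∈ W, y * w * y⁻¹ ∈ (T : Subgroup X) := by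
    intro W hW hWY
    obtain ⟨y, hy⟩ := exists_conj_mem_sylow TY
      (hW.of_equiv (Subgroup.subgroupOfEquivOfLe hWY).symm)
    exact ⟨y, y.2, fun w hw => hy ⟨w, hWY hw⟩ hw⟩
  obtain ⟨a, haY, ha⟩ := conjIn hZ hZY
  let Z₁ : Subgroup X := Z.map (MulAut.conj a).toMonoidHom
  let W : Subgroup X := Z.map (MulAut.conj g).toMonoidHom
  have hWY : W ≤ Y := by
    rintro _ ⟨z, hz, rfl⟩
    exact hg z hz
  obtain ⟨b, hbY, hb⟩ := conjIn (hZ.map (MulAut.conj g).toMonoidHom) hWY
  -- it suffices to treat `g' = b g a⁻¹`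
  suffices hg' : b * g * a⁻¹ ∈ Y by
    have := Y.mul_mem (Y.mul_mem (Y.inv_mem hbY) hg') haY
    simpa [mul_assoc] using this
  have hZ₁T : Z₁ ≤ (T : Subgroup X) := by
    rintro _ ⟨z, hz, rfl⟩
    exact ha z hz
  have hmove : ∀ z ∈ Z₁, b * g * a⁻¹ * z * (b * g * a⁻¹)⁻¹ ∈ (T : Subgroup X) := by
    rintro _ ⟨z, hz, rfl⟩
    have := hb (g * z * g⁻¹) ⟨z, hz, rfl⟩
    simpa [mul_assoc] using this
  have hZ₁1 : Z₁ ≠ ⊥ := by
    rw [Ne, Subgroup.map_eq_bot_iff_of_injective _ (MulEquiv.injective _)]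
    exact hZ1
  have hcard : Nat.card Z₁ = Nat.card Z := Subgroup.card_map_of_injective (MulEquiv.injective _)
  generalize hh : b * g * a⁻¹ = h at hmove ⊢
  rcases eq_or_lt_of_le hZ₁T with heq | hlt
  · refine hY (normalizer_le_kGeneratedCore hTp le_rfl hT1 ?_)
    rw [← heq]
    refine Subgroup.mem_normalizer_iff.mpr fun z => ⟨fun hz => heq.ge (hmove z hz), fun hz => ?_⟩
    have hsub : Z₁.map (MulAut.conj h).toMonoidHom ≤ Z₁ := by
      rintro _ ⟨w, hw, rfl⟩
      exact heq.ge (hmove w hw)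
    have := Subgroup.eq_of_le_of_card_ge hsub
      (ge_of_eq (Subgroup.card_map_of_injective (MulEquiv.injective _)))
    obtain ⟨w, hw, hwz⟩ := this.ge hz
    have : w = z := mul_left_cancel (mul_right_cancel hwz)
    exact this ▸ hw
  · let U : Subgroup X := (T : Subgroup X).map (MulAut.conj h⁻¹).toMonoidHom
    have hZ₁U : Z₁ ≤ U := fun z hz => ⟨h * z * h⁻¹, hmove z hz, by simp [mul_assoc]⟩
    have hUp : IsPGroup p U := hTp.map _
    have hne : Z₁ < U := lt_of_le_of_ne hZ₁U fun e => by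
      have h1 : Nat.card U = Nat.card (T : Subgroup X) :=
        Subgroup.card_map_of_injective (MulEquiv.injective _)
      rw [← e] at h1
      exact hlt.ne (Subgroup.eq_of_le_of_card_ge hlt.le (ge_of_eq h1))
    have : Group.IsNilpotent U := hUp.isNilpotent
    have hN := Group.normalizerCondition_of_isNilpotent (G := U) (Z₁.subgroupOf U) (by
      rw [lt_top_iff_ne_top, Ne, Subgroup.subgroupOf_eq_top]
      exact not_le_of_gt hne)
    obtain ⟨w, hwN, hwZ⟩ := SetLike.exists_of_lt hN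
    let N : Subgroup X := U ⊓ Subgroup.normalizer (Z₁ : Set X)
    have hwN' : (w : X) ∈ N := by
      refine ⟨w.2, Subgroup.mem_normalizer_iff.mpr fun z => ?_⟩
      by_cases hzU : z ∈ U
      · exact Subgroup.mem_normalizer_iff.mp hwN ⟨z, hzU⟩
      · refine iff_of_false (fun hz => hzU (hZ₁U hz)) fun hz => hzU ?_
        have := U.mul_mem (U.mul_mem (U.inv_mem w.2) (hZ₁U hz)) w.2
        simpa [mul_assoc] using this
    have hZN : Z₁ ≤ N := le_inf hZ₁U Subgroup.le_normalizer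
    have hlt' : Z₁ < N := lt_of_le_of_ne hZN fun e => hwZ (show (w : X) ∈ Z₁ from e.ge hwN')
    have hNY : N ≤ Y := inf_le_right.trans ((normalizer_le_kGeneratedCore hTp hZ₁T hZ₁1).trans hY)
    have hc : Nat.card Z < Nat.card N := hcard ▸ lt_of_le_of_ne (Subgroup.card_le_of_le hlt'.le) fun e => hlt'.ne (Subgroup.eq_of_le_of_card_ge hlt'.le e.ge)
    have hNX : Nat.card N ≤ Nat.card X := Subgroup.card_le_card_group N
    refine ih _ (by omega) N rfl (hUp.to_le inf_le_left)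
      (fun e => hZ₁1 (le_bot_iff.mp (e ▸ hZN))) hNY h ?_
    rintro _ ⟨⟨t, ht, rfl⟩, -⟩
    exact hTY (by
      have e : h * (MulAut.conj h⁻¹).toMonoidHom t * h⁻¹ = t := by simp [mul_assoc]
      rw [e]
      exact ht)

theorem IsStronglyPEmbedded.exists_sylow_normalizer_le [Finite X] {Y : Subgroup X}
    (hY : IsStronglyPEmbedded p Y) (T : Sylow p X) :
    ∃ Y' : Subgroup X, Y' ≠ ⊤ ∧ kGeneratedCore p 1 (T : Subgroup X) ≤ Y' := by
  obtain ⟨-, hne, P, hP⟩ := hY
  obtain ⟨g, rfl⟩ := MulAction.exists_smul_eq X P T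
  refine ⟨Y.map (MulAut.conj g).toMonoidHom, fun h => hne ?_, iSup_le ?_⟩
  · rwa [← Subgroup.map_top_of_surjective (MulAut.conj g).toMonoidHom (MulEquiv.surjective _),
      (Subgroup.map_injective (MulEquiv.injective _)).eq_iff] at h
  rintro ⟨Q, hQ, hr⟩ x hx
  let Q' : Subgroup X := Q.map (MulAut.conj g⁻¹).toMonoidHom
  have hPp : IsPGroup p (P : Subgroup X) := P.2
  have hQp : IsPGroup p Q := ((g • P).2).to_le hQ
  have hQ'P : Q' ≤ (P : Subgroup X) := by
    rintro _ ⟨q, hq, rfl⟩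
    have := hQ hq
    rw [Sylow.coe_subgroup_smul, Subgroup.mem_pointwise_smul_iff_inv_smul_mem] at this
    simpa [MulAut.conj_symm_apply] using this
  have hQ'1 : Q' ≠ ⊥ := by
    rw [Ne, Subgroup.map_eq_bot_iff_of_injective _ (MulEquiv.injective _)]
    intro e
    apply hr
    intro A _ _
    have : Subsingleton Q := by rw [e]; infer_instance
    simp
  refine ⟨g⁻¹ * x * g, hP (normalizer_le_kGeneratedCore hPp hQ'P hQ'1 ?_), by simp [mul_assoc]⟩
  refine Subgroup.mem_normalizer_iff.mpr fun z => ?_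
  have hc : ∀ y, y ∈ Q' ↔ g * y * g⁻¹ ∈ Q := fun y =>
    ⟨by rintro ⟨q, hq, rfl⟩; simpa [mul_assoc] using hq,
      fun h => ⟨_, h, by simp [mul_assoc]⟩⟩
  rw [hc, hc, Subgroup.mem_normalizer_iff.mp hx (g * z * g⁻¹)]
  simp [mul_assoc]

/-- A group with a strongly `p`-embedded subgroup has trivial `p`-core. -/
theorem IsStronglyPEmbedded.eq_bot_of_normal_pGroup [Finite X] {Y : Subgroup X}
    (hY : IsStronglyPEmbedded p Y) (R : Subgroup X) [R.Normal] (hR : IsPGroup p R) : R = ⊥ := by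
  obtain ⟨-, hne, P, hP⟩ := hY
  by_contra hR1
  obtain ⟨T, hT⟩ := hR.exists_le_sylow
  have hRP : R ≤ (P : Subgroup X) := by
    obtain ⟨g, rfl⟩ := MulAction.exists_smul_eq X T P
    intro r hr
    rw [Sylow.coe_subgroup_smul, Subgroup.mem_pointwise_smul_iff_inv_smul_mem]
    have := hT ((inferInstance : R.Normal).conj_mem r hr g⁻¹)
    simpa [MulAut.conj_symm_apply] using this
  have hPp : IsPGroup p (P : Subgroup X) := P.2
  have := (normalizer_le_kGeneratedCore hPp hRP hR1).trans hP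
  rw [Subgroup.normalizer_eq_top] at this
  exact hne (top_le_iff.mp this)

end StronglyEmbedded

namespace FusionSystem

variable {Ω : Type*} [Group Ω] {S : Subgroup Ω} {F : FusionSystem S} {P Q R : Subgroup Ω}
  {φ : P →* Ω} {p : ℕ} [Fact p.Prime] [Finite S]

theorem lt_normalizerIn (hS : IsPGroup p S) (hP : P < S) : P < normalizerIn S P := by
  have : Group.IsNilpotent S := hS.isNilpotent
  have hN := Group.normalizerCondition_of_isNilpotent (G := S) (P.subgroupOf S) (by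
    rw [lt_top_iff_ne_top, Ne, Subgroup.subgroupOf_eq_top]
    exact not_le_of_gt hP)
  obtain ⟨w, hwN, hwP⟩ := SetLike.exists_of_lt hN
  refine lt_of_le_of_ne (le_normalizerIn hP.le) fun e => hwP (show (w : Ω) ∈ P from e.ge ⟨w.2, ?_⟩)
  refine Subgroup.mem_normalizer_iff.mpr fun z => ?_
  by_cases hzS : z ∈ S
  · exact Subgroup.mem_normalizer_iff.mp hwN ⟨z, hzS⟩
  · refine iff_of_false (fun hz => hzS (hP.le hz)) fun hz => hzS ?_
    have := S.mul_mem (S.mul_mem (S.inv_mem w.2) (hP.le hz)) w.2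
    simpa [mul_assoc] using this

omit [Fact p.Prime] [Finite S] in
/-- The automorphisms of `P` that extend to a larger subgroup. -/
theorem mem_extendable_iff {α : MulAut P} :
    α ∈ {α : MulAut P | ∃ (Q : Subgroup Ω) (hPQ : P < Q) (φ : Q →* Ω), φ ∈ F.Hom Q ∧
      ∀ x : P, φ (Subgroup.inclusion hPQ.le x) = α x} ↔
    ∃ (Q : Subgroup Ω) (hPQ : P < Q) (φ : Q →* Ω), φ ∈ F.Hom Q ∧
      ∀ x : P, φ (Subgroup.inclusion hPQ.le x) = α x := Iff.rfl

variable (F P) in
/-- The subgroup generated by the automorphisms of `P` that extend to a larger subgroup. -/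
def extendableAut : Subgroup (MulAut P) :=
  Subgroup.closure {α : MulAut P | ∃ (Q : Subgroup Ω) (hPQ : P < Q) (φ : Q →* Ω), φ ∈ F.Hom Q ∧
      ∀ x : P, φ (Subgroup.inclusion hPQ.le x) = α x}

omit [Fact p.Prime] [Finite S] in
theorem extendableAut_le_autGroup (hP : P ≤ S) : extendableAut F P ≤ F.autGroup P := by
  rw [extendableAut, Subgroup.closure_le]
  rintro α ⟨Q, hPQ, φ, hφ, he⟩
  exact F.mem_autGroup_of_map (F.restrict_mem hφ hPQ.le) fun x => (he x).symm

theorem autInducedBy_le_extendableAut (hS : IsPGroup p S) (hP : P < S) :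
    autInducedBy S P ≤ extendableAut F P := by
  intro α hα
  obtain ⟨g, hg, -, he⟩ := mem_autInducedBy_iff.mp hα
  exact Subgroup.subset_closure ⟨_, lt_normalizerIn hS hP, _, F.conj_mem normalizerIn_le hg,
    fun x => (he x).symm⟩

omit [Fact p.Prime] [Finite S] in
theorem map_eq_self_of_auto {ψ : R →* Ω} {α : MulAut P} (hPR : P ≤ R)
    (he : ∀ x : P, ψ ⟨x, hPR x.2⟩ = ((α x : P) : Ω)) :
    (P.subgroupOf R).map ψ = P := by
  ext y
  constructor
  · rintro ⟨x, hx, rfl⟩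
    show ψ ⟨(x : Ω), x.2⟩ ∈ P
    rw [he ⟨x, hx⟩]
    exact SetLike.coe_mem _
  · intro hy
    exact ⟨⟨(α.symm ⟨y, hy⟩ : P), hPR (SetLike.coe_mem _)⟩,
      (show ((α.symm ⟨y, hy⟩ : P) : Ω) ∈ P from SetLike.coe_mem _), by rw [he]; simp⟩

/-- An automorphism of a receptive `P` carrying an outer `S`-automorphism to one induced by `S`
extends to a larger subgroup. -/
theorem mem_extendableAut_of_conj (hP : F.IsReceptive P) {γ t : MulAut P} (hγ : γ ∈ F.autGroup P)
    (ht : t ∈ autInducedBy S P) (ht' : t ∉ Inn P) (hc : γ * t * γ⁻¹ ∈ autInducedBy S P) :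
    γ ∈ extendableAut F P := by
  obtain ⟨φ, hφ, hr, hφe⟩ := F.exists_map_of_mem_autGroup hP.1 hγ
  obtain ⟨g, hgS, hgN, hge⟩ := mem_autInducedBy_iff.mp ht
  obtain ⟨h, hhS, hhN, hhe⟩ := mem_autInducedBy_iff.mp hc
  have hgext : g ∈ extender S P φ := by
    refine (mem_extender_iff (F.apply_mem hφ)).mpr ⟨hgS, hgN, h, hhS, fun x hx => ?_⟩
    rw [hφe, hφe, ← hhe (γ x)]
    have : (⟨g * (x : Ω) * g⁻¹, hx⟩ : P) = t x := Subtype.ext (hge x).symm
    rw [this]
    simp
  obtain ⟨ψ, hψ, hψe⟩ := hP.2 P φ hφ hr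
  have hlt : P < extender S P φ := by
    refine lt_of_le_of_ne (le_extender hP.1 (F.apply_mem hφ)) fun e => ht' ?_
    rw [inn_eq_autInducedBy]
    exact mem_autInducedBy_iff.mpr ⟨g, e.ge hgext, hgN, hge⟩
  exact Subgroup.subset_closure ⟨_, hlt, ψ, hψ, fun x => by
    rw [← hφe x]; exact hψe x x.2 _⟩

/-- Converse direction: if an automorphism extends, it moves some outer `S`-automorphism inside
`Aut_S`. -/
theorem exists_conj_of_extends (hS : IsPGroup p S) {α : MulAut P} {ψ : Q →* Ω}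
    (hψ : ψ ∈ F.Hom Q) (hPQ : P < Q) (hC : centralizerIn S P ≤ P)
    (he : ∀ x : P, ψ (Subgroup.inclusion hPQ.le x) = α x) :
    ∃ t ∈ autInducedBy S P, t ∉ Inn P ∧ α * t * α⁻¹ ∈ autInducedBy S P := by
  have hQS : Q ≤ S := F.source_le hψ
  have : Finite Q := finite_of_le hQS
  obtain ⟨g, hg, hgP⟩ := SetLike.exists_of_lt
    (lt_normalizerIn (p := p) (hS.to_le hQS) hPQ)
  have hgS : g ∈ S := hQS hg.1
  refine ⟨P.normalizerMonoidHom ⟨g, hg.2⟩, mem_autInducedBy_iff.mpr ⟨g, hgS, hg.2, fun x => rfl⟩,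
    ?_, ?_⟩
  · rintro ⟨u, hu⟩
    apply hgP
    have hc : (u : Ω)⁻¹ * g ∈ centralizerIn S P := by
      refine ⟨S.mul_mem (S.inv_mem (hQS (hPQ.le u.2))) hgS, ?_⟩
      refine Subgroup.mem_centralizer_iff.mpr fun y hy => ?_
      have h1 : (u : Ω) * y * (u : Ω)⁻¹ = g * y * g⁻¹ :=
        congrArg (fun f : MulAut P => ((f ⟨y, hy⟩ : P) : Ω)) hu
      calc y * ((u : Ω)⁻¹ * g) = (u : Ω)⁻¹ * ((u : Ω) * y * (u : Ω)⁻¹) * g := by group
        _ = (u : Ω)⁻¹ * g * y := by rw [h1]; group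
    have := P.mul_mem u.2 (hC hc)
    rwa [mul_inv_cancel_left] at this
  · have hNP : ψ ⟨g, hg.1⟩ ∈ Subgroup.normalizer (P : Set Ω) :=
      apply_mem_normalizer (φ := P.subtype.comp α.toMonoidHom) hPQ.le he
        (by
          ext y
          constructor
          · rintro ⟨x, rfl⟩
            exact (α x).2
          · intro hy
            exact ⟨α.symm ⟨y, hy⟩, by simp⟩) ⟨g, hg.1⟩ hg.2
    refine mem_autInducedBy_iff.mpr ⟨_, F.apply_mem hψ _, hNP, fun x => ?_⟩
    have h1 := apply_conj (φ := P.subtype.comp α.toMonoidHom) hPQ.le he ⟨g, hg.1⟩ (α.symm x)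
      ((Subgroup.mem_normalizer_iff.mp hg.2 _).mp (SetLike.coe_mem _))
    simp only [MonoidHom.comp_apply, MulEquiv.coe_toMonoidHom, MulEquiv.apply_symm_apply,
      Subgroup.coe_subtype] at h1
    exact h1

omit [Fact p.Prime] [Finite S] in
instance inn_subgroupOf_normal (G : Subgroup (MulAut P)) : ((Inn P).subgroupOf G).Normal := by
  have : (Inn P).Normal := by
    refine ⟨?_⟩
    rintro _ ⟨u, rfl⟩ a
    exact ⟨a u, by ext x; simp⟩
  exact Subgroup.Normal.subgroupOf this G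

/-- Either every automorphism of a fully normalised proper `P` extends (up to products), or `P` is
essential and the extendable ones give a strongly `p`-embedded subgroup. -/
theorem IsSaturated.autGroup_eq_or_isEssential (hF : F.IsSaturated p) (hS : IsPGroup p S) (hP : P < S)
    (hn : F.IsFullyNormalized P) :
    extendableAut F P = F.autGroup P ∨
      (F.IsEssential p P ∧ IsStronglyPEmbedded p (((extendableAut F P).subgroupOf (F.autGroup P)).map
        (QuotientGroup.mk' ((Inn P).subgroupOf (F.autGroup P))))) := by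
  by_cases hH : extendableAut F P = F.autGroup P
  · exact Or.inl hH
  right
  have hrec := hF.isReceptive_of_isFullyNormalized hS hn
  have hfc := hF.isFullyCentralized_of_isFullyNormalized hS hn
  -- `P` is centric
  have hC : centralizerIn S P ≤ P := by
    by_contra hC
    apply hH
    refine le_antisymm (extendableAut_le_autGroup hP.le) fun α hα => ?_
    obtain ⟨φ, hφ, hr, hφe⟩ := F.exists_map_of_mem_autGroup hP.le hα
    obtain ⟨ψ, hψ, hψe⟩ := hrec.2 P φ hφ hr
    refine Subgroup.subset_closure ⟨_, lt_of_le_of_ne (le_extender hP.le (F.apply_mem hφ)) ?_, ψ, hψ,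
      fun x => by rw [← hφe x]; exact hψe x x.2 _⟩
    intro e
    exact hC ((centralizerIn_le_extender (F.apply_mem hφ)).trans e.ge)
  have hcen := hfc.isCentric hC
  have hfin := finite_autGroup (F := F) hP.le
  obtain ⟨-, T, hT⟩ := hF.isFullyAutomized_of_isFullyNormalized hS hn
  let π := QuotientGroup.mk' ((Inn P).subgroupOf (F.autGroup P))
  have hπ : Function.Surjective π := QuotientGroup.mk'_surjective _
  let T' : Sylow p _ := T.mapSurjective hπ
  let H := (extendableAut F P).subgroupOf (F.autGroup P)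
  have hIH : (Inn P).subgroupOf (F.autGroup P) ≤ H := fun x hx =>
    autInducedBy_le_extendableAut hS hP (inn_le_autInducedBy hP.le hx)
  have hnot : H.map π ≠ ⊤ := by
    intro h
    apply hH
    refine le_antisymm (extendableAut_le_autGroup hP.le) fun α hα => ?_
    obtain ⟨β, hβ, hβe⟩ := h.ge (Subgroup.mem_top (π ⟨α, hα⟩))
    have h1 : β⁻¹ * ⟨α, hα⟩ ∈ (Inn P).subgroupOf (F.autGroup P) := QuotientGroup.eq.mp hβe
    have h2 := H.mul_mem hβ (hIH h1)
    rwa [mul_inv_cancel_left] at h2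
  have hcore : kGeneratedCore p 1 (T' : Subgroup _) ≤ H.map π := by
    refine iSup_le ?_
    rintro ⟨Q', hQ'T, hQ'⟩ x hx
    have : ∃ q ∈ Q', q ≠ 1 := by
      by_contra hq
      push Not at hq
      apply hQ'
      intro A _ _
      have : Subsingleton Q' := ⟨fun a b => Subtype.ext (by rw [hq a a.2, hq b b.2])⟩
      simp
    obtain ⟨q, hq, hq1⟩ := this
    obtain ⟨γ, rfl⟩ := hπ x
    obtain ⟨t, ht, rfl⟩ := hQ'T hq
    have ht' : t ∉ (Inn P).subgroupOf (F.autGroup P) := fun h =>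
      hq1 ((QuotientGroup.eq_one_iff t).mpr h)
    have hc := hQ'T ((Subgroup.mem_normalizer_iff.mp hx _).mp hq)
    rw [← map_mul, ← map_inv, ← map_mul] at hc
    obtain ⟨s, hs, hse⟩ := hc
    have h1 : s⁻¹ * (γ * t * γ⁻¹) ∈ (Inn P).subgroupOf (F.autGroup P) := QuotientGroup.eq.mp hse
    have hs' : s ∈ (T : Subgroup _) := hs
    have ht'' : t ∈ (T : Subgroup _) := ht
    rw [hT] at hs' ht''
    have h2 : ((γ : MulAut P) * t * (γ : MulAut P)⁻¹) ∈ autInducedBy S P := by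
      have := (autInducedBy S P).mul_mem hs' (inn_le_autInducedBy hP.le h1)
      simpa [mul_assoc] using this
    exact ⟨γ, mem_extendableAut_of_conj hrec γ.2 ht'' ht' h2, rfl⟩
  have hemb : IsStronglyPEmbedded p (H.map π) := by
    refine ⟨?_, hnot, T', hcore⟩
    obtain ⟨g, hg, hgP⟩ := SetLike.exists_of_lt (lt_normalizerIn (p := p) hS hP)
    let c : F.autGroup P := ⟨P.normalizerMonoidHom ⟨g, hg.2⟩,
      autInducedBy_le_autGroup hP.le (mem_autInducedBy_iff.mpr ⟨g, hg.1, hg.2, fun x => rfl⟩)⟩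
    have hcT : c ∈ (T : Subgroup _) := by
      rw [hT]
      exact mem_autInducedBy_iff.mpr ⟨g, hg.1, hg.2, fun x => rfl⟩
    have hc1 : π c ≠ 1 := by
      intro h
      obtain ⟨u, hu⟩ := (QuotientGroup.eq_one_iff c).mp h
      apply hgP
      have hz : (u : Ω)⁻¹ * g ∈ centralizerIn S P := by
        refine ⟨S.mul_mem (S.inv_mem (hP.le u.2)) hg.1, ?_⟩
        refine Subgroup.mem_centralizer_iff.mpr fun y hy => ?_
        have h1 : (u : Ω) * y * (u : Ω)⁻¹ = g * y * g⁻¹ :=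
          congrArg (fun f : MulAut P => ((f ⟨y, hy⟩ : P) : Ω)) hu
        calc y * ((u : Ω)⁻¹ * g) = (u : Ω)⁻¹ * ((u : Ω) * y * (u : Ω)⁻¹) * g := by group
          _ = (u : Ω)⁻¹ * g * y := by rw [h1]; group
      have := P.mul_mem u.2 (hC hz)
      rwa [mul_inv_cancel_left] at this
    have hπc : π c ∈ (T' : Subgroup _) := ⟨c, hcT, rfl⟩
    have hne : Nontrivial (T' : Subgroup _) :=
      ⟨⟨π c, hπc⟩, 1, fun h => hc1 (congrArg Subtype.val h)⟩
    obtain ⟨n, hn, hcard⟩ := T'.2.nontrivial_iff_card.mp hne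
    exact (hcard ▸ dvd_pow_self p (by omega)).trans (Subgroup.card_subgroup_dvd_card _)
  exact ⟨⟨hcen, hn, inferInstance, _, hemb⟩, hemb⟩

theorem IsEssential.lt (hS : IsPGroup p S) (hF : F.IsSaturated p) (hP : F.IsEssential p P) : P < S := by
  refine lt_of_le_of_ne hP.1.1 fun e => ?_
  subst e
  obtain ⟨-, hn, -, E, hdvd, -⟩ := hP
  obtain ⟨hPS, T, hT⟩ := hF.isFullyAutomized_of_isFullyNormalized hS hn
  have := finite_autGroup (F := F) hPS
  have h1 : (T : Subgroup (F.autGroup P)) = (Inn P).subgroupOf (F.autGroup P) := by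
    rw [hT, inn_eq_autInducedBy]
  apply T.not_dvd_index
  rw [h1]
  exact hdvd

theorem IsEssential.extendableAut_ne (hS : IsPGroup p S) (hF : F.IsSaturated p)
    (hP : F.IsEssential p P) : extendableAut F P ≠ F.autGroup P := by
  have hPS := hP.lt hS hF
  obtain ⟨hcen, hn, hnorm, E, hE⟩ := hP
  have hfin := finite_autGroup (F := F) hPS.le
  obtain ⟨-, T, hT⟩ := hF.isFullyAutomized_of_isFullyNormalized hS hn
  let π := QuotientGroup.mk' ((Inn P).subgroupOf (F.autGroup P))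
  have hπ : Function.Surjective π := QuotientGroup.mk'_surjective _
  let T' : Sylow p _ := T.mapSurjective hπ
  obtain ⟨Y, hY, hYT⟩ := Cfsg.IsStronglyPEmbedded.exists_sylow_normalizer_le hE T'
  intro hH
  apply hY
  rw [eq_top_iff]
  intro x _
  obtain ⟨γ, rfl⟩ := hπ x
  suffices h : (γ : MulAut P) ∈ ((Y.comap π).map (F.autGroup P).subtype) by
    obtain ⟨δ, hδ, hδe⟩ := h
    obtain rfl := Subtype.ext hδe
    exact hδ
  have hγ : (γ : MulAut P) ∈ extendableAut F P := hH.ge γ.2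
  refine (Subgroup.closure_le _).mpr ?_ hγ
  rintro α ⟨Q, hPQ, ψ, hψ, he⟩
  have hα : α ∈ F.autGroup P := F.mem_autGroup_of_map (F.restrict_mem hψ hPQ.le) fun x => (he x).symm
  obtain ⟨t, ht, htI, htc⟩ := exists_conj_of_extends hS hψ hPQ hcen.centralizerIn_le_self he
  let t' : F.autGroup P := ⟨t, autInducedBy_le_autGroup hPS.le ht⟩
  refine ⟨⟨α, hα⟩, ?_, rfl⟩
  show π ⟨α, hα⟩ ∈ Y
  have hmemT : ∀ u : F.autGroup P, (u : MulAut P) ∈ autInducedBy S P → π u ∈ (T' : Subgroup _) :=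
    fun u hu => ⟨u, hT.ge hu, rfl⟩
  have hTY : (T' : Subgroup _) ≤ Y := by
    refine Subgroup.le_normalizer.trans ((normalizer_le_kGeneratedCore T'.2 le_rfl ?_).trans hYT)
    intro e
    have := hmemT t' ht
    rw [e, Subgroup.mem_bot, QuotientGroup.mk'_apply, QuotientGroup.eq_one_iff] at this
    exact htI this
  refine mem_of_conj_le_of_kGeneratedCore_le (Z := Subgroup.zpowers (π t')) T' hYT
    (T'.2.to_le (Subgroup.zpowers_le.mpr (hmemT t' ht))) ?_
    (Subgroup.zpowers_le.mpr (hTY (hmemT t' ht))) ?_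
  · rw [Ne, Subgroup.zpowers_eq_bot, QuotientGroup.mk'_apply, QuotientGroup.eq_one_iff]
    exact htI
  · rintro z ⟨k, rfl⟩
    show π ⟨α, hα⟩ * (π t') ^ k * (π ⟨α, hα⟩)⁻¹ ∈ Y
    rw [← conj_zpow, ← map_inv, ← map_mul, ← map_mul]
    exact Y.zpow_mem (hTY (hmemT (⟨α, hα⟩ * t' * ⟨α, hα⟩⁻¹) htc)) k

omit [Fact p.Prime] in
theorem card_lt_of_lt {A B : Subgroup Ω} [Finite B] (h : A < B) : Nat.card A < Nat.card B := by
  refine lt_of_le_of_ne (Nat.card_le_card_of_injective (Subgroup.inclusion h.le)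
    (Subgroup.inclusion_injective _)) fun e => h.ne (Subgroup.eq_of_le_of_card_ge h.le e.ge)

/-- Alperin's fusion theorem, inductive form: when checking a fully normalised subgroup one may
assume that all maps with larger source are already present. -/
theorem IsSaturated.le_of_autGroup_le' (hF : F.IsSaturated p) (hS : IsPGroup p S) (E : FusionSystem S)
    (hE : ∀ P : Subgroup Ω, (P = S ∨ F.IsEssential p P) →
      (∀ Q : Subgroup Ω, Nat.card P < Nat.card Q → F.Hom Q ⊆ E.Hom Q) → F.autGroup P ≤ E.autGroup P) :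
    F ≤ E := by
  suffices key : ∀ (d : ℕ) (P : Subgroup Ω), Nat.card S - Nat.card P = d → F.Hom P ⊆ E.Hom P by
    exact fun P => key _ P rfl
  intro d
  induction d using Nat.strong_induction_on with
  | _ d ih =>
  intro P hd φ hφ
  have hPS : P ≤ S := F.source_le hφ
  have hbig : ∀ {Q : Subgroup Ω}, Nat.card P < Nat.card Q → F.Hom Q ⊆ E.Hom Q := by
    intro Q hQ ψ hψ
    have hle : Nat.card Q ≤ Nat.card S := Nat.card_le_card_of_injective
      (Subgroup.inclusion (F.source_le hψ)) (Subgroup.inclusion_injective _)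
    exact ih _ (by omega) Q rfl hψ
  rcases eq_or_lt_of_le hPS with rfl | hlt
  · have hr : φ.range = P := by
      have hc : Nat.card φ.range = Nat.card P :=
        Nat.card_congr (MonoidHom.ofInjective (F.injective_of_mem hφ)).toEquiv.symm
      exact Subgroup.eq_of_le_of_card_ge (F.range_le hφ) hc.ge
    have h1 := hE P (Or.inl rfl) (fun Q hQ => hbig hQ) (F.isoOf_mem_autGroup hφ hr)
    exact E.mem_of_apply_eq ((E.mem_autGroup_iff le_rfl).mp h1) fun x => rfl
  obtain ⟨P', hPP', hn⟩ := F.exists_isFullyNormalized hPS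
  obtain ⟨ψ₁, hψ₁, hr₁, Ψ₁, hΨ₁, -, he₁⟩ := hF.exists_map_to_fullyNormalized hS hn hPP'
  let Q := φ.range
  have hQP' : F.IsConj Q P' := (IsConj.symm ⟨φ, hφ, rfl⟩).trans hPP'
  obtain ⟨ψ₂, hψ₂, hr₂, Ψ₂, hΨ₂, -, he₂⟩ := hF.exists_map_to_fullyNormalized hS hn hQP'
  have hcPQ : Nat.card Q = Nat.card P := (IsConj.card_eq ⟨φ, hφ, rfl⟩).symm
  have hQS : Q ≤ S := F.range_le hφ
  have hQlt : Q < S := lt_of_le_of_ne hQS fun e =>
    (card_lt_of_lt hlt).ne (by rw [← hcPQ]; rw [e])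
  have hE₁ : ψ₁ ∈ E.Hom P := by
    have := finite_normalizerIn (S := S) (P := P)
    refine E.mem_of_restrict (hbig (card_lt_of_lt ?_) hΨ₁) (le_normalizerIn hPS)
      fun x hx => (he₁ ⟨x, hx⟩ _).symm
    exact lt_normalizerIn hS hlt
  have hE₂ : ψ₂ ∈ E.Hom Q := by
    have := finite_normalizerIn (S := S) (P := Q)
    refine E.mem_of_restrict (hbig ?_ hΨ₂) (le_normalizerIn hQS) fun x hx => (he₂ ⟨x, hx⟩ _).symm
    exact hcPQ ▸ card_lt_of_lt (lt_normalizerIn hS hQlt)
  obtain ⟨i₁, hi₁, hi₁r, hi₁l, hi₁l'⟩ := E.exists_inv hE₁ hr₁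
  obtain ⟨i₂, hi₂, -, hi₂l, -⟩ := E.exists_inv hE₂ hr₂
  obtain ⟨j₁, hj₁, hj₁r, hj₁l, hj₁l'⟩ := F.exists_inv hψ₁ hr₁
  have hcP' : Nat.card P' = Nat.card P := hPP'.card_eq.symm
  have hP'lt : P' < S := lt_of_le_of_ne hPP'.le_right fun e =>
    (card_lt_of_lt hlt).ne (by rw [← hcP']; rw [e])
  have hAut : F.autGroup P' ≤ E.autGroup P' := by
    rcases hF.autGroup_eq_or_isEssential hS hP'lt hn with h | ⟨h, -⟩
    · rw [← h, extendableAut, Subgroup.closure_le]
      rintro α ⟨R, hR, χ, hχ, he⟩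
      have := finite_of_le (F.source_le hχ)
      exact E.mem_autGroup_of_map (E.restrict_mem (hbig (hcP' ▸ card_lt_of_lt hR) hχ) hR.le)
        fun x => (he x).symm
    · exact hE P' (Or.inr h) fun Q hQ => hbig (hcP' ▸ hQ)
  -- the automorphism `ψ₂ φ ψ₁⁻¹` of `P'`
  obtain ⟨a, ha, hae⟩ := F.exists_comp hj₁ hφ (fun y => hj₁r.le ⟨y, rfl⟩)
  obtain ⟨b, hb, hbe⟩ := F.exists_comp ha hψ₂ (fun y => ⟨_, (hae y).symm⟩)
  have hbr : b.range = P' := by
    have hle : b.range ≤ P' := by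
      rintro _ ⟨y, rfl⟩
      rw [hbe]
      exact hr₂.le ⟨_, rfl⟩
    have := finite_of_le hPP'.le_right
    exact Subgroup.eq_of_le_of_card_ge hle
      (Nat.card_congr (MonoidHom.ofInjective (F.injective_of_mem hb)).toEquiv).le
  have hbE : b ∈ E.Hom P' := by
    have h1 := hAut (F.isoOf_mem_autGroup hb hbr)
    exact E.mem_of_apply_eq ((E.mem_autGroup_iff hPP'.le_right).mp h1) fun x => rfl
  obtain ⟨c, hc, hce⟩ := E.exists_comp hE₁ hbE (fun x => hr₁.le ⟨x, rfl⟩)
  obtain ⟨d, hd, hde⟩ := E.exists_comp hc hi₂ (fun x => by rw [hce]; exact hbr.le ⟨_, rfl⟩)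
  refine E.mem_of_apply_eq hd fun x => ?_
  rw [hde]
  have key : c x = ψ₂ ⟨φ x, x, rfl⟩ := by
    rw [hce, hbe]
    congr 1
    apply Subtype.ext
    show a _ = φ x
    rw [hae]
    congr 1
    exact Subtype.ext (hj₁l x _)
  simp only [key]
  exact (hi₂l ⟨φ x, x, rfl⟩ _).symm

/-- **Alperin's fusion theorem**: a saturated fusion system is generated by the automorphisms of `S`
and of its essential subgroups. -/
theorem IsSaturated.le_of_autGroup_le (hF : F.IsSaturated p) (hS : IsPGroup p S) (E : FusionSystem S)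
    (hE : ∀ P : Subgroup Ω, (P = S ∨ F.IsEssential p P) → F.autGroup P ≤ E.autGroup P) : F ≤ E :=
  hF.le_of_autGroup_le' hS E fun P hP _ => hE P hP

end FusionSystem

end Cfsg
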