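import Cfsg.Agent.Lib.Fusion.Normal

/-!
Elements stabilising an invariant series lie in centric radical subgroups.
-/

set_option autoImplicit false

namespace Cfsg

namespace FusionSystem

variable {Ω : Type*} [Group Ω] {S : Subgroup Ω} {F : FusionSystem S} {P : Subgroup Ω} {p : ℕ}

/-- If `g ∈ N_S(P)` stabilises a series of `P` invariant under `Aut_F(P)`, with `P` centric radical,
then `g ∈ P`. -/
theorem mem_of_invariant_series [Fact p.Prime] [Finite S] (hS : IsPGroup p S) (hc : F.IsCentric P)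
    (hr : F.IsRadical p P) {m : ℕ} (C : Fin (m + 1) → Subgroup P) (h0 : C 0 = ⊥)
    (hlast : C (Fin.last m) = ⊤)
    (hinv : ∀ α ∈ F.autGroup P, ∀ i, ∀ x ∈ C i, α x ∈ C i)
    {g : Ω} (hg : g ∈ normalizerIn S P)
    (hstab : ∀ i : Fin m, ∀ x ∈ C i.succ, ∀ h : g * (x : Ω) * g⁻¹ ∈ P,
      x⁻¹ * (⟨g * (x : Ω) * g⁻¹, h⟩ : P) ∈ C i.castSucc) :
    g ∈ P := by
  have hPS : P ≤ S := hc.1
  have : Finite P := finite_of_le hPS
  have hfin := finite_autGroup (F := F) hPS
  let stab : MulAut P → Prop := fun a => ∀ i : Fin m, ∀ x ∈ C i.succ, x⁻¹ * a x ∈ C i.castSucc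
  -- the generated subgroup consists of stabilisers
  let A : Subgroup (F.autGroup P) :=
    { carrier := {a | ∀ i : Fin m, ∀ x ∈ C i.succ, x⁻¹ * (a : MulAut P) x ∈ C i.castSucc}
      one_mem' := fun i x _ => by simp
      mul_mem' := by
        intro a b ha hb i x hx
        have hbx : (b : MulAut P) x ∈ C i.succ := hinv _ b.2 _ x hx
        have := (C i.castSucc).mul_mem (hb i x hx) (ha i _ hbx)
        simpa [MulAut.mul_apply, mul_assoc] using this
      inv_mem' := by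
        intro a ha i x hx
        have hax : (a : MulAut P)⁻¹ x ∈ C i.succ := hinv _ ((F.autGroup P).inv_mem a.2) _ x hx
        have := (C i.castSucc).inv_mem (ha i _ hax)
        simpa using this }
  have hAn : A.Normal := by
    refine ⟨fun a ha b i x hx => ?_⟩
    have h1 := ha i _ (hinv _ ((F.autGroup P).inv_mem b.2) _ x hx)
    have h2 := hinv _ b.2 _ _ h1
    simpa [MulAut.mul_apply] using h2
  have hAp : IsPGroup p A := by
    have hmap : IsPGroup p (A.map (F.autGroup P).subtype) := by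
      refine isPGroup_of_stabilises (hS.to_le hPS) C h0 hlast _ ?_
      rintro _ ⟨a, ha, rfl⟩
      exact ha
    exact hmap.of_equiv (A.equivMapOfInjective _ Subtype.coe_injective).symm
  let c : F.autGroup P := ⟨P.normalizerMonoidHom ⟨g, hg.2⟩,
    autInducedBy_le_autGroup hPS (mem_autInducedBy_iff.mpr ⟨g, hg.1, hg.2, fun _ => rfl⟩)⟩
  have hcA : c ∈ A := fun i x hx => hstab i x hx _
  obtain ⟨u, hu⟩ := hr.2.le ⟨c, CfsgLib.le_pCore hAp hcA, rfl⟩
  have hz : (u : Ω)⁻¹ * g ∈ centralizerIn S P := by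
    refine ⟨S.mul_mem (S.inv_mem (hPS u.2)) hg.1, Subgroup.mem_centralizer_iff.mpr fun y hy => ?_⟩
    have h1 : (u : Ω) * y * (u : Ω)⁻¹ = g * y * g⁻¹ :=
      congrArg (fun f : MulAut P => ((f ⟨y, hy⟩ : P) : Ω)) hu
    calc y * ((u : Ω)⁻¹ * g) = (u : Ω)⁻¹ * ((u : Ω) * y * (u : Ω)⁻¹) * g := by group
      _ = (u : Ω)⁻¹ * g * y := by rw [h1]; group
  have := P.mul_mem u.2 (hc.centralizerIn_le_self hz)
  rwa [mul_inv_cancel_left] at this

theorem StronglyClosed.weaklyClosed [Finite S] {Q : Subgroup Ω} (h : F.StronglyClosed Q) :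
    F.WeaklyClosed Q := by
  refine ⟨h.1, fun φ hφ => ?_⟩
  have := h.map_eq hφ le_rfl
  rwa [Subgroup.subgroupOf_self, ← MonoidHom.range_eq_map] at this

theorem WeaklyClosed.le_normalizer {Q : Subgroup Ω} (h : F.WeaklyClosed Q) :
    S ≤ Subgroup.normalizer (Q : Set Ω) := by
  intro s hs
  have key : ∀ t ∈ S, ∀ x ∈ Q, t * x * t⁻¹ ∈ Q := fun t ht x hx =>
    (h.2 (conjHom Q t) (F.conj_mem h.1 ht)).le ⟨⟨x, hx⟩, rfl⟩
  refine Subgroup.mem_normalizer_iff.mpr fun x => ⟨key s hs x, fun hx => ?_⟩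
  have := key s⁻¹ (S.inv_mem hs) _ hx
  simpa [mul_assoc] using this

end FusionSystem

end Cfsg
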