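import Cfsg.Agent.Lib.Fusion.Normal

/-!
Inner fusion systems, and the nilpotency criterion by automisers being `p`-groups.
-/

set_option autoImplicit false

namespace Cfsg

namespace FusionSystem

variable {Ω : Type*} [Group Ω] {S : Subgroup Ω} {F : FusionSystem S} {P : Subgroup Ω} {p : ℕ}

variable (S p) in
theorem innerFusionSystem_isSaturated [Fact p.Prime] [Finite S] (hS : IsPGroup p S) :
    (innerFusionSystem S).IsSaturated p := by
  intro P hP
  refine ⟨P, (innerFusionSystem S).isConj_refl hP, ⟨hP, ?_⟩, hP, fun R φ hφ _ => ?_⟩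
  · rw [autGroup_innerFusionSystem hP, Subgroup.subgroupOf_self]
    have := finite_mulAut_of_le hP
    refine ⟨(((isPGroup_autInducedBy hS).of_equiv Subgroup.topEquiv.symm)).toSylow ?_, rfl⟩
    rw [Subgroup.index_top]
    exact (Fact.out : p.Prime).not_dvd_one
  · have hφS := (innerFusionSystem S).apply_mem hφ
    obtain ⟨-, g, hg, he⟩ := hφ
    refine ⟨conjHom _ g, ⟨fun x hx => ((mem_extender_iff hφS).mp hx).1, g, hg, fun _ => rfl⟩,
      fun x hxR _ => (he ⟨x, hxR⟩).symm⟩

/-- If every automiser is a `p`-group then the system is inner. -/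
theorem IsSaturated.eq_inner_of_isPGroup [Fact p.Prime] [Finite S] (hF : F.IsSaturated p)
    (hS : IsPGroup p S) (h : ∀ P, P ≤ S → IsPGroup p (F.autGroup P)) (P : Subgroup Ω) :
    F.Hom P = (innerFusionSystem S).Hom P := by
  suffices hle : F ≤ innerFusionSystem S from Set.Subset.antisymm (hle P) (innerFusionSystem_le F P)
  refine hF.le_of_autGroup_le hS _ fun Q hQ => ?_
  rcases hQ with rfl | hQ
  · rw [hF.autGroup_self_eq_inn hS (h _ le_rfl), autGroup_innerFusionSystem le_rfl,
      inn_eq_autInducedBy]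
  · exfalso
    obtain ⟨hc, -, hnorm, E, hE⟩ := hQ
    have hfin := finite_autGroup (F := F) hc.1
    have hp : IsPGroup p (⊤ : Subgroup (F.autGroup Q ⧸ (Inn Q).subgroupOf (F.autGroup Q))) :=
      ((h Q hc.1).to_quotient _).of_equiv Subgroup.topEquiv.symm
    have htop := Cfsg.IsStronglyPEmbedded.eq_bot_of_normal_pGroup hE ⊤ hp
    obtain ⟨hdvd, -⟩ := hE
    have h1 : Nat.card (F.autGroup Q ⧸ (Inn Q).subgroupOf (F.autGroup Q)) = 1 := by
      rw [← Subgroup.card_top, htop, Subgroup.card_bot]
    rw [h1] at hdvd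
    exact (Fact.out : p.Prime).not_dvd_one hdvd

end FusionSystem

end Cfsg
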