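import Cfsg.Agent.Lib.Fusion.Factor
import Cfsg.Agent.Lib.Fusion.Group

/-!
Images of saturated fusion systems under surjective morphisms; realized systems.
-/

set_option autoImplicit false

namespace Cfsg

namespace FusionSystem

variable {Ω : Type*} [Group Ω] {S : Subgroup Ω} {F : FusionSystem S} {p : ℕ}
  {Ω' : Type*} [Group Ω'] {S' : Subgroup Ω'} {F' : FusionSystem S'} {α : S →* Ω'}

theorem IsMorphism.stronglyClosed_ker (h : F.IsMorphism F' α) :
    F.StronglyClosed (α.ker.map S.subtype) := by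
  refine ⟨Subgroup.map_subtype_le _, fun R hR φ hφ x => ?_⟩
  obtain ⟨φ', -, hP, hφS, hP', he⟩ := h.2 R φ hφ
  obtain ⟨y, hy, hye⟩ := hR x.2
  refine ⟨⟨φ x, hφS x⟩, ?_, rfl⟩
  show α _ = 1
  rw [← he x]
  have h1 : α ⟨(x : Ω), hP x.2⟩ = 1 := by
    rw [show (⟨(x : Ω), hP x.2⟩ : S) = y from Subtype.ext hye.symm]
    exact hy
  calc φ' ⟨α ⟨(x : Ω), hP x.2⟩, hP' x⟩ = φ' 1 := congrArg φ' (Subtype.ext h1)
    _ = 1 := map_one φ'

/-- The image of a saturated fusion system under a surjective morphism is saturated. -/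
theorem IsSurjectiveMorphism.isSaturated [Fact p.Prime] [Finite S]
    (hα : F.IsSurjectiveMorphism F' α) (hS : IsPGroup p S) (hF : F.IsSaturated p) :
    F'.IsSaturated p := by
  obtain ⟨hmor, hrange, hlift⟩ := hα
  have hsc := hmor.stronglyClosed_ker
  have : Finite S' := by
    rw [← hrange]
    exact Finite.of_surjective α.rangeRestrict α.rangeRestrict_surjective
  have himg : ∀ {R' : Subgroup Ω'}, R' ≤ S' → ∀ z ∈ R', ∃ (x : Ω) (hx : x ∈ S),
      x ∈ preimageAlong α R' ∧ α ⟨x, hx⟩ = z := by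
    intro R' hR' z hz
    obtain ⟨s, hs⟩ := hrange.ge (hR' hz)
    exact ⟨s, s.2, mem_preimageAlong.mpr ⟨s.2, hs ▸ hz⟩, hs⟩
  intro P' hP'
  let P : Subgroup Ω := preimageAlong α P'
  have hKP : α.ker.map S.subtype ≤ P := fun x ⟨y, hy, he⟩ =>
    ⟨y, (show α y ∈ P' from (MonoidHom.mem_ker.mp hy).symm ▸ P'.one_mem), he⟩
  obtain ⟨Q, ⟨θ, hθ, hθr⟩, hQn⟩ := F.exists_isFullyNormalized (preimageAlong_le : P ≤ S)
  have hKQ : α.ker.map S.subtype ≤ Q := by
    intro x hx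
    obtain ⟨y, -, hy⟩ := (hsc.map_eq hθ hKP).ge hx
    exact hθr.le ⟨y, hy⟩
  have hQS : Q ≤ S := hQn.1
  let Q' : Subgroup Ω' := imageAlong α Q
  have hQ'S : Q' ≤ S' := by
    rintro _ ⟨y, -, rfl⟩
    exact hrange.le ⟨y, rfl⟩
  have hmemQ : ∀ (x : Ω) (hx : x ∈ S), α ⟨x, hx⟩ ∈ Q' → x ∈ Q := by
    rintro x hx ⟨y, hy, hye⟩
    have h1 : (y : Ω)⁻¹ * x ∈ α.ker.map S.subtype :=
      ⟨y⁻¹ * ⟨x, hx⟩, by show α _ = 1; rw [map_mul, map_inv, hye, inv_mul_cancel], rfl⟩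
    have := Q.mul_mem (show (y : Ω) ∈ Q from hy) (hKQ h1)
    rwa [mul_inv_cancel_left] at this
  -- `P'` is conjugate to `Q'`
  have hconj : F'.IsConj P' Q' := by
    obtain ⟨θ', hθ', hP, hθS, hP'', he⟩ := hmor.2 P θ hθ
    have hle : P' ≤ imageAlong α P := fun z hz => by
      obtain ⟨x, hx, hxP, rfl⟩ := himg hP' z hz
      exact ⟨⟨x, hx⟩, hxP, rfl⟩
    refine ⟨_, F'.restrict_mem hθ' hle, ?_⟩
    ext z
    constructor
    · rintro ⟨⟨w, hw⟩, rfl⟩
      obtain ⟨x, hx, hxP, rfl⟩ := himg hP' w hw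
      show θ' _ ∈ Q'
      refine ⟨⟨θ ⟨x, hxP⟩, hθS _⟩, hθr.le ⟨_, rfl⟩, ?_⟩
      exact (he ⟨x, hxP⟩).symm
    · rintro ⟨y, hy, rfl⟩
      obtain ⟨x, hx⟩ := hθr.ge hy
      refine ⟨⟨α ⟨x, hP x.2⟩, (mem_preimageAlong.mp x.2).2⟩, ?_⟩
      show θ' _ = _
      refine (he x).trans ?_
      congr 1
      exact Subtype.ext hx
  refine ⟨Q', hconj, ?_⟩
  obtain ⟨-, U, hU⟩ := hF.isFullyAutomized_of_isFullyNormalized hS hQn
  have hrec := hF.isReceptive_of_isFullyNormalized hS hQn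
  have hfin := finite_autGroup (F := F) hQS
  have hfin' := finite_autGroup (F := F') hQ'S
  -- the homomorphism `Aut_F(Q) → Aut_{F'}(Q')`, as a relation
  let q : Q → Q' := fun x => ⟨α ⟨x, hQS x.2⟩, ⟨_, x.2, rfl⟩⟩
  have hq : Function.Surjective q := by
    rintro ⟨_, y, hy, rfl⟩
    exact ⟨⟨y, hy⟩, rfl⟩
  have hlifts : ∀ a : F.autGroup Q, ∃ a' : F'.autGroup Q', ∀ x,
      (a' : MulAut Q') (q x) = q ((a : MulAut Q) x) := by
    intro a
    obtain ⟨φ, hφ, hr, hφe⟩ := F.exists_map_of_mem_autGroup hQS a.2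
    obtain ⟨φ', hφ', hP, hφS, hP'', he⟩ := hmor.2 Q φ hφ
    have hval : ∀ x : Q, φ' (q x) = (q ((a : MulAut Q) x) : Ω') := fun x => by
      refine (he x).trans ?_
      congr 1
      exact Subtype.ext (hφe x)
    have hr' : φ'.range = Q' := by
      ext z
      constructor
      · rintro ⟨w, rfl⟩
        obtain ⟨x, rfl⟩ := hq w
        rw [hval]
        exact SetLike.coe_mem _
      · intro hz
        obtain ⟨x, hx⟩ := hq ⟨z, hz⟩
        obtain ⟨w, rfl⟩ := (a : MulAut Q).surjective x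
        exact ⟨q w, (hval w).trans (congrArg Subtype.val hx)⟩
    exact ⟨⟨_, F'.isoOf_mem_autGroup hφ' hr'⟩, fun x => Subtype.ext (hval x)⟩
  choose π₀ hπ₀ using hlifts
  have hext : ∀ a b : F'.autGroup Q', (∀ x, (a : MulAut Q') (q x) = (b : MulAut Q') (q x)) → a = b :=
    fun a b h => Subtype.ext (MulEquiv.ext fun w => by obtain ⟨x, rfl⟩ := hq w; exact h x)
  let π : F.autGroup Q →* F'.autGroup Q' := MonoidHom.mk' π₀ fun a b => hext _ _ fun x => by
    rw [hπ₀, Subgroup.coe_mul, MulAut.mul_apply, Subgroup.coe_mul, MulAut.mul_apply, hπ₀, hπ₀]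
  have hπe : ∀ a x, (π a : MulAut Q') (q x) = q ((a : MulAut Q) x) := hπ₀
  have hπs : Function.Surjective π := by
    intro b
    obtain ⟨φ', hφ', -, hbe⟩ := F'.exists_map_of_mem_autGroup hQ'S b.2
    obtain ⟨φ, hφ, hP, hφS, hP'', he⟩ := hlift Q' hQ'S φ' hφ'
    have hle : Q ≤ preimageAlong α Q' := fun x hx =>
      mem_preimageAlong.mpr ⟨hQS hx, ⟨_, hx, rfl⟩⟩
    have hval : ∀ x : Q, α ⟨φ (Subgroup.inclusion hle x), hφS _⟩ = ((b : MulAut Q') (q x) : Ω') := by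
      intro x
      rw [← hbe, ← he (Subgroup.inclusion hle x)]
      rfl
    have hr : (φ.comp (Subgroup.inclusion hle)).range = Q := by
      have := finite_of_le hQS
      refine Subgroup.eq_of_le_of_card_ge ?_
        (le_of_eq (Nat.card_congr (MonoidHom.ofInjective (F.injective_of_mem (F.restrict_mem hφ hle))).toEquiv))
      rintro _ ⟨x, rfl⟩
      exact hmemQ _ (hφS _) ((hval x).symm ▸ SetLike.coe_mem _)
    refine ⟨⟨_, F.isoOf_mem_autGroup (F.restrict_mem hφ hle) hr⟩, hext _ _ fun x => ?_⟩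
    rw [hπe]
    exact Subtype.ext (hval x)
  have hπconj : ∀ (g : Ω) (hg : g ∈ S) (hgN : g ∈ Subgroup.normalizer (Q : Set Ω))
      (ha : Q.normalizerMonoidHom ⟨g, hgN⟩ ∈ F.autGroup Q) (w : Q'),
      (((π ⟨_, ha⟩ : MulAut Q') w : Q') : Ω') = α ⟨g, hg⟩ * w * (α ⟨g, hg⟩)⁻¹ := by
    intro g hg hgN ha w
    obtain ⟨x, rfl⟩ := hq w
    rw [hπe]
    show α _ = α ⟨g, hg⟩ * α _ * (α ⟨g, hg⟩)⁻¹
    rw [← map_inv, ← map_mul, ← map_mul]
    rfl
  refine ⟨⟨hQ'S, U.mapSurjective hπs, ?_⟩, hQ'S, fun R' φ' hφ' hr' => ?_⟩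
  · ext b
    constructor
    · rintro ⟨a, ha, rfl⟩
      obtain ⟨g, hg, hgN, he⟩ := mem_autInducedBy_iff.mp (Subgroup.mem_subgroupOf.mp (hU.le ha))
      refine Subgroup.subset_closure ⟨α ⟨g, hg⟩, hrange.le ⟨_, rfl⟩, fun w => ?_⟩
      have hgm : Q.normalizerMonoidHom ⟨g, hgN⟩ ∈ F.autGroup Q := autInducedBy_le_autGroup hQS
        (mem_autInducedBy_iff.mpr ⟨g, hg, hgN, fun _ => rfl⟩)
      have hae : a = ⟨_, hgm⟩ := Subtype.ext (MulEquiv.ext fun x => Subtype.ext (he x))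
      rw [hae]
      exact hπconj g hg hgN hgm w
    · intro hb
      obtain ⟨g', hg', hgN', he⟩ := mem_autInducedBy_iff.mp (Subgroup.mem_subgroupOf.mp hb)
      obtain ⟨⟨g, hg⟩, rfl⟩ := hrange.ge hg'
      have hgN : g ∈ Subgroup.normalizer (Q : Set Ω) := by
        refine Subgroup.mem_normalizer_iff.mpr fun x => ⟨fun hx => ?_, fun hx => ?_⟩
        · refine hmemQ _ (S.mul_mem (S.mul_mem hg (hQS hx)) (S.inv_mem hg)) ?_
          have := (Subgroup.mem_normalizer_iff.mp hgN' _).mp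
            (show α ⟨x, hQS hx⟩ ∈ Q' from ⟨_, hx, rfl⟩)
          rw [← map_inv, ← map_mul, ← map_mul] at this
          exact this
        · have hxS : x ∈ S := by
            have := S.mul_mem (S.mul_mem (S.inv_mem hg) (hQS hx)) hg
            simpa [mul_assoc] using this
          refine hmemQ x hxS ((Subgroup.mem_normalizer_iff.mp hgN' _).mpr ?_)
          rw [← map_inv, ← map_mul, ← map_mul]
          exact ⟨_, hx, rfl⟩
      have hgm : Q.normalizerMonoidHom ⟨g, hgN⟩ ∈ autInducedBy S Q :=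
        mem_autInducedBy_iff.mpr ⟨g, hg, hgN, fun _ => rfl⟩
      refine ⟨⟨_, autInducedBy_le_autGroup hQS hgm⟩, hU.ge hgm, ?_⟩
      exact Subtype.ext (MulEquiv.ext fun w => Subtype.ext ((hπconj g hg hgN _ w).trans (he w).symm))
  -- receptivity
  have hR'S : R' ≤ S' := F'.source_le hφ'
  let R : Subgroup Ω := preimageAlong α R'
  obtain ⟨φ, hφ, hRS, hφS, hRR', he⟩ := hlift R' hR'S φ' hφ'
  have hKR : α.ker.map S.subtype ≤ R := fun x ⟨y, hy, he⟩ =>
    ⟨y, (show α y ∈ R' from (MonoidHom.mem_ker.mp hy).symm ▸ R'.one_mem), he⟩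
  have hφr : φ.range = Q := by
    ext z
    constructor
    · rintro ⟨x, rfl⟩
      exact hmemQ _ (hφS x) (he x ▸ hr'.le ⟨_, rfl⟩)
    · intro hz
      obtain ⟨w, hw⟩ := hr'.ge (show α ⟨z, hQS hz⟩ ∈ Q' from ⟨_, hz, rfl⟩)
      obtain ⟨x, hx, hxR, hxw⟩ := himg hR'S w w.2
      rw [show w = ⟨α ⟨x, hRS hxR⟩, hRR' ⟨x, hxR⟩⟩ from Subtype.ext hxw.symm] at hw
      rw [he ⟨x, hxR⟩] at hw
      have h1 : (φ ⟨x, hxR⟩)⁻¹ * z ∈ α.ker.map S.subtype :=
        ⟨⟨φ ⟨x, hxR⟩, hφS _⟩⁻¹ * ⟨z, hQS hz⟩, by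
          show α _ = 1; rw [map_mul, map_inv, hw, inv_mul_cancel], rfl⟩
      obtain ⟨v, -, hv⟩ := (hsc.map_eq hφ hKR).ge h1
      exact ⟨⟨x, hxR⟩ * v, by rw [map_mul, hv, mul_inv_cancel_left]⟩
  let M : Subgroup Ω := preimageAlong α (extender S' R' φ')
  have hMS : M ≤ S := preimageAlong_le
  have hMN : M ≤ normalizerIn S R := by
    intro g hg
    obtain ⟨hgS, hg'⟩ := mem_preimageAlong.mp hg
    obtain ⟨-, hN, -⟩ := (mem_extender_iff (F'.apply_mem hφ')).mp hg'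
    refine ⟨hgS, Subgroup.mem_normalizer_iff.mpr fun x => ⟨fun hx => ?_, fun hx => ?_⟩⟩
    · refine mem_preimageAlong.mpr ⟨S.mul_mem (S.mul_mem hgS (hRS hx)) (S.inv_mem hgS), ?_⟩
      have := (Subgroup.mem_normalizer_iff.mp hN _).mp (mem_preimageAlong.mp hx).2
      rw [← map_inv, ← map_mul, ← map_mul] at this
      exact this
    · obtain ⟨hxS', hx'⟩ := mem_preimageAlong.mp hx
      have hxS : x ∈ S := by
        have := S.mul_mem (S.mul_mem (S.inv_mem hgS) hxS') hgS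
        simpa [mul_assoc] using this
      refine mem_preimageAlong.mpr ⟨hxS, (Subgroup.mem_normalizer_iff.mp hN _).mpr ?_⟩
      rw [← map_inv, ← map_mul, ← map_mul]
      exact hx'
  let iso : R ≃* Q := F.isoOf hφ hφr
  have hiso : ∀ x : R, ((iso x : Q) : Ω) = φ x := fun x => rfl
  let X : Subgroup (MulAut Q) := (autInducedBy M R).map (MulAut.congr iso).toMonoidHom
  have hXle : X ≤ F.autGroup Q := by
    rw [← F.autGroup_map_congr hφ hφr]
    exact Subgroup.map_mono ((autInducedBy_mono hMS).trans (autInducedBy_le_autGroup hRS))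
  let Y : Subgroup (F.autGroup Q) := π.ker ⊔ (U : Subgroup (F.autGroup Q))
  have hXY : X.subgroupOf (F.autGroup Q) ≤ Y := by
    intro a ha
    obtain ⟨c, hc, hca⟩ := Subgroup.mem_subgroupOf.mp ha
    obtain ⟨g, hg, hgN, hge⟩ := mem_autInducedBy_iff.mp hc
    obtain ⟨hgS, hg'⟩ := mem_preimageAlong.mp hg
    obtain ⟨-, -, k, hk, hke⟩ := (mem_extender_iff (F'.apply_mem hφ')).mp hg'
    obtain ⟨⟨h, hh⟩, rfl⟩ := hrange.ge hk
    have hval : ∀ w : Q', (((π a : MulAut Q') w : Q') : Ω') = α ⟨h, hh⟩ * w * (α ⟨h, hh⟩)⁻¹ := by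
      intro w
      obtain ⟨x, rfl⟩ := hq w
      obtain ⟨y, rfl⟩ := iso.surjective x
      rw [hπe]
      have h1 : (a : MulAut Q) (iso y) = iso (c y) := by
        rw [← hca]
        simp [MulAut.congr]
      rw [h1]
      show α ⟨φ (c y), _⟩ = α ⟨h, hh⟩ * α ⟨φ y, _⟩ * _
      have h2 : (⟨α ⟨(c y : R), hRS (c y).2⟩, hRR' _⟩ : R') =
          ⟨α ⟨g, hgS⟩ * ((⟨α ⟨y, hRS y.2⟩, hRR' y⟩ : R') : Ω') * (α ⟨g, hgS⟩)⁻¹,
            (Subgroup.mem_normalizer_iff.mp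
              ((mem_extender_iff (F'.apply_mem hφ')).mp hg').2.1 _).mp (hRR' y)⟩ := by
        apply Subtype.ext
        show α _ = α _ * α _ * _
        rw [← map_inv, ← map_mul, ← map_mul]
        congr 1
        exact Subtype.ext (hge y)
      rw [← he, ← he, h2, hke]
    have hhN : h ∈ Subgroup.normalizer (Q : Set Ω) := by
      refine Subgroup.mem_normalizer_iff.mpr fun x => ⟨fun hx => ?_, fun hx => ?_⟩
      · refine hmemQ _ (S.mul_mem (S.mul_mem hh (hQS hx)) (S.inv_mem hh)) ?_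
        have h1 := hval (q ⟨x, hx⟩)
        have h2 : α ⟨h * x * h⁻¹, S.mul_mem (S.mul_mem hh (hQS hx)) (S.inv_mem hh)⟩ =
            (((π a : MulAut Q') (q ⟨x, hx⟩) : Q') : Ω') := by
          rw [h1, ← map_inv, ← map_mul, ← map_mul]
          rfl
        exact h2 ▸ SetLike.coe_mem _
      · have hxS : x ∈ S := by
          have := S.mul_mem (S.mul_mem (S.inv_mem hh) (hQS hx)) hh
          simpa [mul_assoc] using this
        refine hmemQ x hxS ?_
        have h1 := hval ((π a : MulAut Q')⁻¹ (q ⟨_, hx⟩))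
        rw [MulAut.apply_inv_self] at h1
        have h2 : α ⟨x, hxS⟩ = (((π a : MulAut Q')⁻¹ (q ⟨_, hx⟩) : Q') : Ω') := by
          have h3 : α ⟨h, hh⟩ * α ⟨x, hxS⟩ * (α ⟨h, hh⟩)⁻¹ = (q ⟨_, hx⟩ : Ω') := by
            rw [← map_inv, ← map_mul, ← map_mul]
            rfl
          rw [h1] at h3
          exact mul_left_cancel (mul_right_cancel h3)
        exact h2 ▸ SetLike.coe_mem _
    have hm : Q.normalizerMonoidHom ⟨h, hhN⟩ ∈ autInducedBy S Q :=
      mem_autInducedBy_iff.mpr ⟨h, hh, hhN, fun _ => rfl⟩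
    let d : F.autGroup Q := ⟨_, autInducedBy_le_autGroup hQS hm⟩
    have hd : d ∈ (U : Subgroup (F.autGroup Q)) := hU.ge hm
    have he' : π d = π a := Subtype.ext (MulEquiv.ext fun w => Subtype.ext
      ((hπconj h hh hhN _ w).trans (hval w).symm))
    have : a * d⁻¹ ∈ π.ker := by rw [MonoidHom.mem_ker, map_mul, map_inv, he', mul_inv_cancel]
    have h5 := Subgroup.mul_mem_sup this hd
    rwa [inv_mul_cancel_right] at h5
  have hUY : (U : Subgroup (F.autGroup Q)) ≤ Y := le_sup_right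
  have hXp : IsPGroup p (X.subgroupOf (F.autGroup Q)) :=
    ((isPGroup_autInducedBy (hS.to_le hMS)).map _).of_equiv (Subgroup.subgroupOfEquivOfLe hXle).symm
  obtain ⟨y, hy⟩ := exists_conj_mem_sylow (U.subtype hUY)
    (hXp.of_equiv (Subgroup.subgroupOfEquivOfLe hXY).symm)
  have hy' : (y : F.autGroup Q) ∈ (↑(π.ker ⊔ (U : Subgroup (F.autGroup Q))) : Set (F.autGroup Q)) := y.2
  rw [sup_comm, Subgroup.mul_normal] at hy'
  obtain ⟨u, hu, l, hl, hyl⟩ := hy'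
  obtain ⟨ψl, hψl, -, hle'⟩ := F.exists_map_of_mem_autGroup hQS l.2
  obtain ⟨φ₂, hφ₂, hφ₂e⟩ := F.exists_comp hφ hψl (fun x => hφr.le ⟨x, rfl⟩)
  have hφ₂v : ∀ x, φ₂ x = ((((l : MulAut Q) (iso x)) : Q) : Ω) := fun x => by
    rw [hφ₂e, hle']
    rfl
  have hφ₂r : φ₂.range = Q := by
    ext z
    constructor
    · rintro ⟨x, rfl⟩
      rw [hφ₂v]
      exact SetLike.coe_mem _
    · intro hz
      exact ⟨iso.symm ((l : MulAut Q)⁻¹ ⟨z, hz⟩), by rw [hφ₂v]; simp⟩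
  have hext' : M ≤ extender S R φ₂ := by
    intro g hg
    refine (mem_extender_iff (F.apply_mem hφ₂)).mpr ⟨hMS hg, (hMN hg).2, ?_⟩
    let c : MulAut R := R.normalizerMonoidHom ⟨g, (hMN hg).2⟩
    have hc : MulAut.congr iso c ∈ X :=
      ⟨c, mem_autInducedBy_iff.mpr ⟨g, hg, (hMN hg).2, fun _ => rfl⟩, rfl⟩
    let a : F.autGroup Q := ⟨_, hXle hc⟩
    have h1 : (y : F.autGroup Q) * a * (y : F.autGroup Q)⁻¹ ∈ (U : Subgroup (F.autGroup Q)) :=
      hy ⟨a, hXY hc⟩ hc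
    rw [← hyl] at h1
    have hu' : u ∈ (U : Subgroup (F.autGroup Q)) := hu
    have h2 := (U : Subgroup (F.autGroup Q)).mul_mem
      ((U : Subgroup (F.autGroup Q)).mul_mem ((U : Subgroup (F.autGroup Q)).inv_mem hu') h1) hu'
    have h3 : l * a * l⁻¹ ∈ (U : Subgroup (F.autGroup Q)) := by simpa [mul_assoc] using h2
    obtain ⟨k, hk, -, hke⟩ := mem_autInducedBy_iff.mp (Subgroup.mem_subgroupOf.mp (hU.le h3))
    refine ⟨k, hk, fun x hx => ?_⟩
    rw [hφ₂v, hφ₂v, ← hke]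
    congr 1
    simp only [Subgroup.coe_mul, InvMemClass.coe_inv, MulAut.mul_apply, MulAut.inv_apply_self]
    congr 1
    show iso _ = iso (c (iso.symm (iso x)))
    rw [MulEquiv.symm_apply_apply]
    rfl
  obtain ⟨ψ, hψ, hψe⟩ := hrec.2 R φ₂ hφ₂ hφ₂r
  obtain ⟨ψ', hψ', hM', hψS, hMM', hψ'e⟩ := hmor.2 M _ (F.restrict_mem hψ hext')
  have hle : extender S' R' φ' ≤ imageAlong α M := fun z hz => by
    obtain ⟨x, hx, hxM, rfl⟩ := himg (fun w hw => ((mem_extender_iff (F'.apply_mem hφ')).mp hw).1) z hz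
    exact ⟨⟨x, hx⟩, hxM, rfl⟩
  refine ⟨_, F'.restrict_mem hψ' hle, fun z hz hzN => ?_⟩
  obtain ⟨x, hx, hxR, rfl⟩ := himg hR'S z hz
  have hxM : x ∈ M := mem_preimageAlong.mpr ⟨hx, hzN⟩
  refine (hψ'e ⟨x, hxM⟩).trans ((he ⟨x, hxR⟩).symm.trans rfl |>.trans rfl |> fun h => ?_)
  have h4 : ψ (Subgroup.inclusion hext' ⟨x, hxM⟩) = φ₂ ⟨x, hxR⟩ := hψe x hxR _
  rw [show (⟨α ⟨x, hx⟩, hz⟩ : R') = ⟨α ⟨x, hRS hxR⟩, hRR' ⟨x, hxR⟩⟩ from rfl, he ⟨x, hxR⟩]
  have h5 : π l = 1 := hl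
  have h6 := hπe l (iso ⟨x, hxR⟩)
  rw [h5] at h6
  refine Eq.trans ?_ (congrArg Subtype.val h6).symm
  show α _ = α _
  congr 1
  apply Subtype.ext
  exact h4.trans (hφ₂v _)

/-- A system realized on a Sylow subgroup of a finite group is saturated. -/
theorem IsRealizedBy.isSaturated [Fact p.Prime] {G : Type*} [Group G] [Finite G] {ι : S →* G}
    (h : F.IsRealizedBy ι) (T : Sylow p G) (hT : (T : Subgroup G) = ι.range) :
    F.IsSaturated p := by
  obtain ⟨hinj, hreal⟩ := h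
  let e : S ≃* (T : Subgroup G) := (MonoidHom.ofInjective hinj).trans (MulEquiv.subgroupCongr hT.symm)
  have he : ∀ s : S, ((e s : (T : Subgroup G)) : G) = ι s := fun s => rfl
  let β : (T : Subgroup G) →* Ω := S.subtype.comp e.symm.toMonoidHom
  have hβ : ∀ t, β t ∈ S := fun t => SetLike.coe_mem _
  have hβι : ∀ (t : (T : Subgroup G)) (h : β t ∈ S), ι ⟨β t, h⟩ = t := fun t h => by
    rw [← he]
    show ((e (e.symm t) : (T : Subgroup G)) : G) = t
    rw [MulEquiv.apply_symm_apply]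
  have hβe : ∀ s : S, β (e s) = s := fun s => by
    show ((e.symm (e s) : S) : Ω) = s
    rw [MulEquiv.symm_apply_apply]
  have : Finite S := Finite.of_injective ι hinj
  refine IsSurjectiveMorphism.isSaturated (F := groupFusionSystem (T : Subgroup G)) (α := β)
    ⟨⟨hβ, ?_⟩, ?_, ?_⟩ T.2 (groupFusionSystem_isSaturated T)
  · rintro P φ ⟨hP, hφT, g, hg⟩
    have hle : imageAlong β P ≤ S := by
      rintro _ ⟨t, -, rfl⟩
      exact hβ t
    let j : ↥(imageAlong β P) →* ↥P :=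
      ((T : Subgroup G).subtype.comp (e.toMonoidHom.comp (Subgroup.inclusion hle))).codRestrict P
        (by
          rintro ⟨_, t, ht, rfl⟩
          show ((e ⟨β t, _⟩ : (T : Subgroup G)) : G) ∈ P
          rw [he, hβι]
          exact ht)
    refine ⟨β.comp ((φ.codRestrict _ hφT).comp j), (hreal _ hle _ fun x => hβ _).mpr ⟨g, fun x => ?_⟩,
      hP, hφT, fun x => ⟨_, x.2, rfl⟩, fun x => ?_⟩
    · show ι ⟨β _, _⟩ = _
      rw [hβι]
      exact hg _
    · show β ⟨φ (j _), hφT _⟩ = β ⟨φ x, _⟩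
      congr 2
      congr 1
      apply Subtype.ext
      show ((e ⟨β ⟨x, hP x.2⟩, _⟩ : (T : Subgroup G)) : G) = x
      rw [he]
      exact hβι _ _
  · ext y
    constructor
    · rintro ⟨t, rfl⟩
      exact hβ t
    · intro hy
      exact ⟨e ⟨y, hy⟩, hβe _⟩
  · intro P' hP' φ' hφ'
    obtain ⟨g, hg⟩ := (hreal P' hP' φ' (F.apply_mem hφ')).mp hφ'
    have hval : ∀ x : ↥(preimageAlong β P'), g * (x : G) * g⁻¹ = ι ⟨φ' ⟨β ⟨x, preimageAlong_le x.2⟩,
        (mem_preimageAlong.mp x.2).2⟩, F.apply_mem hφ' _⟩ := by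
      intro x
      rw [hg, hβι]
    have hmem := conjHom_mem_groupFusionSystem (g := g)
      (preimageAlong_le : preimageAlong β P' ≤ (T : Subgroup G))
      (fun x hx => by rw [hval ⟨x, hx⟩]; exact hT.ge ⟨_, rfl⟩)
    refine ⟨_, hmem, preimageAlong_le, (groupFusionSystem (T : Subgroup G)).apply_mem hmem,
      fun x => (mem_preimageAlong.mp x.2).2, fun x => ?_⟩
    have h1 : (⟨conjHom _ g x, (groupFusionSystem (T : Subgroup G)).apply_mem hmem x⟩ : (T : Subgroup G)) =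
        e ⟨φ' ⟨β ⟨x, preimageAlong_le x.2⟩, (mem_preimageAlong.mp x.2).2⟩, F.apply_mem hφ' _⟩ :=
      Subtype.ext ((hval x).trans (he _).symm)
    rw [h1, hβe]

end FusionSystem

end Cfsg
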