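import Cfsg.Agent.Lib.Fusion.Model.Main
import Cfsg.Agent.Lib.Fusion.Image
import Cfsg.Agent.Lib.Blocks.HallHigman
import Cfsg.Agent.Lib.PSolvable
import Cfsg.Agent.Lib.CoprimeGen

/-!
Fusion systems of `p`-solvable groups.
-/

set_option autoImplicit false
set_option linter.unusedSectionVars false

universe u v w

namespace CfsgLib.PSolvableClosure

open Cfsg

variable {G : Type u} [Group G] {H : Type v} [Group H] {p : ℕ} [Fact p.Prime]

theorem of_surjective [Finite G] (f : G →* H) (hf : Function.Surjective f) (h : IsPSolvable p G) :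
    IsPSolvable p H := by
  obtain ⟨n, K, h0, h1, hm, hn, hidx⟩ := h
  refine ⟨n, fun i => (K i).map f, by simp [h0], by simp [h1, Subgroup.map_top_of_surjective f hf],
    fun i j hij => Subgroup.map_mono (hm hij), fun i => (hn i).map f hf, fun i => ?_⟩
  have hle : K i.castSucc ≤ K i.succ := hm (Fin.castSucc_lt_succ).le
  have hmap : ((K i.castSucc).subgroupOf (K i.succ)).map (f.subgroupMap (K i.succ)) =
      ((K i.castSucc).map f).subgroupOf ((K i.succ).map f) := by
    ext ⟨y, hy⟩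
    constructor
    · rintro ⟨x, hx, e⟩
      exact ⟨x, hx, congrArg Subtype.val e⟩
    · rintro ⟨x, hx, rfl⟩
      exact ⟨⟨x, hle hx⟩, hx, rfl⟩
  have hdvd : ((K i.castSucc).map f).relIndex ((K i.succ).map f) ∣ (K i.castSucc).relIndex (K i.succ) := by
    rw [Subgroup.relIndex, ← hmap, Subgroup.relIndex]
    exact Subgroup.index_map_dvd _ (f.subgroupMap_surjective _)
  rcases hidx i with ⟨m, hm'⟩ | hc
  · rw [hm'] at hdvd
    obtain ⟨k, -, hk⟩ := (Nat.dvd_prime_pow (Fact.out : p.Prime)).mp hdvd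
    exact Or.inl ⟨k, hk⟩
  · exact Or.inr (hc.coprime_dvd_left hdvd)

theorem of_isPGroup_ker [Finite G] (f : G →* H) (hf : Function.Surjective f) (hker : IsPGroup p f.ker)
    (h : IsPSolvable p H) : IsPSolvable p G := by
  obtain ⟨n, K, h0, h1, hm, hn, hidx⟩ := h
  let L : Fin (n + 2) → Subgroup G := Fin.cases ⊥ fun i => (K i).comap f
  have hL : ∀ i, L (Fin.succ i) = (K i).comap f := fun i => rfl
  refine ⟨n + 1, L, rfl, ?_, ?_, ?_, fun i => ?_⟩
  · rw [← Fin.succ_last, hL, h1, Subgroup.comap_top]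
  · refine Fin.monotone_iff_le_succ.mpr fun i => ?_
    induction i using Fin.cases with
    | zero => exact bot_le
    | succ j =>
      rw [Fin.castSucc_succ, hL, hL]
      exact Subgroup.comap_mono (hm (Fin.castSucc_lt_succ).le)
  · intro i
    induction i using Fin.cases with
    | zero => exact inferInstanceAs (⊥ : Subgroup G).Normal
    | succ j => rw [hL]; exact (hn j).comap f
  · induction i using Fin.cases with
    | zero =>
      obtain ⟨m, hm'⟩ := hker.exists_card_eq
      refine Or.inl ⟨m, ?_⟩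
      rw [hL, h0]
      show (⊥ : Subgroup G).relIndex ((⊥ : Subgroup H).comap f) = _
      rw [Subgroup.relIndex_bot_left, MonoidHom.comap_bot, hm']
    | succ j =>
      rw [Fin.castSucc_succ, hL, hL, Subgroup.relIndex_comap, Subgroup.map_comap_eq_self_of_surjective hf]
      exact hidx j

end CfsgLib.PSolvableClosure

namespace Cfsg.FusionSystem

variable {Ω : Type u} [Group Ω] {S : Subgroup Ω} {F : FusionSystem S} {p : ℕ} [Fact p.Prime] [Finite S]
  {G : Type v} [Group G] {ι : S →* G}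

/-- A model maps onto the automiser of the core, with a `p`-group as kernel. -/
theorem IsModel.exists_aut_hom (hS : IsPGroup p S) (hG : F.IsModel p G ι) :
    ∃ ρ : G →* F.autGroup F.core, Function.Surjective ρ ∧ IsPGroup p ρ.ker := by
  haveI := hG.1
  have hcS : F.core ≤ S := (isNormal_core F).1
  haveI : Finite F.core := finite_of_le hcS
  have hmap := hG.map_core hS
  obtain ⟨-, ⟨hinj, hiff⟩, -, hC⟩ := hG
  let c : F.core →* G := ι.comp (Subgroup.inclusion hcS)
  have hcinj : Function.Injective c := hinj.comp (Subgroup.inclusion_injective hcS)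
  have hcore' : c.range = pCore p G := by
    rw [← hmap]
    ext y
    constructor
    · rintro ⟨x, rfl⟩
      exact ⟨Subgroup.inclusion hcS x, x.2, rfl⟩
    · rintro ⟨x, hx, rfl⟩
      exact ⟨⟨x, hx⟩, rfl⟩
  haveI : c.range.Normal := hcore' ▸ inferInstance
  let i : F.core ≃* c.range := MonoidHom.ofInjective hcinj
  let ρ : G →* MulAut F.core := ((MulAut.congr i.symm).toMonoidHom).comp MulAut.conjNormal
  have hρ : ∀ l x, c (ρ l x) = l * c x * l⁻¹ := by
    intro l x
    show c (i.symm (MulAut.conjNormal l (i x))) = _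
    exact (congrArg Subtype.val (i.apply_symm_apply _) :)
  have hρA : ∀ l, ρ l ∈ F.autGroup F.core := by
    intro l
    let φ : F.core →* Ω := F.core.subtype.comp (ρ l).toMonoidHom
    have hφ : φ ∈ F.Hom F.core := (hiff F.core hcS φ fun x => hcS (ρ l x).2).mpr ⟨l, hρ l⟩
    exact F.mem_autGroup_of_map hφ fun x => rfl
  refine ⟨ρ.codRestrict _ hρA, ?_, ?_⟩
  · rintro ⟨α, hα⟩
    obtain ⟨φ, hφ, hr, he⟩ := F.exists_map_of_mem_autGroup hcS hα
    obtain ⟨l, hl⟩ := (hiff F.core hcS φ fun x => hcS (hr.le ⟨x, rfl⟩)).mp hφ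
    refine ⟨l, Subtype.ext (MulEquiv.ext fun x => hcinj ?_)⟩
    show c (ρ l x) = c (α x)
    rw [hρ]
    exact (hl x).symm.trans (congrArg ι (Subtype.ext (he x)))
  · refine (CfsgLib.isPGroup_pCore (G := G) p).to_le ?_
    intro l hl
    refine hC (Subgroup.mem_centralizer_iff.mpr ?_)
    intro y hy
    obtain ⟨x, rfl⟩ := hcore'.ge hy
    have h1 := hρ l x
    rw [show ρ l = 1 from congrArg Subtype.val hl] at h1
    exact mul_inv_eq_iff_eq_mul.mp h1.symm |>.symm

/-- A system with a model is constrained. -/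
theorem IsModel.isConstrained' (hS : IsPGroup p S) (hG : F.IsModel p G ι) : F.IsConstrained p := by
  haveI := hG.1
  obtain ⟨T, hT⟩ := hG.2.2.1
  have hcore := isNormal_core F
  refine ⟨IsRealizedBy.isSaturated hG.2.1 T hT, F.core, hcore, hcore.1, ?_⟩
  rintro _ ⟨φ, hφ, rfl⟩
  rw [hcore.stronglyClosed.weaklyClosed.2 φ hφ]
  intro x hx
  have hmap := hG.map_core hS
  have h1 : ι ⟨x, hx.1⟩ ∈ pCore p G := hG.2.2.2 (Subgroup.mem_centralizer_iff.mpr (by
    intro y hy
    obtain ⟨s, hs, rfl⟩ := hmap.ge hy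
    rw [← map_mul, ← map_mul]
    exact congrArg ι (Subtype.ext (hx.2 s hs))))
  obtain ⟨s, hs, e⟩ := hmap.ge h1
  rw [show (x : Ω) = s from (congrArg Subtype.val (hG.2.1.1 e)).symm]
  exact hs

/-- Factoring a `p'`-group out of a realising group keeps the system. -/
theorem IsRealizedBy.quotient [Finite G] (hS : IsPGroup p S) (h : F.IsRealizedBy ι)
    (K : Subgroup G) [K.Normal] (hK : (Nat.card K).Coprime p) :
    F.IsRealizedBy ((QuotientGroup.mk' K).comp ι) := by
  obtain ⟨hinj, hiff⟩ := h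
  set π := QuotientGroup.mk' K
  have hπ : ∀ x, π x = 1 ↔ x ∈ K := fun x => QuotientGroup.eq_one_iff x
  have hdisj : ∀ s : S, ι s ∈ K → s = 1 := by
    intro s hs
    obtain ⟨j, hj⟩ := hS s
    refine hinj ?_
    rw [map_one]
    have h1 : orderOf (ι s) ∣ p ^ j := orderOf_dvd_of_pow_eq_one (by rw [← map_pow, hj, map_one])
    exact orderOf_eq_one_iff.mp (Nat.eq_one_of_dvd_coprimes (hK.pow_right j)
      (Subgroup.orderOf_dvd_natCard K hs) h1)
  refine ⟨fun a b e => ?_, fun P hP φ hφ => ⟨fun hm => ?_, ?_⟩⟩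
  · have : ι (a⁻¹ * b) ∈ K := by
      rw [← hπ, map_mul, map_inv, map_mul, map_inv]
      show (π (ι a))⁻¹ * π (ι b) = 1
      rw [show π (ι a) = π (ι b) from e, inv_mul_cancel]
    exact inv_mul_eq_one.mp (hdisj _ this)
  · obtain ⟨g, hg⟩ := (hiff P hP φ hφ).mp hm
    exact ⟨π g, fun x => by
      show π (ι _) = π g * π (ι _) * (π g)⁻¹
      rw [hg x, map_mul, map_mul, map_inv]⟩
  rintro ⟨gb, hgb⟩
  obtain ⟨g, rfl⟩ := QuotientGroup.mk'_surjective K gb
  have hge : ∀ x : P, (ι ⟨φ x, hφ x⟩)⁻¹ * (g * ι ⟨x, hP x.2⟩ * g⁻¹) ∈ K := by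
    intro x
    rw [← hπ, map_mul, map_inv, map_mul, map_mul, map_inv]
    show (π (ι _))⁻¹ * _ = 1
    rw [show π (ι ⟨φ x, hφ x⟩) = π g * π (ι ⟨x, hP x.2⟩) * (π g)⁻¹ from hgb x, inv_mul_cancel]
  let c : P →* G := (MulAut.conj g).toMonoidHom.comp (ι.comp (Subgroup.inclusion hP))
  let d : P →* G := ι.comp (φ.codRestrict S hφ)
  set A : Subgroup G := c.range with hA
  have hAp : IsPGroup p A := (hS.to_le hP).of_surjective c.rangeRestrict c.rangeRestrict_surjective
  haveI : Group.IsNilpotent A := hAp.isNilpotent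
  have hcop : (Nat.card A).Coprime (Nat.card K) := by
    obtain ⟨k, hk⟩ := hAp.exists_card_eq
    rw [hk]
    exact (hK.pow_right k).symm
  -- conjugate `A` onto the image of `φ`
  have hdc : ∀ x, (d x)⁻¹ * c x ∈ K := hge
  set B : Subgroup G := d.range with hB
  have hBp : IsPGroup p B := (hS.to_le hP).of_surjective d.rangeRestrict d.rangeRestrict_surjective
  have hAK : A ≤ K ⊔ B := by
    rintro _ ⟨x, rfl⟩
    have := (K ⊔ B).mul_mem (Subgroup.mem_sup_right ⟨x, rfl⟩ : d x ∈ K ⊔ B) (Subgroup.mem_sup_left (hdc x))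
    simpa using this
  obtain ⟨k, hk, hkA⟩ : ∃ k ∈ K, ∀ a ∈ A, k * a * k⁻¹ ∈ B := by
    haveI : Finite (K ⊔ B : Subgroup G) := inferInstance
    set H := K ⊔ B with hH
    haveI : (K.subgroupOf H).Normal := Subgroup.normal_subgroupOf
    have hcardB : ∀ X : Subgroup H, IsPGroup p X → Nat.card X ≤ Nat.card B := by
      intro X hX
      let f : X →* (H ⧸ K.subgroupOf H) := (QuotientGroup.mk' _).comp X.subtype
      have hf : Function.Injective f := by
        rw [← MonoidHom.ker_eq_bot_iff, Subgroup.eq_bot_iff_forall]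
        intro x hx
        have hxK : ((x : H) : G) ∈ K := (QuotientGroup.eq_one_iff (x : H)).mp hx
        obtain ⟨j, hj⟩ := hX x
        have h1 : orderOf ((x : H) : G) ∣ p ^ j := orderOf_dvd_of_pow_eq_one
          (congrArg (fun z : X => ((z : H) : G)) hj)
        exact Subtype.ext (Subtype.ext (orderOf_eq_one_iff.mp (Nat.eq_one_of_dvd_coprimes (hK.pow_right j)
          (Subgroup.orderOf_dvd_natCard K hxK) h1)))
      refine (Nat.card_le_card_of_injective f hf).trans ?_
      refine Nat.card_le_card_of_surjective (fun b : B => QuotientGroup.mk' (K.subgroupOf H)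
        ⟨b, Subgroup.mem_sup_right b.2⟩) fun y => ?_
      obtain ⟨⟨z, hz⟩, rfl⟩ := QuotientGroup.mk'_surjective _ y
      rw [← SetLike.mem_coe, hH, Subgroup.normal_mul] at hz
      obtain ⟨a, ha, b, hb, rfl⟩ := hz
      refine ⟨⟨b, hb⟩, QuotientGroup.eq.mpr ?_⟩
      show b⁻¹ * (a * b) ∈ K
      simpa [mul_assoc] using (inferInstance : K.Normal).conj_mem a ha b⁻¹
    obtain ⟨PA, hPA⟩ := (hAp.comap_subtype (K := H)).exists_le_sylow
    obtain ⟨PB, hPB⟩ := (hBp.comap_subtype (K := H)).exists_le_sylow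
    have hPBe : (PB : Subgroup H) = B.subgroupOf H := by
      haveI : Finite (PB : Subgroup H) := inferInstance
      refine (Subgroup.eq_of_le_of_card_ge hPB ?_).symm
      refine (hcardB _ PB.2).trans (le_of_eq ?_)
      exact (Nat.card_congr (Subgroup.subgroupOfEquivOfLe le_sup_right).toEquiv).symm
    obtain ⟨h, hh⟩ := MulAction.exists_smul_eq H PA PB
    obtain ⟨hG, hHmem⟩ := h
    have hHmem' : hG ∈ B ⊔ K := by rw [sup_comm]; exact hHmem
    rw [← SetLike.mem_coe, Subgroup.mul_normal] at hHmem'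
    obtain ⟨b, hb, k, hk, rfl⟩ := hHmem'
    refine ⟨k, hk, fun a ha => ?_⟩
    have h2 : (⟨b * k, hHmem⟩ : H) * ⟨a, hAK ha⟩ * (⟨b * k, hHmem⟩ : H)⁻¹ ∈ (PB : Subgroup H) := by
      rw [← hh, Sylow.coe_subgroup_smul, Subgroup.pointwise_smul_def]
      exact ⟨⟨a, hAK ha⟩, hPA ha, rfl⟩
    rw [hPBe] at h2
    have h3 : b * k * a * (b * k)⁻¹ ∈ B := h2
    have := B.mul_mem (B.mul_mem (B.inv_mem hb) h3) hb
    simpa [mul_assoc] using this
  refine (hiff P hP φ hφ).mpr ⟨k * g, fun x => ?_⟩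
  obtain ⟨y, hy⟩ := hkA (c x) ⟨x, rfl⟩
  have h1 : π (d y) = π (d x) := by
    rw [hy, map_mul, map_mul, map_inv, (hπ k).mpr hk, one_mul, inv_one, mul_one]
    exact (inv_mul_eq_one.mp (by rw [← map_inv, ← map_mul]; exact (hπ _).mpr (hdc x))).symm
  have h2 : d y = d x := by
    have h3 : (d x)⁻¹ * d y ∈ K := by rw [← hπ, map_mul, map_inv, h1, inv_mul_cancel]
    have h4 : ι ((φ.codRestrict S hφ x)⁻¹ * φ.codRestrict S hφ y) ∈ K := by
      rw [map_mul, map_inv]; exact h3
    exact (congrArg ι (inv_mul_eq_one.mp (hdisj _ h4))).symm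
  show d x = k * g * ι ⟨x, hP x.2⟩ * (k * g)⁻¹
  rw [← h2, hy]
  show k * (g * ι ⟨x, hP x.2⟩ * g⁻¹) * k⁻¹ = _
  group

end Cfsg.FusionSystem
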