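import Cfsg.Agent.Lib.PSL2Spectrum
import Cfsg.Agent.Lib.SL2Centralizer
import Cfsg.Agent.Lib.Involutions

/-!
Dihedral Sylow 2-subgroups of `PSL(2,q)` for `q² ≡ 1 mod 16`.
-/

set_option autoImplicit false

namespace CfsgLib.PSLSylow

open Matrix

variable {F : Type*} [Field F] [Fintype F]

local notation "SL2" => SpecialLinearGroup (Fin 2) F
local notation "M2" => Matrix (Fin 2) (Fin 2) F

/-- A unipotent element of 2-power order is trivial. -/
theorem eq_one_of_trace_two (h2 : (2 : F) ≠ 0) {u : SL2} {k : ℕ} (hu : u ^ 2 ^ k = 1) (ht : u.1.trace = 2) :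
    u = 1 := by
  have hN : (u.1 - 1 : M2) * (u.1 - 1) = 0 := by
    have := SL2Orders.sq_eq u
    rw [ht] at this
    rw [sub_mul, mul_sub, mul_sub, this, one_mul, mul_one, mul_one, two_smul]
    abel
  have hpow : ∀ j : ℕ, (u.1 : M2) ^ j = 1 + (j : F) • (u.1 - 1) := by
    intro j
    induction j with
    | zero => simp
    | succ j ih =>
      rw [pow_succ, ih, Nat.cast_succ, add_smul, one_smul]
      have : (u.1 : M2) = 1 + (u.1 - 1) := by abel
      nth_rewrite 2 [this]
      rw [mul_add, mul_one, add_mul, one_mul, smul_mul_assoc, hN, smul_zero, add_zero, add_assoc]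
  have h := hpow (2 ^ k)
  rw [← Matrix.SpecialLinearGroup.coe_pow, hu, Matrix.SpecialLinearGroup.coe_one, left_eq_add, smul_eq_zero] at h
  rcases h with h | h
  · exact absurd h (by push_cast; exact pow_ne_zero k h2)
  · exact Subtype.ext (sub_eq_zero.mp h)

/-- The only conjugates of a semisimple element in its own cyclic group are itself and its inverse. -/
theorem eq_or_eq_inv (h2 : (2 : F) ≠ 0) {g x : SL2} {k : ℕ} (hg : g ^ 2 ^ k = 1) (hx : x ∈ Subgroup.zpowers g)
    (ht : x.1.trace = g.1.trace) : x = g ∨ x = g⁻¹ := by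
  have hc : Commute x g := by
    obtain ⟨j, rfl⟩ := hx
    exact (Commute.refl g).zpow_left j
  have key : ((x * g⁻¹).1 - 1) * ((x * g).1 - 1) = (0 : M2) := by
    have e1 : (x * g⁻¹).1 * (x * g).1 = x.1 * x.1 := by
      rw [← Matrix.SpecialLinearGroup.coe_mul, ← Matrix.SpecialLinearGroup.coe_mul]
      congr 1
      rw [mul_assoc, ← mul_assoc g⁻¹, show g⁻¹ * x = x * g⁻¹ from (hc.symm.inv_left).eq, mul_assoc x g⁻¹,
        inv_mul_cancel, mul_one]
    have hinv : g⁻¹.1 + g.1 = g.1.trace • (1 : M2) := by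
      have h1 := SL2Orders.sq_eq g
      have h3 : g⁻¹.1 * (g.1 * g.1) = g⁻¹.1 * (g.1.trace • g.1 - 1) := by rw [h1]
      rw [← mul_assoc, ← Matrix.SpecialLinearGroup.coe_mul, inv_mul_cancel, Matrix.SpecialLinearGroup.coe_one,
        one_mul, mul_sub, mul_smul_comm, ← Matrix.SpecialLinearGroup.coe_mul, inv_mul_cancel,
        Matrix.SpecialLinearGroup.coe_one, mul_one] at h3
      rw [eq_sub_iff_add_eq, add_comm] at h3
      exact h3
    have e2 : (x * g⁻¹).1 + (x * g).1 = g.1.trace • x.1 := by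
      rw [Matrix.SpecialLinearGroup.coe_mul, Matrix.SpecialLinearGroup.coe_mul, ← mul_add, hinv, mul_smul_comm, mul_one]
    rw [sub_mul, mul_sub, mul_one, one_mul, e1, SL2Orders.sq_eq x, ht,
      show g.1.trace • x.1 - 1 - (x * g⁻¹).1 - ((x * g).1 - 1) = g.1.trace • x.1 - ((x * g⁻¹).1 + (x * g).1) by abel,
      e2, sub_self]
  rcases eq_or_ne (x * g⁻¹) 1 with h | h
  · exact Or.inl (mul_inv_eq_one.mp h)
  right
  have hu : (x * g⁻¹) ^ 2 ^ k = 1 := by
    obtain ⟨j, rfl⟩ := hx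
    show (g ^ j * g⁻¹) ^ 2 ^ k = 1
    rw [← _root_.zpow_sub_one, ← zpow_natCast, ← _root_.zpow_mul, mul_comm, _root_.zpow_mul, zpow_natCast, hg, _root_.one_zpow]
  have hdet : ((x * g⁻¹).1 - 1 : M2).det ≠ 0 := by
    intro h0
    refine h (eq_one_of_trace_two h2 hu ?_)
    have hd := (x * g⁻¹).2
    generalize (x * g⁻¹).1 = A at h0 hd ⊢
    rw [Matrix.det_fin_two] at h0 hd
    simp [Matrix.one_apply] at h0
    rw [Matrix.trace_fin_two]
    linear_combination hd - h0
  have hunit : IsUnit ((x * g⁻¹).1 - 1 : M2) := (Matrix.isUnit_iff_isUnit_det _).mpr (isUnit_iff_ne_zero.mpr hdet)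
  have hz := hunit.mul_right_eq_zero.mp key
  rw [eq_inv_iff_mul_eq_one]
  exact Subtype.ext (sub_eq_zero.mp hz)

/-- A Sylow 2-subgroup of `PSL(2,q)` is dihedral of order at least 8. -/
theorem exists_dihedral (hodd : Fintype.card F % 2 = 1) (h16 : 16 ∣ Fintype.card F ^ 2 - 1) :
    ∃ (U : Sylow 2 (ProjectiveSpecialLinearGroup (Fin 2) F)) (n : ℕ), 4 ≤ n ∧
      Nonempty ((U : Subgroup (ProjectiveSpecialLinearGroup (Fin 2) F)) ≃* DihedralGroup n) := by
  classical
  haveI : Fact (Nat.Prime 2) := ⟨Nat.prime_two⟩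
  obtain ⟨p, hp⟩ := CharP.exists F
  haveI := hp
  haveI : Fact p.Prime := ⟨CharP.char_is_prime F p⟩
  set q := Fintype.card F with hq
  have hq' : Odd q := Nat.odd_iff.mpr hodd
  have h2 : (2 : F) ≠ 0 := SL2Orders.two_ne_zero_of_odd hq'
  have hqpos : 1 < q := Fintype.one_lt_card
  have hfac : q ^ 2 - 1 = (q + 1) * (q - 1) := by simpa using Nat.sq_sub_sq q 1
  -- the even torus
  obtain ⟨N, g₀, hg₀, h8, hoth⟩ : ∃ (N : ℕ) (g₀ : SL2), orderOf g₀ = N ∧ 8 ∣ N ∧
      ((N = q - 1 ∧ ¬ 4 ∣ q + 1) ∨ (N = q + 1 ∧ ¬ 4 ∣ q - 1)) := by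
    have hkey : 8 ∣ q - 1 ∨ 8 ∣ q + 1 := by
      rw [hfac] at h16
      obtain ⟨a, ha⟩ : 2 ∣ q - 1 := by omega
      obtain ⟨c, hc⟩ := h16
      rw [show q + 1 = 2 * (a + 1) by omega, ha] at hc
      have h4 : 4 ∣ (a + 1) * a := ⟨c, by linarith⟩
      rcases Nat.even_or_odd a with hae | hao
      · left
        have : Nat.Coprime 4 (a + 1) := by
          rw [show (4 : ℕ) = 2 ^ 2 by norm_num]
          exact (Nat.prime_two.coprime_iff_not_dvd.mpr (by obtain ⟨b, hb⟩ := hae; omega)).pow_left 2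
        obtain ⟨b, hb⟩ := this.dvd_of_dvd_mul_left h4
        exact ⟨b, by omega⟩
      · right
        have : Nat.Coprime 4 a := by
          rw [show (4 : ℕ) = 2 ^ 2 by norm_num]
          exact (Nat.prime_two.coprime_iff_not_dvd.mpr (by obtain ⟨b, hb⟩ := hao; omega)).pow_left 2
        obtain ⟨b, hb⟩ := this.dvd_of_dvd_mul_right h4
        exact ⟨b, by omega⟩
    rcases hkey with h | h
    · obtain ⟨g, hg⟩ := PSL2Spectrum.exists_orderOf_card_sub_one (F := F)
      exact ⟨_, g, hg, h, Or.inl ⟨rfl, by omega⟩⟩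
    · obtain ⟨g, hg⟩ := NonSplitTorus.exists_orderOf_card_add_one (F := F) p
      exact ⟨_, g, hg, h, Or.inr ⟨rfl, by omega⟩⟩
  have hN0 : N ≠ 0 := hg₀ ▸ (orderOf_pos g₀).ne'
  obtain ⟨e, m, hm2, hNm⟩ := Nat.exists_eq_pow_mul_and_not_dvd hN0 2 (by norm_num)
  have he : 3 ≤ e := by
    by_contra hlt
    have h8' : 2 ^ 3 ∣ 2 ^ e * m := by rw [← hNm]; exact h8
    have hc : Nat.Coprime (2 ^ 3) m := (Nat.prime_two.coprime_iff_not_dvd.mpr hm2).pow_left 3
    have := (Nat.pow_dvd_pow_iff_le_right (by norm_num : 1 < 2)).mp (hc.dvd_of_dvd_mul_right h8')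
    omega
  let g : SL2 := g₀ ^ m
  have hgo : orderOf g = 2 ^ e := by
    rw [orderOf_pow, hg₀, hNm, Nat.gcd_eq_right (dvd_mul_left m _), Nat.mul_div_cancel _
      (Nat.pos_of_ne_zero fun h => hm2 (by rw [h]; exact dvd_zero 2))]
  have hge : g ^ 2 ^ e = 1 := hgo ▸ pow_orderOf_eq_one g
  have hneg : ((-1 : SL2) ≠ 1) := fun h => by
    have h0 := congrFun (congrFun (congrArg Subtype.val h) 0) 0
    simp at h0
    exact h2 (by linear_combination -h0)
  -- its centralizer
  have htr : g.1.trace ^ 2 ≠ 4 := by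
    intro ht
    have h8' : 2 ^ 3 ≤ 2 ^ e := Nat.pow_le_pow_right (by norm_num) he
    have : (g.1.trace - 2) * (g.1.trace + 2) = 0 := by linear_combination ht
    rcases mul_eq_zero.mp this with h | h
    · have := eq_one_of_trace_two h2 hge (sub_eq_zero.mp h)
      rw [this, orderOf_one] at hgo
      omega
    · have hng : (-g) ^ 2 ^ e = 1 := by
        rw [neg_pow, hge, mul_one, Even.neg_one_pow (Nat.even_pow.mpr ⟨even_two, by omega⟩)]
      have h' := eq_one_of_trace_two h2 hng (by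
        rw [Matrix.SpecialLinearGroup.coe_neg, Matrix.trace_neg]; linear_combination -h)
      have hg2 : g ^ 2 = 1 := by rw [← neg_sq, h', one_pow]
      have := Nat.le_of_dvd two_pos (hgo ▸ orderOf_dvd_of_pow_eq_one hg2)
      omega
  have hcent : ¬ 2 ^ (e + 1) ∣ Nat.card (Subgroup.centralizer ({g} : Set SL2)) := by
    intro hd
    have hcard := SL2Centralizer.card_centralizer htr
    have h4' : 4 ∣ Nat.card (Subgroup.centralizer ({g} : Set SL2)) :=
      (show 2 ^ 2 ∣ 2 ^ (e + 1) from pow_dvd_pow 2 (by omega)).trans hd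
    have hNC : Nat.card (Subgroup.centralizer ({g} : Set SL2)) = N := by
      rcases SL2Centralizer.card_roots htr with hr | hr <;> rw [hr] at hcard <;>
        rcases hoth with ⟨h, h'⟩ | ⟨h, h'⟩ <;> omega
    rw [hNC, hNm, pow_succ] at hd
    exact hm2 ((Nat.mul_dvd_mul_iff_left (by positivity)).mp hd)
  -- a Sylow subgroup containing the torus
  obtain ⟨P, hP⟩ := (IsPGroup.of_card (n := e) (by rw [Nat.card_zpowers, hgo]) :
    IsPGroup 2 (Subgroup.zpowers g)).exists_le_sylow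
  have hSL : Nat.card SL2 = q * ((q + 1) * (q - 1)) := by rw [SLCard.card_SL_two, hfac]
  have hv : (Nat.card SL2).factorization 2 = e + 1 := by
    obtain ⟨r, hr, hrodd⟩ : ∃ r, (q + 1) * (q - 1) = 2 ^ (e + 1) * r ∧ ¬ 2 ∣ r := by
      rcases hoth with ⟨h, h'⟩ | ⟨h, h'⟩
      · obtain ⟨t, ht⟩ : 2 ∣ q + 1 := by omega
        refine ⟨t * m, by rw [← h, hNm, ht]; ring, ?_⟩
        rw [Nat.prime_two.dvd_mul]; omega
      · obtain ⟨t, ht⟩ : 2 ∣ q - 1 := by omega
        refine ⟨m * t, by rw [← h, hNm, ht]; ring, ?_⟩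
        rw [Nat.prime_two.dvd_mul]; omega
    have hr0 : r ≠ 0 := fun h => hrodd (h ▸ dvd_zero 2)
    rw [hSL, hr, Nat.factorization_mul (by omega) (by positivity), Nat.factorization_mul (by positivity) hr0]
    simp [Nat.factorization_eq_zero_of_not_dvd hrodd, Nat.Prime.factorization_self Nat.prime_two,
      Nat.factorization_eq_zero_of_not_dvd (show ¬ 2 ∣ q by omega)]
  have hPc : Nat.card (P : Subgroup SL2) = 2 ^ (e + 1) := by rw [P.card_eq_multiplicity, hv]
  obtain ⟨h, hhP, hhg⟩ : ∃ h ∈ (P : Subgroup SL2), h ∉ Subgroup.zpowers g := by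
    by_contra hcon
    push Not at hcon
    have := Nat.card_le_card_of_injective _ (Subgroup.inclusion_injective (show (P : Subgroup SL2) ≤ _ from hcon))
    rw [hPc, Nat.card_zpowers, hgo, pow_succ] at this
    have : 0 < 2 ^ e := by positivity
    omega
  have hgP : g ∈ (P : Subgroup SL2) := hP (Subgroup.mem_zpowers g)
  have hidx : ((Subgroup.zpowers g).subgroupOf (P : Subgroup SL2)).index = 2 := by
    have h := ((Subgroup.zpowers g).subgroupOf (P : Subgroup SL2)).card_mul_index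
    rw [Nat.card_congr (Subgroup.subgroupOfEquivOfLe hP).toEquiv, Nat.card_zpowers, hgo, hPc, pow_succ] at h
    exact Nat.eq_of_mul_eq_mul_left (by positivity) h
  have hnc : ¬ Commute h g := by
    intro hc
    refine hcent ?_
    rw [← hPc]
    refine Subgroup.card_dvd_of_le fun w hw => ?_
    rw [Subgroup.mem_centralizer_singleton_iff]
    by_cases hwg : w ∈ Subgroup.zpowers g
    · obtain ⟨j, rfl⟩ := hwg
      exact ((Commute.refl g).zpow_left j).eq
    · have hm : (⟨h, hhP⟩ : (P : Subgroup SL2))⁻¹ * ⟨w, hw⟩ ∈ (Subgroup.zpowers g).subgroupOf (P : Subgroup SL2) := by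
        rw [Subgroup.mul_mem_iff_of_index_two hidx, inv_mem_iff]
        exact iff_of_false hhg hwg
      obtain ⟨j, hj⟩ := hm
      have hw' : w = h * g ^ j := by
        rw [show g ^ j = h⁻¹ * w from hj]; group
      rw [hw']
      exact (hc.mul_left ((Commute.refl g).zpow_left j)).eq
  have hconj : h * g * h⁻¹ = g⁻¹ := by
    have hnorm := Subgroup.normal_of_index_eq_two hidx
    have hmem : h * g * h⁻¹ ∈ Subgroup.zpowers g :=
      hnorm.conj_mem ⟨g, hgP⟩ (Subgroup.mem_zpowers g) ⟨h, hhP⟩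
    rcases eq_or_eq_inv h2 hge hmem (by
      rw [Matrix.SpecialLinearGroup.coe_mul, Matrix.trace_mul_comm, ← Matrix.SpecialLinearGroup.coe_mul,
        inv_mul_cancel_left]) with h' | h'
    · exact absurd (mul_inv_eq_iff_eq_mul.mp h') hnc
    · exact h'
  have hh2 : h * h = -1 := by
    have hmem : h * h ∈ Subgroup.zpowers g := Subgroup.mul_self_mem_of_index_two hidx ⟨h, hhP⟩
    obtain ⟨j, hj⟩ := hmem
    replace hj : g ^ j = h * h := hj
    have h1 : g ^ j = (g ^ j)⁻¹ := by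
      calc g ^ j = h * g ^ j * h⁻¹ := by rw [hj]; group
        _ = (h * g * h⁻¹) ^ j := conj_zpow.symm
        _ = (g ^ j)⁻¹ := by rw [hconj, _root_.inv_zpow]
    have h3 : g ^ j * g ^ j = 1 := mul_eq_one_iff_eq_inv.mpr h1
    rcases SL2Orders.eq_one_or_neg_one_of_sq h2 _ h3 with h4 | h4
    · rw [h4] at hj
      rcases SL2Orders.eq_one_or_neg_one_of_sq h2 h hj.symm with h5 | h5
      · exact absurd (h5 ▸ one_mem _) hhg
      · exact absurd (h5 ▸ (Commute.one_left g).neg_left) hnc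
    · rw [← hj, h4]
  -- downstairs
  have hneg1 : ((-1 : SL2) : ProjectiveSpecialLinearGroup (Fin 2) F) = 1 := by
    rw [QuotientGroup.eq_one_iff, Subgroup.mem_center_iff]
    intro x; simp
  let x : ProjectiveSpecialLinearGroup (Fin 2) F := (h : SL2)
  let y : ProjectiveSpecialLinearGroup (Fin 2) F := ((h * g : SL2) : ProjectiveSpecialLinearGroup (Fin 2) F)
  have hhg2 : h * g * (h * g) = -1 := by
    calc h * g * (h * g) = (h * g * h⁻¹) * (h * h) * g := by group
      _ = g⁻¹ * -1 * g := by rw [hconj, hh2]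
      _ = -1 := by simp
  have hx2 : x * x = 1 := by rw [← QuotientGroup.mk_mul, hh2, hneg1]
  have hy2 : y * y = 1 := by rw [← QuotientGroup.mk_mul, hhg2, hneg1]
  have hne1 : ∀ w : SL2, (w : ProjectiveSpecialLinearGroup (Fin 2) F) = 1 → Commute w g := fun w hw =>
    (Subgroup.mem_center_iff.mp ((QuotientGroup.eq_one_iff w).mp hw) g).symm
  have hx1 : x ≠ 1 := fun e => hnc (hne1 h e)
  have hy1 : y ≠ 1 := fun e => hnc (by
    have hc := hne1 _ e
    have := hc.mul_left (Commute.refl g).inv_left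
    rwa [mul_inv_cancel_right] at this)
  have hxy : orderOf (x * y) = 2 ^ (e - 1) := by
    rw [show x * y = ((-g : SL2) : ProjectiveSpecialLinearGroup (Fin 2) F) by
      rw [← QuotientGroup.mk_mul, ← mul_assoc, hh2, neg_one_mul]]
    rw [show ((-g : SL2) : ProjectiveSpecialLinearGroup (Fin 2) F) = (g : ProjectiveSpecialLinearGroup (Fin 2) F) by
      rw [← neg_one_mul, QuotientGroup.mk_mul, hneg1, one_mul]]
    exact PSL2Spectrum.orderOf_mk_of_even (p := p) hq' (by rw [hgo, ← pow_succ, Nat.sub_add_cancel (by omega)])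
  have hne : x ≠ y := fun e' => by
    rw [← e', hx2, orderOf_one] at hxy
    exact absurd hxy.symm (Nat.one_lt_two_pow (by omega)).ne'
  obtain ⟨eD⟩ : Nonempty (Subgroup.closure {x, y} ≃* DihedralGroup (2 ^ (e - 1))) := by
    rw [← hxy]
    exact ⟨((MulEquiv.subgroupCongr (Involutions.toClosure_range hx2 hy2)).symm.trans
      (MonoidHom.ofInjective (Involutions.toClosure_injective (Involutions.orderOf_eq_two_iff'.mpr ⟨hx2, hx1⟩)
        (Involutions.orderOf_eq_two_iff'.mpr ⟨hy2, hy1⟩) hne)).symm)⟩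
  have hpsl : (Nat.card (ProjectiveSpecialLinearGroup (Fin 2) F)).factorization 2 = e := by
    have hc := SLCard.gcd_mul_card_PSL (F := F) (n := 2) (by norm_num)
    rw [show Nat.gcd 2 (Fintype.card F - 1) = 2 from Nat.gcd_eq_left (by omega)] at hc
    have := hv
    rw [← hc, Nat.factorization_mul two_ne_zero Nat.card_pos.ne', Finsupp.add_apply,
      Nat.Prime.factorization_self Nat.prime_two] at this
    omega
  refine ⟨Sylow.ofCard (Subgroup.closure {x, y}) ?_, 2 ^ (e - 1), ?_, ⟨eD⟩⟩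
  · rw [Nat.card_congr eD.toEquiv, DihedralGroup.nat_card, hpsl, ← pow_succ', Nat.sub_add_cancel (by omega)]
  · calc 4 = 2 ^ 2 := by norm_num
      _ ≤ 2 ^ (e - 1) := Nat.pow_le_pow_right (by norm_num) (by omega)

end CfsgLib.PSLSylow
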