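import Cfsg.Agent.Lib.Fusion.GroupSimple
import Cfsg.Agent.Lib.QuasiDihedralClasses
import Cfsg.Agent.Lib.Elementary
import Cfsg.Agent.S1203
import Cfsg.Agent.S1204
import Cfsg.Agent.S1205
import Cfsg.Agent.S1206
import Cfsg.Agent.S1207
import Cfsg.Agent.S3116

/-!
Simple groups with dihedral or quasi-dihedral Sylow 2-subgroups have simple 2-fusion systems.
-/

set_option autoImplicit false
set_option linter.unusedSectionVars false

namespace CfsgLib.RankTwoSimple

open CfsgLib.GroupSimple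

variable {G : Type*} [Group G] [Finite G]

/-- Thompson transfer: an involution without a conjugate in `M` is odd on the cosets of `M`. -/
theorem exists_index_two (M : Subgroup G) {m : ℕ} (hm : M.index = 2 * m) (hodd : Odd m)
    {t : G} (ht : t * t = 1) (hM : ∀ g : G, g⁻¹ * t * g ∉ M) :
    ∃ K : Subgroup G, K.Normal ∧ K.index = 2 := by
  classical
  letI : Fintype (G ⧸ M) := Fintype.ofFinite _
  let f : G →* ℤˣ := Equiv.Perm.sign.comp (MulAction.toPermHom G (G ⧸ M))
  have hsq : (MulAction.toPermHom G (G ⧸ M) t) ^ 2 = 1 := by rw [← map_pow, sq, ht, map_one]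
  have hfix : Fintype.card (Function.fixedPoints (MulAction.toPermHom G (G ⧸ M) t)) = 0 := by
    rw [Fintype.card_eq_zero_iff]
    refine ⟨fun ⟨q, hq⟩ => ?_⟩
    induction q using QuotientGroup.induction_on with
    | H g =>
      have h1 : ((t * g : G) : G ⧸ M) = (g : G ⧸ M) := hq
      have h2 := QuotientGroup.eq.mp h1.symm
      exact hM g (by rwa [mul_assoc])
  have hft : f t = -1 := by
    show Equiv.Perm.sign _ = _
    rw [Equiv.Perm.sign_of_pow_two_eq_one hsq, hfix, Nat.sub_zero, ← Nat.card_eq_fintype_card,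
      ← Subgroup.index_eq_card, hm, Nat.mul_div_cancel_left _ two_pos, hodd.neg_one_pow]
  refine ⟨f.ker, inferInstance, ?_⟩
  rw [Subgroup.index_ker]
  have htop : f.range = ⊤ := by
    refine eq_top_iff.mpr fun u _ => ?_
    rcases Int.units_eq_one_or u with rfl | rfl
    exacts [one_mem _, ⟨t, hft⟩]
  rw [htop, Subgroup.card_top, Nat.card_eq_fintype_card]
  rfl

theorem not_index_two [IsSimpleGroup G] (h4 : 4 ≤ Nat.card G) {K : Subgroup G} (hK : K.Normal) :
    K.index ≠ 2 := by
  intro h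
  rcases Subgroup.Normal.eq_bot_or_eq_top hK with rfl | rfl
  · rw [Subgroup.index_bot] at h; omega
  · rw [Subgroup.index_top] at h; omega

/-- A nontrivial fusion closed subgroup meets the centre of the Sylow subgroup. -/
theorem exists_central (U : Sylow 2 G) {T : Subgroup G} (hT : FusionClosed (U : Subgroup G) T) (h1 : T ≠ ⊥) :
    ∃ c : (U : Subgroup G), (c : G) ∈ T ∧ c ∈ Subgroup.center (U : Subgroup G) ∧ orderOf c = 2 := by
  haveI : Fact (Nat.Prime 2) := ⟨Nat.prime_two⟩
  haveI hn : (T.subgroupOf (U : Subgroup G)).Normal := ⟨fun x hx s => hT.2 _ hx (s : G) (s * x * s⁻¹).2⟩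
  haveI : Nontrivial (T.subgroupOf (U : Subgroup G)) := by
    rw [Subgroup.nontrivial_iff_ne_bot, Ne, Subgroup.subgroupOf_eq_bot, disjoint_iff, inf_eq_left.mpr hT.1]
    exact h1
  set W := T.subgroupOf (U : Subgroup G) with hW
  let V := W ⊓ Subgroup.center (U : Subgroup G)
  have hV : V ≠ ⊥ := by
    haveI : Group.IsNilpotent (U : Subgroup G) := U.2.isNilpotent
    exact inf_center_ne_bot_of_nilpotent ((Subgroup.nontrivial_iff_ne_bot W).mp inferInstance)
  obtain ⟨k, hk⟩ := (U.2.to_subgroup V).exists_card_eq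
  have hk0 : k ≠ 0 := fun e => hV (Subgroup.eq_bot_of_card_eq _ (by rw [hk, e, pow_zero]))
  obtain ⟨c, hc⟩ := exists_prime_orderOf_dvd_card' (G := V) 2 (hk ▸ dvd_pow_self 2 hk0)
  exact ⟨c, c.2.1, c.2.2, by rw [Subgroup.orderOf_coe, hc]⟩

variable [IsSimpleGroup G]

/-- No proper closed subgroup, dihedral case. -/
theorem closed_of_dihedral (U : Sylow 2 G) {n : ℕ} (hn : 4 ≤ n)
    (e : (U : Subgroup G) ≃* DihedralGroup n) (T : Subgroup G) (hT : FusionClosed (U : Subgroup G) T)
    (h1 : T ≠ ⊥) : (U : Subgroup G) ≤ T := by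
  haveI : Fact (Nat.Prime 2) := ⟨Nat.prime_two⟩
  haveI : NeZero n := ⟨by omega⟩
  have hcardU : Nat.card (U : Subgroup G) = 2 * n := by rw [Nat.card_congr e.toEquiv, DihedralGroup.nat_card]
  have h4 : 4 ≤ Nat.card G := le_trans (by omega) (Nat.le_of_dvd Nat.card_pos (Subgroup.card_subgroup_dvd_card (U : Subgroup G)))
  obtain ⟨c, hcT, hcc, hc2⟩ := exists_central U hT h1
  obtain ⟨hcc2, hc1⟩ := CfsgLib.Involutions.orderOf_eq_two_iff'.mp hc2
  -- the central involution is the rotation of order two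
  obtain ⟨j, hj⟩ : ∃ j, e c = DihedralGroup.r j := by
    rcases hec : e c with j | i
    · exact ⟨j, rfl⟩
    · exfalso
      have h := congrArg e (Subgroup.mem_center_iff.mp hcc (e.symm (DihedralGroup.r 1)))
      rw [map_mul, map_mul, e.apply_symm_apply, hec, DihedralGroup.r_mul_sr, DihedralGroup.sr_mul_r,
        DihedralGroup.sr.injEq] at h
      have h2 : ((2 : ℕ) : ZMod n) = 0 := by push_cast; linear_combination -h
      have := Nat.le_of_dvd two_pos ((ZMod.natCast_eq_zero_iff _ _).mp h2)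
      omega
  have huniq : ∀ w : (U : Subgroup G), (∃ i, e w = DihedralGroup.r i) → w * w = 1 → w ≠ 1 → w = c := by
    rintro w ⟨i, hi⟩ hww hw1
    have key : ∀ (a : (U : Subgroup G)) (k : ZMod n), e a = DihedralGroup.r k → a * a = 1 → a ≠ 1 → 2 * k.val = n := by
      intro a k hk haa ha1
      have h := congrArg e haa
      rw [map_mul, map_one, hk, DihedralGroup.r_mul_r, DihedralGroup.one_def, DihedralGroup.r.injEq] at h
      rcases (ZMod.neg_eq_self_iff k).mp (neg_eq_of_add_eq_zero_left h) with h0 | h0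
      · exact absurd (e.injective (by rw [hk, h0, map_one]; rfl)) ha1
      · exact h0
    refine e.injective ?_
    rw [hi, hj, ZMod.val_injective n (show i.val = j.val by
      have := key w i hi hww hw1
      have := key c j hj hcc2 hc1
      omega)]
  let R : Subgroup (U : Subgroup G) := Subgroup.zpowers (e.symm (DihedralGroup.r 1))
  have hRr : ∀ w ∈ R, ∃ i, e w = DihedralGroup.r i := by
    rintro _ ⟨k, rfl⟩
    exact ⟨(k : ZMod n), by
      show e (e.symm (DihedralGroup.r 1) ^ k) = _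
      rw [map_zpow, e.apply_symm_apply, DihedralGroup.r_one_zpow]⟩
  have hR2 : R.index = 2 := by
    have h := R.card_mul_index
    rw [Nat.card_zpowers, MulEquiv.orderOf_eq, DihedralGroup.orderOf_r_one, hcardU, mul_comm 2 n] at h
    exact Nat.eq_of_mul_eq_mul_left (by omega) h
  let M : Subgroup G := R.map (U : Subgroup G).subtype
  have hMi : M.index = 2 * (U : Subgroup G).index := by
    rw [← Subgroup.relIndex_mul_index (Subgroup.map_subtype_le R : M ≤ _)]
    congr 1
    rw [Subgroup.relIndex, ← Subgroup.comap_subtype, Subgroup.comap_map_eq_self_of_injective (Subgroup.subtype_injective _)]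
    exact hR2
  have hodd : Odd (U : Subgroup G).index := Nat.not_even_iff_odd.mp fun h => U.not_dvd_index (even_iff_two_dvd.mp h)
  have href : ∀ i : ZMod n, ((e.symm (DihedralGroup.sr i) : (U : Subgroup G)) : G) ∈ T := by
    intro i
    set s : (U : Subgroup G) := e.symm (DihedralGroup.sr i) with hs
    have hss : s * s = 1 := by rw [hs, ← map_mul, DihedralGroup.sr_mul_self, map_one]
    have hs1 : s ≠ 1 := fun h => by
      have := congrArg e h
      rw [hs, e.apply_symm_apply, map_one, DihedralGroup.one_def] at this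
      cases this
    by_cases hex : ∀ g : G, g⁻¹ * (s : G) * g ∉ M
    · obtain ⟨K, hK, hK2⟩ := exists_index_two M hMi hodd (t := (s : G)) (congrArg Subtype.val hss) hex
      exact absurd hK2 (not_index_two h4 hK)
    push Not at hex
    obtain ⟨g, w, hwR, hw⟩ := hex
    replace hw : (w : G) = g⁻¹ * (s : G) * g := hw
    have hs' : (s : G) * (s : G) = 1 := congrArg Subtype.val hss
    have hww : w * w = 1 := Subtype.ext (by
      show (w : G) * (w : G) = 1
      rw [hw, show g⁻¹ * (s : G) * g * (g⁻¹ * (s : G) * g) = g⁻¹ * ((s : G) * (s : G)) * g by group, hs', mul_one,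
        inv_mul_cancel])
    have hw1 : w ≠ 1 := fun h => by
      rw [h, Subgroup.coe_one] at hw
      refine hs1 (Subtype.ext ?_)
      calc (s : G) = g * (g⁻¹ * (s : G) * g) * g⁻¹ := by group
        _ = 1 := by rw [← hw]; group
    have hwc : w = c := huniq w (hRr w hwR) hww hw1
    have hconj : g * (c : G) * g⁻¹ = (s : G) := by
      rw [← hwc, hw]; group
    have := hT.2 _ hcT g (by rw [hconj]; exact s.2)
    rwa [hconj] at this
  intro u hu
  rcases heu : e ⟨u, hu⟩ with i | i
  · have h := mul_mem (href 0) (href i)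
    rw [← Subgroup.coe_mul, ← map_mul, DihedralGroup.sr_mul_sr, sub_zero, ← heu, e.symm_apply_apply] at h
    exact h
  · have h := href i
    rw [← heu, e.symm_apply_apply] at h
    exact h

/-- A simple group has one class of involutions and one of elements of order four. -/
theorem classes_of_quasiDihedral (U : Sylow 2 G) (hQD : Cfsg.IsQuasiDihedral (U : Subgroup G))
    (h16 : 16 ∣ Nat.card G) :
    Nat.card {C : ConjClasses G // ∃ t : G, orderOf t = 2 ∧ ConjClasses.mk t = C} = 1 ∧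
      Nat.card {C : ConjClasses G // ∃ t : G, orderOf t = 4 ∧ ConjClasses.mk t = C} = 1 := by
  haveI : Fact (Nat.Prime 2) := ⟨Nat.prime_two⟩
  have h4 : 4 ≤ Nat.card G := le_trans (by norm_num) (Nat.le_of_dvd Nat.card_pos h16)
  obtain ⟨n, -, hcard, d, -⟩ := CfsgLib.QD.exists_data hQD
  -- a four group and a quaternion group
  let T₀ : Subgroup (U : Subgroup G) := Subgroup.closure {d.z, d.y}
  have hz2 := CfsgLib.QD.orderOf_z d
  have hzy : d.z ≠ d.y := fun h => CfsgLib.QD.y_not_mem d (h ▸ CfsgLib.QD.z_mem_X d)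
  have hzyo : orderOf (d.z * d.y) = 2 := by
    refine CfsgLib.Involutions.orderOf_eq_two_iff'.mpr ⟨?_, fun h => hzy ?_⟩
    · have hc : d.y * d.z = d.z * d.y := Subgroup.mem_center_iff.mp (CfsgLib.QD.z_central d) d.y
      calc d.z * d.y * (d.z * d.y) = d.z * (d.y * d.z) * d.y := by group
        _ = d.z * d.z * (d.y * d.y) := by rw [hc]; group
        _ = 1 := by rw [CfsgLib.QD.hyy, CfsgLib.Involutions.mul_self_eq_one_of_orderOf hz2, mul_one]
    · rw [eq_inv_of_mul_eq_one_left h, CfsgLib.QD.yinv]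
  obtain ⟨eT⟩ : Nonempty (DihedralGroup 2 ≃* T₀) := by
    have h := (MonoidHom.ofInjective (CfsgLib.Involutions.toClosure_injective hz2 d.hy hzy)).trans
      (MulEquiv.subgroupCongr (CfsgLib.Involutions.toClosure_range
        (CfsgLib.Involutions.mul_self_eq_one_of_orderOf hz2) (CfsgLib.QD.hyy d)))
    rw [hzyo] at h
    exact ⟨h⟩
  let T := T₀.map (U : Subgroup G).subtype
  have eT' : DihedralGroup 2 ≃* T := eT.trans (T₀.equivMapOfInjective _ (Subgroup.subtype_injective _))
  have hTk : IsKleinFour T :=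
    ⟨by rw [← Nat.card_congr eT'.toEquiv, IsKleinFour.card_four],
      by rw [← Monoid.exponent_eq_of_mulEquiv eT', IsKleinFour.exponent_two]⟩
  let c : (U : Subgroup G) := d.x ^ (2 * (d.M : ℤ))
  let b : (U : Subgroup G) := d.x ^ (1 : ℤ) * d.y
  have hc4 : orderOf c = 4 := CfsgLib.QD.orderOf_zpow_quarter d
  have hb2 : b * b = c ^ 2 := by
    show d.x ^ (1 : ℤ) * d.y * (d.x ^ (1 : ℤ) * d.y) = (d.x ^ (2 * (d.M : ℤ))) ^ 2
    rw [CfsgLib.QD.xy_mul_self, ← zpow_natCast, ← zpow_mul]
    congr 1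
    push_cast
    ring
  have hbc : b * c * b⁻¹ = c⁻¹ := by
    show d.x ^ (1 : ℤ) * d.y * d.x ^ (2 * (d.M : ℤ)) * (d.x ^ (1 : ℤ) * d.y)⁻¹ = (d.x ^ (2 * (d.M : ℤ)))⁻¹
    rw [mul_inv_rev, show d.x ^ (1 : ℤ) * d.y * d.x ^ (2 * (d.M : ℤ)) * (d.y⁻¹ * (d.x ^ (1 : ℤ))⁻¹)
        = d.x ^ (1 : ℤ) * (d.y * d.x ^ (2 * (d.M : ℤ)) * d.y⁻¹) * (d.x ^ (1 : ℤ))⁻¹ by simp [mul_assoc],
      CfsgLib.QD.conj_y, ← zpow_neg, ← zpow_neg, ← zpow_add, ← zpow_add, CfsgLib.QD.zpow_eq_iff]
    exact ⟨-(d.M : ℤ), by ring⟩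
  obtain ⟨eQ₀⟩ := CfsgLib.Quat.nonempty_equiv (a := c) (b := b) (n := 2)
    (by rw [show 2 * 2 = orderOf c by rw [hc4], pow_orderOf_eq_one]) hb2 hbc (by rw [hc4])
    (fun h => CfsgLib.QD.xy_not_mem d 1 ((Subgroup.zpowers_le.mpr (CfsgLib.QD.zpow_mem_X d _)) h))
  let Q := (Subgroup.closure ({c, b} : Set (U : Subgroup G))).map (U : Subgroup G).subtype
  have eQ : Q ≃* QuaternionGroup 2 :=
    (Subgroup.equivMapOfInjective _ _ (Subgroup.subtype_injective _)).symm.trans eQ₀
  have hTU : T ≤ (U : Subgroup G) := Subgroup.map_subtype_le _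
  have hQU : Q ≤ (U : Subgroup G) := Subgroup.map_subtype_le _
  obtain ⟨h1, h2⟩ := Cfsg.Agent.S1203.result U hQD T hTk hTU Q hQU eQ
  rcases h1 with h1 | h1 <;> rcases h2 with h2 | h2
  · exfalso
    obtain ⟨⟨P, N, hN, hc⟩, -⟩ := Cfsg.Agent.S1207.result U hQD T hTk hTU Q hQU eQ h1 h2
    have hP : Nat.card (P : Subgroup G) = 2 ^ (n + 1) := by rw [← hcard]; exact Nat.card_congr (P.equiv U).toEquiv
    have hNi : N.index = 2 ^ (n + 1) := by
      rw [Subgroup.IsComplement'.index_eq_card hc.symm, hP]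
    rcases Subgroup.Normal.eq_bot_or_eq_top hN with rfl | rfl
    · -- the group would be a 2-group
      have hG : IsPGroup 2 G := IsPGroup.of_card (n := n + 1) (by rw [← hNi, Subgroup.index_bot])
      haveI : Group.IsNilpotent G := hG.isNilpotent
      haveI : Nontrivial G := Finite.one_lt_card_iff_nontrivial.mp (by omega)
      have hz := hG.center_nontrivial
      rcases Subgroup.Normal.eq_bot_or_eq_top (inferInstance : (Subgroup.center G).Normal) with h | h
      · exact (Subgroup.nontrivial_iff_ne_bot _).mp hz h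
      · haveI : IsMulCommutative G := ⟨⟨fun a b => Subgroup.mem_center_iff.mp (h ▸ Subgroup.mem_top b) a⟩⟩
        letI : CommGroup G := { (inferInstance : Group G) with mul_comm := fun a b => Std.Commutative.comm a b }
        have hp := IsSimpleGroup.prime_card (α := G)
        have := (Nat.prime_dvd_prime_iff_eq Nat.prime_two hp).mp ((dvd_pow_self 2 four_ne_zero).trans (h16 : 2 ^ 4 ∣ _))
        omega
    · rw [Subgroup.index_top] at hNi
      exact absurd hNi.symm (Nat.one_lt_two_pow (by omega)).ne'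
  · obtain ⟨⟨K, hK, hK2, -⟩, -⟩ := Cfsg.Agent.S1205.result U hQD T hTk hTU Q hQU eQ h1 h2
    exact absurd hK2 (not_index_two h4 hK)
  · obtain ⟨⟨K, hK, hK2, -⟩, -⟩ := Cfsg.Agent.S1206.result U hQD T hTk hTU Q hQU eQ h1 h2
    exact absurd hK2 (not_index_two h4 hK)
  · exact (Cfsg.Agent.S1204.result U hQD T hTk hTU Q hQU eQ h1 h2).2

omit [IsSimpleGroup G] in
theorem isConj_of_card_classes {k : ℕ}
    (h : Nat.card {C : ConjClasses G // ∃ t : G, orderOf t = k ∧ ConjClasses.mk t = C} = 1)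
    {a b : G} (ha : orderOf a = k) (hb : orderOf b = k) : IsConj a b := by
  haveI : Subsingleton {C : ConjClasses G // ∃ t : G, orderOf t = k ∧ ConjClasses.mk t = C} :=
    (Nat.card_eq_one_iff_unique.mp h).1
  exact ConjClasses.mk_eq_mk_iff_isConj.mp (congrArg Subtype.val
    (Subsingleton.elim (⟨_, a, ha, rfl⟩ : {C : ConjClasses G // ∃ t : G, orderOf t = k ∧ ConjClasses.mk t = C})
      ⟨_, b, hb, rfl⟩))

/-- No proper closed subgroup, quasi-dihedral case. -/
theorem closed_of_quasiDihedral (U : Sylow 2 G) (hQD : Cfsg.IsQuasiDihedral (U : Subgroup G))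
    (T : Subgroup G) (hT : FusionClosed (U : Subgroup G) T) (h1 : T ≠ ⊥) : (U : Subgroup G) ≤ T := by
  haveI : Fact (Nat.Prime 2) := ⟨Nat.prime_two⟩
  obtain ⟨n, hn, hcard, d, -⟩ := CfsgLib.QD.exists_data hQD
  have h16 : 16 ∣ Nat.card G := (show 16 ∣ Nat.card (U : Subgroup G) by
    rw [hcard, show (16 : ℕ) = 2 ^ 4 by norm_num]; exact pow_dvd_pow 2 (by omega)).trans
    (Subgroup.card_subgroup_dvd_card _)
  obtain ⟨hI, hF⟩ := classes_of_quasiDihedral U hQD h16
  obtain ⟨c, hcT, -, hc2⟩ := exists_central U hT h1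
  have hmem : ∀ k, Nat.card {C : ConjClasses G // ∃ t : G, orderOf t = k ∧ ConjClasses.mk t = C} = 1 →
      ∀ a : (U : Subgroup G), (a : G) ∈ T → orderOf a = k → ∀ b : (U : Subgroup G), orderOf b = k → (b : G) ∈ T := by
    intro k hk a haT ha b hb
    obtain ⟨g, hg⟩ := isConj_iff.mp (isConj_of_card_classes hk
      (a := (a : G)) (b := (b : G)) (by rw [Subgroup.orderOf_coe, ha]) (by rw [Subgroup.orderOf_coe, hb]))
    have := hT.2 _ haT g (by rw [hg]; exact b.2)
    rwa [hg] at this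
  have hinv := hmem 2 hI c hcT hc2
  have hy : ((d.y : (U : Subgroup G)) : G) ∈ T := hinv d.y d.hy
  have hx2y : ((d.x ^ (2 * (d.M : ℤ)) * d.y : (U : Subgroup G)) : G) ∈ T :=
    hinv _ (CfsgLib.QD.orderOf_xy_even d d.M)
  have hc : ((d.x ^ (2 * (d.M : ℤ)) : (U : Subgroup G)) : G) ∈ T := by
    have := mul_mem hx2y hy
    rw [← Subgroup.coe_mul, mul_assoc, CfsgLib.QD.hyy, mul_one] at this
    exact this
  have hxy : ((d.x ^ (1 : ℤ) * d.y : (U : Subgroup G)) : G) ∈ T :=
    hmem 4 hF _ hc (CfsgLib.QD.orderOf_zpow_quarter d) _ (by simpa using CfsgLib.QD.orderOf_xy_odd d 0)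
  have hx : ((d.x : (U : Subgroup G)) : G) ∈ T := by
    have := mul_mem hxy hy
    rw [← Subgroup.coe_mul, mul_assoc, CfsgLib.QD.hyy, mul_one, zpow_one] at this
    exact this
  intro s hs
  obtain ⟨k, e | e⟩ := CfsgLib.QD.cases_elem d (⟨s, hs⟩ : (U : Subgroup G))
  · have := zpow_mem hx k
    rwa [← Subgroup.coe_zpow, ← e] at this
  · have := mul_mem (zpow_mem hx k) hy
    rwa [← Subgroup.coe_zpow, ← Subgroup.coe_mul, ← e] at this

/-- A simple group with dihedral or quasi-dihedral Sylow 2-subgroup has a simple fusion system. -/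
theorem isSimple (U S : Sylow 2 G)
    (hU : (∃ n : ℕ, 4 ≤ n ∧ Nonempty ((U : Subgroup G) ≃* DihedralGroup n)) ∨
      Cfsg.IsQuasiDihedral (U : Subgroup G)) :
    (Cfsg.groupFusionSystem (S : Subgroup G)).IsSimple 2 := by
  haveI : Fact (Nat.Prime 2) := ⟨Nat.prime_two⟩
  refine isSimple_of_isPGroup_mulAut U S (fun h => ?_) (Cfsg.Agent.S3116.result U.2 hU) ?_
  · have hcard1 : Nat.card (U : Subgroup G) = 1 := by rw [h, Subgroup.card_bot]
    rcases hU with ⟨n, hn, ⟨e⟩⟩ | hQ
    · rw [Nat.card_congr e.toEquiv, DihedralGroup.nat_card] at hcard1; omega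
    · obtain ⟨n, hn, hc, -⟩ := CfsgLib.QD.exists_data hQ
      rw [hc] at hcard1
      exact absurd hcard1 (Nat.one_lt_two_pow (by omega)).ne'
  · rcases hU with ⟨n, hn, ⟨e⟩⟩ | hQ
    exacts [closed_of_dihedral U hn e, closed_of_quasiDihedral U hQ]

end CfsgLib.RankTwoSimple
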