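import Cfsg.Agent.Lib.Fusion.PSpFourBlocks
import Cfsg.Agent.Lib.Fusion.PSLSylow
import Cfsg.Agent.Lib.Fusion.RankTwoSimple
import Cfsg.Agent.Lib.SympTransvection
import Cfsg.Agent.Lib.SLCard
import Cfsg.Agent.S0245
import Cfsg.Agent.S0261

/-!
The 2-fusion system of `PSp(4,q)`, `q` odd, is simple.
-/

set_option autoImplicit false
set_option linter.unusedSectionVars false
set_option maxHeartbeats 800000

namespace CfsgLib.PSpFour

open Matrix CfsgLib.GroupSimple

variable {F : Type*} [Field F] [Fintype F]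

local notation "M2" => Matrix (Fin 2) (Fin 2) F
local notation "SL2" => SpecialLinearGroup (Fin 2) F
local notation "Sp4" => Matrix.symplecticGroup (Fin 2) F
local notation "PS" => Cfsg.PSp 2 F
local notation "π" => QuotientGroup.mk' (Subgroup.center (Matrix.symplecticGroup (Fin 2) F))

theorem val_mul (a b : SL2) : (a * b).1 = a.1 * b.1 := rfl

theorem val_one : (1 : SL2).1 = (1 : M2) := rfl

theorem val_neg (a : SL2) : (-a).1 = -a.1 := rfl

theorem mem_normalizer_of_conj {G : Type*} [Group G] [Finite G] (H : Subgroup G) {g : G}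
    (h : ∀ x ∈ H, g * x * g⁻¹ ∈ H) : g ∈ Subgroup.normalizer (H : Set G) := by
  have hle : H.map (MulAut.conj g).toMonoidHom ≤ H := map_conj_le_iff.mpr h
  have heq := Subgroup.eq_of_le_of_card_ge hle (by
    rw [Subgroup.card_map_of_injective (MulAut.conj g).injective])
  rw [Subgroup.mem_normalizer_iff]
  intro x
  refine ⟨h x, fun hx => ?_⟩
  rw [← heq] at hx
  obtain ⟨y, hy, he⟩ := hx
  have : y = x := (MulAut.conj g).injective he
  exact this ▸ hy

/-! ### Centre -/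

theorem two_ne_zero' (hodd : Fintype.card F % 2 = 1) : (2 : F) ≠ 0 :=
  SL2Orders.two_ne_zero_of_odd (Nat.odd_iff.mpr hodd)

theorem neg_one_ne_one (hodd : Fintype.card F % 2 = 1) : (-1 : SL2) ≠ 1 := fun h => by
  have h0 := congrFun (congrFun (congrArg Subtype.val h) 0) 0
  simp at h0
  exact two_ne_zero' hodd (by linear_combination -h0)

theorem neg_ne_self (hodd : Fintype.card F % 2 = 1) (b : SL2) : -b ≠ b := fun h =>
  neg_one_ne_one hodd (mul_right_cancel (b := b) (by rw [one_mul, neg_one_mul, h]))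

/-- The scalar `-1`. -/
def nu : Sp4 := dg (-1, -1)

theorem nu_mul_dg (a b : SL2) : (nu : Sp4) * dg (a, b) = dg (-a, -b) := by
  rw [nu, ← map_mul, Prod.mk_mul_mk, neg_one_mul, neg_one_mul]

theorem nu_val : (nu (F := F)).1 = -1 := by
  rw [nu, dg_val, val_neg, val_one, ← bE_one, bE_neg, neg_zero]

theorem nu_comm (x : Sp4) : x * nu = nu * x := Subtype.ext (by
  show x.1 * (nu : Sp4).1 = (nu : Sp4).1 * x.1
  rw [nu_val, mul_neg_one, neg_one_mul])

theorem nu_center : (nu : Sp4) ∈ Subgroup.center Sp4 := Subgroup.mem_center_iff.mpr nu_comm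

theorem center_cases (hodd : Fintype.card F % 2 = 1) {z : Sp4} (hz : z ∈ Subgroup.center Sp4) :
    z = 1 ∨ z = nu := by
  classical
  have hc := SympTransvection.card_center (F := F) (m := 2) (by norm_num)
  have h2 : Nat.gcd 2 (Fintype.card F - 1) = 2 := Nat.gcd_eq_left (by omega)
  rw [h2, Nat.card_eq_two_iff' (1 : Subgroup.center Sp4)] at hc
  obtain ⟨y, -, hy⟩ := hc
  rcases eq_or_ne z 1 with h | h
  · exact Or.inl h
  right
  have h1 := hy ⟨z, hz⟩ (fun e => h (congrArg Subtype.val e))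
  have h3 := hy ⟨nu, nu_center⟩ (fun e => neg_one_ne_one hodd
    (congrArg Prod.fst (dg_injective ((congrArg Subtype.val e).trans (map_one (dg (F := F))).symm))))
  exact congrArg Subtype.val (h1.trans h3.symm)

theorem pi_eq (hodd : Fintype.card F % 2 = 1) {x y : Sp4} (h : π x = π y) : x = y ∨ x = nu * y := by
  have hm : x⁻¹ * y ∈ Subgroup.center Sp4 := (QuotientGroup.mk'_eq_mk' _).mp h |> fun ⟨z, hz, e⟩ => by
    rw [← e, inv_mul_cancel_left]; exact hz
  rcases center_cases hodd hm with e | e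
  · exact Or.inl (inv_mul_eq_one.mp e)
  · right
    have e2 : y = x * nu := by rw [← e, mul_inv_cancel_left]
    rw [e2, ← mul_assoc, ← nu_comm, mul_assoc, show (nu : Sp4) * nu = 1 from Subtype.ext (by
      show (nu : Sp4).1 * (nu : Sp4).1 = 1
      rw [nu_val, neg_one_mul, neg_neg]), mul_one]

/-! ### Wreathed subgroups -/

/-- The extension of a swap invariant subgroup by the exchange. -/
def wrSub (H : Subgroup (SL2 × SL2)) (hH : ∀ p ∈ H, Prod.swap p ∈ H) : Subgroup Sp4 where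
  carrier := {x | ∃ p ∈ H, x = dg p ∨ x = dg p * sw}
  one_mem' := ⟨1, one_mem _, Or.inl (map_one _).symm⟩
  mul_mem' := by
    rintro _ _ ⟨p, hp, rfl | rfl⟩ ⟨r, hr, rfl | rfl⟩
    · exact ⟨p * r, mul_mem hp hr, Or.inl (map_mul _ _ _).symm⟩
    · exact ⟨p * r, mul_mem hp hr, Or.inr (by rw [map_mul, mul_assoc])⟩
    · exact ⟨p * Prod.swap r, mul_mem hp (hH r hr), Or.inr (by
        rw [map_mul, mul_assoc, sw_dg r.1 r.2, ← mul_assoc]; rfl)⟩
    · exact ⟨p * Prod.swap r, mul_mem hp (hH r hr), Or.inl (by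
        rw [map_mul, mul_assoc (dg p) sw, ← mul_assoc sw (dg r) sw, sw_dg r.1 r.2,
          mul_assoc (dg (r.2, r.1)) sw sw, sw_sq, mul_one]; rfl)⟩
  inv_mem' := by
    rintro _ ⟨p, hp, rfl | rfl⟩
    · exact ⟨p⁻¹, inv_mem hp, Or.inl (map_inv _ _).symm⟩
    · refine ⟨Prod.swap p⁻¹, hH _ (inv_mem hp), Or.inr ?_⟩
      rw [_root_.mul_inv_rev, inv_eq_of_mul_eq_one_right sw_sq, ← map_inv, sw_dg p⁻¹.1 p⁻¹.2]
      rfl

theorem sw_mem_wr {H : Subgroup (SL2 × SL2)} {hH : ∀ p ∈ H, Prod.swap p ∈ H} : (sw : Sp4) ∈ wrSub H hH :=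
  ⟨1, one_mem _, Or.inr (by rw [map_one, one_mul])⟩

theorem dg_mem_wr {H : Subgroup (SL2 × SL2)} {hH : ∀ p ∈ H, Prod.swap p ∈ H} {p : SL2 × SL2} :
    dg p ∈ wrSub H hH ↔ p ∈ H := by
  refine ⟨?_, fun h => ⟨p, h, Or.inl rfl⟩⟩
  rintro ⟨r, hr, h | h⟩
  · exact dg_injective h ▸ hr
  · exact absurd h (dg_ne_dg_sw p.1 p.2 r.1 r.2)

/-- Data of a Sylow 2-subgroup of `SL(2,F)`. -/
structure QData (Q : Sylow 2 (SpecialLinearGroup (Fin 2) F)) where
  k : ℕ
  hk : 1 ≤ k
  g : SpecialLinearGroup (Fin 2) F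
  j : SpecialLinearGroup (Fin 2) F
  hg : g ∈ (Q : Subgroup (SpecialLinearGroup (Fin 2) F))
  hj : j ∈ (Q : Subgroup (SpecialLinearGroup (Fin 2) F))
  hord : orderOf g = 2 * 2 ^ k
  hgn : g ^ 2 ^ k = -1
  hjj : j * j = -1
  hjg : j * g * j⁻¹ = g⁻¹
  cases' : ∀ x ∈ (Q : Subgroup (SpecialLinearGroup (Fin 2) F)), ∃ m : ℤ, x = g ^ m ∨ x = g ^ m * j

theorem exists_qdata (hodd : Fintype.card F % 2 = 1) (Q : Sylow 2 SL2) : Nonempty (QData Q) := by
  obtain ⟨k, hk, ⟨e⟩⟩ := Cfsg.Agent.S0261.result (Nat.odd_iff.mpr hodd) Q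
  have h2 := two_ne_zero' hodd
  set g : (Q : Subgroup SL2) := e.symm (QuaternionGroup.a 1) with hg
  set j : (Q : Subgroup SL2) := e.symm (QuaternionGroup.xa 0) with hj
  have hord : orderOf g = 2 * 2 ^ k := by
    rw [hg, MulEquiv.orderOf_eq, QuaternionGroup.orderOf_a_one]
  have hgn : (g : SL2) ^ 2 ^ k = -1 := by
    rcases SL2Orders.eq_one_or_neg_one_of_sq h2 ((g : SL2) ^ 2 ^ k) (by
      rw [← pow_add, ← two_mul, ← Subgroup.coe_pow, ← hord, pow_orderOf_eq_one, OneMemClass.coe_one]) with h | h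
    · rw [← Subgroup.coe_pow, OneMemClass.coe_eq_one] at h
      have := Nat.le_of_dvd (by positivity) (hord ▸ orderOf_dvd_of_pow_eq_one h)
      have : 0 < 2 ^ k := by positivity
      omega
    · exact h
  refine ⟨⟨k, hk, g, j, g.2, j.2, by rw [Subgroup.orderOf_coe, hord], hgn, ?_, ?_, ?_⟩⟩
  · have h : j * j = g ^ 2 ^ k := by
      apply e.injective
      rw [map_mul, map_pow, hj, hg, e.apply_symm_apply, e.apply_symm_apply, QuaternionGroup.xa_mul_xa,
        QuaternionGroup.a_one_pow]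
      simp
    rw [← hgn, ← Subgroup.coe_mul, h, Subgroup.coe_pow]
  · have h : j * g = g⁻¹ * j := by
      apply e.injective
      rw [map_mul, map_mul, map_inv, hj, hg, e.apply_symm_apply, e.apply_symm_apply, eq_inv_mul_iff_mul_eq,
        QuaternionGroup.xa_mul_a, QuaternionGroup.a_mul_xa]
      simp
    rw [mul_inv_eq_iff_eq_mul]
    exact congrArg Subtype.val h
  · intro x hx
    rcases hex : e ⟨x, hx⟩ with m | m
    · refine ⟨(m.val : ℤ), Or.inl ?_⟩
      have h : (⟨x, hx⟩ : (Q : Subgroup SL2)) = g ^ m.val := by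
        apply e.injective
        rw [map_pow, hg, e.apply_symm_apply, hex, QuaternionGroup.a_one_pow, ZMod.natCast_zmod_val]
      rw [zpow_natCast]
      exact congrArg Subtype.val h
    · refine ⟨((-m).val : ℤ), Or.inr ?_⟩
      have h : (⟨x, hx⟩ : (Q : Subgroup SL2)) = g ^ (-m).val * j := by
        apply e.injective
        rw [map_mul, map_pow, hg, hj, e.apply_symm_apply, e.apply_symm_apply, hex, QuaternionGroup.a_one_pow,
          ZMod.natCast_zmod_val, QuaternionGroup.a_mul_xa]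
        simp
      rw [zpow_natCast]
      exact congrArg Subtype.val h

namespace QData

variable {Q : Sylow 2 (SpecialLinearGroup (Fin 2) F)} (d : QData Q)
include d

/-- The square root of `-1` in the cyclic part. -/
def i : SpecialLinearGroup (Fin 2) F := d.g ^ 2 ^ (d.k - 1)

theorem i_mem : d.i ∈ (Q : Subgroup SL2) := pow_mem d.hg _

theorem hii : d.i * d.i = -1 := by
  rw [i, ← pow_add, ← two_mul, ← pow_succ', Nat.sub_add_cancel d.hk, d.hgn]

omit d in
theorem inv_eq_neg {a : SL2} (h : a * a = -1) : a⁻¹ = -a :=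
  inv_eq_of_mul_eq_one_right (by rw [mul_neg, h, neg_neg])

theorem hji : d.j * d.i = -(d.i * d.j) := by
  have h : d.j * d.i * d.j⁻¹ = d.i⁻¹ := by rw [i, ← conj_pow, d.hjg, inv_pow]
  rw [mul_inv_eq_iff_eq_mul, inv_eq_neg d.hii, neg_mul] at h
  exact h

theorem sq_gj (m : ℤ) : d.g ^ m * d.j * (d.g ^ m * d.j) = -1 := by
  have h : d.j * d.g ^ m * d.j⁻¹ = (d.g ^ m)⁻¹ := by rw [← conj_zpow, d.hjg, _root_.inv_zpow]
  calc d.g ^ m * d.j * (d.g ^ m * d.j) = d.g ^ m * (d.j * d.g ^ m * d.j⁻¹) * (d.j * d.j) := by group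
    _ = -1 := by rw [h, mul_inv_cancel, one_mul, d.hjj]

/-- Every element is a product of two square roots of `-1`. -/
theorem exists_roots {x : SL2} (hx : x ∈ (Q : Subgroup SL2)) :
    ∃ a b : SL2, a ∈ (Q : Subgroup SL2) ∧ b ∈ (Q : Subgroup SL2) ∧ a * a = -1 ∧ b * b = -1 ∧ x = a * b := by
  obtain ⟨m, rfl | rfl⟩ := d.cases' x hx
  · refine ⟨d.g ^ m * d.j, d.j⁻¹, mul_mem (zpow_mem d.hg m) d.hj, inv_mem d.hj, d.sq_gj m, ?_, by group⟩
    rw [inv_eq_neg d.hjj, neg_mul_neg, d.hjj]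
  · have hm : d.i⁻¹ * (d.g ^ m * d.j) = d.g ^ (m - (2 ^ (d.k - 1) : ℕ)) * d.j := by
      rw [i, ← mul_assoc, _root_.zpow_sub, zpow_natCast, (((Commute.refl d.g).pow_right _).zpow_left m).inv_right.eq]
    exact ⟨d.i, d.i⁻¹ * (d.g ^ m * d.j), d.i_mem,
      mul_mem (inv_mem d.i_mem) (mul_mem (zpow_mem d.hg m) d.hj), d.hii, by rw [hm, d.sq_gj],
      (mul_inv_cancel_left _ _).symm⟩

theorem g_sq_ne : d.g * d.g ≠ 1 := fun h => by
  have := Nat.le_of_dvd two_pos (d.hord ▸ orderOf_dvd_of_pow_eq_one (by rw [pow_two, h] : d.g ^ 2 = 1))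
  have : 2 ^ 1 ≤ 2 ^ d.k := Nat.pow_le_pow_right (by norm_num) d.hk
  omega

theorem centralizer_eq (hodd : Fintype.card F % 2 = 1) {c : SL2}
    (hc : ∀ h ∈ (Q : Subgroup SL2), c * h = h * c) : c = 1 ∨ c = -1 :=
  scalar_of_commute (two_ne_zero' hodd) d.hii d.hji (hc _ d.i_mem) (hc _ d.hj)

/-- An element normalising the Sylow subgroup and its cyclic part lies in the Sylow subgroup. -/
theorem mem_of_normalizer (hodd : Fintype.card F % 2 = 1) {h : SL2}
    (hh : h ∈ Subgroup.normalizer ((Q : Subgroup SL2) : Set SL2))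
    (hg : h * d.g * h⁻¹ ∈ Subgroup.zpowers d.g) : h ∈ (Q : Subgroup SL2) := by
  have h2 := two_ne_zero' hodd
  have hge : d.g ^ 2 ^ (d.k + 1) = 1 := by rw [pow_succ', ← d.hord, pow_orderOf_eq_one]
  have htr : (h * d.g * h⁻¹).1.trace = d.g.1.trace := by
    rw [val_mul, Matrix.trace_mul_comm, ← val_mul, inv_mul_cancel_left]
  obtain ⟨u, hu⟩ : ∃ u, u = h * h := ⟨_, rfl⟩
  have hug : u * d.g * u⁻¹ = d.g := by
    rw [hu]
    rcases PSLSylow.eq_or_eq_inv h2 hge hg htr with e | e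
    · calc h * h * d.g * (h * h)⁻¹ = h * (h * d.g * h⁻¹) * h⁻¹ := by group
        _ = d.g := by rw [e, e]
    · calc h * h * d.g * (h * h)⁻¹ = h * (h * d.g * h⁻¹) * h⁻¹ := by group
        _ = (h * d.g * h⁻¹)⁻¹ := by conv_lhs => rw [e]
                                    group
        _ = d.g := by rw [e, inv_inv]
  have huQ : u ∈ Subgroup.normalizer ((Q : Subgroup SL2) : Set SL2) := hu ▸ mul_mem hh hh
  obtain ⟨a, ha⟩ : ∃ a : ℤ, u * d.j * u⁻¹ = d.g ^ a * d.j := by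
    obtain ⟨a, e | e⟩ := d.cases' _ ((Subgroup.mem_normalizer_iff.mp huQ d.j).mp d.hj)
    · exfalso
      have h1 : d.j = d.g ^ a := by
        calc d.j = u⁻¹ * (u * d.j * u⁻¹) * u := by group
          _ = u⁻¹ * (u * d.g * u⁻¹) ^ a * u := by rw [hug, e]
          _ = d.g ^ a := by rw [conj_zpow]; group
      have h3 : d.j * d.g * d.j⁻¹ = d.g := by
        rw [h1]
        group
      rw [d.hjg] at h3
      exact d.g_sq_ne (mul_eq_one_iff_eq_inv.mpr h3.symm)
    · exact ⟨a, e⟩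
  have hpow : ∀ N : ℕ, u ^ N * d.g * (u ^ N)⁻¹ = d.g ∧ u ^ N * d.j * (u ^ N)⁻¹ = d.g ^ (a * N) * d.j := by
    intro N
    induction N with
    | zero => simp
    | succ N ih =>
      refine ⟨?_, ?_⟩
      · calc u ^ (N + 1) * d.g * (u ^ (N + 1))⁻¹ = u ^ N * (u * d.g * u⁻¹) * (u ^ N)⁻¹ := by
              rw [pow_succ]; group
          _ = d.g := by rw [hug, ih.1]
      · calc u ^ (N + 1) * d.j * (u ^ (N + 1))⁻¹ = u ^ N * (u * d.j * u⁻¹) * (u ^ N)⁻¹ := by
              rw [pow_succ]; group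
          _ = (u ^ N * d.g ^ a * (u ^ N)⁻¹) * (u ^ N * d.j * (u ^ N)⁻¹) := by rw [ha]; group
          _ = d.g ^ (a * ((N + 1 : ℕ) : ℤ)) * d.j := by
              rw [← conj_zpow, ih.1, ih.2, ← mul_assoc, ← _root_.zpow_add]
              push_cast
              congr 2
              ring
  obtain ⟨hN1, hN2⟩ := hpow (2 ^ (d.k + 1))
  rw [mul_comm a, _root_.zpow_mul, zpow_natCast, hge, _root_.one_zpow, one_mul] at hN2
  have hN1' : u ^ 2 ^ (d.k + 1) * d.g = d.g * u ^ 2 ^ (d.k + 1) := mul_inv_eq_iff_eq_mul.mp hN1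
  have hs : u ^ 2 ^ (d.k + 1) * u ^ 2 ^ (d.k + 1) = 1 := by
    rcases scalar_of_commute h2 d.hii d.hji (Commute.pow_right hN1' _).eq (mul_inv_eq_iff_eq_mul.mp hN2) with e | e
    · rw [e, one_mul]
    · rw [e, neg_mul_neg, one_mul]
  have hh2 : h ^ 2 ^ (d.k + 3) = 1 := by
    rw [← hs, hu, ← pow_two h, ← pow_mul, ← pow_add]
    congr 1
    ring
  haveI : Fact (Nat.Prime 2) := ⟨Nat.prime_two⟩
  have hp : IsPGroup 2 (Subgroup.zpowers h) := by
    obtain ⟨i, -, hi⟩ := (Nat.dvd_prime_pow Nat.prime_two).mp (orderOf_dvd_of_pow_eq_one hh2)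
    exact IsPGroup.of_card (n := i) (by rw [Nat.card_zpowers, hi])
  have hinf := hp.inf_normalizer_sylow Q
  have : h ∈ Subgroup.zpowers h ⊓ Subgroup.normalizer ((Q : Subgroup SL2) : Set SL2) :=
    ⟨Subgroup.mem_zpowers h, hh⟩
  exact ((SetLike.ext_iff.mp hinf h).mp this).2

end QData

/-- The Sylow subgroup upstairs. -/
def PT (Q : Sylow 2 (SpecialLinearGroup (Fin 2) F)) : Subgroup (Matrix.symplecticGroup (Fin 2) F) :=
  wrSub ((Q : Subgroup SL2).prod (Q : Subgroup SL2)) fun _ hp => ⟨hp.2, hp.1⟩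

theorem dg_mem_PT {Q : Sylow 2 SL2} {a b : SL2} :
    dg (a, b) ∈ PT Q ↔ a ∈ (Q : Subgroup SL2) ∧ b ∈ (Q : Subgroup SL2) :=
  dg_mem_wr.trans Subgroup.mem_prod

theorem card_PT (Q : Sylow 2 SL2) : Nat.card (PT Q) = 2 * (Nat.card Q) ^ 2 := by
  let f : ↥(Q : Subgroup SL2) × ↥(Q : Subgroup SL2) × Bool → PT Q := fun p =>
    ⟨if p.2.2 then dg (p.1.1, p.2.1.1) * sw else dg (p.1.1, p.2.1.1), by
      have h : dg (p.1.1, p.2.1.1) ∈ PT Q := dg_mem_PT.mpr ⟨p.1.2, p.2.1.2⟩
      split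
      · exact mul_mem h sw_mem_wr
      · exact h⟩
  have hf : Function.Bijective f := by
    constructor
    · rintro ⟨a, b, x⟩ ⟨a', b', x'⟩ h
      have h' := congrArg Subtype.val h
      cases x <;> cases x' <;> simp [f] at h'
      · obtain ⟨h1, h2⟩ := Prod.mk.injEq .. ▸ dg_injective h'
        rw [Subtype.ext h1, Subtype.ext h2]
      · exact absurd h' (dg_ne_dg_sw _ _ _ _)
      · exact absurd h'.symm (dg_ne_dg_sw _ _ _ _)
      · obtain ⟨h1, h2⟩ := Prod.mk.injEq .. ▸ dg_injective h'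
        rw [Subtype.ext h1, Subtype.ext h2]
    · rintro ⟨x, ⟨a, b⟩, ⟨ha, hb⟩, rfl | rfl⟩
      · exact ⟨⟨⟨a, ha⟩, ⟨b, hb⟩, false⟩, rfl⟩
      · exact ⟨⟨⟨a, ha⟩, ⟨b, hb⟩, true⟩, rfl⟩
  rw [← Nat.card_eq_of_bijective f hf, Nat.card_prod, Nat.card_prod, Nat.card_eq_fintype_card (α := Bool),
    Fintype.card_bool]
  ring

theorem neg_one_mem (Q : Sylow 2 SL2) (d : QData Q) : (-1 : SL2) ∈ (Q : Subgroup SL2) := by
  rw [← d.hjj]; exact mul_mem d.hj d.hj

theorem mem_PT_iff (hodd : Fintype.card F % 2 = 1) {Q : Sylow 2 SL2} (d : QData Q) {x : Sp4} :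
    π x ∈ (PT Q).map π ↔ x ∈ PT Q := by
  refine ⟨?_, fun h => ⟨x, h, rfl⟩⟩
  rintro ⟨y, hy, he⟩
  rcases pi_eq hodd he.symm with rfl | rfl
  · exact hy
  · exact mul_mem (dg_mem_PT.mpr ⟨neg_one_mem Q d, neg_one_mem Q d⟩) hy

theorem card_map_PT (hodd : Fintype.card F % 2 = 1) {Q : Sylow 2 SL2} (d : QData Q) :
    2 * Nat.card ((PT Q).map π) = Nat.card (PT Q) := by
  have hker : (π).ker ≤ PT Q := by
    rw [QuotientGroup.ker_mk']
    intro z hz
    rcases center_cases hodd hz with rfl | rfl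
    · exact one_mem _
    · exact dg_mem_PT.mpr ⟨neg_one_mem Q d, neg_one_mem Q d⟩
  have h := ((π).comp (PT Q).subtype).ker.card_mul_index
  rw [Subgroup.index_ker, MonoidHom.range_comp, Subgroup.range_subtype, ← MonoidHom.comap_ker] at h
  rw [← h]
  congr 1
  rw [QuotientGroup.ker_mk'] at hker ⊢
  have e := SympTransvection.card_center (F := F) (m := 2) (by norm_num)
  rw [Nat.gcd_eq_left (by omega : 2 ∣ Fintype.card F - 1),
    ← Nat.card_congr (Subgroup.subgroupOfEquivOfLe hker).toEquiv] at e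
  exact e.symm

theorem factorization_card (hodd : Fintype.card F % 2 = 1) :
    (Nat.card PS).factorization 2 = 2 * (Nat.card SL2).factorization 2 := by
  show (Nat.card (Sp4 ⧸ Subgroup.center Sp4)).factorization 2 = _
  set q := Fintype.card F with hq
  have hq1 : 1 < q := Fintype.one_lt_card
  have hC : Nat.card (Subgroup.center Sp4) = 2 := by
    rw [SympTransvection.card_center (by norm_num), Nat.gcd_eq_left (by omega : 2 ∣ Fintype.card F - 1)]
  have h := Subgroup.card_eq_card_quotient_mul_card_subgroup (Subgroup.center Sp4)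
  rw [hC, Cfsg.Agent.S0245.result hq.symm 2] at h
  have e := congrArg (fun n : ℕ => n.factorization 2) h
  rw [Finset.prod_range_succ, Finset.prod_range_succ, Finset.prod_range_zero, one_mul] at e
  have hmod : q ^ 2 % 4 = 1 := by
    rw [Nat.pow_mod]
    rcases (show q % 4 = 1 ∨ q % 4 = 3 by omega) with h | h <;> rw [h]
  obtain ⟨r, hr⟩ : ∃ r, q ^ 2 + 1 = 2 * r ∧ ¬ 2 ∣ r := ⟨(q ^ 2 + 1) / 2, by omega, by omega⟩
  have hq4 : q ^ (2 * (1 + 1)) - 1 = (q ^ 2 - 1) * (2 * r) := by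
    rw [← hr.1, show q ^ (2 * (1 + 1)) = (q ^ 2) ^ 2 by ring]
    conv_lhs => rw [show (1 : ℕ) = 1 ^ 2 from rfl, Nat.sq_sub_sq]
    rw [mul_comm]
  rw [SLCard.card_SL_two, ← hq]
  simp only [Nat.zero_add, Nat.mul_one] at e
  rw [hq4] at e
  have hne : q ^ 2 - 1 ≠ 0 := by
    have : 1 < q ^ 2 := Nat.one_lt_pow (by norm_num) hq1
    omega
  have hr0 : r ≠ 0 := fun h => hr.2 (h ▸ dvd_zero 2)
  have hq0 : q ≠ 0 := by omega
  rw [Nat.factorization_mul Nat.card_pos.ne' (by norm_num), Nat.factorization_mul (by positivity) (by positivity),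
    Nat.factorization_mul hne (by positivity), Nat.factorization_mul hne (by positivity),
    Nat.factorization_mul (by norm_num) hr0, Nat.factorization_pow] at e
  simp [Nat.Prime.factorization_self Nat.prime_two, Nat.factorization_eq_zero_of_not_dvd hr.2,
    Nat.factorization_eq_zero_of_not_dvd (show ¬ 2 ∣ q by omega)] at e
  rw [Nat.factorization_mul hq0 hne]
  simp [Nat.factorization_eq_zero_of_not_dvd (show ¬ 2 ∣ q by omega)]
  omega

/-- The involution `diag(-1, 1)`. -/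
def z0 : Matrix.symplecticGroup (Fin 2) F := dg (-1, 1)

theorem center_lift (hodd : Fintype.card F % 2 = 1) {Q : Sylow 2 SL2} (d : QData Q) {x : Sp4} (hx : x ∈ PT Q)
    (hc : ∀ y ∈ PT Q, π x * π y = π y * π x) (hne : π x ≠ 1) : π x = π z0 := by
  have hcomm : ∀ y ∈ PT Q, x * y = y * x ∨ x * y = nu * (y * x) := fun y hy =>
    pi_eq hodd (by rw [map_mul, map_mul]; exact hc y hy)
  have hnu : π (nu : Sp4) = 1 := (QuotientGroup.eq_one_iff _).mpr nu_center
  obtain ⟨⟨a, b⟩, ⟨ha, hb⟩, rfl | rfl⟩ := hx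
  · have key : ∀ (u v : SL2), dg (u, v) ∈ PT Q → (a * u = u * a ∧ b * v = v * b) ∨
        (a * u = -(u * a) ∧ b * v = -(v * b)) := by
      intro u v huv
      rcases hcomm _ huv with e | e
      · rw [← map_mul, ← map_mul] at e
        exact Or.inl (Prod.mk.injEq .. ▸ dg_injective e)
      · rw [← map_mul, ← map_mul, Prod.mk_mul_mk, Prod.mk_mul_mk, nu_mul_dg] at e
        exact Or.inr (Prod.mk.injEq .. ▸ dg_injective e)
    have hsa : a = 1 ∨ a = -1 := d.centralizer_eq hodd fun h hh => by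
      rcases key h 1 (dg_mem_PT.mpr ⟨hh, one_mem _⟩) with e | e
      · exact e.1
      · exact absurd (by simpa using e.2.symm) (neg_ne_self hodd b)
    have hsb : b = 1 ∨ b = -1 := d.centralizer_eq hodd fun h hh => by
      rcases key 1 h (dg_mem_PT.mpr ⟨one_mem _, hh⟩) with e | e
      · exact e.2
      · exact absurd (by simpa using e.1.symm) (neg_ne_self hodd a)
    rcases hsa with rfl | rfl <;> rcases hsb with rfl | rfl
    · exact absurd (by rw [show ((1, 1) : SL2 × SL2) = 1 from rfl, map_one, map_one]) hne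
    · rw [show dg ((1 : SL2), (-1 : SL2)) = nu * z0 by rw [z0, nu_mul_dg, neg_neg], map_mul, hnu, one_mul]
    · rfl
    · exact absurd hnu hne
  · exfalso
    have h := hcomm (dg (d.g, 1)) (dg_mem_PT.mpr ⟨d.hg, one_mem _⟩)
    have e1 : dg (a, b) * sw * dg (d.g, 1) = dg (a, b * d.g) * sw := by
      rw [mul_assoc, sw_dg, ← mul_assoc, ← map_mul, Prod.mk_mul_mk, mul_one]
    have e2 : dg (d.g, 1) * (dg (a, b) * sw) = dg (d.g * a, b) * sw := by
      rw [← mul_assoc, ← map_mul, Prod.mk_mul_mk, one_mul]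
    rw [e1, e2, ← mul_assoc, nu_mul_dg] at h
    rcases h with h | h <;> have h2 := congrArg Prod.snd (dg_injective (mul_right_cancel h)) <;> simp at h2
    · exact d.g_sq_ne (by rw [h2, one_mul])
    · have : d.g = -1 := mul_left_cancel (a := b) (by rw [h2, mul_neg_one])
      exact d.g_sq_ne (by rw [this, neg_mul_neg, one_mul])

/-- A fusion closed subgroup of the Sylow subgroup is everything. -/
theorem closed_eq (hodd : Fintype.card F % 2 = 1) {Q : Sylow 2 SL2} (d : QData Q) (U : Sylow 2 PS)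
    (hU : (U : Subgroup PS) = (PT Q).map π) (T : Subgroup PS) (hT : FusionClosed (U : Subgroup PS) T) (h1 : T ≠ ⊥) :
    (U : Subgroup PS) ≤ T := by
  have h2 := two_ne_zero' hodd
  obtain ⟨c, hcT, hcc, hc2⟩ := RankTwoSimple.exists_central U hT h1
  obtain ⟨x, hx, hxc⟩ := (hU ▸ c.2 : (c : PS) ∈ (PT Q).map π)
  have hz0T : π z0 ∈ T := by
    rw [← center_lift hodd d hx (fun y hy => ?_) (fun h => ?_), hxc]
    · exact hcT
    · rw [hxc]
      exact (congrArg Subtype.val (Subgroup.mem_center_iff.mp hcc ⟨π y, hU ▸ ⟨y, hy, rfl⟩⟩)).symm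
    · rw [hxc, OneMemClass.coe_eq_one] at h
      rw [h, orderOf_one] at hc2
      omega
  set T' : Subgroup Sp4 := T.comap π with hT'
  have hcl : ∀ y ∈ T', ∀ g : Sp4, g * y * g⁻¹ ∈ PT Q → g * y * g⁻¹ ∈ T' := by
    intro y hy g hg
    show π (g * y * g⁻¹) ∈ T
    have := hT.2 (π y) hy (π g) (by rw [← map_inv, ← map_mul, ← map_mul, hU]; exact ⟨_, hg, rfl⟩)
    rwa [← map_inv, ← map_mul, ← map_mul] at this
  have hnuT : (nu : Sp4) ∈ T' := by
    show π nu ∈ T
    exact (show π (nu : Sp4) = 1 from (QuotientGroup.eq_one_iff _).mpr nu_center).symm ▸ one_mem T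
  have hz0' : (z0 : Sp4) ∈ T' := hz0T
  have h1m : dg ((1 : SL2), (-1 : SL2)) ∈ T' := by
    have := mul_mem hnuT hz0'
    rwa [z0, nu_mul_dg, neg_neg] at this
  -- the exchange
  let M₀ : M2 := !![1, 0; 0, 2⁻¹]
  have hM₀ : M₀.det = 2⁻¹ := by simp [M₀]
  have hsw : (sw : Sp4) ∈ T' := by
    have key : kM M₀ h2 hM₀ * z0 * (kM M₀ h2 hM₀)⁻¹ = nu * sw := by
      rw [mul_inv_eq_iff_eq_mul]
      refine Subtype.ext ?_
      show bE M₀ M₀ M₀ (-M₀) * bE ((-1 : SL2) : M2) 0 0 ((1 : SL2) : M2) =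
        (nu : Sp4).1 * bE 0 1 1 0 * bE M₀ M₀ M₀ (-M₀)
      rw [nu_val, neg_one_mul, bE_neg, bE_mul, bE_mul]
      simp
    have := hcl _ hz0' _ (key ▸ mul_mem (dg_mem_PT.mpr ⟨neg_one_mem Q d, neg_one_mem Q d⟩) sw_mem_wr)
    rw [key] at this
    have := mul_mem (inv_mem hnuT) this
    rwa [inv_mul_cancel_left] at this
  have hinvA : ∀ a ∈ (Q : Subgroup SL2), dg (a, a⁻¹) ∈ T' := by
    intro a ha
    have e : dg (a, (1 : SL2)) * sw * (dg (a, (1 : SL2)))⁻¹ = dg (a, a⁻¹) * sw := by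
      rw [← map_inv, mul_assoc, sw_dg, ← mul_assoc, ← map_mul]
      simp
    have := hcl _ hsw (dg (a, (1 : SL2)))
      (e ▸ mul_mem (dg_mem_PT.mpr ⟨ha, inv_mem ha⟩) sw_mem_wr)
    rw [e] at this
    have := mul_mem this hsw
    rwa [mul_assoc, sw_sq, mul_one] at this
  have hroot : ∀ a b : SL2, a ∈ (Q : Subgroup SL2) → b ∈ (Q : Subgroup SL2) → a * a = -1 → b * b = -1 →
      dg ((1 : SL2), a * b) ∈ T' := by
    intro a b ha hb haa hbb
    have haaT : dg (a, a) ∈ T' := by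
      have := mul_mem (hinvA a ha) h1m
      rw [← map_mul, Prod.mk_mul_mk, mul_one, QData.inv_eq_neg haa, neg_mul_neg, mul_one] at this
      exact this
    obtain ⟨c, hc⟩ := exists_conj hodd haa hbb
    have e : dg ((1 : SL2), c) * dg (a, a) * (dg ((1 : SL2), c))⁻¹ = dg (a, b) := by
      rw [← map_inv, ← map_mul, ← map_mul]
      simp [hc]
    have habT := hcl _ haaT (dg ((1 : SL2), c)) (e ▸ dg_mem_PT.mpr ⟨ha, hb⟩)
    rw [e] at habT
    have := mul_mem (mul_mem (inv_mem haaT) habT) h1m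
    rw [← map_inv, ← map_mul, ← map_mul] at this
    simpa [QData.inv_eq_neg haa, haa] using this
  have hall : ∀ a ∈ (Q : Subgroup SL2), dg ((1 : SL2), a) ∈ T' := by
    intro a ha
    obtain ⟨r, r', hr, hr', hrr, hrr', rfl⟩ := d.exists_roots ha
    exact hroot r r' hr hr' hrr hrr'
  have hPT : PT Q ≤ T' := by
    have hdg : ∀ a b : SL2, a ∈ (Q : Subgroup SL2) → b ∈ (Q : Subgroup SL2) → dg (a, b) ∈ T' := by
      intro a b ha hb
      have := mul_mem (mul_mem (mul_mem hsw (hall a ha)) hsw) (hall b hb)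
      rwa [sw_dg, mul_assoc (dg _), sw_sq, mul_one, ← map_mul, Prod.mk_mul_mk, mul_one, one_mul] at this
    rintro _ ⟨⟨a, b⟩, ⟨ha, hb⟩, rfl | rfl⟩
    · exact hdg a b ha hb
    · exact mul_mem (hdg a b ha hb) hsw
  rw [hU]
  exact Subgroup.map_le_iff_le_comap.mpr hPT

/-- The diagonal copy of the normalizer, inside `PSp(4,F)`. -/
def psi : SpecialLinearGroup (Fin 2) F →* Cfsg.PSp 2 F :=
  ((π).comp dg).comp ((MonoidHom.id _).prod (MonoidHom.id _))

theorem psi_apply (c : SL2) : psi c = π (dg (c, c)) := rfl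

/-- The pairs `(a, ±a)`. -/
def RH (Q : Sylow 2 (SpecialLinearGroup (Fin 2) F)) :
    Subgroup (SpecialLinearGroup (Fin 2) F × SpecialLinearGroup (Fin 2) F) where
  carrier := {p | p.1 ∈ (Q : Subgroup SL2) ∧ p.2 ∈ (Q : Subgroup SL2) ∧ (p.2 = p.1 ∨ p.2 = -p.1)}
  one_mem' := ⟨one_mem _, one_mem _, Or.inl rfl⟩
  mul_mem' := by
    rintro p p' ⟨h1, h2, h3⟩ ⟨h1', h2', h3'⟩
    refine ⟨mul_mem h1 h1', mul_mem h2 h2', ?_⟩
    rcases h3 with h3 | h3 <;> rcases h3' with h3' | h3' <;> simp [h3, h3']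
  inv_mem' := by
    rintro p ⟨h1, h2, h3⟩
    refine ⟨inv_mem h1, inv_mem h2, ?_⟩
    rcases h3 with h3 | h3 <;> simp [h3]

theorem RH_swap (Q : Sylow 2 SL2) : ∀ p ∈ RH Q, Prod.swap p ∈ RH Q := fun p ⟨h1, h2, h3⟩ =>
  ⟨h2, h1, h3.imp Eq.symm fun h => by show p.1 = -p.2; rw [h, neg_neg]⟩

/-- The order three automorphism comes from the 2-elements of a normalizer. -/
theorem psi_rot_mem (hodd : Fintype.card F % 2 = 1) {Q : Sylow 2 SL2} (d : QData Q) (hk : d.k = 1)
    (U : Sylow 2 PS) (hU : (U : Subgroup PS) = (PT Q).map π) :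
    ∃ t : SL2, t ∈ Subgroup.normalizer ((Q : Subgroup SL2) : Set SL2) ∧ t * d.i * t⁻¹ = d.i * d.j ∧
      t * d.j * t⁻¹ = d.i ∧ psi t ∈ Subgroup.closure {g | Gen U g} := by
  have h2 := two_ne_zero' hodd
  obtain ⟨t, r, hr, hrr, hti, htj, -, hrt, hri, hrj⟩ := exists_rot hodd d.hii d.hjj d.hji
  have hig : d.i = d.g := by rw [QData.i, hk, Nat.sub_self, pow_zero, pow_one]
  have hti' : t * d.i * t⁻¹ = d.i * d.j := mul_inv_eq_iff_eq_mul.mpr hti
  have htj' : t * d.j * t⁻¹ = d.i := mul_inv_eq_iff_eq_mul.mpr htj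
  have hg2 : d.g * d.g = -1 := by rw [← hig, d.hii]
  -- facts about the quaternion group
  have hsgn : ∀ m : ℤ, (-1 : SL2) ^ m = 1 ∨ (-1 : SL2) ^ m = -1 := by
    intro m
    have h11 : (-1 : SL2) ^ (2 : ℤ) = 1 := by rw [_root_.zpow_two, neg_mul_neg, one_mul]
    rcases Int.even_or_odd' m with ⟨e, rfl | rfl⟩
    · left; rw [_root_.zpow_mul, h11, _root_.one_zpow]
    · right; rw [_root_.zpow_add, _root_.zpow_mul, h11, _root_.one_zpow, one_mul, zpow_one]
  have hinv : ∀ x ∈ (Q : Subgroup SL2), x⁻¹ = x ∨ x⁻¹ = -x := by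
    intro x hx
    obtain ⟨m, rfl | rfl⟩ := d.cases' x hx
    · rw [← _root_.inv_zpow, QData.inv_eq_neg hg2, ← neg_one_mul, (Commute.neg_one_left d.g).mul_zpow]
      rcases hsgn m with e | e <;> rw [e]
      · exact Or.inl (one_mul _)
      · exact Or.inr (neg_one_mul _)
    · exact Or.inr (QData.inv_eq_neg (d.sq_gj m))
  have hcj : ∀ a ∈ (Q : Subgroup SL2), ∀ x ∈ (Q : Subgroup SL2), a * x * a⁻¹ = x ∨ a * x * a⁻¹ = -x := by
    intro a ha x hx
    have key : a * x = x * a ∨ a * x = -(x * a) := by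
      have e3 := hinv _ (mul_mem ha hx)
      rw [_root_.mul_inv_rev] at e3
      rcases hinv a ha with e1 | e1 <;> rcases hinv x hx with e2 | e2 <;> rw [e1, e2] at e3 <;>
        (try simp only [mul_neg, neg_mul, neg_neg, neg_eq_iff_eq_neg, neg_inj] at e3) <;>
        rcases e3 with e | e <;> simp [e]
    rcases key with h | h
    · exact Or.inl (by rw [h, mul_inv_cancel_right])
    · exact Or.inr (by rw [h, neg_mul, mul_inv_cancel_right])
  -- the elementary abelian subgroup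
  set RT : Subgroup Sp4 := wrSub (RH Q) (RH_swap Q) with hRT
  set R : Subgroup PS := RT.map π with hR
  have hdgR : ∀ a b : SL2, a ∈ (Q : Subgroup SL2) → (b = a ∨ b = -a) → dg (a, b) ∈ RT := fun a b ha hb => by
    refine dg_mem_wr.mpr ⟨ha, ?_, hb⟩
    rcases hb with rfl | rfl
    · exact ha
    · rw [← neg_one_mul]; exact mul_mem (neg_one_mem Q d) ha
  have h1m : dg ((1 : SL2), (-1 : SL2)) ∈ RT := hdgR _ _ (one_mem _) (Or.inr rfl)
  have hnorm : ∀ y : Sp4, (∀ a ∈ (Q : Subgroup SL2), y * dg (a, a) * y⁻¹ ∈ RT) →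
      y * dg ((1 : SL2), (-1 : SL2)) * y⁻¹ ∈ RT → y * sw * y⁻¹ ∈ RT →
      π y ∈ Subgroup.normalizer (R : Set PS) := by
    intro y h1 hm hs
    refine mem_normalizer_of_conj R ?_
    rintro _ ⟨X, hX, rfl⟩
    refine ⟨y * X * y⁻¹, ?_, by rw [map_mul, map_mul, map_inv]⟩
    have hdg : ∀ p ∈ RH Q, dg p ∈ RT.comap (MulAut.conj y).toMonoidHom := by
      rintro ⟨a, b⟩ ⟨ha, -, hb⟩
      replace hb : b = a ∨ b = -a := hb
      replace ha : a ∈ (Q : Subgroup SL2) := ha
      rcases hb with rfl | rfl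
      · exact h1 _ ha
      · rw [show dg (a, -a) = dg (a, a) * dg ((1 : SL2), (-1 : SL2)) by
          rw [← map_mul, Prod.mk_mul_mk, mul_one, mul_neg_one]]
        exact mul_mem (show dg (a, a) ∈ RT.comap (MulAut.conj y).toMonoidHom from h1 a ha) hm
    obtain ⟨p, hp, rfl | rfl⟩ := hX
    · exact hdg p hp
    · exact Subgroup.mul_mem (RT.comap (MulAut.conj y).toMonoidHom) (hdg p hp) hs
  have hRU : R ≤ (U : Subgroup PS) := by
    rw [hU]
    refine Subgroup.map_mono ?_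
    rintro _ ⟨p, ⟨h1, h2', -⟩, hp⟩
    exact ⟨p, ⟨h1, h2'⟩, hp⟩
  have hUR : (U : Subgroup PS) ≤ Subgroup.normalizer (R : Set PS) := by
    rw [hU]
    have hswN : π sw ∈ Subgroup.normalizer (R : Set PS) := by
      refine hnorm _ (fun a ha => ?_) ?_ ?_
      · rw [sw_dg, mul_inv_cancel_right]; exact hdgR _ _ ha (Or.inl rfl)
      · rw [sw_dg, mul_inv_cancel_right]
        exact hdgR _ _ (neg_one_mem Q d) (Or.inr (neg_neg _).symm)
      · rw [mul_inv_cancel_right]; exact sw_mem_wr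
    have hdgN : ∀ c e : SL2, c ∈ (Q : Subgroup SL2) → e ∈ (Q : Subgroup SL2) →
        π (dg (c, e)) ∈ Subgroup.normalizer (R : Set PS) := by
      intro c e hc he
      refine hnorm _ (fun a ha => ?_) ?_ ?_
      · rw [← map_inv, ← map_mul, ← map_mul, Prod.inv_mk, Prod.mk_mul_mk, Prod.mk_mul_mk]
        refine hdgR _ _ (mul_mem (mul_mem hc ha) (inv_mem hc)) ?_
        rcases hcj c hc a ha with x | x <;> rcases hcj e he a ha with y | y <;> rw [x, y] <;> simp
      · rw [← map_inv, ← map_mul, ← map_mul, Prod.inv_mk, Prod.mk_mul_mk, Prod.mk_mul_mk, mul_one, mul_inv_cancel,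
          mul_neg_one, neg_mul, mul_inv_cancel]
        exact h1m
      · rw [← map_inv, mul_assoc, sw_dg, ← mul_assoc, ← map_mul, Prod.inv_mk, Prod.mk_mul_mk]
        refine mul_mem (hdgR _ _ (mul_mem hc (inv_mem he)) ?_) sw_mem_wr
        rcases hinv _ (mul_mem hc (inv_mem he)) with e' | e' <;> rw [_root_.mul_inv_rev, inv_inv] at e'
        · exact Or.inl e'
        · exact Or.inr e'
    rintro _ ⟨_, ⟨⟨c, e⟩, ⟨hc, he⟩, rfl | rfl⟩, rfl⟩
    · exact hdgN c e hc he
    · rw [map_mul]; exact mul_mem (hdgN c e hc he) hswN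
  have hCR : (U : Subgroup PS) ⊓ Subgroup.centralizer (R : Set PS) ≤ R := by
    rintro _ ⟨hxU, hxC⟩
    rw [SetLike.mem_coe, hU] at hxU
    obtain ⟨x, hx, rfl⟩ := hxU
    refine ⟨x, ?_, rfl⟩
    have hc := Subgroup.mem_centralizer_iff.mp hxC (π sw) ⟨sw, sw_mem_wr, rfl⟩
    rw [← map_mul, ← map_mul] at hc
    obtain ⟨⟨a, b⟩, ⟨ha, hb⟩, rfl | rfl⟩ := hx
    · have h := pi_eq hodd hc
      rw [sw_dg, ← mul_assoc, nu_mul_dg] at h
      rcases h with e | e <;> have e' := congrArg Prod.fst (dg_injective (mul_right_cancel e))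
      · exact hdgR _ _ ha (Or.inl e')
      · exact hdgR _ _ ha (Or.inr e')
    · have h := pi_eq hodd hc
      rw [← mul_assoc, sw_dg, ← mul_assoc nu, ← mul_assoc nu, nu_mul_dg] at h
      rcases h with e | e <;> have e' := congrArg Prod.fst (dg_injective (mul_right_cancel (mul_right_cancel e)))
      · exact mul_mem (hdgR _ _ ha (Or.inl e')) sw_mem_wr
      · exact mul_mem (hdgR _ _ ha (Or.inr e')) sw_mem_wr
  -- the rotation and the reflection
  have htQ : ∀ a ∈ (Q : Subgroup SL2), t * a * t⁻¹ ∈ (Q : Subgroup SL2) := by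
    intro a ha
    have hgQ : t * d.g * t⁻¹ ∈ (Q : Subgroup SL2) := by rw [← hig, hti']; exact mul_mem d.i_mem d.hj
    obtain ⟨m, rfl | rfl⟩ := d.cases' a ha
    · rw [← conj_zpow]; exact zpow_mem hgQ m
    · rw [show t * (d.g ^ m * d.j) * t⁻¹ = t * d.g ^ m * t⁻¹ * (t * d.j * t⁻¹) by group, ← conj_zpow]
      exact mul_mem (zpow_mem hgQ m) (htj' ▸ d.i_mem)
  have htN : t ∈ Subgroup.normalizer ((Q : Subgroup SL2) : Set SL2) := mem_normalizer_of_conj _ htQ
  let Sr : Subgroup SL2 :=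
    { carrier := {a | ∃ b ∈ (Q : Subgroup SL2), r * a.1 = b.1 * r}
      one_mem' := ⟨1, one_mem _, by simp⟩
      mul_mem' := by
        rintro a a' ⟨b, hb, e⟩ ⟨b', hb', e'⟩
        refine ⟨b * b', mul_mem hb hb', ?_⟩
        rw [val_mul, val_mul, ← mul_assoc, e, mul_assoc, e', mul_assoc]
      inv_mem' := by
        rintro a ⟨b, hb, e⟩
        refine ⟨b⁻¹, inv_mem hb, ?_⟩
        calc r * (a⁻¹ : SL2).1 = (b⁻¹ : SL2).1 * b.1 * r * (a⁻¹ : SL2).1 := by
              rw [← val_mul, inv_mul_cancel, val_one, one_mul]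
          _ = (b⁻¹ : SL2).1 * r * (a.1 * (a⁻¹ : SL2).1) := by
              rw [mul_assoc (b⁻¹ : SL2).1 b.1 r, ← e]
              simp only [mul_assoc]
          _ = (b⁻¹ : SL2).1 * r := by
              rw [← val_mul, mul_inv_cancel, val_one, mul_one] }
  have hgr : d.g ∈ Sr := hig ▸ ⟨-d.j, by rw [← neg_one_mul]; exact mul_mem (neg_one_mem Q d) d.hj, hri⟩
  have hjr : d.j ∈ Sr := ⟨-d.i, by rw [← neg_one_mul]; exact mul_mem (neg_one_mem Q d) d.i_mem, hrj⟩
  have hQr : (Q : Subgroup SL2) ≤ Sr := fun a ha => by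
    obtain ⟨m, rfl | rfl⟩ := d.cases' a ha
    · exact zpow_mem hgr m
    · exact mul_mem (zpow_mem hgr m) hjr
  set M : M2 := (2⁻¹ : F) • r with hMdef
  have hMd : M.det = 2⁻¹ := by
    rw [hMdef, Matrix.det_smul, hr, Fintype.card_fin]; field_simp
  set s : Sp4 := kM M h2 hMd with hs
  have hMM : M * M + M * M = -1 := by
    rw [hMdef, smul_mul_assoc, mul_smul_comm, hrr, smul_smul, smul_smul, ← add_smul]
    rw [show 2⁻¹ * 2⁻¹ * -2 + 2⁻¹ * 2⁻¹ * -2 = (-1 : F) by field_simp; ring, neg_smul, one_smul]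
  have hsswap : s * dg ((1 : SL2), (-1 : SL2)) * s⁻¹ = sw ∧ s * sw * s⁻¹ = dg ((1 : SL2), (-1 : SL2)) := by
    constructor <;> rw [mul_inv_eq_iff_eq_mul] <;> refine Subtype.ext ?_
    · show bE M M M (-M) * bE ((1 : SL2) : M2) 0 0 ((-1 : SL2) : M2) = bE 0 1 1 0 * bE M M M (-M)
      simp [bE_mul]
    · show bE M M M (-M) * bE 0 1 1 0 = bE ((1 : SL2) : M2) 0 0 ((-1 : SL2) : M2) * bE M M M (-M)
      simp [bE_mul]
  have hsN : π s ∈ Subgroup.normalizer (R : Set PS) := by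
    refine hnorm _ (fun a ha => ?_) (by rw [hsswap.1]; exact sw_mem_wr) (by rw [hsswap.2]; exact h1m)
    obtain ⟨b, hb, hab⟩ := hQr ha
    have e : s * dg (a, a) * s⁻¹ = dg (b, b) := by
      rw [mul_inv_eq_iff_eq_mul]
      refine Subtype.ext ?_
      show bE M M M (-M) * bE a.1 0 0 a.1 = bE b.1 0 0 b.1 * bE M M M (-M)
      have hMa : M * a.1 = b.1 * M := by rw [hMdef, smul_mul_assoc, hab, mul_smul_comm]
      simp [bE_mul, hMa]
    rw [e]
    exact hdgR _ _ hb (Or.inl rfl)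
  have htR : psi t ∈ Subgroup.normalizer (R : Set PS) := by
    refine hnorm (dg (t, t)) (fun a ha => ?_) ?_ ?_
    · rw [← map_inv, ← map_mul, ← map_mul]
      exact hdgR _ _ (htQ a ha) (Or.inl rfl)
    · rw [← map_inv, ← map_mul, ← map_mul]
      simpa using h1m
    · rw [← map_inv, mul_assoc, sw_dg, ← mul_assoc, ← map_mul]
      simp only [Prod.inv_mk, Prod.mk_mul_mk, mul_one, mul_inv_cancel]; exact mul_mem (dg_mem_wr.mpr (one_mem _)) sw_mem_wr
  have htU : psi t ∈ Subgroup.normalizer ((U : Subgroup PS) : Set PS) := by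
    refine mem_normalizer_of_conj _ ?_
    rw [hU]
    rintro _ ⟨X, hX, rfl⟩
    refine ⟨dg (t, t) * X * (dg (t, t))⁻¹, ?_, by rw [map_mul, map_mul, map_inv]; rfl⟩
    have hp : ∀ a b : SL2, a ∈ (Q : Subgroup SL2) → b ∈ (Q : Subgroup SL2) →
        dg (t, t) * dg (a, b) * (dg (t, t))⁻¹ ∈ PT Q := fun a b ha hb => by
      rw [← map_inv, ← map_mul, ← map_mul]
      exact dg_mem_PT.mpr ⟨htQ a ha, htQ b hb⟩
    have hsw : dg (t, t) * sw * (dg (t, t))⁻¹ ∈ PT Q := by
      rw [← map_inv, mul_assoc, sw_dg, ← mul_assoc, ← map_mul]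
      simp only [Prod.inv_mk, Prod.mk_mul_mk, mul_one, mul_inv_cancel]; exact mul_mem (dg_mem_wr.mpr (one_mem _)) sw_mem_wr
    obtain ⟨⟨a, b⟩, ⟨ha, hb⟩, rfl | rfl⟩ := hX
    · exact hp a b ha hb
    · rw [show dg (t, t) * (dg (a, b) * sw) * (dg (t, t))⁻¹ =
        dg (t, t) * dg (a, b) * (dg (t, t))⁻¹ * (dg (t, t) * sw * (dg (t, t))⁻¹) by group]
      exact mul_mem (hp a b ha hb) hsw
  have hss : π s * π s = 1 := by
    rw [← map_mul, show s * s = nu from Subtype.ext (by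
      show bE M M M (-M) * bE M M M (-M) = (nu : Sp4).1
      rw [nu_val, bE_mul, ← bE_one, bE_neg]
      simp [hMM])]
    exact (QuotientGroup.eq_one_iff _).mpr nu_center
  have hso : ∃ k : ℕ, orderOf (π s) = 2 ^ k := by
    obtain ⟨k, -, hk⟩ := (Nat.dvd_prime_pow Nat.prime_two).mp
      (orderOf_dvd_of_pow_eq_one (show π s ^ 2 ^ 1 = 1 by rw [pow_one, pow_two, hss]))
    exact ⟨k, hk⟩
  have hcomm : π s * psi t = psi t * psi t * π s := by
    rw [psi_apply, ← map_mul, ← map_mul, ← map_mul]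
    congr 1
    refine Subtype.ext ?_
    show bE M M M (-M) * bE t.1 0 0 t.1 = (dg (t, t) * dg (t, t)).1 * bE M M M (-M)
    rw [← map_mul, Prod.mk_mul_mk, dg_val]
    have hMt : M * t.1 = (t * t).1 * M := by rw [hMdef, smul_mul_assoc, hrt, mul_smul_comm]
    simp [bE_mul, hMt]
  refine ⟨t, htN, hti', htj', Subgroup.subset_closure ⟨htU, R, hRU, hUR, hCR, ?_⟩⟩
  have e : psi t = (psi t * π s * (psi t)⁻¹ * (π s)⁻¹)⁻¹ := by
    have e2 : π s * (psi t)⁻¹ = (psi t)⁻¹ * (psi t)⁻¹ * π s := by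
      rw [mul_inv_eq_iff_eq_mul, mul_assoc, hcomm]
      group
    rw [mul_assoc (psi t), e2]
    group
  rw [e]
  refine inv_mem (mul_mem (Subgroup.subset_closure ⟨mul_mem (mul_mem htR hsN) (inv_mem htR), ?_⟩)
    (inv_mem (Subgroup.subset_closure ⟨hsN, hso⟩)))
  obtain ⟨k, hk⟩ := hso
  exact ⟨k, by rw [← hk]; exact orderOf_injective (MulAut.conj (psi t)).toMonoidHom (MulAut.conj _).injective _⟩

theorem sylow_gen (U : Sylow 2 PS) {g : PS} (hg : g ∈ (U : Subgroup PS)) : Gen U g := by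
  haveI : Fact (Nat.Prime 2) := ⟨Nat.prime_two⟩
  refine ⟨Subgroup.le_normalizer hg, U, le_rfl, Subgroup.le_normalizer, inf_le_left, ?_⟩
  obtain ⟨k, hk⟩ := IsPGroup.iff_orderOf.mp U.2 ⟨g, hg⟩
  exact Subgroup.subset_closure ⟨Subgroup.le_normalizer hg, k, by rw [← hk]; exact (Subgroup.orderOf_mk _ _).symm⟩

theorem psi_mem (hodd : Fintype.card F % 2 = 1) {Q : Sylow 2 SL2} (d : QData Q)
    (U : Sylow 2 PS) (hU : (U : Subgroup PS) = (PT Q).map π) {c : SL2}
    (hc : c ∈ Subgroup.normalizer ((Q : Subgroup SL2) : Set SL2)) :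
    psi c ∈ Subgroup.closure {g | Gen U g} := by
  set L : Subgroup SL2 := (Subgroup.closure {g | Gen U g}).comap psi with hL
  have hQL : (Q : Subgroup SL2) ≤ L := fun a ha =>
    Subgroup.subset_closure (sylow_gen U (hU ▸ ⟨_, dg_mem_PT.mpr ⟨ha, ha⟩, rfl⟩))
  show c ∈ L
  have hcg := (Subgroup.mem_normalizer_iff.mp hc d.g).mp d.hg
  obtain ⟨m, e | e⟩ := d.cases' _ hcg
  · exact hQL (d.mem_of_normalizer hodd hc (e ▸ zpow_mem (Subgroup.mem_zpowers _) m))
  by_cases hk : d.k = 1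
  · obtain ⟨t, htN, hti, htj, htL⟩ := psi_rot_mem hodd d hk U hU
    have hig : d.i = d.g := by rw [QData.i, hk, Nat.sub_self, pow_zero, pow_one]
    have hneg : (-1 : SL2) ∈ Subgroup.zpowers d.g := ⟨2, by rw [← hig]; show d.i ^ (2 : ℤ) = -1; rw [_root_.zpow_two, d.hii]⟩
    have hgz : d.g ∈ Subgroup.zpowers d.g := Subgroup.mem_zpowers _
    have hpow : ∀ (x : SL2) (a : ℤ), x * x = -1 → (x ^ (2 * a) ∈ Subgroup.zpowers d.g) := fun x a hx => by
      rw [_root_.zpow_mul, _root_.zpow_two, hx]; exact zpow_mem hneg a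
    have hgz' : ∀ (x : SL2), x ∈ L → x ∈ Subgroup.normalizer ((Q : Subgroup SL2) : Set SL2) →
        x * (d.g ^ m * d.j) * x⁻¹ ∈ Subgroup.zpowers d.g → c ∈ L := by
      intro x hxL hxN hx
      have hxc : x * c ∈ (Q : Subgroup SL2) := by
        refine d.mem_of_normalizer hodd (mul_mem hxN hc) ?_
        rwa [show x * c * d.g * (x * c)⁻¹ = x * (c * d.g * c⁻¹) * x⁻¹ by group, e]
      have := mul_mem (inv_mem hxL) (hQL hxc)
      rwa [inv_mul_cancel_left] at this
    have hij : d.i * d.j * (d.i * d.j) = -1 := by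
      rw [hig, ← zpow_one d.g]; exact d.sq_gj 1
    rcases Int.even_or_odd' m with ⟨a, rfl | rfl⟩
    · refine hgz' t htL htN ?_
      rw [show t * (d.g ^ (2 * a) * d.j) * t⁻¹ = t * d.g ^ (2 * a) * t⁻¹ * (t * d.j * t⁻¹) by group, ← conj_zpow, htj,
        ← hig, hti, hig]
      exact mul_mem (hpow _ a (hig ▸ hij)) hgz
    · refine hgz' (t * t) (mul_mem htL htL) (mul_mem htN htN) ?_
      have hg' : t * t * d.g * (t * t)⁻¹ = d.j := by
        rw [← hig, show t * t * d.i * (t * t)⁻¹ = t * (t * d.i * t⁻¹) * t⁻¹ by group, hti,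
          show t * (d.i * d.j) * t⁻¹ = t * d.i * t⁻¹ * (t * d.j * t⁻¹) by group, hti, htj, mul_assoc, d.hji, mul_neg,
          ← mul_assoc, d.hii, neg_one_mul, neg_neg]
      have hj' : t * t * d.j * (t * t)⁻¹ = d.i * d.j := by
        rw [show t * t * d.j * (t * t)⁻¹ = t * (t * d.j * t⁻¹) * t⁻¹ by group, htj, hti]
      rw [show t * t * (d.g ^ (2 * a + 1) * d.j) * (t * t)⁻¹ =
          t * t * d.g ^ (2 * a + 1) * (t * t)⁻¹ * (t * t * d.j * (t * t)⁻¹) by group, ← conj_zpow, hg', hj',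
        _root_.zpow_add, zpow_one, mul_assoc,
        show d.j * (d.i * d.j) = d.i by rw [← mul_assoc, d.hji, neg_mul, mul_assoc, d.hjj, mul_neg_one, neg_neg]]
      exact mul_mem (hpow _ a d.hjj) (hig ▸ hgz)
  · exfalso
    have h1 : (c * d.g * c⁻¹) * (c * d.g * c⁻¹) = -1 := by rw [e]; exact d.sq_gj m
    have h2' : d.g * d.g = -1 := by
      calc d.g * d.g = c⁻¹ * ((c * d.g * c⁻¹) * (c * d.g * c⁻¹)) * c := by group
        _ = -1 := by rw [h1]; simp
    have h4 : d.g ^ 4 = 1 := by rw [show 4 = 2 * 2 from rfl, pow_mul, pow_two d.g, h2', neg_one_sq]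
    have := Nat.le_of_dvd (by norm_num) (d.hord ▸ orderOf_dvd_of_pow_eq_one h4)
    have : 2 ^ 2 ≤ 2 ^ d.k := Nat.pow_le_pow_right (by norm_num) (by have := d.hk; omega)
    omega

/-- The normalizer of the Sylow subgroup is generated by suitable 2-elements. -/
theorem normalizer_le (hodd : Fintype.card F % 2 = 1) {Q : Sylow 2 SL2} (d : QData Q)
    (U : Sylow 2 PS) (hU : (U : Subgroup PS) = (PT Q).map π) :
    Subgroup.normalizer ((U : Subgroup PS) : Set PS) ≤ Subgroup.closure {g | Gen U g} := by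
  intro g hg
  obtain ⟨x, rfl⟩ := QuotientGroup.mk'_surjective _ g
  have h2 := two_ne_zero' hodd
  have hz0P : (z0 : Sp4) ∈ PT Q := dg_mem_PT.mpr ⟨neg_one_mem Q d, one_mem _⟩
  have hswK : π sw ∈ Subgroup.closure {g | Gen U g} :=
    Subgroup.subset_closure (sylow_gen U (hU ▸ ⟨_, sw_mem_wr, rfl⟩))
  have hnu : π (nu : Sp4) = 1 := (QuotientGroup.eq_one_iff _).mpr nu_center
  -- the central involution is fixed
  have hfix : π (x * z0 * x⁻¹) = π z0 := by
    have hm : π (x * z0 * x⁻¹) ∈ (PT Q).map π := by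
      rw [map_mul, map_mul, map_inv, ← hU]
      exact (Subgroup.mem_normalizer_iff.mp hg _).mp (hU ▸ ⟨_, hz0P, rfl⟩)
    have hmem := (mem_PT_iff hodd d).mp hm
    refine center_lift hodd d hmem (fun y hy => ?_) ?_
    · have hy' : (π x)⁻¹ * π y * π x ∈ (U : Subgroup PS) :=
        (Subgroup.mem_normalizer_iff''.mp hg _).mp (hU ▸ ⟨_, hy, rfl⟩)
      rw [hU] at hy'
      obtain ⟨y', hy'm, hy'e⟩ := hy'
      have hz : π z0 * π y' = π y' * π z0 := by
        obtain ⟨⟨a, b⟩, -, rfl | rfl⟩ := hy'm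
        · rw [← map_mul, ← map_mul]; congr 1
          rw [z0, ← map_mul, ← map_mul]; simp
        · rw [← map_mul, ← map_mul]
          have e1 : z0 * (dg (a, b) * sw) = nu * (dg (a, b) * sw * z0) := by
            rw [z0, mul_assoc (dg (a, b)), sw_dg, ← mul_assoc, ← mul_assoc, ← mul_assoc, ← map_mul, nu_mul_dg, ← map_mul,
              Prod.mk_mul_mk, Prod.mk_mul_mk]
            simp
          rw [e1, map_mul, hnu, one_mul]
      have : π y = π x * π y' * (π x)⁻¹ := by rw [hy'e]; group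
      rw [this, map_mul, map_mul, map_inv]
      calc π x * π z0 * (π x)⁻¹ * (π x * π y' * (π x)⁻¹) = π x * (π z0 * π y') * (π x)⁻¹ := by group
        _ = π x * (π y' * π z0) * (π x)⁻¹ := by rw [hz]
        _ = _ := by group
    · intro h1
      rw [map_mul, map_mul, map_inv, mul_inv_eq_one, mul_eq_left] at h1
      rcases center_cases hodd ((QuotientGroup.eq_one_iff _).mp h1) with e | e
      · rw [z0, ← map_one (dg (F := F))] at e
        exact neg_one_ne_one hodd (congrArg Prod.fst (dg_injective e))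
      · exact neg_one_ne_one hodd (congrArg Prod.snd (dg_injective e)).symm
  -- hence diagonal or antidiagonal
  suffices key : ∀ A D : M2, ∀ y : Sp4, y.1 = bE A 0 0 D →
      π y ∈ Subgroup.normalizer ((U : Subgroup PS) : Set PS) → π y ∈ Subgroup.closure {g | Gen U g} by
    obtain ⟨A, B, C, D, hX⟩ := exists_bE x.1
    rcases pi_eq hodd hfix with e | e <;> rw [mul_inv_eq_iff_eq_mul] at e <;>
      have e' := congrArg Subtype.val e
    · change x.1 * bE ((-1 : SL2) : M2) 0 0 ((1 : SL2) : M2) = bE ((-1 : SL2) : M2) 0 0 ((1 : SL2) : M2) * x.1 at e'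
      rw [hX, bE_mul, bE_mul, bE_inj] at e'
      simp at e'
      obtain ⟨eB, eC⟩ := e'
      have hB : B = 0 := by
        have : (2 : F) • B = 0 := by rw [two_smul]; linear_combination (norm := abel) eB
        exact (smul_eq_zero.mp this).resolve_left h2
      have hC : C = 0 := by
        have : (2 : F) • C = 0 := by rw [two_smul]; linear_combination (norm := abel) -eC
        exact (smul_eq_zero.mp this).resolve_left h2
      exact key A D x (by rw [hX, hB, hC]) hg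
    · change x.1 * bE ((-1 : SL2) : M2) 0 0 ((1 : SL2) : M2) =
        (nu : Sp4).1 * bE ((-1 : SL2) : M2) 0 0 ((1 : SL2) : M2) * x.1 at e'
      rw [hX, nu_val, neg_one_mul, bE_neg, bE_mul, bE_mul, bE_inj] at e'
      simp at e'
      obtain ⟨eA, eD⟩ := e'
      have hA : A = 0 := by
        have : (2 : F) • A = 0 := by rw [two_smul]; linear_combination (norm := abel) -eA
        exact (smul_eq_zero.mp this).resolve_left h2
      have hD : D = 0 := by
        have : (2 : F) • D = 0 := by rw [two_smul]; linear_combination (norm := abel) eD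
        exact (smul_eq_zero.mp this).resolve_left h2
      have hxs : (x * sw).1 = bE B 0 0 C := by
        show x.1 * bE 0 1 1 0 = _
        rw [hX, hA, hD, bE_mul]; simp
      have := mul_mem (key B C _ hxs (by
        rw [map_mul]; exact mul_mem hg (Subgroup.le_normalizer (hU ▸ ⟨_, sw_mem_wr, rfl⟩)))) (inv_mem hswK)
      rwa [map_mul, mul_inv_cancel_right] at this
  intro A D y hy hyN
  obtain ⟨hA, hD⟩ := diag_mem_iff (hy ▸ y.2)
  obtain ⟨c, e, rfl⟩ : ∃ c e : SL2, y = dg (c, e) := ⟨⟨A, hA⟩, ⟨D, hD⟩, Subtype.ext hy⟩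
  have hconj : ∀ X ∈ PT Q, dg (c, e) * X * (dg (c, e))⁻¹ ∈ PT Q := fun X hX => by
    refine (mem_PT_iff hodd d).mp ?_
    rw [map_mul, map_mul, map_inv, ← hU]
    exact (Subgroup.mem_normalizer_iff.mp hyN _).mp (hU ▸ ⟨_, hX, rfl⟩)
  have hcN : c ∈ Subgroup.normalizer ((Q : Subgroup SL2) : Set SL2) := mem_normalizer_of_conj _ fun a ha => by
    have := hconj _ (dg_mem_PT.mpr ⟨ha, one_mem _⟩)
    rw [← map_inv, ← map_mul, ← map_mul, dg_mem_PT] at this
    exact this.1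
  have hce : c * e⁻¹ ∈ (Q : Subgroup SL2) := by
    have := mul_mem (hconj _ sw_mem_wr) (sw_mem_wr : sw ∈ PT Q)
    rw [← map_inv, mul_assoc (dg (c, e)) sw, sw_dg, ← mul_assoc, ← map_mul, mul_assoc (dg _) sw sw, sw_sq, mul_one,
      dg_mem_PT] at this
    exact this.1
  have hec : c⁻¹ * e ∈ (Q : Subgroup SL2) := by
    have := inv_mem ((Subgroup.mem_normalizer_iff''.mp hcN _).mp hce)
    rwa [show (c⁻¹ * (c * e⁻¹) * c)⁻¹ = c⁻¹ * e by group] at this
  have hsplit : dg (c, e) = dg (c, c) * dg ((1 : SL2), c⁻¹ * e) := by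
    rw [← map_mul, Prod.mk_mul_mk, mul_one, mul_inv_cancel_left]
  rw [hsplit, map_mul]
  exact mul_mem (psi_mem hodd d U hU hcN)
    (Subgroup.subset_closure (sylow_gen U (hU ▸ ⟨_, dg_mem_PT.mpr ⟨one_mem _, hec⟩, rfl⟩)))

theorem isSimple (hodd : Fintype.card F % 2 = 1) (S : Sylow 2 PS) :
    (Cfsg.groupFusionSystem (S : Subgroup PS)).IsSimple 2 := by
  haveI : Fact (Nat.Prime 2) := ⟨Nat.prime_two⟩
  obtain ⟨Q⟩ : Nonempty (Sylow 2 SL2) := inferInstance
  obtain ⟨d⟩ := exists_qdata hodd Q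
  have hcard : Nat.card ((PT Q).map π) = 2 ^ (Nat.card PS).factorization 2 := by
    have h := card_map_PT hodd d
    rw [card_PT, Nat.card_congr (Equiv.refl _), Q.card_eq_multiplicity] at h
    rw [factorization_card hodd, mul_comm 2 ((Nat.card SL2).factorization 2), pow_mul]
    omega
  let U : Sylow 2 PS := Sylow.ofCard _ hcard
  refine isSimple_group U S (fun h => ?_) (fun T hT h1 => closed_eq hodd d U rfl T hT h1) (normalizer_le hodd d U rfl)
  have hm : π (dg (d.g, 1)) ∈ (U : Subgroup PS) := ⟨_, dg_mem_PT.mpr ⟨d.hg, one_mem _⟩, rfl⟩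
  rw [h, Subgroup.mem_bot] at hm
  rcases center_cases hodd ((QuotientGroup.eq_one_iff _).mp hm) with e | e
  · rw [← map_one (dg (F := F))] at e
    refine d.g_sq_ne ?_
    rw [show d.g = 1 from congrArg Prod.fst (dg_injective e), mul_one]
  · exact neg_one_ne_one hodd (congrArg Prod.snd (dg_injective e)).symm

end CfsgLib.PSpFour
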