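import Cfsg.Agent.Lib.Fusion.Quotient

/-!
Invariant subsystems: the strong invariance condition and the Frattini condition.
-/

set_option autoImplicit false

namespace Cfsg

namespace FusionSystem

variable {Ω : Type*} [Group Ω] {S : Subgroup Ω} {F : FusionSystem S} {p : ℕ} {T : Subgroup Ω}
  {E : FusionSystem T}

/-- Transport of a map of `E` by a map of `F` defined on a larger subgroup of `T`. -/
def StrongInvariance (E : FusionSystem T) (F : FusionSystem S) : Prop :=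
  ∀ (P Q : Subgroup Ω) (hPQ : P ≤ Q) (_ : Q ≤ T) (φ : P →* Ω) (_ : φ ∈ E.Hom P)
    (hφQ : ∀ x : P, φ x ∈ Q) (ψ : Q →* Ω) (_ : ψ ∈ F.Hom Q),
    ∃ χ ∈ E.Hom ((P.subgroupOf Q).map ψ), ∀ (x : P) (hx : ψ (Subgroup.inclusion hPQ x) ∈ (P.subgroupOf Q).map ψ),
      χ ⟨ψ (Subgroup.inclusion hPQ x), hx⟩ = ψ ⟨φ x, hφQ x⟩

theorem IsInvariantIn.strongInvariance (h : E.IsInvariantIn F) : E.StrongInvariance F := by
  obtain ⟨hsub, hT, hinv, hfr⟩ := h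
  intro P Q hPQ hQT φ hφ hφQ ψ hψ
  obtain ⟨α, hα, ψ₀, hψ₀, hψe⟩ := hfr Q hQT ψ hψ
  have h0 := E.restrict_mem hψ₀ hPQ
  obtain ⟨i, hi, hir, hil, -⟩ := E.exists_inv h0 rfl
  obtain ⟨m₁, hm₁, hm₁e⟩ := E.exists_comp hi hφ (fun y => hir.le ⟨y, rfl⟩)
  obtain ⟨m₂, hm₂, hm₂e⟩ := E.exists_comp hm₁ hψ₀ (fun y => by rw [hm₁e]; exact hφQ _)
  obtain ⟨χ, hχ, hχe⟩ := hinv _ (E.range_le h0) m₂ hm₂ α hα
  have himg : (P.subgroupOf Q).map ψ ≤
      ((ψ₀.comp (Subgroup.inclusion hPQ)).range.subgroupOf T).map (T.subtype.comp α.toMonoidHom) := by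
    rintro _ ⟨x, hx, rfl⟩
    refine ⟨⟨ψ₀ x, E.apply_mem hψ₀ x⟩, ⟨⟨x, hx⟩, rfl⟩, ?_⟩
    exact (hψe x (E.apply_mem hψ₀ x)).symm
  refine ⟨_, E.restrict_mem hχ himg, fun x hx => ?_⟩
  let z : (ψ₀.comp (Subgroup.inclusion hPQ)).range := ⟨_, x, rfl⟩
  have hαz : ((α ⟨(z : Ω), E.range_le h0 z.2⟩ : T) : Ω) = ψ (Subgroup.inclusion hPQ x) :=
    (hψe _ (E.apply_mem hψ₀ _)).symm
  have hmem : ((α ⟨(z : Ω), E.range_le h0 z.2⟩ : T) : Ω) ∈ _ := (congrArg (· ∈ _) hαz).mpr (himg hx)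
  have h1 := hχe z (E.apply_mem hm₂ _) hmem
  refine Eq.trans (congrArg χ (Subtype.ext hαz.symm : Subgroup.inclusion himg ⟨_, hx⟩ =
    ⟨_, hmem⟩)) (h1.trans ?_)
  rw [hψe _ (E.apply_mem hψ₀ _)]
  congr 2
  apply Subtype.ext
  show m₂ z = ψ₀ _
  rw [hm₂e]
  congr 1
  apply Subtype.ext
  show m₁ z = φ x
  rw [hm₁e]
  congr 1
  exact Subtype.ext (hil x _)

theorem invariance_of_strongInvariance (hT : F.StronglyClosed T) (h : E.StrongInvariance F) :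
    ∀ (P : Subgroup Ω) (hPT : P ≤ T) (φ : P →* Ω), φ ∈ E.Hom P → ∀ α ∈ F.autGroup T,
      ∃ χ ∈ E.Hom ((P.subgroupOf T).map (T.subtype.comp α.toMonoidHom)),
        ∀ (x : P) (hφx : φ x ∈ T)
          (hαx : ((α ⟨x, hPT x.2⟩ : T) : Ω) ∈ (P.subgroupOf T).map (T.subtype.comp α.toMonoidHom)),
          χ ⟨(α ⟨x, hPT x.2⟩ : T), hαx⟩ = ((α ⟨φ x, hφx⟩ : T) : Ω) := by
  intro P hPT φ hφ α hα
  obtain ⟨χ, hχ, hχe⟩ := h P T hPT le_rfl φ hφ (E.apply_mem hφ) _ ((F.mem_autGroup_iff hT.1).mp hα)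
  exact ⟨χ, hχ, fun x hφx hαx => hχe x hαx⟩

/-- Maps whose restriction to the part in `T` is an automorphism of `T` after a map of `E`. -/
def frattiniSystem (hT : F.StronglyClosed T) (_hsub : E.IsSubsystemOf F) (h : E.StrongInvariance F) :
    FusionSystem S where
  Hom P := {φ | φ ∈ F.Hom P ∧ ∃ α ∈ F.autGroup T, ∃ (φ₀ : ↥(P ⊓ T) →* Ω) (hφ₀ : φ₀ ∈ E.Hom (P ⊓ T)),
    ∀ x : ↥(P ⊓ T), φ ⟨x, x.2.1⟩ = ((α ⟨φ₀ x, E.apply_mem hφ₀ x⟩ : T) : Ω)}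
  le_of_mem h := F.le_of_mem h.1
  injective_of_mem h := F.injective_of_mem h.1
  conj_mem := by
    intro P g hP hg
    refine ⟨F.conj_mem hP hg, T.normalizerMonoidHom ⟨g, hT.le_normalizer hg⟩,
      autInducedBy_le_autGroup hT.1 (mem_autInducedBy_iff.mpr ⟨g, hg, hT.le_normalizer hg, fun _ => rfl⟩),
      _, E.id_mem inf_le_right, fun x => rfl⟩
  comp_mem := by
    rintro P Q φ ψ ⟨hφ, α, hα, φ₀, hφ₀, hφe⟩ ⟨hψ, β, hβ, ψ₀, hψ₀, hψe⟩ hh
    refine ⟨F.comp_mem hφ hψ hh, β * α, (F.autGroup T).mul_mem hβ hα, ?_⟩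
    have hmem : ∀ x : ↥(P ⊓ T), φ ⟨x, x.2.1⟩ ∈ Q ⊓ T := fun x =>
      ⟨hh _, by rw [hφe]; exact SetLike.coe_mem _⟩
    have hα' := (F.autGroup T).inv_mem hα
    obtain ⟨χ, hχ, hχe⟩ := invariance_of_strongInvariance hT h _ inf_le_right ψ₀ hψ₀ α⁻¹ hα'
    have hrange : ∀ x : ↥(P ⊓ T),
        φ₀ x ∈ ((Q ⊓ T).subgroupOf T).map (T.subtype.comp (α⁻¹ : MulAut T).toMonoidHom) := by
      intro x
      refine ⟨α ⟨φ₀ x, E.apply_mem hφ₀ x⟩, ?_, by simp⟩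
      show ((α ⟨φ₀ x, E.apply_mem hφ₀ x⟩ : T) : Ω) ∈ Q ⊓ T
      rw [← hφe]
      exact hmem x
    obtain ⟨ω, hω, hωe⟩ := E.exists_comp hφ₀ hχ hrange
    refine ⟨ω, hω, fun x => ?_⟩
    let y : ↥(Q ⊓ T) := ⟨_, hmem x⟩
    have hy : (⟨(y : Ω), y.2.2⟩ : T) = α ⟨φ₀ x, E.apply_mem hφ₀ x⟩ := Subtype.ext (hφe x)
    have h1 : ((α⁻¹ ⟨(y : Ω), y.2.2⟩ : T) : Ω) = φ₀ x := by rw [hy]; simp
    have h2 := hχe y (E.apply_mem hψ₀ y) (h1.symm ▸ hrange x)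
    show ψ ⟨φ ⟨x, x.2.1⟩, hh _⟩ = _
    rw [show ψ ⟨φ ⟨x, x.2.1⟩, hh _⟩ = ((β ⟨ψ₀ y, E.apply_mem hψ₀ y⟩ : T) : Ω) from hψe y]
    rw [MulAut.mul_apply]
    congr 2
    have h3 : (⟨ω x, E.apply_mem hω x⟩ : T) = α⁻¹ ⟨ψ₀ y, E.apply_mem hψ₀ y⟩ := by
      apply Subtype.ext
      show ω x = _
      rw [hωe, ← h2]
      congr 1
      exact Subtype.ext h1.symm
    rw [h3]
    simp
  inv_mem := by
    rintro P φ ⟨hφ, α, hα, φ₀, hφ₀, hφe⟩
    obtain ⟨i, hi, hir, hil, -⟩ := F.exists_inv hφ rfl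
    obtain ⟨j, hj, hjr, hjl, -⟩ := E.exists_inv hφ₀ rfl
    obtain ⟨χ, hχ, hχe⟩ := invariance_of_strongInvariance hT h _ (E.range_le hφ₀) j hj α hα
    have hrange : φ.range ⊓ T ≤ (φ₀.range.subgroupOf T).map (T.subtype.comp α.toMonoidHom) := by
      rintro _ ⟨⟨x, rfl⟩, hxT⟩
      have hx : (x : Ω) ∈ P ⊓ T := by
        refine ⟨x.2, ?_⟩
        have := hT.apply_mem_of_mem hi (x := (⟨φ x, x, rfl⟩ : φ.range)) hxT
        erw [hil x ⟨x, rfl⟩] at this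
        exact this
      exact ⟨⟨φ₀ ⟨x, hx⟩, E.apply_mem hφ₀ _⟩, ⟨_, rfl⟩, (hφe ⟨x, hx⟩).symm⟩
    refine ⟨i, ⟨hi, α⁻¹, (F.autGroup T).inv_mem hα, _, E.restrict_mem hχ hrange, ?_⟩, fun x => hil x _⟩
    rintro ⟨_, ⟨x, rfl⟩, hxT⟩
    show i _ = _
    erw [hil x ⟨x, rfl⟩]
    have hx : (x : Ω) ∈ P ⊓ T := by
      refine ⟨x.2, ?_⟩
      have := hT.apply_mem_of_mem hi (x := (⟨φ x, x, rfl⟩ : φ.range)) hxT
      erw [hil x ⟨x, rfl⟩] at this
      exact this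
    let z : φ₀.range := ⟨φ₀ ⟨x, hx⟩, _, rfl⟩
    have hz : ((α ⟨(z : Ω), E.range_le hφ₀ z.2⟩ : T) : Ω) = φ x := (hφe ⟨x, hx⟩).symm
    have h2 := hχe z (E.apply_mem hj z) (hz.symm ▸ hrange ⟨⟨x, rfl⟩, hxT⟩)
    have h4 : (⟨χ (Subgroup.inclusion hrange ⟨φ x, ⟨x, rfl⟩, hxT⟩),
        E.apply_mem (E.restrict_mem hχ hrange) _⟩ : T) = α ⟨j z, E.apply_mem hj z⟩ := by
      apply Subtype.ext
      show χ _ = _
      rw [← h2]
      congr 1
      exact Subtype.ext hz.symm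
    refine Eq.trans ?_ (congrArg (fun u => ((α⁻¹ u : T) : Ω)) h4).symm
    show (x : Ω) = _
    simp only [MulAut.inv_apply_self]
    exact (hjl ⟨x, hx⟩ _).symm

/-- The strong invariance condition implies invariance. -/
theorem StrongInvariance.isInvariantIn [Fact p.Prime] [Finite S] (hF : F.IsSaturated p)
    (hS : IsPGroup p S) (hT : F.StronglyClosed T) (hsub : E.IsSubsystemOf F)
    (h : E.StrongInvariance F) : E.IsInvariantIn F := by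
  refine ⟨hsub, hT, invariance_of_strongInvariance hT h, ?_⟩
  suffices hle : F ≤ frattiniSystem hT hsub h by
    intro P hPT φ hφ
    obtain ⟨-, α, hα, φ₀, hφ₀, he⟩ := hle P hφ
    refine ⟨α, hα, _, E.restrict_mem hφ₀ (le_inf le_rfl hPT), fun x hx => ?_⟩
    exact he ⟨x, x.2, hPT x.2⟩
  refine hF.le_of_autGroup_le' hS _ fun R hR hbig => ?_
  have hRS : R ≤ S := by
    rcases hR with rfl | hR
    · exact le_rfl
    · exact hR.1.1
  have hmk : ∀ {φ : R →* Ω} (β : F.autGroup R), φ ∈ (frattiniSystem hT hsub h).Hom R →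
      (∀ x : R, φ x = (((β : MulAut R) x : R) : Ω)) →
      (β : MulAut R) ∈ (frattiniSystem hT hsub h).autGroup R :=
    fun β hm he => (frattiniSystem hT hsub h).mem_autGroup_of_map hm fun x => (he x).symm
  by_cases hTR : T ≤ R
  · intro β hβ
    obtain ⟨φ, hφ, -, he⟩ := F.exists_map_of_mem_autGroup hRS hβ
    refine hmk ⟨β, hβ⟩ ?_ he
    have hr : (φ.comp (Subgroup.inclusion hTR)).range = T := by
      have h1 := hT.map_eq hφ hTR
      ext y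
      exact ⟨fun ⟨x, hx⟩ => h1.le ⟨Subgroup.inclusion hTR x, x.2, hx⟩,
        fun hy => by obtain ⟨x, hx, he⟩ := h1.ge hy; exact ⟨⟨x, hx⟩, he⟩⟩
    exact ⟨hφ, _, F.isoOf_mem_autGroup (F.restrict_mem hφ hTR) hr, _, E.id_mem inf_le_right,
      fun x => rfl⟩
  rcases hR with rfl | hR
  · exact absurd hT.1 hTR
  have hlt : R < S := hR.lt hS hF
  have hfin := finite_autGroup (F := F) hRS
  obtain ⟨-, U, hU⟩ := hF.isFullyAutomized_of_isFullyNormalized hS hR.2.1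
  have hrec := hF.isReceptive_of_isFullyNormalized hS hR.2.1
  let good : F.autGroup R → Prop := fun a => ∃ φ₀ ∈ E.Hom (R ⊓ T),
    ∀ x : ↥(R ⊓ T), φ₀ x = (((a : MulAut R) ⟨x, x.2.1⟩ : R) : Ω)
  have hpres : ∀ (a : F.autGroup R) (x : R), (x : Ω) ∈ T → (((a : MulAut R) x : R) : Ω) ∈ T := by
    intro a x hx
    obtain ⟨φ, hφ, -, he⟩ := F.exists_map_of_mem_autGroup hRS a.2
    rw [← he]
    exact hT.apply_mem_of_mem hφ hx
  let K : Subgroup (F.autGroup R) :=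
    { carrier := {a | good a}
      one_mem' := ⟨_, E.id_mem inf_le_right, fun x => rfl⟩
      mul_mem' := by
        rintro a b ⟨a₀, ha₀, hae⟩ ⟨b₀, hb₀, hbe⟩
        have hm : ∀ x, b₀ x ∈ R ⊓ T := fun x => ⟨hbe x ▸ SetLike.coe_mem _, E.apply_mem hb₀ x⟩
        obtain ⟨c, hc, hce⟩ := E.exists_comp hb₀ ha₀ hm
        refine ⟨c, hc, fun x => ?_⟩
        rw [hce, hae]
        show _ = (((a : MulAut R) ((b : MulAut R) ⟨x, x.2.1⟩) : R) : Ω)
        congr 2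
        exact Subtype.ext (hbe x)
      inv_mem' := by
        rintro a ⟨a₀, ha₀, hae⟩
        obtain ⟨i, hi, -, hil, -⟩ := E.exists_inv ha₀ rfl
        have hle : R ⊓ T ≤ a₀.range := by
          intro y hy
          refine ⟨⟨((a⁻¹ : F.autGroup R) : MulAut R) ⟨y, hy.1⟩, SetLike.coe_mem _,
            hpres a⁻¹ ⟨y, hy.1⟩ hy.2⟩, ?_⟩
          rw [hae]
          simp
        refine ⟨_, E.restrict_mem hi hle, fun x => ?_⟩
        let y : ↥(R ⊓ T) := ⟨((a⁻¹ : F.autGroup R) : MulAut R) ⟨x, x.2.1⟩, SetLike.coe_mem _,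
          hpres a⁻¹ ⟨x, x.2.1⟩ x.2.2⟩
        have hy : a₀ y = (x : Ω) := by
          rw [hae]
          simp [y]
        refine Eq.trans ?_ (hil y ⟨y, rfl⟩)
        show i (Subgroup.inclusion hle x) = i _
        congr 1
        exact Subtype.ext hy.symm }
  have hKn : K.Normal := by
    refine ⟨fun a ha g => ?_⟩
    obtain ⟨a₀, ha₀, hae⟩ := ha
    obtain ⟨φ, hφ, hφr, hφe⟩ := F.exists_map_of_mem_autGroup hRS g.2
    have hm : ∀ x, a₀ x ∈ R ⊓ T := fun x => ⟨hae x ▸ SetLike.coe_mem _, E.apply_mem ha₀ x⟩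
    obtain ⟨χ, hχ, hχe⟩ := h (R ⊓ T) (R ⊓ T) le_rfl inf_le_right a₀ ha₀ hm _
      (F.restrict_mem hφ inf_le_left)
    have hle : R ⊓ T ≤ ((R ⊓ T).subgroupOf (R ⊓ T)).map (φ.comp (Subgroup.inclusion inf_le_left)) := by
      intro y hy
      refine ⟨⟨((g⁻¹ : F.autGroup R) : MulAut R) ⟨y, hy.1⟩, SetLike.coe_mem _,
        hpres g⁻¹ ⟨y, hy.1⟩ hy.2⟩, ⟨SetLike.coe_mem _, hpres g⁻¹ ⟨y, hy.1⟩ hy.2⟩, ?_⟩
      show φ ⟨_, _⟩ = y
      rw [hφe]
      simp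
    refine ⟨_, E.restrict_mem hχ hle, fun x => ?_⟩
    let y : ↥(R ⊓ T) := ⟨((g⁻¹ : F.autGroup R) : MulAut R) ⟨x, x.2.1⟩, SetLike.coe_mem _,
      hpres g⁻¹ ⟨x, x.2.1⟩ x.2.2⟩
    have hy : (x : Ω) = φ.comp (Subgroup.inclusion inf_le_left) y := by
      show (x : Ω) = φ ⟨_, _⟩
      rw [hφe]
      simp [y]
    have h1 := hχe y (hy ▸ hle x.2)
    refine Eq.trans (congrArg χ (Subtype.ext hy : Subgroup.inclusion hle x = ⟨_, hy ▸ hle x.2⟩))
      (h1.trans ?_)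
    show φ ⟨a₀ y, _⟩ = _
    rw [hφe]
    simp only [Subgroup.coe_mul, InvMemClass.coe_inv, MulAut.mul_apply]
    congr 2
    exact Subtype.ext (hae y)
  obtain ⟨W, hW⟩ := ((U.2.to_le (inf_le_left : (U : Subgroup (F.autGroup R)) ⊓ K ≤ U)).of_equiv
    (Subgroup.subgroupOfEquivOfLe inf_le_right).symm).exists_le_sylow
  have hWmap : (W : Subgroup K).map K.subtype = (U : Subgroup (F.autGroup R)) ⊓ K := by
    symm
    have h1 : (U : Subgroup (F.autGroup R)) ⊓ K ≤ (W : Subgroup K).map K.subtype :=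
      fun x hx => ⟨⟨x, hx.2⟩, hW hx, rfl⟩
    obtain ⟨a, ha⟩ := exists_conj_mem_sylow U (W.2.map K.subtype)
    refine Subgroup.eq_of_le_of_card_ge h1 ?_
    refine le_trans (le_of_eq (Subgroup.card_map_of_injective
      (f := (MulAut.conj a : (F.autGroup R) ≃* _).toMonoidHom)
      (MulEquiv.injective (MulAut.conj a))).symm) (Subgroup.card_le_of_le ?_)
    rintro _ ⟨x, hx, rfl⟩
    refine ⟨ha x hx, ?_⟩
    obtain ⟨y, -, rfl⟩ := hx
    exact hKn.conj_mem _ y.2 a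
  have hgen := W.normalizer_sup_eq_top
  intro β hβ
  have hmem : (⟨β, hβ⟩ : F.autGroup R) ∈
      ((frattiniSystem hT hsub h).autGroup R).subgroupOf (F.autGroup R) := by
    refine (?_ : (⊤ : Subgroup (F.autGroup R)) ≤ _) (Subgroup.mem_top _)
    rw [← hgen, hWmap]
    refine sup_le ?_ ?_
    · intro γ hγ
      have hM : normalizerIn T R ≤ normalizerIn S R := fun g hg => ⟨hT.1 hg.1, hg.2⟩
      obtain ⟨ψ, hψ, hψe⟩ := exists_extension_of_normalizes hrec γ.2 hM (by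
        intro g hg hgN
        let c : F.autGroup R := ⟨R.normalizerMonoidHom ⟨g, hgN⟩,
          autInducedBy_le_autGroup hRS (mem_autInducedBy_iff.mpr ⟨g, hT.1 hg.1, hgN, fun _ => rfl⟩)⟩
        have hc : c ∈ (U : Subgroup (F.autGroup R)) ⊓ K :=
          ⟨hU.ge (mem_autInducedBy_iff.mpr ⟨g, hT.1 hg.1, hgN, fun _ => rfl⟩),
            _, E.conj_mem inf_le_right hg.1, fun x => rfl⟩
        exact hU.le ((Subgroup.mem_normalizer_iff.mp hγ c).mp hc).1)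
      have := finite_of_le (sup_le hRS (hM.trans normalizerIn_le) : R ⊔ normalizerIn T R ≤ S)
      refine hmk γ (FusionSystem.restrict_mem (hbig _ (card_lt_of_lt ?_) hψ) le_sup_left) fun x => hψe x
      refine lt_of_le_of_ne le_sup_left fun e => ?_
      have hle : R ⊔ T ≤ S := sup_le hRS hT.1
      have hlt : R < R ⊔ T := lt_of_le_of_ne le_sup_left fun e => hTR (le_sup_right.trans e.ge)
      have := finite_of_le hle
      obtain ⟨w, hw, hwR⟩ := SetLike.exists_of_lt (lt_normalizerIn (p := p) (hS.to_le hle) hlt)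
      have hw1 : w ∈ (↑(R ⊔ T) : Set Ω) := hw.1
      rw [Subgroup.coe_mul_of_left_le_normalizer_right R T (hRS.trans hT.le_normalizer)] at hw1
      obtain ⟨r, hr, t, ht, rfl⟩ := hw1
      have htN : t ∈ Subgroup.normalizer (R : Set Ω) := by
        have := Subgroup.mul_mem _ (Subgroup.inv_mem _
          (Subgroup.le_normalizer hr : r ∈ Subgroup.normalizer (R : Set Ω))) hw.2
        simpa [mul_assoc] using this
      exact hwR (R.mul_mem hr (e.ge (Subgroup.mem_sup_right ⟨ht, htN⟩)))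
    · rintro k ⟨k₀, hk₀, hke⟩
      obtain ⟨φ, hφ, -, he⟩ := F.exists_map_of_mem_autGroup hRS k.2
      refine hmk k ⟨hφ, 1, one_mem _, k₀, hk₀, fun x => ?_⟩ he
      rw [he]
      exact (hke x).symm
  exact hmem

end FusionSystem

end Cfsg
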