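import Cfsg.Agent.Lib.Fusion.Alperin

/-!
Normalizer and centralizer fusion systems; normal, central and strongly closed subgroups.
-/

set_option autoImplicit false

namespace Cfsg

namespace FusionSystem

variable {Ω : Type*} [Group Ω] {S : Subgroup Ω} {F : FusionSystem S} {P Q R : Subgroup Ω}
  {φ : P →* Ω}

theorem map_inclusion_sup (ψ : ↥(P ⊔ Q) →* Ω) (hQ : (Q.subgroupOf (P ⊔ Q)).map ψ = Q)
    (he : ∀ x : P, ψ (Subgroup.inclusion le_sup_left x) = φ x) : ψ.range = φ.range ⊔ Q := by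
  have h1 : ψ.range = ((P.subgroupOf (P ⊔ Q)) ⊔ (Q.subgroupOf (P ⊔ Q))).map ψ := by
    rw [← Subgroup.subgroupOf_sup le_sup_left le_sup_right, Subgroup.subgroupOf_self,
      ← MonoidHom.range_eq_map]
  rw [h1, Subgroup.map_sup, hQ]
  congr 1
  ext y
  constructor
  · rintro ⟨x, hx, rfl⟩
    exact ⟨⟨x, hx⟩, (he ⟨x, hx⟩).symm⟩
  · rintro ⟨x, rfl⟩
    exact ⟨Subgroup.inclusion le_sup_left x, x.2, he x⟩

theorem conj_mem_of_mem_normalizer {g : Ω} (hg : g ∈ Subgroup.normalizer (Q : Set Ω))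
    (hQR : Q ≤ R) : (Q.subgroupOf R).map (conjHom R g) = Q := by
  ext y
  constructor
  · rintro ⟨x, hx, rfl⟩
    exact (Subgroup.mem_normalizer_iff.mp hg x).mp hx
  · intro hy
    have hx : g⁻¹ * y * g ∈ Q := (Subgroup.mem_normalizer_iff''.mp hg y).mp hy
    refine ⟨⟨_, hQR hx⟩, hx, ?_⟩
    show g * (g⁻¹ * y * g) * g⁻¹ = y
    group

theorem normalizerHom_conj_mem (hQ : Q ≤ S) {g : Ω} (hP : P ≤ normalizerIn S Q)
    (hg : g ∈ normalizerIn S Q) : conjHom P g ∈ F.normalizerHom Q P :=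
  ⟨F.conj_mem (hP.trans normalizerIn_le) hg.1, hP,
    fun x => Subgroup.mul_mem _ (Subgroup.mul_mem _ hg (hP x.2)) (Subgroup.inv_mem _ hg),
    conjHom (P ⊔ Q) g, F.conj_mem (sup_le (hP.trans normalizerIn_le) hQ) hg.1, fun _ => rfl,
    conj_mem_of_mem_normalizer hg.2 le_sup_right⟩

variable (F) in
/-- The normalizer fusion system `N_F(Q)`. -/
def normalizerSystem (Q : Subgroup Ω) (hQ : Q ≤ S) : FusionSystem (normalizerIn S Q) where
  Hom P := F.normalizerHom Q P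
  le_of_mem h := ⟨h.2.1, h.2.2.1⟩
  injective_of_mem h := F.injective_of_mem h.1
  conj_mem hP hg := normalizerHom_conj_mem hQ hP hg
  comp_mem := by
    rintro P R φ ψ ⟨hφ, hPN, hφN, φ', hφ', hφe, hφQ⟩ ⟨hψ, hRN, hψN, ψ', hψ', hψe, hψQ⟩ h
    have hin : ∀ x : ↥(P ⊔ Q), φ' x ∈ R ⊔ Q := by
      intro x
      have := (map_inclusion_sup φ' hφQ hφe).le ⟨x, rfl⟩
      refine sup_le_sup_right ?_ Q this
      rintro _ ⟨y, rfl⟩
      exact h y
    refine ⟨F.comp_mem hφ hψ h, hPN, fun x => hψN _, _, F.comp_mem hφ' hψ' hin, ?_, ?_⟩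
    · intro x
      show ψ' ⟨φ' _, _⟩ = ψ ⟨φ x, _⟩
      rw [← hψe]
      congr 1
      exact Subtype.ext (hφe x)
    · ext y
      constructor
      · rintro ⟨x, hx, rfl⟩
        refine hψQ.le ⟨⟨φ' x, hin x⟩, ?_, rfl⟩
        exact hφQ.le ⟨x, hx, rfl⟩
      · intro hy
        obtain ⟨z, hz, rfl⟩ := hψQ.ge hy
        obtain ⟨x, hx, hxz⟩ := hφQ.ge hz
        exact ⟨x, hx, congrArg ψ' (Subtype.ext hxz)⟩
  inv_mem := by
    rintro P φ ⟨hφ, hPN, hφN, φ', hφ', hφe, hφQ⟩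
    obtain ⟨ψ, hψ, hψr, hψl, -⟩ := F.exists_inv hφ rfl
    obtain ⟨ψ', hψ', -, hψl', -⟩ := F.exists_inv hφ' (map_inclusion_sup φ' hφQ hφe)
    refine ⟨ψ, ⟨hψ, ?_, fun y => hPN (hψr.le ⟨y, rfl⟩), ψ', hψ', ?_, ?_⟩, fun x => hψl x _⟩
    · rintro _ ⟨x, rfl⟩
      exact hφN x
    · rintro ⟨_, x, rfl⟩
      have h1 := hψl' (Subgroup.inclusion le_sup_left x)
        (by rw [hφe]; exact Subgroup.mem_sup_left ⟨x, rfl⟩)
      simp only [hφe] at h1
      exact h1.trans (hψl x ⟨x, rfl⟩).symm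
    · ext y
      constructor
      · rintro ⟨z, hz, rfl⟩
        obtain ⟨x, hx, hxz⟩ := hφQ.ge hz
        have : z = ⟨φ' x, hxz ▸ z.2⟩ := Subtype.ext hxz.symm
        rw [this, hψl']
        exact hx
      · intro hy
        have hyQ : φ' ⟨y, Subgroup.mem_sup_right hy⟩ ∈ Q := hφQ.le ⟨_, hy, rfl⟩
        exact ⟨⟨_, Subgroup.mem_sup_right hyQ⟩, hyQ, hψl' _ _⟩

variable (F) in
theorem normalizerSystem_isNormalizerSystem (Q : Subgroup Ω) (hQ : Q ≤ S) :
    F.IsNormalizerSystem Q (F.normalizerSystem Q hQ) := fun _ => rfl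

variable (F) in
/-- The centralizer fusion system `C_F(Q)`. -/
def centralizerSystem (Q : Subgroup Ω) (hQ : Q ≤ S) : FusionSystem (centralizerIn S Q) where
  Hom P := F.centralizerHom Q P
  le_of_mem h := ⟨h.2.1, h.2.2.1⟩
  injective_of_mem h := F.injective_of_mem h.1
  conj_mem := by
    intro P g hP hg
    refine ⟨F.conj_mem (hP.trans centralizerIn_le) hg.1, hP,
      fun x => Subgroup.mul_mem _ (Subgroup.mul_mem _ hg (hP x.2)) (Subgroup.inv_mem _ hg),
      conjHom (P ⊔ Q) g, F.conj_mem (sup_le (hP.trans centralizerIn_le) hQ) hg.1, fun _ => rfl,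
      fun x => ?_⟩
    show g * (x : Ω) * g⁻¹ = x
    rw [← Subgroup.mem_centralizer_iff.mp hg.2 x x.2, mul_inv_cancel_right]
  comp_mem := by
    rintro P R φ ψ ⟨hφ, hPN, hφN, φ', hφ', hφe, hφQ⟩ ⟨hψ, hRN, hψN, ψ', hψ', hψe, hψQ⟩ h
    have hQQ : (Q.subgroupOf (P ⊔ Q)).map φ' = Q := by
      ext y
      constructor
      · rintro ⟨x, hx, rfl⟩
        show φ' (Subgroup.inclusion le_sup_right ⟨x, hx⟩) ∈ Q
        rw [hφQ]
        exact hx
      · intro hy
        exact ⟨Subgroup.inclusion le_sup_right ⟨y, hy⟩, hy, hφQ ⟨y, hy⟩⟩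
    have hin : ∀ x : ↥(P ⊔ Q), φ' x ∈ R ⊔ Q := by
      intro x
      have := (map_inclusion_sup φ' hQQ hφe).le ⟨x, rfl⟩
      refine sup_le_sup_right ?_ Q this
      rintro _ ⟨y, rfl⟩
      exact h y
    refine ⟨F.comp_mem hφ hψ h, hPN, fun x => hψN _, _, F.comp_mem hφ' hψ' hin, ?_, ?_⟩
    · intro x
      show ψ' ⟨φ' _, _⟩ = ψ ⟨φ x, _⟩
      rw [← hψe]
      congr 1
      exact Subtype.ext (hφe x)
    · intro x
      show ψ' ⟨φ' _, _⟩ = _
      rw [← hψQ x]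
      congr 1
      exact Subtype.ext (hφQ x)
  inv_mem := by
    rintro P φ ⟨hφ, hPN, hφN, φ', hφ', hφe, hφQ⟩
    have hQQ : (Q.subgroupOf (P ⊔ Q)).map φ' = Q := by
      ext y
      constructor
      · rintro ⟨x, hx, rfl⟩
        show φ' (Subgroup.inclusion le_sup_right ⟨x, hx⟩) ∈ Q
        rw [hφQ]
        exact hx
      · intro hy
        exact ⟨Subgroup.inclusion le_sup_right ⟨y, hy⟩, hy, hφQ ⟨y, hy⟩⟩
    obtain ⟨ψ, hψ, hψr, hψl, -⟩ := F.exists_inv hφ rfl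
    obtain ⟨ψ', hψ', -, hψl', -⟩ := F.exists_inv hφ' (map_inclusion_sup φ' hQQ hφe)
    refine ⟨ψ, ⟨hψ, ?_, fun y => hPN (hψr.le ⟨y, rfl⟩), ψ', hψ', ?_, ?_⟩, fun x => hψl x _⟩
    · rintro _ ⟨x, rfl⟩
      exact hφN x
    · rintro ⟨_, x, rfl⟩
      have h1 := hψl' (Subgroup.inclusion le_sup_left x)
        (by rw [hφe]; exact Subgroup.mem_sup_left ⟨x, rfl⟩)
      simp only [hφe] at h1
      exact h1.trans (hψl x ⟨x, rfl⟩).symm
    · intro x
      have h1 := hψl' (Subgroup.inclusion le_sup_right x)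
        (by rw [hφQ]; exact Subgroup.mem_sup_right x.2)
      simp only [hφQ] at h1
      exact h1

theorem IsNormal.le (h : F.IsNormal Q) : Q ≤ S := h.1

theorem IsNormal.le_normalizer (h : F.IsNormal Q) : S ≤ Subgroup.normalizer (Q : Set Ω) := by
  intro s hs
  obtain ⟨ψ, hψ, he, hQ⟩ := h.2 S (conjHom S s) (F.conj_mem le_rfl hs)
  have hval : ∀ (x : Ω) (hx : x ∈ S ⊔ Q), ψ ⟨x, hx⟩ = s * x * s⁻¹ := fun x hx =>
    he ⟨x, (sup_le le_rfl h.1) hx⟩
  refine Subgroup.mem_normalizer_iff.mpr fun x => ⟨fun hx => ?_, fun hx => ?_⟩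
  · rw [← hval x (Subgroup.mem_sup_right hx)]
    exact hQ.le ⟨_, hx, rfl⟩
  · obtain ⟨y, hy, he'⟩ := hQ.ge hx
    rw [show y = ⟨(y : Ω), y.2⟩ from rfl, hval] at he'
    rw [← mul_left_cancel (mul_right_cancel he')]
    exact hy

theorem IsNormal.hom_eq_normalizerHom (h : F.IsNormal Q) (P : Subgroup Ω) :
    F.Hom P = F.normalizerHom Q P := by
  ext φ
  refine ⟨fun hφ => ⟨hφ, fun x hx => ⟨F.source_le hφ hx, h.le_normalizer (F.source_le hφ hx)⟩,
    fun x => ⟨F.apply_mem hφ x, h.le_normalizer (F.apply_mem hφ x)⟩, h.2 P φ hφ⟩, fun hφ => hφ.1⟩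

theorem IsNormal.stronglyClosed (h : F.IsNormal Q) : F.StronglyClosed Q := by
  refine ⟨h.1, fun R hR φ hφ x => ?_⟩
  obtain ⟨ψ, hψ, he, hQ⟩ := h.2 R φ hφ
  rw [← he x]
  exact hQ.le ⟨_, hR x.2, rfl⟩

theorem StronglyClosed.le_normalizer (h : F.StronglyClosed Q) :
    S ≤ Subgroup.normalizer (Q : Set Ω) := by
  intro s hs
  have key : ∀ t ∈ S, ∀ x ∈ Q, t * x * t⁻¹ ∈ Q := fun t ht x hx =>
    h.2 Q le_rfl (conjHom Q t) (F.conj_mem h.1 ht) ⟨x, hx⟩
  refine Subgroup.mem_normalizer_iff.mpr fun x => ⟨key s hs x, fun hx => ?_⟩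
  have := key s⁻¹ (S.inv_mem hs) _ hx
  simpa [mul_assoc] using this

theorem StronglyClosed.map_eq [Finite S] (h : F.StronglyClosed Q) {ψ : R →* Ω}
    (hψ : ψ ∈ F.Hom R) (hQR : Q ≤ R) : (Q.subgroupOf R).map ψ = Q := by
  have hle : (Q.subgroupOf R).map ψ ≤ Q := by
    rintro _ ⟨x, hx, rfl⟩
    exact h.2 Q le_rfl _ (F.restrict_mem hψ hQR) ⟨x, hx⟩
  have := finite_of_le h.1
  refine Subgroup.eq_of_le_of_card_ge hle ?_
  rw [Subgroup.card_map_of_injective (F.injective_of_mem hψ),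
    Nat.card_congr (Subgroup.subgroupOfEquivOfLe hQR).toEquiv]

theorem autGroup_map_subgroupOf_le {α : MulAut P} (hα : α ∈ F.autGroup P) (hQP : Q ≤ P) (hP : P ≤ S)
    (h : F.StronglyClosed Q) [Finite S] :
    (Q.subgroupOf P).map α.toMonoidHom = Q.subgroupOf P := by
  obtain ⟨φ, hφ, -, he⟩ := F.exists_map_of_mem_autGroup hP hα
  apply Subgroup.map_injective P.subtype_injective
  rw [Subgroup.map_map, Subgroup.subgroupOf_map_subtype, inf_eq_left.mpr hQP]
  have e : P.subtype.comp α.toMonoidHom = φ := by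
    ext x
    exact (he x).symm
  rw [e]
  exact h.map_eq hφ hQP

/-- Inductive form: while checking an essential subgroup one may assume that maps with larger source
preserve `Q`. -/
theorem IsSaturated.isNormal_of_invariant' [Finite S] {p : ℕ} [Fact p.Prime] (hF : F.IsSaturated p)
    (hS : IsPGroup p S)
    (hQS' : Q ≤ S)
    (h : ∀ P : Subgroup Ω, (P = S ∨ F.IsEssential p P) →
      (∀ (R : Subgroup Ω) (φ : R →* Ω), φ ∈ F.Hom R → Q ≤ R → Nat.card P < Nat.card R →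
        (Q.subgroupOf R).map φ = Q) →
      (Q ≤ P ∧ ∀ α ∈ F.autGroup P, (Q.subgroupOf P).map α.toMonoidHom = Q.subgroupOf P)) :
    F.IsNormal Q := by
  have hbigS : ∀ (R : Subgroup Ω) (φ : R →* Ω), φ ∈ F.Hom R → Q ≤ R → Nat.card S < Nat.card R →
      (Q.subgroupOf R).map φ = Q := fun R φ hφ _ hlt => absurd hlt (not_lt.mpr
        (Nat.card_le_card_of_injective (Subgroup.inclusion (F.source_le hφ)) (Subgroup.inclusion_injective _)))
  have hQS : Q ≤ S := hQS'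
  have hN : S ≤ normalizerIn S Q := by
    intro s hs
    have hsN : s ∈ Subgroup.normalizer (S : Set Ω) := Subgroup.le_normalizer hs
    have hα : S.normalizerMonoidHom ⟨s, hsN⟩ ∈ F.autGroup S :=
      autInducedBy_le_autGroup le_rfl (mem_autInducedBy_iff.mpr ⟨s, hs, hsN, fun _ => rfl⟩)
    have h1 := (h S (Or.inl rfl) hbigS).2 _ hα
    refine ⟨hs, Subgroup.mem_normalizer_iff.mpr fun x => ⟨fun hx => ?_, fun hx => ?_⟩⟩
    · exact h1.le ⟨⟨x, hQS hx⟩, hx, rfl⟩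
    · have hxS : x ∈ S := by
        have := S.mul_mem (S.mul_mem (S.inv_mem hs) (hQS hx)) hs
        simpa [mul_assoc] using this
      obtain ⟨y, hy, he⟩ := h1.ge (show (⟨s * x * s⁻¹, hQS hx⟩ : S) ∈ Q.subgroupOf S from hx)
      have he' : s * (y : Ω) * s⁻¹ = s * x * s⁻¹ := congrArg Subtype.val he
      rw [← mul_left_cancel (mul_right_cancel he')]
      exact hy
  let E : FusionSystem S :=
    { Hom := fun P => F.normalizerHom Q P
      le_of_mem := fun h => ⟨F.source_le h.1, F.apply_mem h.1⟩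
      injective_of_mem := fun h => F.injective_of_mem h.1
      conj_mem := fun hP hg => normalizerHom_conj_mem hQS (hP.trans hN) (hN hg)
      comp_mem := fun {P R φ ψ} hφ hψ hh => (F.normalizerSystem Q hQS).comp_mem hφ hψ hh
      inv_mem := fun hφ => (F.normalizerSystem Q hQS).inv_mem hφ }
  have hle : F ≤ E := by
    refine hF.le_of_autGroup_le' hS E fun P hP hbig α hα => ?_
    obtain ⟨hQP, hinv⟩ := h P hP (fun R φ hφ hQR hlt => by
      obtain ⟨-, -, -, ψ, -, hψe, hψQ⟩ := hbig R hlt hφ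
      refine Eq.trans ?_ hψQ
      ext y
      constructor
      · rintro ⟨x, hx, rfl⟩
        exact ⟨Subgroup.inclusion le_sup_left x, hx, hψe x⟩
      · rintro ⟨x, hx, rfl⟩
        exact ⟨⟨x, hQR hx⟩, hx, (hψe ⟨x, hQR hx⟩).symm⟩)
    have hPS : P ≤ S := by
      rcases hP with rfl | hP
      · exact le_rfl
      · exact hP.1.1
    obtain ⟨φ, hφ, hr, he⟩ := F.exists_map_of_mem_autGroup hPS hα
    have hsup : P ⊔ Q = P := sup_eq_left.mpr hQP
    have hφ' : φ ∈ E.Hom P := by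
      refine ⟨hφ, hPS.trans hN, fun x => hN (F.apply_mem hφ x), _,
        F.restrict_mem hφ hsup.le, fun x => rfl, ?_⟩
      ext y
      constructor
      · rintro ⟨x, hx, rfl⟩
        show φ _ ∈ Q
        rw [he]
        exact (hinv α hα).le ⟨⟨x, hsup.le x.2⟩, hx, rfl⟩
      · intro hy
        obtain ⟨z, hz, hze⟩ := (hinv α hα).ge (show (⟨y, hQP hy⟩ : P) ∈ Q.subgroupOf P from hy)
        refine ⟨⟨z, Subgroup.mem_sup_right hz⟩, hz, ?_⟩
        show φ _ = y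
        rw [he]
        exact congrArg Subtype.val hze
    exact E.mem_autGroup_of_map hφ' fun x => (he x).symm
  exact ⟨hQS, fun P φ hφ => (hle P hφ).2.2.2⟩

/-- A subgroup contained in and invariant under the automorphisms of `S` and of all essential
subgroups is normal. -/
theorem IsSaturated.isNormal_of_invariant [Finite S] {p : ℕ} [Fact p.Prime] (hF : F.IsSaturated p)
    (hS : IsPGroup p S)
    (h : ∀ P : Subgroup Ω, (P = S ∨ F.IsEssential p P) →
      (Q ≤ P ∧ ∀ α ∈ F.autGroup P, (Q.subgroupOf P).map α.toMonoidHom = Q.subgroupOf P)) :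
    F.IsNormal Q :=
  hF.isNormal_of_invariant' hS (h S (Or.inl rfl)).1 fun P hP _ => h P hP

end FusionSystem

end Cfsg
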