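import Cfsg.Agent.Lib.Fusion.Alperin
import Cfsg.Agent.Lib.Fusion.Systems

/-!
Maps of a saturated fusion system modulo a strongly closed subgroup: every map is congruent to one
defined on the product of its source with the subgroup.
-/

set_option autoImplicit false

namespace Cfsg

namespace FusionSystem

variable {Ω : Type*} [Group Ω] {S : Subgroup Ω} {F : FusionSystem S} {P Q R T : Subgroup Ω}
  {p : ℕ}

/-- An automorphism of a receptive subgroup carrying some elements of `N_S(P)` into `Aut_S(P)` extends to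
all of them. -/
theorem exists_extension_of_normalizes {γ : MulAut P} (hP : F.IsReceptive P) (hγ : γ ∈ F.autGroup P)
    {M : Subgroup Ω} (hM : M ≤ normalizerIn S P)
    (h : ∀ g ∈ M, ∀ hg : g ∈ Subgroup.normalizer (P : Set Ω),
      γ * P.normalizerMonoidHom ⟨g, hg⟩ * γ⁻¹ ∈ autInducedBy S P) :
    ∃ ψ ∈ F.Hom (P ⊔ M), ∀ (x : P), ψ ⟨x, Subgroup.mem_sup_left x.2⟩ = ((γ x : P) : Ω) := by
  obtain ⟨φ, hφ, hr, hφe⟩ := F.exists_map_of_mem_autGroup hP.1 hγ
  have hle : P ⊔ M ≤ extender S P φ := by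
    refine sup_le (le_extender hP.1 (F.apply_mem hφ)) fun g hg => ?_
    have hgN := (hM hg).2
    obtain ⟨k, hkS, -, hk⟩ := mem_autInducedBy_iff.mp (h g hg hgN)
    refine (mem_extender_iff (F.apply_mem hφ)).mpr ⟨(hM hg).1, hgN, k, hkS, fun x hx => ?_⟩
    rw [hφe, hφe, ← hk (γ x)]
    simp only [MulAut.mul_apply, MulAut.inv_apply_self]
    rfl
  obtain ⟨ψ, hψ, hψe⟩ := hP.2 P φ hφ hr
  exact ⟨_, F.restrict_mem hψ hle, fun x => (hψe x x.2 _).trans (hφe x)⟩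

theorem StronglyClosed.apply_mem_of_mem (hT : F.StronglyClosed T) {φ : P →* Ω} (hφ : φ ∈ F.Hom P)
    {x : P} (hx : (x : Ω) ∈ T) : φ x ∈ T :=
  hT.2 _ inf_le_left _ (F.restrict_mem hφ (inf_le_right : T ⊓ P ≤ P)) ⟨x, hx, x.2⟩

theorem StronglyClosed.conj_mem_of_mem (hT : F.StronglyClosed T) {s : Ω} (hs : s ∈ S) {x : Ω}
    (hx : x ∈ T) : s * x * s⁻¹ ∈ T :=
  (Subgroup.mem_normalizer_iff.mp (hT.le_normalizer hs) x).mp hx

theorem StronglyClosed.conj_mem_of_mem' (hT : F.StronglyClosed T) {s : Ω} (hs : s ∈ S) {x : Ω}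
    (hx : x ∈ T) : s⁻¹ * x * s ∈ T :=
  (Subgroup.mem_normalizer_iff''.mp (hT.le_normalizer hs) x).mp hx

variable [Finite S]

/-- Maps having a congruent map defined on the product with `T`. -/
def congrMod (F : FusionSystem S) {T : Subgroup Ω} (hT : F.StronglyClosed T) : FusionSystem S where
  Hom P := {φ | φ ∈ F.Hom P ∧ ∃ ψ ∈ F.Hom (P ⊔ T),
    ∀ x : P, (ψ ⟨x, Subgroup.mem_sup_left x.2⟩)⁻¹ * φ x ∈ T}
  le_of_mem h := F.le_of_mem h.1
  injective_of_mem h := F.injective_of_mem h.1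
  conj_mem := by
    intro P g hP hg
    refine ⟨F.conj_mem hP hg, conjHom _ g, F.conj_mem (sup_le hP hT.1) hg, fun x => ?_⟩
    show (g * (x : Ω) * g⁻¹)⁻¹ * (g * (x : Ω) * g⁻¹) ∈ T
    rw [inv_mul_cancel]
    exact T.one_mem
  comp_mem := by
    rintro P Q φ χ ⟨hφ, ψ, hψ, hψe⟩ ⟨hχ, ω, hω, hωe⟩ h
    have hPS : P ⊔ T ≤ S := F.source_le hψ
    have hmem : ∀ x : ↥(P ⊔ T), ψ x ∈ Q ⊔ T := by
      have h1 : P ⊔ T ≤ ((Q ⊔ T).comap ψ).map (P ⊔ T).subtype := by
        refine sup_le (fun x hx => ⟨⟨x, Subgroup.mem_sup_left hx⟩, ?_, rfl⟩)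
          (fun x hx => ⟨⟨x, Subgroup.mem_sup_right hx⟩, ?_, rfl⟩)
        · show ψ _ ∈ Q ⊔ T
          have := (Q ⊔ T).mul_mem (Subgroup.mem_sup_left (h ⟨x, hx⟩))
            (Subgroup.mem_sup_right (T.inv_mem (hψe ⟨x, hx⟩)))
          simpa using this
        · exact Subgroup.mem_sup_right (hT.apply_mem_of_mem hψ hx)
      intro x
      obtain ⟨y, hy, hyx⟩ := h1 x.2
      exact Subtype.ext hyx ▸ hy
    refine ⟨F.comp_mem hφ hχ h, _, F.comp_mem hψ hω hmem, fun x => ?_⟩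
    show (ω ⟨ψ ⟨x, _⟩, hmem _⟩)⁻¹ * χ ⟨φ x, h x⟩ ∈ T
    have e : (⟨ψ ⟨x, Subgroup.mem_sup_left x.2⟩, hmem _⟩ : ↥(Q ⊔ T)) =
        ⟨φ x, Subgroup.mem_sup_left (h x)⟩ *
          (⟨_, Subgroup.mem_sup_right (hψe x)⟩ : ↥(Q ⊔ T))⁻¹ := by
      ext
      simp
    rw [e, map_mul, map_inv, mul_inv_rev, inv_inv, mul_assoc]
    exact T.mul_mem (hT.apply_mem_of_mem hω (hψe x)) (hωe ⟨φ x, h x⟩)
  inv_mem := by
    rintro P φ ⟨hφ, ψ, hψ, hψe⟩
    obtain ⟨i, hi, hie⟩ := F.inv_mem hφ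
    obtain ⟨j, hj, -, hjl, -⟩ := F.exists_inv hψ rfl
    have hle : φ.range ⊔ T ≤ ψ.range := by
      have hTψ : T ≤ ψ.range := fun t ht => by
        obtain ⟨y, -, hy⟩ := (hT.map_eq hψ le_sup_right).ge ht
        exact ⟨y, hy⟩
      refine sup_le ?_ hTψ
      rintro _ ⟨x, rfl⟩
      have := ψ.range.mul_mem (⟨⟨x, Subgroup.mem_sup_left x.2⟩, rfl⟩ : ψ _ ∈ ψ.range) (hTψ (hψe x))
      simpa using this
    refine ⟨i, ⟨hi, _, F.restrict_mem hj hle, ?_⟩, hie⟩
    rintro ⟨_, x, rfl⟩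
    show (j ⟨φ x, _⟩)⁻¹ * i ⟨φ x, _⟩ ∈ T
    rw [hie]
    have e : (⟨φ x, hle (Subgroup.mem_sup_left ⟨x, rfl⟩)⟩ : ψ.range) =
        (⟨ψ ⟨x, Subgroup.mem_sup_left x.2⟩, _, rfl⟩ : ψ.range) *
          ⟨(ψ ⟨x, Subgroup.mem_sup_left x.2⟩)⁻¹ * φ x, hle (Subgroup.mem_sup_right (hψe x))⟩ := by
      ext
      simp
    rw [e, map_mul]
    erw [hjl ⟨x, Subgroup.mem_sup_left x.2⟩ ⟨_, rfl⟩]
    rw [mul_inv_rev, mul_assoc, inv_mul_cancel, mul_one]
    exact T.inv_mem (hT.apply_mem_of_mem hj (hψe x))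

theorem mem_congrMod_of_le {hT : F.StronglyClosed T} {φ : P →* Ω} (hφ : φ ∈ F.Hom P) (h : T ≤ P) :
    φ ∈ (congrMod F hT).Hom P := by
  refine ⟨hφ, _, F.restrict_mem hφ (sup_eq_left.mpr h).le, fun x => ?_⟩
  show (φ ⟨x, _⟩)⁻¹ * φ x ∈ T
  rw [inv_mul_cancel]
  exact T.one_mem

/-- Every map is congruent modulo `T` to a map defined on the product with `T`. -/
theorem IsSaturated.exists_congr_mod [Fact p.Prime] (hF : F.IsSaturated p) (hS : IsPGroup p S)
    (hT : F.StronglyClosed T) {φ : P →* Ω} (hφ : φ ∈ F.Hom P) :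
    ∃ ψ ∈ F.Hom (P ⊔ T), ∀ x : P, (ψ ⟨x, Subgroup.mem_sup_left x.2⟩)⁻¹ * φ x ∈ T := by
  suffices h : F ≤ congrMod F hT from (h P hφ).2
  refine hF.le_of_autGroup_le' hS _ fun R hR hbig => ?_
  by_cases hTR : T ≤ R
  · intro α hα
    have hRS : R ≤ S := by
      rcases hR with rfl | hR
      · exact le_rfl
      · exact hR.1.1
    obtain ⟨φ, hφ, -, he⟩ := F.exists_map_of_mem_autGroup hRS hα
    exact (congrMod F hT).mem_autGroup_of_map (mem_congrMod_of_le hφ hTR) fun x => (he x).symm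
  rcases hR with rfl | hR
  · exact absurd hT.1 hTR
  have hRS : R < S := hR.lt hS hF
  have hfin := finite_autGroup (F := F) hRS.le
  have := finite_of_le hRS.le
  have hfn := hR.2.1
  obtain ⟨-, U, hU⟩ := hF.isFullyAutomized_of_isFullyNormalized hS hfn
  have hrec := hF.isReceptive_of_isFullyNormalized hS hfn
  -- automorphisms trivial modulo `T`
  let K : Subgroup (F.autGroup R) :=
    { carrier := {α | ∀ x : R, (x : Ω)⁻¹ * ((α : MulAut R) x : R) ∈ T}
      one_mem' := fun x => by simp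
      mul_mem' := by
        intro a b ha hb x
        have h1 := T.mul_mem (hb x) (ha ((b : MulAut R) x))
        simpa [MulAut.mul_apply, mul_assoc] using h1
      inv_mem' := by
        intro a ha x
        have h1 := T.inv_mem (ha ((a : MulAut R)⁻¹ x))
        simpa [mul_assoc] using h1 }
  have hKn : K.Normal := by
    refine ⟨fun a ha g => ?_⟩
    intro x
    have h1 := ha ((g : MulAut R)⁻¹ x)
    obtain ⟨φ, hφ, -, he⟩ := F.exists_map_of_mem_autGroup hRS.le g.2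
    have h2 := hT.apply_mem_of_mem hφ (x := ((g : MulAut R)⁻¹ x)⁻¹ * (a : MulAut R) ((g : MulAut R)⁻¹ x))
      (by simpa using h1)
    rw [he] at h2
    simpa [MulAut.mul_apply] using h2
  -- a Sylow subgroup of `K` inside `Aut_S(R)`
  obtain ⟨W, hW⟩ := ((U.2.to_le (inf_le_left : (U : Subgroup (F.autGroup R)) ⊓ K ≤ U)).of_equiv
    (Subgroup.subgroupOfEquivOfLe inf_le_right).symm).exists_le_sylow
  have hWmap : (W : Subgroup K).map K.subtype = (U : Subgroup (F.autGroup R)) ⊓ K := by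
    symm
    have h1 : (U : Subgroup (F.autGroup R)) ⊓ K ≤ (W : Subgroup K).map K.subtype :=
      fun x hx => ⟨⟨x, hx.2⟩, hW hx, rfl⟩
    obtain ⟨a, ha⟩ := exists_conj_mem_sylow U (W.2.map K.subtype)
    refine Subgroup.eq_of_le_of_card_ge h1 ?_
    refine le_trans (le_of_eq (Subgroup.card_map_of_injective (f := (MulAut.conj a : (F.autGroup R) ≃* _).toMonoidHom)
      (MulEquiv.injective (MulAut.conj a))).symm)
      (Subgroup.card_le_of_le ?_)
    rintro _ ⟨x, hx, rfl⟩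
    refine ⟨ha x hx, ?_⟩
    obtain ⟨y, -, rfl⟩ := hx
    exact hKn.conj_mem _ y.2 a
  have hgen := W.normalizer_sup_eq_top
  have hE : ∀ {φ : R →* Ω} (α : F.autGroup R), φ ∈ (congrMod F hT).Hom R →
      (∀ x : R, φ x = (((α : MulAut R) x : R) : Ω)) → (α : MulAut R) ∈ (congrMod F hT).autGroup R :=
    fun α h he => (congrMod F hT).mem_autGroup_of_map h fun x => (he x).symm
  intro α hα
  have hmem : (⟨α, hα⟩ : F.autGroup R) ∈
      ((congrMod F hT).autGroup R).subgroupOf (F.autGroup R) := by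
    refine (?_ : (⊤ : Subgroup (F.autGroup R)) ≤ _) (Subgroup.mem_top _)
    rw [← hgen, hWmap]
    refine sup_le ?_ ?_
    · intro γ hγ
      let M : Subgroup Ω := normalizerIn T R
      have hM : M ≤ normalizerIn S R := fun g hg => ⟨hT.1 hg.1, hg.2⟩
      obtain ⟨ψ, hψ, hψe⟩ := exists_extension_of_normalizes hrec γ.2 hM (by
        intro g hg hgN
        let c : F.autGroup R := ⟨R.normalizerMonoidHom ⟨g, hgN⟩,
          autInducedBy_le_autGroup hRS.le (mem_autInducedBy_iff.mpr ⟨g, hT.1 hg.1, hgN, fun _ => rfl⟩)⟩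
        have hc : c ∈ (U : Subgroup (F.autGroup R)) ⊓ K := by
          refine ⟨hU.ge (mem_autInducedBy_iff.mpr ⟨g, hT.1 hg.1, hgN, fun _ => rfl⟩), fun x => ?_⟩
          show (x : Ω)⁻¹ * (g * x * g⁻¹) ∈ T
          rw [← mul_assoc, ← mul_assoc]
          exact T.mul_mem (hT.conj_mem_of_mem' (hRS.le x.2) hg.1) (T.inv_mem hg.1)
        have h1 := (Subgroup.mem_normalizer_iff.mp hγ c).mp hc
        exact hU.le h1.1)
      have := finite_of_le (sup_le hRS.le (hM.trans normalizerIn_le) : R ⊔ M ≤ S)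
      refine hE γ (FusionSystem.restrict_mem (hbig _ (card_lt_of_lt ?_) hψ) le_sup_left)
        fun x => hψe x
      · have hRM : R ⊔ M ≤ S := sup_le hRS.le (hM.trans normalizerIn_le)
        refine lt_of_le_of_ne le_sup_left fun e => ?_
        have hle : R ⊔ T ≤ S := sup_le hRS.le hT.1
        have hlt : R < R ⊔ T := lt_of_le_of_ne le_sup_left fun e => hTR (le_sup_right.trans e.ge)
        have := finite_of_le hle
        obtain ⟨w, hw, hwR⟩ := SetLike.exists_of_lt (lt_normalizerIn (hS.to_le hle) hlt)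
        have hw1 : w ∈ (↑(R ⊔ T) : Set Ω) := hw.1
        rw [Subgroup.coe_mul_of_left_le_normalizer_right R T (hRS.le.trans hT.le_normalizer)] at hw1
        obtain ⟨r, hr, t, ht, rfl⟩ := hw1
        have htN : t ∈ Subgroup.normalizer (R : Set Ω) := by
          have := Subgroup.mul_mem _ (Subgroup.inv_mem _
            (Subgroup.le_normalizer hr : r ∈ Subgroup.normalizer (R : Set Ω))) hw.2
          simpa [mul_assoc] using this
        exact hwR (R.mul_mem hr (e.ge (Subgroup.mem_sup_right ⟨ht, htN⟩)))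
    · intro k hk
      obtain ⟨φ, hφ, -, he⟩ := F.exists_map_of_mem_autGroup hRS.le k.2
      refine hE k ⟨hφ, _, F.id_mem (sup_le hRS.le hT.1), fun x => ?_⟩ he
      rw [he]
      exact hk x
  exact hmem

theorem StronglyClosed.sup [Fact p.Prime] (hF : F.IsSaturated p) (hS : IsPGroup p S) {T₂ : Subgroup Ω}
    (hT : F.StronglyClosed T) (hT₂ : F.StronglyClosed T₂) : F.StronglyClosed (T ⊔ T₂) := by
  refine ⟨sup_le hT.1 hT₂.1, fun P hP φ hφ x => ?_⟩
  obtain ⟨ψ, hψ, hψe⟩ := hF.exists_congr_mod hS hT hφ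
  have hx : (x : Ω) ∈ (↑(T ⊔ T₂) : Set Ω) := hP x.2
  rw [Subgroup.coe_mul_of_left_le_normalizer_right T T₂ (hT.1.trans hT₂.le_normalizer)] at hx
  obtain ⟨t, ht, u, hu, htu⟩ := hx
  have hu' : u ∈ P ⊔ T := by
    have := (P ⊔ T).mul_mem ((P ⊔ T).inv_mem (Subgroup.mem_sup_right ht)) (Subgroup.mem_sup_left x.2)
    rwa [← htu, inv_mul_cancel_left] at this
  have h1 : ψ ⟨x, Subgroup.mem_sup_left x.2⟩ ∈ T ⊔ T₂ := by
    have e : (⟨x, Subgroup.mem_sup_left x.2⟩ : ↥(P ⊔ T)) =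
        ⟨t, Subgroup.mem_sup_right ht⟩ * ⟨u, hu'⟩ := Subtype.ext htu.symm
    rw [e, map_mul]
    exact Subgroup.mul_mem_sup (hT.apply_mem_of_mem hψ ht) (hT₂.apply_mem_of_mem hψ hu)
  have h2 := (T ⊔ T₂).mul_mem h1 (Subgroup.mem_sup_left (hψe x))
  rwa [mul_inv_cancel_left] at h2

theorem StronglyClosed.sup_centralizerIn [Fact p.Prime] (hF : F.IsSaturated p) (hS : IsPGroup p S)
    (hT : F.StronglyClosed T) : F.StronglyClosed (T ⊔ centralizerIn S T) := by
  refine ⟨sup_le hT.1 centralizerIn_le, fun P hP φ hφ x => ?_⟩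
  obtain ⟨ψ, hψ, hψe⟩ := hF.exists_congr_mod hS hT hφ
  have hn : centralizerIn S T ≤ Subgroup.normalizer (T : Set Ω) :=
    fun c hc => Subgroup.centralizer_le_normalizer _ hc.2
  have hx : (x : Ω) ∈ (↑(T ⊔ centralizerIn S T) : Set Ω) := hP x.2
  rw [sup_comm, Subgroup.coe_mul_of_left_le_normalizer_right (centralizerIn S T) T hn] at hx
  obtain ⟨c, hc, t, ht, hct⟩ := hx
  have hc' : c ∈ P ⊔ T := by
    have := (P ⊔ T).mul_mem (Subgroup.mem_sup_left x.2) ((P ⊔ T).inv_mem (Subgroup.mem_sup_right ht))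
    rwa [← hct, mul_inv_cancel_right] at this
  have hψc : ψ ⟨c, hc'⟩ ∈ centralizerIn S T := by
    refine ⟨F.apply_mem hψ _, Subgroup.mem_centralizer_iff.mpr fun y hy => ?_⟩
    obtain ⟨z, hz, rfl⟩ := (hT.map_eq hψ le_sup_right).ge hy
    rw [← map_mul, ← map_mul]
    congr 1
    exact Subtype.ext (Subgroup.mem_centralizer_iff.mp hc.2 z hz)
  have h1 : ψ ⟨x, Subgroup.mem_sup_left x.2⟩ ∈ T ⊔ centralizerIn S T := by
    have e : (⟨x, Subgroup.mem_sup_left x.2⟩ : ↥(P ⊔ T)) =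
        ⟨c, hc'⟩ * ⟨t, Subgroup.mem_sup_right ht⟩ := Subtype.ext hct.symm
    rw [e, map_mul]
    exact Subgroup.mul_mem _ (Subgroup.mem_sup_right hψc)
      (Subgroup.mem_sup_left (hT.apply_mem_of_mem hψ ht))
  have h2 := (T ⊔ centralizerIn S T).mul_mem h1 (Subgroup.mem_sup_left (hψe x))
  rwa [mul_inv_cancel_left] at h2

end FusionSystem

end Cfsg
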