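import Cfsg.Prelude.Def_FusionComponents
import Cfsg.Agent.Lib.Fusion.Quotient

/-!
Factor systems of fusion systems modulo strongly closed subgroups.
-/

set_option autoImplicit false

namespace Cfsg

namespace FusionSystem

variable {Ω : Type*} [Group Ω] {S S₀ : Subgroup Ω} {F : FusionSystem S} {P X : Subgroup Ω}
  {Ω' : Type*} [Group Ω'] {θ : S →* Ω'} {P' : Subgroup Ω'}

theorem mem_preimageAlong {x : Ω} :
    x ∈ preimageAlong θ P' ↔ ∃ hx : x ∈ S, θ ⟨x, hx⟩ ∈ P' := by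
  constructor
  · rintro ⟨y, hy, rfl⟩
    exact ⟨y.2, hy⟩
  · rintro ⟨hx, h⟩
    exact ⟨⟨x, hx⟩, h, rfl⟩

theorem preimageAlong_le : preimageAlong θ P' ≤ S := Subgroup.map_subtype_le _

theorem le_preimageAlong (hker : ∀ s : S, θ s = 1 ↔ (s : Ω) ∈ S₀) (hS₀ : S₀ ≤ S) :
    S₀ ≤ preimageAlong θ P' := by
  intro x hx
  refine mem_preimageAlong.mpr ⟨hS₀ hx, ?_⟩
  rw [(hker ⟨x, hS₀ hx⟩).mpr hx]
  exact P'.one_mem

theorem exists_mem_preimageAlong (hP' : P' ≤ θ.range) (y : P') :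
    ∃ (x : Ω) (hx : x ∈ preimageAlong θ P') (hxS : x ∈ S), θ ⟨x, hxS⟩ = y := by
  obtain ⟨s, hs⟩ := hP' y.2
  exact ⟨s, mem_preimageAlong.mpr ⟨s.2, hs ▸ y.2⟩, s.2, hs⟩

/-- A map of the system on a subgroup containing the kernel induces a map on the image. -/
theorem exists_inducedAlong (hker : ∀ s : S, θ s = 1 ↔ (s : Ω) ∈ S₀) (hsc : F.StronglyClosed S₀)
    {φ : X →* Ω} (hφ : φ ∈ F.Hom X) :
    ∃ φ' : ↥(imageAlong θ X) →* Ω', InducedAlong θ φ φ' := by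
  have hX : X ≤ S := F.source_le hφ
  let f : X →* ↥(imageAlong θ X) :=
    (θ.comp (Subgroup.inclusion hX)).codRestrict _ fun x => ⟨Subgroup.inclusion hX x, x.2, rfl⟩
  have hf : Function.Surjective f := by
    rintro ⟨_, s, hs, rfl⟩
    exact ⟨⟨s, hs⟩, rfl⟩
  let g : X →* Ω' := θ.comp (φ.codRestrict S (F.apply_mem hφ))
  have hle : f.ker ≤ g.ker := by
    intro x hx
    have hx' : θ (Subgroup.inclusion hX x) = 1 := congrArg Subtype.val hx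
    exact (hker _).mpr (hsc.apply_mem_of_mem hφ ((hker _).mp hx'))
  refine ⟨f.liftOfSurjective hf ⟨g, hle⟩, hX, F.apply_mem hφ, fun x => (f x).2, fun x => ?_⟩
  exact MonoidHom.liftOfRightInverse_comp_apply f _ (Function.rightInverse_surjInv hf) ⟨g, hle⟩ x

theorem inducedAlong_apply_mem {φ : X →* Ω} (hφ : φ ∈ F.Hom X) {φ' : P' →* Ω'}
    (h : InducedAlong θ φ φ') (x : X) (hx : θ ⟨x, F.source_le hφ x.2⟩ ∈ P') :
    φ' ⟨_, hx⟩ = θ ⟨φ x, F.apply_mem hφ x⟩ := by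
  obtain ⟨hP, hφS, hP'', he⟩ := h
  exact he x

variable (F S₀ θ) in
/-- The factor system modulo the kernel of `θ`. -/
def factorSystem [Finite S] (hker : ∀ s : S, θ s = 1 ↔ (s : Ω) ∈ S₀) (hsc : F.StronglyClosed S₀) :
    FusionSystem θ.range where
  Hom P' := {φ' | P' ≤ θ.range ∧ ∃ φ ∈ F.Hom (preimageAlong θ P'), InducedAlong θ φ φ'}
  le_of_mem := by
    rintro P' φ' ⟨hP', φ, hφ, h⟩
    refine ⟨hP', fun y => ?_⟩
    obtain ⟨x, hx, hxS, e⟩ := exists_mem_preimageAlong hP' y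
    have h1 : θ ⟨x, hxS⟩ ∈ P' := e ▸ y.2
    rw [show y = ⟨θ ⟨x, hxS⟩, h1⟩ from Subtype.ext e.symm]
    exact ⟨_, (inducedAlong_apply_mem hφ h ⟨x, hx⟩ h1).symm⟩
  injective_of_mem := by
    rintro P' φ' ⟨hP', φ, hφ, h⟩
    rw [injective_iff_map_eq_one]
    intro y hy
    obtain ⟨x, hx, hxS, e⟩ := exists_mem_preimageAlong hP' y
    have h1 : θ ⟨x, hxS⟩ ∈ P' := e ▸ y.2
    rw [show y = ⟨θ ⟨x, hxS⟩, h1⟩ from Subtype.ext e.symm] at hy ⊢
    rw [inducedAlong_apply_mem hφ h ⟨x, hx⟩ h1, hker] at hy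
    obtain ⟨i, hi, -, hil, -⟩ := F.exists_inv hφ rfl
    have hmem := hsc.apply_mem_of_mem hi (x := (⟨φ ⟨x, hx⟩, ⟨_, rfl⟩⟩ : φ.range)) hy
    erw [hil ⟨x, hx⟩ ⟨_, rfl⟩] at hmem
    exact Subtype.ext ((hker _).mpr hmem)
  conj_mem := by
    intro P' g hP' hg
    obtain ⟨s, rfl⟩ := hg
    refine ⟨hP', _, F.conj_mem preimageAlong_le s.2, preimageAlong_le,
      fun x => F.apply_mem (F.conj_mem preimageAlong_le s.2) x,
      fun x => (mem_preimageAlong.mp x.2).2, fun x => ?_⟩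
    show θ s * θ ⟨x, _⟩ * (θ s)⁻¹ = _
    rw [← map_inv, ← map_mul, ← map_mul]
    rfl
  comp_mem := by
    rintro P' Q' φ' ψ' ⟨hP', φ, hφ, hi⟩ ⟨hQ', ψ, hψ, hi'⟩ hh
    have hmem : ∀ x : ↥(preimageAlong θ P'), φ x ∈ preimageAlong θ Q' := by
      intro x
      refine mem_preimageAlong.mpr ⟨F.apply_mem hφ x, ?_⟩
      rw [← inducedAlong_apply_mem hφ hi x (mem_preimageAlong.mp x.2).2]
      exact hh _
    refine ⟨hP', _, F.comp_mem hφ hψ hmem, preimageAlong_le,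
      F.apply_mem (F.comp_mem hφ hψ hmem), fun x => (mem_preimageAlong.mp x.2).2, fun x => ?_⟩
    show ψ' ⟨φ' _, hh _⟩ = θ ⟨ψ ⟨φ x, hmem x⟩, _⟩
    rw [← inducedAlong_apply_mem hψ hi' ⟨φ x, hmem x⟩ (mem_preimageAlong.mp (hmem x)).2]
    congr 1
    exact Subtype.ext (inducedAlong_apply_mem hφ hi x _)
  inv_mem := by
    rintro P' φ' ⟨hP', φ, hφ, hi⟩
    obtain ⟨i, hiF, -, hil, -⟩ := F.exists_inv hφ rfl
    obtain ⟨ψ₀, hψ₀⟩ : ∃ ψ : φ'.range →* Ω', ∀ y : P', ψ ⟨φ' y, y, rfl⟩ = y := by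
      have hinj : Function.Injective φ' := by
        rw [injective_iff_map_eq_one]
        intro y hy
        obtain ⟨x, hx, hxS, e⟩ := exists_mem_preimageAlong hP' y
        have h1 : θ ⟨x, hxS⟩ ∈ P' := e ▸ y.2
        rw [show y = ⟨θ ⟨x, hxS⟩, h1⟩ from Subtype.ext e.symm] at hy ⊢
        rw [inducedAlong_apply_mem hφ hi ⟨x, hx⟩ h1, hker] at hy
        have hmem := hsc.apply_mem_of_mem hiF (x := (⟨φ ⟨x, hx⟩, ⟨_, rfl⟩⟩ : φ.range)) hy
        erw [hil ⟨x, hx⟩ ⟨_, rfl⟩] at hmem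
        exact Subtype.ext ((hker _).mpr hmem)
      refine ⟨P'.subtype.comp (MonoidHom.ofInjective hinj).symm.toMonoidHom, fun y => ?_⟩
      show ((MonoidHom.ofInjective hinj).symm ⟨φ' y, y, rfl⟩ : Ω') = y
      congr 1
      rw [MulEquiv.symm_apply_eq]
      rfl
    have hrange : φ'.range ≤ θ.range := by
      rintro _ ⟨y, rfl⟩
      obtain ⟨x, hx, hxS, e⟩ := exists_mem_preimageAlong hP' y
      have h1 : θ ⟨x, hxS⟩ ∈ P' := e ▸ y.2
      rw [show y = ⟨θ ⟨x, hxS⟩, h1⟩ from Subtype.ext e.symm, inducedAlong_apply_mem hφ hi ⟨x, hx⟩ h1]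
      exact ⟨_, rfl⟩
    have hle : preimageAlong θ φ'.range ≤ φ.range := by
      intro z hz
      obtain ⟨hzS, y, hy⟩ := mem_preimageAlong.mp hz
      obtain ⟨x, hx, hxS, e⟩ := exists_mem_preimageAlong hP' y
      have h1 : θ ⟨x, hxS⟩ ∈ P' := e ▸ y.2
      rw [show y = ⟨θ ⟨x, hxS⟩, h1⟩ from Subtype.ext e.symm,
        inducedAlong_apply_mem hφ hi ⟨x, hx⟩ h1] at hy
      have h2 : θ (⟨φ ⟨x, hx⟩, F.apply_mem hφ _⟩⁻¹ * ⟨z, hzS⟩) = 1 := by
        rw [map_mul, map_inv, hy, inv_mul_cancel]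
      have h3 : (φ ⟨x, hx⟩)⁻¹ * z ∈ S₀ := (hker _).mp h2
      obtain ⟨w, -, hw⟩ := (hsc.map_eq hφ (le_preimageAlong hker hsc.1)).ge h3
      exact ⟨⟨x, hx⟩ * w, by rw [map_mul, hw, mul_inv_cancel_left]⟩
    refine ⟨ψ₀, ⟨hrange, _, F.restrict_mem hiF hle, preimageAlong_le,
      F.apply_mem (F.restrict_mem hiF hle), fun x => (mem_preimageAlong.mp x.2).2, fun z => ?_⟩, hψ₀⟩
    obtain ⟨x, hx⟩ := hle z.2
    have h1 := inducedAlong_apply_mem hφ hi x (mem_preimageAlong.mp x.2).2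
    have h2 : i (Subgroup.inclusion hle z) = x := by
      rw [← hil x ⟨x, rfl⟩]
      congr 1
      exact Subtype.ext hx.symm
    have h3 : (⟨θ ⟨z, preimageAlong_le z.2⟩, (mem_preimageAlong.mp z.2).2⟩ : φ'.range) =
        ⟨φ' ⟨_, (mem_preimageAlong.mp x.2).2⟩, _, rfl⟩ := by
      apply Subtype.ext
      show θ _ = φ' _
      rw [h1]
      congr 1
      exact Subtype.ext hx.symm
    show ψ₀ _ = θ ⟨i (Subgroup.inclusion hle z), _⟩
    refine (congrArg ψ₀ h3).trans ((hψ₀ _).trans ?_)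
    show θ _ = θ _
    congr 1
    exact Subtype.ext h2.symm

end FusionSystem

end Cfsg
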