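import Cfsg.Agent.Lib.Fusion.Factor
import Cfsg.Agent.Lib.Fusion.Image
import Cfsg.Agent.Lib.Fusion.Invariant
import Cfsg.Agent.S5134

/-!
Transport of fusion systems and of normal subsystems along injective maps.
-/

set_option autoImplicit false
set_option linter.unusedSectionVars false

namespace Cfsg

namespace FusionSystem

variable {Ω : Type*} [Group Ω] {Ω' : Type*} [Group Ω'] {S : Subgroup Ω} {F : FusionSystem S}
  {S' : Subgroup Ω'} {F' : FusionSystem S'} {f : S →* Ω'}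

theorem stronglyClosed_bot : F.StronglyClosed ⊥ := by
  refine ⟨bot_le, fun R hR φ _ x => ?_⟩
  rw [show x = 1 from Subtype.ext (Subgroup.mem_bot.mp (hR x.2)), map_one]
  exact one_mem _

namespace IsFactorSystem

theorem injective (h : F.IsFactorSystem ⊥ f F') : Function.Injective f :=
  (injective_iff_map_eq_one f).mpr fun a ha => Subtype.ext (Subgroup.mem_bot.mp ((h.2.1 a).mp ha))

theorem apply_mem (h : F.IsFactorSystem ⊥ f F') (s : S) : f s ∈ S' := h.2.2.1.le ⟨s, rfl⟩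

theorem preimage_imageAlong (h : F.IsFactorSystem ⊥ f F') (P : Subgroup Ω) :
    preimageAlong f (imageAlong f P) ≤ P := by
  intro x hx
  obtain ⟨hxS, s, hs, e⟩ := mem_preimageAlong.mp hx
  have he : (s : Ω) = x := congrArg Subtype.val (h.injective e)
  exact he ▸ hs

/-- Maps transported forwards. -/
theorem up (h : F.IsFactorSystem ⊥ f F') {P : Subgroup Ω} {φ : P →* Ω} (hφ : φ ∈ F.Hom P) :
    ∃ φ' ∈ F'.Hom (imageAlong f P), ∀ (x : P) (hx : (x : Ω) ∈ S) (hm : f ⟨x, hx⟩ ∈ imageAlong f P),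
      φ' ⟨_, hm⟩ = f ⟨φ x, F.apply_mem hφ x⟩ := by
  obtain ⟨φ', hi⟩ := exists_inducedAlong h.2.1 stronglyClosed_bot hφ
  have himg : imageAlong f P ≤ S' := by
    rintro _ ⟨s, -, rfl⟩
    exact h.apply_mem s
  obtain ⟨hP, hφS, hmem, he⟩ := hi
  refine ⟨φ', (h.2.2.2 _ _).mpr ⟨himg, _, F.restrict_mem hφ (h.preimage_imageAlong P), preimageAlong_le,
    F.apply_mem (F.restrict_mem hφ (h.preimage_imageAlong P)), fun x => (mem_preimageAlong.mp x.2).2,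
    fun x => he (Subgroup.inclusion (h.preimage_imageAlong P) x)⟩, fun x hx hm => he x⟩

/-- Maps transported backwards. -/
theorem down (h : F.IsFactorSystem ⊥ f F') {P' : Subgroup Ω'} {φ' : P' →* Ω'} (hφ' : φ' ∈ F'.Hom P') :
    ∃ (φ : ↥(preimageAlong f P') →* Ω) (hφ : φ ∈ F.Hom (preimageAlong f P')),
      ∀ (x : ↥(preimageAlong f P')) (hx : (x : Ω) ∈ S) (hm : f ⟨x, hx⟩ ∈ P'),
        φ' ⟨_, hm⟩ = f ⟨φ x, F.apply_mem hφ x⟩ := by
  obtain ⟨-, φ, hφ, hP, hφS, hmem, he⟩ := (h.2.2.2 P' φ').mp hφ'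
  exact ⟨φ, hφ, fun x hx hm => he x⟩

theorem exists_preimage (h : F.IsFactorSystem ⊥ f F') {P' : Subgroup Ω'} (hP' : P' ≤ S') (y : P') :
    ∃ (x : Ω) (hx : x ∈ S), x ∈ preimageAlong f P' ∧ f ⟨x, hx⟩ = y := by
  obtain ⟨x, hx, hxS, e⟩ := exists_mem_preimageAlong (θ := f) (hP'.trans h.2.2.1.ge) y
  exact ⟨x, hxS, hx, e⟩

end IsFactorSystem

/-- A transported system. -/
theorem exists_isFactorSystem_bot [Finite S] (F : FusionSystem S) (f : S →* Ω') (hf : Function.Injective f)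
    {U' : Subgroup Ω'} (hU' : f.range = U') : ∃ F' : FusionSystem U', F.IsFactorSystem ⊥ f F' := by
  subst hU'
  have hker : ∀ s : S, f s = 1 ↔ (s : Ω) ∈ (⊥ : Subgroup Ω) := fun s => by
    rw [map_eq_one_iff f hf, Subgroup.mem_bot, OneMemClass.coe_eq_one]
  exact ⟨factorSystem (⊥ : Subgroup Ω) F f hker stronglyClosed_bot, bot_le, hker, rfl, fun P' φ' => Iff.rfl⟩

theorem IsFactorSystem.isSaturated {p : ℕ} [Fact p.Prime] [Finite S] (h : F.IsFactorSystem ⊥ f F')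
    (hS : IsPGroup p S) (hF : F.IsSaturated p) : F'.IsSaturated p :=
  (Cfsg.Agent.S5134.result p hS F hF ⊥ stronglyClosed_bot f F' h).isSaturated hS hF

theorem range_comp_inclusion {U : Subgroup Ω} (hU : U ≤ S) :
    (f.comp (Subgroup.inclusion hU)).range = imageAlong f U := by
  ext y
  constructor
  · rintro ⟨u, rfl⟩
    exact ⟨Subgroup.inclusion hU u, u.2, rfl⟩
  · rintro ⟨s, hs, rfl⟩
    exact ⟨⟨s, hs⟩, rfl⟩

theorem mem_imageAlong_iff (hf : Function.Injective f) {U : Subgroup Ω} {x : Ω} (hx : x ∈ S) :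
    f ⟨x, hx⟩ ∈ imageAlong f U ↔ x ∈ U := by
  constructor
  · rintro ⟨s, hs, e⟩
    have he : (s : Ω) = x := congrArg Subtype.val (hf e)
    exact he ▸ hs
  · exact fun h => ⟨⟨x, hx⟩, h, rfl⟩

/-- A normal subsystem is carried to a normal subsystem. -/
theorem IsFactorSystem.exists_isNormalIn {p : ℕ} [Fact p.Prime] [Finite S] (h : F.IsFactorSystem ⊥ f F')
    (hS : IsPGroup p S) {U : Subgroup Ω} {E : FusionSystem U} (hE : E.IsNormalIn F p) :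
    ∃ (E' : FusionSystem (imageAlong f U)) (hU : U ≤ S),
      E'.IsNormalIn F' p ∧ E.IsFactorSystem ⊥ (f.comp (Subgroup.inclusion hU)) E' := by
  obtain ⟨⟨hEsat, hF, hinv⟩, hext⟩ := id hE
  have hst := hinv.strongInvariance
  obtain ⟨hsub, hU, -, -⟩ := hinv
  have hUS := hU.1
  haveI := finite_of_le hUS
  have hinj := h.injective
  obtain ⟨E', hE'⟩ := exists_isFactorSystem_bot E (f.comp (Subgroup.inclusion hUS))
    (hinj.comp (Subgroup.inclusion_injective hUS)) (range_comp_inclusion hUS)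
  have hU'S : imageAlong f U ≤ S' := by
    rintro _ ⟨s, -, rfl⟩
    exact h.apply_mem s
  have hpre : ∀ {P' : Subgroup Ω'}, P' ≤ imageAlong f U → ∀ y : P',
      ∃ (x : Ω) (hx : x ∈ U), x ∈ preimageAlong (f.comp (Subgroup.inclusion hUS)) P' ∧
        f ⟨x, hUS hx⟩ = y := fun {P'} hP' y => hE'.exists_preimage hP' y
  have hS'p : IsPGroup p S' := h.2.2.1 ▸ hS.of_surjective f.rangeRestrict f.rangeRestrict_surjective
  haveI : Finite S' := h.2.2.1 ▸ Finite.of_surjective f.rangeRestrict f.rangeRestrict_surjective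
  have hF' : F'.IsSaturated p := h.isSaturated hS hF
  have hsub' : E'.IsSubsystemOf F' := by
    intro P' φ' hφ'
    have hP' := E'.source_le hφ'
    obtain ⟨φ, hφ, he⟩ := hE'.down hφ'
    obtain ⟨χ, hχ, hχe⟩ := h.up (hsub _ hφ)
    have hle : P' ≤ imageAlong f (preimageAlong (f.comp (Subgroup.inclusion hUS)) P') := fun y hy => by
      obtain ⟨x, hx, hxP, e⟩ := hpre hP' ⟨y, hy⟩
      exact ⟨⟨x, hUS hx⟩, hxP, e⟩
    refine F'.mem_of_restrict hχ hle fun y hy => ?_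
    obtain ⟨x, hx, hxP, e⟩ := hpre hP' ⟨y, hy⟩
    have hm : f ⟨x, hUS hx⟩ ∈ P' := e.symm ▸ hy
    have hm' : f ⟨x, hUS hx⟩ ∈ imageAlong f (preimageAlong (f.comp (Subgroup.inclusion hUS)) P') := hle hm
    calc φ' ⟨y, hy⟩ = φ' ⟨f ⟨x, hUS hx⟩, hm⟩ := congrArg φ' (Subtype.ext e.symm)
      _ = f ⟨φ ⟨x, hxP⟩, hUS (E.apply_mem hφ _)⟩ := he ⟨x, hxP⟩ hx hm
      _ = χ ⟨_, hm'⟩ := (hχe ⟨x, hxP⟩ (hUS hx) hm').symm
      _ = χ ⟨y, hle hy⟩ := congrArg χ (Subtype.ext e)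
  have hsc : F'.StronglyClosed (imageAlong f U) := by
    refine ⟨hU'S, fun R' hR' φ' hφ' y => ?_⟩
    obtain ⟨φ, hφ, he⟩ := h.down hφ'
    obtain ⟨x, hx, hxR, e⟩ := h.exists_preimage (hR'.trans hU'S) y
    have hxU : x ∈ U := (mem_imageAlong_iff hinj hx).mp (e.symm ▸ hR' y.2)
    have hm : f ⟨x, hx⟩ ∈ R' := e.symm ▸ y.2
    rw [show y = ⟨_, hm⟩ from Subtype.ext e.symm, he ⟨x, hxR⟩ hx hm]
    exact ⟨_, hU.apply_mem_of_mem hφ (x := ⟨x, hxR⟩) hxU, rfl⟩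
  refine ⟨E', hUS, ⟨⟨hE'.isSaturated (hS.to_le hUS) hEsat, hF',
    StrongInvariance.isInvariantIn hF' hS'p hsc hsub' ?_⟩, ?_⟩, hE'⟩
  · intro P' Q' hPQ hQU φ' hφ' hφQ ψ' hψ'
    obtain ⟨φ, hφ, he⟩ := hE'.down hφ'
    obtain ⟨ψ, hψ, hψe⟩ := h.down hψ'
    have hQU0 : preimageAlong f Q' ≤ U := fun x hx => by
      obtain ⟨hxS, hm⟩ := mem_preimageAlong.mp hx
      exact (mem_imageAlong_iff hinj hxS).mp (hQU hm)
    have hPQ0 : preimageAlong (f.comp (Subgroup.inclusion hUS)) P' ≤ preimageAlong f Q' := fun x hx => by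
      obtain ⟨hxU, hm⟩ := mem_preimageAlong.mp hx
      exact mem_preimageAlong.mpr ⟨hUS hxU, hPQ hm⟩
    have hφQ0 : ∀ x : ↥(preimageAlong (f.comp (Subgroup.inclusion hUS)) P'), φ x ∈ preimageAlong f Q' := by
      intro x
      obtain ⟨hxU, hm⟩ := mem_preimageAlong.mp x.2
      refine mem_preimageAlong.mpr ⟨hUS (E.apply_mem hφ x), ?_⟩
      have h1 := hφQ ⟨_, hm⟩
      rw [he x hxU hm] at h1
      exact h1
    obtain ⟨χ, hχ, hχe⟩ := hst _ _ hPQ0 hQU0 φ hφ hφQ0 ψ hψ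
    obtain ⟨χ', hχ', hχ'e⟩ := hE'.up hχ
    have hψU : ∀ z : ↥(preimageAlong f Q'), ψ z ∈ U := fun z => hU.apply_mem_of_mem hψ (hQU0 z.2)
    have hcomp : ∀ (x : Ω) (hx : x ∈ U) (hxP : x ∈ preimageAlong (f.comp (Subgroup.inclusion hUS)) P')
        (hm : f ⟨x, hUS hx⟩ ∈ Q'),
        ψ' ⟨_, hm⟩ = f ⟨ψ ⟨x, hPQ0 hxP⟩, F.apply_mem hψ _⟩ := fun x hx hxP hm =>
      hψe ⟨x, hPQ0 hxP⟩ (hUS hx) hm
    have hle : (P'.subgroupOf Q').map ψ' ≤ imageAlong (f.comp (Subgroup.inclusion hUS))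
        (((preimageAlong (f.comp (Subgroup.inclusion hUS)) P').subgroupOf (preimageAlong f Q')).map ψ) := by
      rintro _ ⟨z, hz, rfl⟩
      obtain ⟨x, hx, hxP, e⟩ := hpre (hPQ.trans hQU) ⟨z, hz⟩
      have hm : f ⟨x, hUS hx⟩ ∈ Q' := by rw [e]; exact z.2
      refine ⟨⟨ψ ⟨x, hPQ0 hxP⟩, hψU _⟩, ⟨⟨x, hPQ0 hxP⟩, hxP, rfl⟩, ?_⟩
      exact (hcomp x hx hxP hm).symm.trans (congrArg ψ' (Subtype.ext e))
    refine ⟨_, E'.restrict_mem hχ' hle, fun z hz => ?_⟩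
    obtain ⟨x, hx, hxP, e⟩ := hpre (hPQ.trans hQU) z
    have hm : f ⟨x, hUS hx⟩ ∈ Q' := by rw [e]; exact hPQ z.2
    have hmP : f ⟨x, hUS hx⟩ ∈ P' := by rw [e]; exact z.2
    let x₀ : ↥(preimageAlong (f.comp (Subgroup.inclusion hUS)) P') := ⟨x, hxP⟩
    have hψx : ψ (Subgroup.inclusion hPQ0 x₀) ∈
        ((preimageAlong (f.comp (Subgroup.inclusion hUS)) P').subgroupOf (preimageAlong f Q')).map ψ :=
      ⟨Subgroup.inclusion hPQ0 x₀, hxP, rfl⟩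
    have hmm : (f.comp (Subgroup.inclusion hUS)) ⟨_, hψU (Subgroup.inclusion hPQ0 x₀)⟩ ∈
        imageAlong (f.comp (Subgroup.inclusion hUS))
          (((preimageAlong (f.comp (Subgroup.inclusion hUS)) P').subgroupOf (preimageAlong f Q')).map ψ) :=
      ⟨⟨_, hψU _⟩, hψx, rfl⟩
    have h1 : ψ' (Subgroup.inclusion hPQ z) = f ⟨_, F.apply_mem hψ (Subgroup.inclusion hPQ0 x₀)⟩ :=
      (congrArg ψ' (Subtype.ext e.symm : Subgroup.inclusion hPQ z = ⟨_, hm⟩)).trans (hcomp x hx hxP hm)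
    refine (congrArg χ' (Subtype.ext h1 : Subgroup.inclusion hle ⟨_, hz⟩ = ⟨_, hmm⟩)).trans ?_
    refine (hχ'e ⟨_, hψx⟩ (hψU _) hmm).trans ?_
    have h2 : φ' z = f ⟨φ x₀, hUS (E.apply_mem hφ x₀)⟩ :=
      (congrArg φ' (Subtype.ext e.symm : z = ⟨_, hmP⟩)).trans (he x₀ hx hmP)
    have hm2 : f ⟨φ x₀, hUS (E.apply_mem hφ x₀)⟩ ∈ Q' := h2 ▸ hφQ z
    refine Eq.trans ?_ (congrArg ψ' (Subtype.ext h2.symm : (⟨_, hm2⟩ : Q') = ⟨φ' z, hφQ z⟩))
    refine Eq.trans ?_ (hψe ⟨φ x₀, hφQ0 x₀⟩ _ hm2).symm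
    exact congrArg f (Subtype.ext (hχe x₀ hψx))
  intro α' hα'
  obtain ⟨φ', hφ', hr', he'⟩ := E'.exists_map_of_mem_autGroup le_rfl hα'
  obtain ⟨φ, hφ, he⟩ := hE'.down hφ'
  have hUpre : U ≤ preimageAlong (f.comp (Subgroup.inclusion hUS)) (imageAlong f U) := fun x hx =>
    mem_preimageAlong.mpr ⟨hx, ⟨⟨x, hUS hx⟩, hx, rfl⟩⟩
  have hφU := E.restrict_mem hφ hUpre
  have hrU : (φ.comp (Subgroup.inclusion hUpre)).range = U :=
    Subgroup.eq_of_le_of_card_ge (E.range_le hφU)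
      (Nat.card_congr (MonoidHom.ofInjective (E.injective_of_mem hφU)).toEquiv).le
  obtain ⟨β, hβ, hβ1, hβ2⟩ := hext (E.isoOf hφU hrU) (E.isoOf_mem_autGroup hφU hrU)
  have hWS : U ⊔ centralizerIn S U ≤ S := sup_le hUS inf_le_left
  obtain ⟨b, hb, -, hbe⟩ := F.exists_map_of_mem_autGroup hWS hβ
  obtain ⟨b', hb', hb'e⟩ := h.up hb
  have hW : imageAlong f (U ⊔ centralizerIn S U) = imageAlong f U ⊔ centralizerIn S' (imageAlong f U) := by
    have hCS : centralizerIn S U ≤ S := inf_le_left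
    rw [imageAlong, Subgroup.subgroupOf_sup hUS hCS, Subgroup.map_sup]
    congr 1
    ext y
    constructor
    · rintro ⟨c, hc, rfl⟩
      refine ⟨h.apply_mem c, Subgroup.mem_centralizer_iff.mpr ?_⟩
      rintro _ ⟨u, hu, rfl⟩
      rw [← map_mul, ← map_mul]
      exact congrArg f (Subtype.ext (Subgroup.mem_centralizer_iff.mp hc.2 _ hu))
    · rintro ⟨hy, hyc⟩
      obtain ⟨c, rfl⟩ := h.2.2.1.ge hy
      refine ⟨c, ⟨c.2, Subgroup.mem_centralizer_iff.mpr fun u hu => ?_⟩, rfl⟩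
      have h1 : (⟨u, hUS hu⟩ : S) * c = c * ⟨u, hUS hu⟩ :=
        hinj (by rw [map_mul, map_mul]; exact Subgroup.mem_centralizer_iff.mp hyc _ ⟨_, hu, rfl⟩)
      exact congrArg Subtype.val h1
  have hb'' : b'.comp (Subgroup.inclusion hW.ge) ∈ F'.Hom _ := F'.restrict_mem hb' hW.ge
  have hrW : (b'.comp (Subgroup.inclusion hW.ge)).range = imageAlong f U ⊔ centralizerIn S' (imageAlong f U) := by
    have hle : (b'.comp (Subgroup.inclusion hW.ge)).range ≤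
        imageAlong f U ⊔ centralizerIn S' (imageAlong f U) := by
      rintro _ ⟨y, rfl⟩
      obtain ⟨s, hs, e⟩ : (y : Ω') ∈ imageAlong f (U ⊔ centralizerIn S U) := hW.ge y.2
      have hm : f ⟨s, s.2⟩ ∈ imageAlong f (U ⊔ centralizerIn S U) := ⟨s, hs, rfl⟩
      have h1 : b' (Subgroup.inclusion hW.ge y) = f ⟨b ⟨s, hs⟩, F.apply_mem hb _⟩ :=
        (congrArg b' (Subtype.ext e.symm : Subgroup.inclusion hW.ge y = ⟨_, hm⟩)).trans
          (hb'e ⟨s, hs⟩ s.2 hm)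
      show b' (Subgroup.inclusion hW.ge y) ∈ _
      rw [h1, ← hW]
      exact ⟨_, show b ⟨s, hs⟩ ∈ U ⊔ centralizerIn S U from hbe ⟨s, hs⟩ ▸ SetLike.coe_mem _, rfl⟩
    haveI := finite_of_le (sup_le hU'S inf_le_left : imageAlong f U ⊔ centralizerIn S' (imageAlong f U) ≤ S')
    exact Subgroup.eq_of_le_of_card_ge hle
      (Nat.card_congr (MonoidHom.ofInjective (F'.injective_of_mem hb'')).toEquiv).le
  refine ⟨F'.isoOf hb'' hrW, F'.isoOf_mem_autGroup hb'' hrW, fun y => ?_, fun c hc => ?_⟩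
  · obtain ⟨x, hx, hxP, e⟩ := hpre le_rfl y
    have hm : f ⟨x, hUS hx⟩ ∈ imageAlong f U := e.symm ▸ y.2
    have hm' : f ⟨x, hUS hx⟩ ∈ imageAlong f (U ⊔ centralizerIn S U) :=
      ⟨⟨x, hUS hx⟩, Subgroup.mem_sup_left hx, rfl⟩
    show b' (Subgroup.inclusion hW.ge (Subgroup.inclusion le_sup_left y)) = _
    rw [← he' y, show y = ⟨_, hm⟩ from Subtype.ext e.symm]
    refine ((hb'e ⟨x, Subgroup.mem_sup_left hx⟩ (hUS hx) hm').trans ?_).trans
      (he ⟨x, hxP⟩ hx hm).symm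
    refine congrArg f (Subtype.ext ?_)
    exact (hbe _).trans (hβ1 ⟨x, hx⟩)
  · obtain ⟨s, hs⟩ := h.2.2.1.ge hc.1
    have hsW : (s : Ω) ∈ centralizerIn S U := ⟨s.2, Subgroup.mem_centralizer_iff.mpr fun u hu => by
      have h1 : (⟨u, hUS hu⟩ : S) * s = s * ⟨u, hUS hu⟩ := hinj (by
        rw [map_mul, map_mul, hs]; exact Subgroup.mem_centralizer_iff.mp hc.2 _ ⟨_, hu, rfl⟩)
      exact congrArg Subtype.val h1⟩
    have hm' : f ⟨s, s.2⟩ ∈ imageAlong f (U ⊔ centralizerIn S U) := ⟨s, Subgroup.mem_sup_right hsW, rfl⟩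
    let w : ↥(U ⊔ centralizerIn S U) := ⟨s, Subgroup.mem_sup_right hsW⟩
    have h1 : ((F'.isoOf hb'' hrW c : _) : Ω') = f ⟨b w, F.apply_mem hb w⟩ :=
      (congrArg b' (Subtype.ext hs.symm : Subgroup.inclusion hW.ge c = ⟨_, hm'⟩)).trans (hb'e w s.2 hm')
    have h2 := hβ2 w hsW
    rw [← hbe] at h2
    have h3 : (c : Ω')⁻¹ * ((F'.isoOf hb'' hrW c : _) : Ω') = f ⟨(w : Ω)⁻¹ * b w, hUS h2.1⟩ := by
      rw [h1, ← hs, ← map_inv, ← map_mul]
      rfl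
    rw [h3]
    refine ⟨⟨_, h2.1, rfl⟩, Subgroup.mem_centralizer_iff.mpr ?_⟩
    rintro _ ⟨u, hu, rfl⟩
    rw [← map_mul, ← map_mul]
    exact congrArg f (Subtype.ext (Subgroup.mem_centralizer_iff.mp h2.2 _ hu))

/-- A system realized on a Sylow subgroup is a copy of the system of the group. -/
theorem IsRealizedBy.isFactorSystem {G : Type*} [Group G] {ι : S →* G} (h : F.IsRealizedBy ι)
    {T : Subgroup G} (hT : T = ι.range) :
    ∃ β : T →* Ω, (groupFusionSystem T).IsFactorSystem ⊥ β F ∧ ∀ t : T, ∃ hm : β t ∈ S, ι ⟨β t, hm⟩ = t := by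
  obtain ⟨hinj, hreal⟩ := h
  let e : S ≃* T := (MonoidHom.ofInjective hinj).trans (MulEquiv.subgroupCongr hT.symm)
  let β : T →* Ω := S.subtype.comp e.symm.toMonoidHom
  have hβ : ∀ t, β t ∈ S := fun t => SetLike.coe_mem _
  have hβι : ∀ (t : T) (hm : β t ∈ S), ι ⟨β t, hm⟩ = t := fun t hm => by
    show ι (e.symm t) = _
    exact congrArg Subtype.val (e.apply_symm_apply t)
  have hι : ∀ s : S, ι s ∈ T := fun s => hT.ge ⟨s, rfl⟩
  have hβe : ∀ (s : S), β ⟨ι s, hι s⟩ = s := fun s => by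
    show ((e.symm (e s) : S) : Ω) = s
    rw [MulEquiv.symm_apply_apply]
  refine ⟨β, ⟨bot_le, fun t => ?_, ?_, fun P' φ' => ?_⟩, fun t => ⟨hβ t, hβι t _⟩⟩
  · rw [Subgroup.mem_bot, OneMemClass.coe_eq_one]
    exact map_eq_one_iff β (S.subtype_injective.comp e.symm.injective)
  · ext y
    constructor
    · rintro ⟨t, rfl⟩
      exact hβ t
    · intro hy
      exact ⟨⟨ι ⟨y, hy⟩, hι _⟩, hβe ⟨y, hy⟩⟩
  constructor
  · intro hφ'
    have hP' := F.source_le hφ'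
    obtain ⟨g, hg⟩ := (hreal P' hP' φ' (F.apply_mem hφ')).mp hφ'
    have hval : ∀ x : ↥(preimageAlong β P'), g * (x : G) * g⁻¹ =
        ι ⟨φ' ⟨β ⟨x, preimageAlong_le x.2⟩, (mem_preimageAlong.mp x.2).2⟩, F.apply_mem hφ' _⟩ := fun x => by
      rw [hg]
      show g * _ * g⁻¹ = g * ι ⟨β _, _⟩ * g⁻¹
      rw [hβι]
    have hT' : ∀ x ∈ preimageAlong β P', g * x * g⁻¹ ∈ T := fun x hx => by
      rw [hval ⟨x, hx⟩]
      exact hι _
    refine ⟨hP', conjHom _ g, conjHom_mem_groupFusionSystem preimageAlong_le hT', preimageAlong_le,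
      fun x => hT' x x.2, fun x => (mem_preimageAlong.mp x.2).2, fun x => ?_⟩
    show _ = β ⟨g * x * g⁻¹, _⟩
    have h2 : (⟨g * (x : G) * g⁻¹, hT' x x.2⟩ : T) = ⟨_, hι ⟨φ' _, F.apply_mem hφ' _⟩⟩ := Subtype.ext (hval x)
    rw [h2]
    exact (hβe ⟨φ' _, F.apply_mem hφ' _⟩).symm
  · rintro ⟨hP', φ, hφ, hPT, hφT, hm, he⟩
    have hall : ∀ y : P', ∃ x : ↥(preimageAlong β P'), β ⟨x, hPT x.2⟩ = y := fun y =>
      ⟨⟨ι ⟨y, hP' y.2⟩, mem_preimageAlong.mpr ⟨hι _, (hβe ⟨(y : Ω), hP' y.2⟩).symm ▸ y.2⟩⟩,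
        hβe ⟨(y : Ω), hP' y.2⟩⟩
    have hval : ∀ y : P', φ' y ∈ S := fun y => by
      obtain ⟨x, hx⟩ := hall y
      rw [show y = ⟨_, hm x⟩ from Subtype.ext hx.symm, he x]
      exact hβ _
    obtain ⟨-, -, g, hg⟩ := hφ
    refine (hreal P' hP' φ' hval).mpr ⟨g, fun y => ?_⟩
    obtain ⟨x, hx⟩ := hall y
    have h1 : φ' y = β ⟨φ x, hφT x⟩ := by
      rw [show y = ⟨_, hm x⟩ from Subtype.ext hx.symm, he x]
    rw [show (⟨φ' y, hval y⟩ : S) = ⟨β ⟨φ x, hφT x⟩, hβ _⟩ from Subtype.ext h1, hβι,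
      show (⟨(y : Ω), hP' y.2⟩ : S) = ⟨β ⟨x, hPT x.2⟩, hβ _⟩ from Subtype.ext hx.symm, hβι]
    exact hg x

end FusionSystem

end Cfsg
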