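import Cfsg.Agent.Lib.Fusion.ConstrainedSubnormal
import Cfsg.Agent.Lib.Fusion.Transport
import Mathlib.GroupTheory.IsSubnormal

/-!
Constrained fusion systems of subnormal subgroups and of central quotients.
-/

set_option autoImplicit false
set_option linter.unusedSectionVars false

universe u

namespace Cfsg

namespace FusionSystem

section

variable {Ω : Type*} [Group Ω] {Ω' : Type*} [Group Ω'] {S : Subgroup Ω} {F : FusionSystem S}
  {S' : Subgroup Ω'} {F' : FusionSystem S'} {f : S →* Ω'} {p : ℕ}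

theorem IsFactorSystem.isConstrained_of [Finite S] (h : F.IsFactorSystem ⊥ f F') (hF : F.IsSaturated p)
    (hF' : F'.IsConstrained p) : F.IsConstrained p := by
  obtain ⟨-, Q', hQ', hQc⟩ := hF'
  have hinj := h.injective
  set Q := preimageAlong f Q' with hQdef
  have hQS : Q ≤ S := preimageAlong_le
  haveI := finite_of_le hQS
  have hnormal : F.IsNormal Q := by
    refine ⟨hQS, fun P φ hφ => ?_⟩
    have hPS := F.source_le hφ
    obtain ⟨φ', hφ', he'⟩ := h.up hφ
    obtain ⟨ψ', hψ', hψe', hψQ'⟩ := hQ'.2 _ φ' hφ'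
    obtain ⟨ψ, hψ, hψe⟩ := h.down hψ'
    have hle : P ⊔ Q ≤ preimageAlong f (imageAlong f P ⊔ Q') := by
      refine sup_le (fun x hx => mem_preimageAlong.mpr ⟨hPS hx, Subgroup.mem_sup_left ⟨⟨x, hPS hx⟩, hx, rfl⟩⟩)
        fun x hx => ?_
      obtain ⟨hxS, hm⟩ := mem_preimageAlong.mp hx
      exact mem_preimageAlong.mpr ⟨hxS, Subgroup.mem_sup_right hm⟩
    have hres := F.restrict_mem hψ hle
    refine ⟨_, hres, fun x => ?_, ?_⟩
    · have hm : f ⟨x, hPS x.2⟩ ∈ imageAlong f P := ⟨⟨x, hPS x.2⟩, x.2, rfl⟩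
      have h1 : f ⟨ψ (Subgroup.inclusion hle (Subgroup.inclusion le_sup_left x)), F.apply_mem hψ _⟩ =
          f ⟨φ x, F.apply_mem hφ x⟩ :=
        (hψe _ (hPS x.2) (Subgroup.mem_sup_left hm)).symm.trans ((hψe' ⟨_, hm⟩).trans (he' x (hPS x.2) hm))
      exact congrArg Subtype.val (hinj h1)
    · refine Subgroup.eq_of_le_of_card_ge ?_ ?_
      · rintro _ ⟨⟨x, hx⟩, hxQ, rfl⟩
        obtain ⟨hxS, hm⟩ := mem_preimageAlong.mp (hxQ : x ∈ Q)
        refine mem_preimageAlong.mpr ⟨F.apply_mem hres _, ?_⟩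
        exact (hψe (Subgroup.inclusion hle ⟨x, hx⟩) hxS (Subgroup.mem_sup_right hm)) ▸
          hψQ'.le ⟨⟨_, Subgroup.mem_sup_right hm⟩, hm, rfl⟩
      · rw [Subgroup.card_map_of_injective (F.injective_of_mem hres),
          Nat.card_congr (Subgroup.subgroupOfEquivOfLe (le_sup_right : Q ≤ P ⊔ Q)).toEquiv]
  refine ⟨hF, Q, hnormal, hQS, fun R hR => ?_⟩
  obtain ⟨φ, hφ, rfl⟩ := hR
  have hr : φ.range = Q := by
    have := hnormal.stronglyClosed.map_eq hφ le_rfl
    rwa [Subgroup.subgroupOf_self, ← MonoidHom.range_eq_map] at this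
  rw [hr]
  rintro x ⟨hxS, hxC⟩
  haveI : Finite S' := h.2.2.1 ▸ Finite.of_surjective f.rangeRestrict f.rangeRestrict_surjective
  refine mem_preimageAlong.mpr ⟨hxS, hQc.centralizerIn_le_self ⟨h.apply_mem _, ?_⟩⟩
  refine Subgroup.mem_centralizer_iff.mpr fun y hy => ?_
  obtain ⟨z, hzS, hz, e⟩ := h.exists_preimage hQ'.1 ⟨y, hy⟩
  have e' : f ⟨z, hzS⟩ = y := e
  rw [← e', ← map_mul, ← map_mul]
  exact congrArg f (Subtype.ext (Subgroup.mem_centralizer_iff.mp hxC z hz))

end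

variable {G : Type u} [Group G] [Finite G] {p : ℕ} [Fact p.Prime]

theorem fusionSystemOfSubgroup_isRealizedBy {H T : Subgroup G} (hTH : T ≤ H) :
    (fusionSystemOfSubgroup H T hTH).IsRealizedBy (Subgroup.inclusion hTH) := by
  refine ⟨Subgroup.inclusion_injective _, fun P hP φ hφ => ?_⟩
  constructor
  · rintro ⟨-, -, h, hh, he⟩
    exact ⟨⟨h, hh⟩, fun x => Subtype.ext (he x)⟩
  · rintro ⟨h, he⟩
    exact ⟨hP, hφ, h, h.2, fun x => congrArg Subtype.val (he x)⟩

theorem isConstrained_of_isSubnormal (S : Sylow p G) (hF : (groupFusionSystem (S : Subgroup G)).IsConstrained p)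
    {H : Subgroup G} (hH : H.IsSubnormal) :
    (groupFusionSystem ((S : Subgroup G).subgroupOf H)).IsConstrained p := by
  suffices key : IsSylowIn p ((S : Subgroup G) ⊓ H) H ∧
      (fusionSystemOfSubgroup H ((S : Subgroup G) ⊓ H) inf_le_right).IsConstrained p by
    obtain ⟨R, hR⟩ := (isSylowIn_iff (inf_le_right : (S : Subgroup G) ⊓ H ≤ H)).mp key.1
    have hsub : (S : Subgroup G).subgroupOf H = (R : Subgroup H) := by
      rw [hR, Subgroup.inf_subgroupOf_right]
    rw [hsub]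
    obtain ⟨β, hβ, -⟩ := (fusionSystemOfSubgroup_isRealizedBy
      (inf_le_right : (S : Subgroup G) ⊓ H ≤ H)).isFactorSystem (T := (R : Subgroup H))
        (by rw [hR, Subgroup.inclusion_range])
    exact hβ.isConstrained_of (groupFusionSystem_isSaturated R) key.2
  have hsat : ∀ {K : Subgroup G}, IsSylowIn p ((S : Subgroup G) ⊓ K) K →
      (fusionSystemOfSubgroup K ((S : Subgroup G) ⊓ K) inf_le_right).IsSaturated p := fun {K} hK => by
    obtain ⟨R, hR⟩ := (isSylowIn_iff (inf_le_right : (S : Subgroup G) ⊓ K ≤ K)).mp hK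
    exact (fusionSystemOfSubgroup_isRealizedBy inf_le_right).isSaturated R
      (by rw [hR, Subgroup.inclusion_range])
  induction hH with
  | top =>
    have hS : IsSylowIn p ((S : Subgroup G) ⊓ ⊤) ⊤ := ⟨le_top, S.2.to_le inf_le_left, by
      rw [inf_top_eq, Subgroup.relIndex_top_right]; exact S.not_dvd_index⟩
    refine ⟨hS, hF.of_subsystem S.2 (hsat hS) ?_ ⟨inf_le_left, fun P hP φ hφ x =>
      ⟨(groupFusionSystem (S : Subgroup G)).apply_mem hφ x, trivial⟩⟩⟩
    rintro P φ ⟨hP, hφ, g, -, he⟩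
    exact ⟨hP.trans inf_le_left, fun x => (hφ x).1, g, he⟩
  | step H K hle _ hN ih =>
    obtain ⟨hK, hKc⟩ := ih
    have hnorm : K ≤ Subgroup.normalizer (H : Set G) := (Subgroup.normal_subgroupOf_iff_le_normalizer hle).mp hN
    have hHs : IsSylowIn p ((S : Subgroup G) ⊓ H) H := by
      have h1 := hK.inf_of_normal hle hnorm
      rwa [inf_assoc, inf_eq_right.mpr hle] at h1
    refine ⟨hHs, hKc.of_subsystem (S.2.to_le inf_le_left) (hsat hHs) ?_ ⟨inf_le_inf_left _ hle, ?_⟩⟩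
    · rintro P φ ⟨hP, hφ, g, hg, he⟩
      exact ⟨hP.trans (inf_le_inf_left _ hle), fun x => ⟨(hφ x).1, hle (hφ x).2⟩, g, hle hg, he⟩
    · rintro P hP φ ⟨-, hφ, g, hg, he⟩ x
      exact ⟨(hφ x).1, by rw [he]; exact (Subgroup.mem_normalizer_iff.mp (hnorm hg) _).mp (hP x.2).2⟩

theorem IsConstrained.quotient_central (R : Sylow p G) (hF : (groupFusionSystem (R : Subgroup G)).IsConstrained p)
    (Z : Subgroup G) [Z.Normal] (hZ : Z ≤ Subgroup.center G) :
    (groupFusionSystem ((R : Subgroup G).map (QuotientGroup.mk' Z))).IsConstrained p := by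
  set F := groupFusionSystem (R : Subgroup G)
  set π := QuotientGroup.mk' Z
  have hπ : ∀ x, π x = 1 ↔ x ∈ Z := fun x => QuotientGroup.eq_one_iff x
  have hsatbar : (groupFusionSystem ((R : Subgroup G).map π)).IsSaturated p := by
    rw [show (R : Subgroup G).map π =
      ((R.mapSurjective (QuotientGroup.mk'_surjective Z) : Sylow p (G ⧸ Z)) : Subgroup (G ⧸ Z)) from
        (Sylow.coe_mapSurjective _ _).symm]
    exact groupFusionSystem_isSaturated _
  have hclose : ∀ y : G, (∃ k, orderOf y = p ^ k) → π y ∈ (R : Subgroup G).map π → y ∈ (R : Subgroup G) := by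
    rintro y ⟨k, hk⟩ ⟨r, hr, e⟩
    obtain ⟨j, hj⟩ := IsPGroup.iff_orderOf.mp R.2 ⟨r, hr⟩
    rw [← Subgroup.orderOf_coe] at hj
    have hz : r⁻¹ * y ∈ Z := by rw [← hπ, map_mul, map_inv, e, inv_mul_cancel]
    have hcomm : Commute r⁻¹ y := by
      have h1 : r * (r⁻¹ * y) = r⁻¹ * y * r := Subgroup.mem_center_iff.mp (hZ hz) r
      rw [mul_inv_cancel_left] at h1
      show r⁻¹ * y = y * r⁻¹
      calc r⁻¹ * y = r⁻¹ * y * r * r⁻¹ := by group
        _ = y * r⁻¹ := by rw [← h1]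
    have hp : (r⁻¹ * y) ^ p ^ (j + k) = 1 := by
      have h2 : r ^ p ^ (j + k) = 1 := by rw [pow_add, pow_mul, ← hj, pow_orderOf_eq_one, one_pow]
      have h3 : y ^ p ^ (j + k) = 1 := by
        rw [add_comm, pow_add, pow_mul, ← hk, pow_orderOf_eq_one, one_pow]
      rw [Commute.mul_pow hcomm, h3, inv_pow, h2, inv_one, one_mul]
    haveI : (Subgroup.zpowers (r⁻¹ * y)).Normal := ⟨fun a ha g => by
      have := Subgroup.mem_center_iff.mp ((Subgroup.zpowers_le.mpr (hZ hz)) ha) g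
      rwa [this, mul_inv_cancel_right]⟩
    have hzp : IsPGroup p (Subgroup.zpowers (r⁻¹ * y)) := by
      rintro ⟨a, ha⟩
      obtain ⟨i, rfl⟩ := Subgroup.mem_zpowers_iff.mp ha
      refine ⟨j + k, Subtype.ext ?_⟩
      show ((r⁻¹ * y) ^ i) ^ p ^ (j + k) = 1
      rw [← zpow_natCast, ← zpow_mul, mul_comm, zpow_mul, zpow_natCast, hp, one_zpow]
    have hmax := R.3 (R.2.to_sup_of_normal_right hzp) le_sup_left
    have : r⁻¹ * y ∈ (R : Subgroup G) := hmax ▸ Subgroup.mem_sup_right (Subgroup.mem_zpowers _)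
    simpa using mul_mem hr this
  have hQ := FusionSystem.isNormal_core F
  have hQR : F.core ≤ (R : Subgroup G) := hQ.1
  refine ⟨hsatbar, F.core.map π, ⟨Subgroup.map_mono hQR, fun P' φ' hφ' => ?_⟩,
    Subgroup.map_mono hQR, fun X hX => ?_⟩
  · obtain ⟨hP', hφS, g', hg'⟩ := hφ'
    obtain ⟨g, rfl⟩ := QuotientGroup.mk'_surjective Z g'
    set P := (R : Subgroup G) ⊓ P'.comap π with hPdef
    have hPmap : P.map π = P' := by
      refine le_antisymm ((Subgroup.map_mono inf_le_right).trans (Subgroup.map_comap_le _ _)) fun y hy => ?_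
      obtain ⟨r, hr, rfl⟩ := hP' hy
      exact ⟨r, ⟨hr, hy⟩, rfl⟩
    have hval : ∀ x ∈ P, g * x * g⁻¹ ∈ (R : Subgroup G) := fun x hx => by
      refine hclose _ ?_ ?_
      · obtain ⟨j, hj⟩ := IsPGroup.iff_orderOf.mp R.2 ⟨x, hx.1⟩
        rw [← Subgroup.orderOf_coe] at hj
        refine ⟨j, ?_⟩
        rw [show g * x * g⁻¹ = MulAut.conj g x from rfl, MulEquiv.orderOf_eq, hj]
      · have h1 := hg' ⟨π x, hx.2⟩
        rw [map_mul, map_mul, map_inv]
        exact h1 ▸ hφS _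
    obtain ⟨ψ, ⟨-, hψR, k, hk⟩, hψe, hψQ⟩ := hQ.2 P (conjHom P g) (conjHom_mem_groupFusionSystem inf_le_left hval)
    have hsup : (P ⊔ F.core).map π = P' ⊔ F.core.map π := by rw [Subgroup.map_sup, hPmap]
    refine ⟨conjHom _ (π k), conjHom_mem_groupFusionSystem (sup_le hP' (Subgroup.map_mono hQR)) ?_,
      fun y => ?_, ?_⟩
    · intro y hy
      obtain ⟨w, hw, rfl⟩ := hsup.ge hy
      refine ⟨_, hψR ⟨w, hw⟩, ?_⟩
      rw [hk, map_mul, map_mul, map_inv]
    · obtain ⟨x, hx, hxe⟩ := hPmap.ge y.2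
      rw [hg' y]
      show π k * (y : G ⧸ Z) * (π k)⁻¹ = π g * (y : G ⧸ Z) * (π g)⁻¹
      have h1 := (hk (Subgroup.inclusion le_sup_left ⟨x, hx⟩)).symm.trans (hψe ⟨x, hx⟩)
      rw [← hxe, ← map_inv, ← map_inv, ← map_mul, ← map_mul, ← map_mul, ← map_mul]
      exact congrArg π h1
    · ext y
      constructor
      · rintro ⟨⟨w, hw⟩, ⟨q, hq, hqe⟩, rfl⟩
        refine ⟨_, hψQ.le ⟨⟨q, Subgroup.mem_sup_right hq⟩, hq, rfl⟩, ?_⟩
        rw [hk, map_mul, map_mul, map_inv]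
        show π k * π q * (π k)⁻¹ = π k * w * (π k)⁻¹
        rw [hqe]
        rfl
      · rintro ⟨q, hq, rfl⟩
        obtain ⟨⟨w, hw⟩, hwQ, hwe⟩ := hψQ.ge hq
        refine ⟨⟨π w, Subgroup.mem_sup_right ⟨w, hwQ, rfl⟩⟩, ⟨w, hwQ, rfl⟩, ?_⟩
        show π k * π w * (π k)⁻¹ = π q
        rw [← hwe, hk, map_mul, map_mul, map_inv]
  · obtain ⟨φ', hφ', rfl⟩ := hX
    have hr : φ'.range = F.core.map π := by
      refine Subgroup.eq_of_le_of_card_ge ?_
        (Nat.card_congr (MonoidHom.ofInjective ((groupFusionSystem ((R : Subgroup G).map π)).injective_of_mem hφ')).toEquiv).le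
      rintro _ ⟨y, rfl⟩
      obtain ⟨hP', hφS, g', hg'⟩ := hφ'
      obtain ⟨g, rfl⟩ := QuotientGroup.mk'_surjective Z g'
      obtain ⟨q, hq, hqe⟩ := Subgroup.mem_map.mp y.2
      have hval : ∀ x ∈ F.core, g * x * g⁻¹ ∈ (R : Subgroup G) := fun x hx => by
        refine hclose _ ?_ ?_
        · obtain ⟨j, hj⟩ := IsPGroup.iff_orderOf.mp R.2 ⟨x, hQR hx⟩
          rw [← Subgroup.orderOf_coe] at hj
          refine ⟨j, ?_⟩
          rw [show g * x * g⁻¹ = MulAut.conj g x from rfl, MulEquiv.orderOf_eq, hj]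
        · have h1 := hg' ⟨π x, ⟨x, hx, rfl⟩⟩
          rw [map_mul, map_mul, map_inv]
          exact h1 ▸ hφS _
      refine ⟨_, hQ.stronglyClosed.2 _ le_rfl _ (conjHom_mem_groupFusionSystem hQR hval) ⟨q, hq⟩, ?_⟩
      rw [hg' y, ← hqe]
      show π (g * q * g⁻¹) = π g * π q * (π g)⁻¹
      rw [map_mul, map_mul, map_inv]
    rw [hr]
    rintro _ ⟨⟨x, hxR, rfl⟩, hxC⟩
    refine ⟨x, ?_, rfl⟩
    have hc := hF.isCentric_core
    have hrad := hF.isRadical_core R.2
    refine mem_of_invariant_series R.2 hc hrad (m := 2) ![⊥, Z.subgroupOf F.core, ⊤] rfl rfl ?_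
      ⟨hxR, hQ.le_normalizer hxR⟩ ?_
    · intro α hα i y hy
      fin_cases i
      · have : y = 1 := Subgroup.mem_bot.mp hy
        subst this
        simp
      · obtain ⟨χ, ⟨-, -, g, hg⟩, -, he⟩ := F.exists_map_of_mem_autGroup hQR hα
        show ((α y : F.core) : G) ∈ Z
        rw [← he, hg]
        exact (inferInstance : Z.Normal).conj_mem _ hy g
      · exact Subgroup.mem_top _
    · intro i y hy h
      fin_cases i
      · show y⁻¹ * _ ∈ (⊥ : Subgroup F.core)
        rw [Subgroup.mem_bot, inv_mul_eq_one]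
        have hyZ : (y : G) ∈ Z := hy
        exact Subtype.ext (by
          show (y : G) = x * y * x⁻¹
          rw [Subgroup.mem_center_iff.mp (hZ hyZ) x, mul_inv_cancel_right])
      · show (y : G)⁻¹ * (x * y * x⁻¹) ∈ Z
        rw [← hπ, map_mul, map_mul, map_mul, map_inv, map_inv]
        have h1 : π (y : G) * π x = π x * π (y : G) := Subgroup.mem_centralizer_iff.mp hxC _ ⟨y, y.2, rfl⟩
        rw [← h1, mul_inv_cancel_right, inv_mul_cancel]

theorem isSylowIn_inf_of_isSubnormal (S : Sylow p G) {H : Subgroup G} (hH : H.IsSubnormal) :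
    IsSylowIn p ((S : Subgroup G) ⊓ H) H := by
  induction hH with
  | top =>
    exact ⟨le_top, S.2.to_le inf_le_left, by
      rw [inf_top_eq, Subgroup.relIndex_top_right]; exact S.not_dvd_index⟩
  | step H K hle _ hN ih =>
    have h1 := ih.inf_of_normal hle ((Subgroup.normal_subgroupOf_iff_le_normalizer hle).mp hN)
    rwa [inf_assoc, inf_eq_right.mpr hle] at h1

end FusionSystem

end Cfsg
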