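import Cfsg.Agent.Lib.Fusion.Normal
import Cfsg.Agent.Lib.Fusion.Group
import Cfsg.Agent.Lib.Transfer
import Cfsg.Agent.Lib.Elementary

/-!
The focal subgroup is generated by the hyperfocal subgroup and `[S, S]`; Puig's hyperfocal subgroup
theorem; the Frobenius normal `p`-complement criterion.
-/

set_option autoImplicit false

open scoped commutatorElement

namespace Cfsg

namespace FusionSystem

variable {Ω : Type*} [Group Ω] {S : Subgroup Ω} {F : FusionSystem S} {p : ℕ}

theorem hyperfocal_gen_mem {P : Subgroup Ω} (hP : P ≤ S) {α : MulAut P}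
    (hα : α ∈ F.autGroup P) (hp : (orderOf α).Coprime p) (x : P) :
    (x : Ω)⁻¹ * (α x : P) ∈ F.hyperfocalSubgroup p :=
  Subgroup.subset_closure ⟨P, ⟨α, hα⟩, x, hP, CfsgLib.Transfer.mem_pResidual_of_coprime
    (by rwa [← Subgroup.orderOf_coe]), rfl⟩

theorem hyperfocalSubgroup_le_iff {M : Subgroup Ω} :
    F.hyperfocalSubgroup p ≤ M ↔ ∀ P, P ≤ S → ∀ α ∈ F.autGroup P, (orderOf α).Coprime p →
      ∀ x : P, (x : Ω)⁻¹ * (α x : P) ∈ M := by
  refine ⟨fun h P hP α hα hp x => h (hyperfocal_gen_mem hP hα hp x), fun h => ?_⟩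
  rw [hyperfocalSubgroup, Subgroup.closure_le]
  rintro _ ⟨P, α, x, hP, hα, rfl⟩
  suffices ∀ x : P, (x : Ω)⁻¹ * ((α : MulAut P) x : P) ∈ M from this x
  clear x
  induction hα using Subgroup.closure_induction with
  | mem β hβ => exact h P hP β β.2 (by rwa [Subgroup.orderOf_coe])
  | one => intro x; simp
  | mul β γ _ _ hβ hγ =>
    intro x
    have := mul_mem (hγ x) (hβ ((γ : MulAut P) x))
    rwa [mul_assoc, mul_inv_cancel_left] at this
  | inv β _ hβ =>
    intro x
    have := InvMemClass.inv_mem (hβ (((β⁻¹ : F.autGroup P) : MulAut P) x))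
    simpa [mul_inv_rev] using this

theorem hyperfocalSubgroup_le : F.hyperfocalSubgroup p ≤ S :=
  hyperfocalSubgroup_le_iff.mpr fun P hP α _ _ x => mul_mem (InvMemClass.inv_mem (hP x.2)) (hP (α x).2)

theorem focal_gen_mem {P : Subgroup Ω} {φ : P →* Ω} (hφ : φ ∈ F.Hom P) (x : P) :
    (x : Ω)⁻¹ * φ x ∈ F.focalSubgroup :=
  Subgroup.subset_closure ⟨P, φ, x, hφ, rfl⟩

theorem commutator_le_focalSubgroup : ⁅S, S⁆ ≤ F.focalSubgroup := by
  rw [Subgroup.commutator_le]
  intro a ha b hb
  have := F.focal_gen_mem (F.conj_mem le_rfl hb) ⟨a⁻¹, InvMemClass.inv_mem ha⟩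
  simp only [conjHom_apply] at this
  simpa [commutatorElement_def, mul_assoc] using this

theorem hyperfocalSubgroup_le_focalSubgroup : F.hyperfocalSubgroup p ≤ F.focalSubgroup :=
  hyperfocalSubgroup_le_iff.mpr fun P hP _ hα _ x =>
    F.focal_gen_mem ((F.mem_autGroup_iff hP).mp hα) x

/-- A subgroup containing the hyperfocal subgroup and `[S, S]` contains the focal subgroup. -/
theorem IsSaturated.focalSubgroup_le [Fact p.Prime] [Finite S] (hF : F.IsSaturated p)
    (hS : IsPGroup p S) {M : Subgroup Ω} (hM : ⁅S, S⁆ ≤ M) (hH : F.hyperfocalSubgroup p ≤ M) :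
    F.focalSubgroup ≤ M := by
  let E : FusionSystem S :=
    { Hom := fun P => {φ | φ ∈ F.Hom P ∧ ∀ x : P, (x : Ω)⁻¹ * φ x ∈ M}
      le_of_mem := fun h => F.le_of_mem h.1
      injective_of_mem := fun h => F.injective_of_mem h.1
      conj_mem := fun {P g} hP hg => ⟨F.conj_mem hP hg, fun x => hM (by
        have := Subgroup.commutator_mem_commutator (InvMemClass.inv_mem (hP x.2)) hg
        simpa [commutatorElement_def, conjHom_apply, mul_assoc] using this)⟩
      comp_mem := fun {P Q φ ψ} hφ hψ h => ⟨F.comp_mem hφ.1 hψ.1 h, fun x => by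
        have := mul_mem (hφ.2 x) (hψ.2 ⟨φ x, h x⟩)
        rwa [mul_assoc, mul_inv_cancel_left] at this⟩
      inv_mem := fun {P φ} hφ => by
        obtain ⟨ψ, hψ, hl⟩ := F.inv_mem hφ.1
        refine ⟨ψ, ⟨hψ, ?_⟩, hl⟩
        rintro ⟨_, x, rfl⟩
        have := InvMemClass.inv_mem (hφ.2 x)
        rw [hl]
        simpa [mul_inv_rev] using this }
  have key : F ≤ E := by
    refine hF.le_of_autGroup_le hS E fun P hP => ?_
    have hPS : P ≤ S := by
      rcases hP with rfl | hP
      exacts [le_rfl, hP.2.1.1]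
    have hn : F.IsFullyNormalized P := by
      rcases hP with rfl | hP
      exacts [isFullyNormalized_self, hP.2.1]
    obtain ⟨-, R, hR⟩ := hF.isFullyAutomized_of_isFullyNormalized hS hn
    have := finite_autGroup (F := F) hPS
    have h1 : pResidual p (F.autGroup P) ≤ (E.autGroup P).subgroupOf (F.autGroup P) := by
      rw [pResidual, Subgroup.closure_le]
      intro β hβ
      refine (E.mem_autGroup_iff hPS).mpr ⟨(F.mem_autGroup_iff hPS).mp β.2, fun x => hH ?_⟩
      exact hyperfocal_gen_mem hPS β.2 (by rwa [Subgroup.orderOf_coe]) x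
    have h2 : (R : Subgroup (F.autGroup P)) ≤ (E.autGroup P).subgroupOf (F.autGroup P) := by
      rw [hR]
      exact fun β hβ => autInducedBy_le_autGroup hPS hβ
    intro α hα
    have h3 := sup_le h2 h1
    rw [CfsgLib.Transfer.sylow_sup_pResidual R] at h3
    exact h3 (x := ⟨α, hα⟩) trivial
  rw [FusionSystem.focalSubgroup, Subgroup.closure_le]
  rintro _ ⟨P, φ, x, hφ, rfl⟩
  exact (key P hφ).2 x

theorem IsSaturated.focalSubgroup_eq [Fact p.Prime] [Finite S] (hF : F.IsSaturated p)
    (hS : IsPGroup p S) : F.focalSubgroup = F.hyperfocalSubgroup p ⊔ ⁅S, S⁆ :=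
  le_antisymm (hF.focalSubgroup_le hS le_sup_right le_sup_left)
    (sup_le hyperfocalSubgroup_le_focalSubgroup commutator_le_focalSubgroup)

/-- `H [Q, Q] = Q` in a finite `p`-group forces `H = Q`. -/
theorem eq_of_sup_commutator_eq [Fact p.Prime] {H Q : Subgroup Ω} [Finite Q] (hQ : IsPGroup p Q)
    (hHQ : H ≤ Q) (h : Q ≤ H ⊔ ⁅Q, Q⁆) : Q ≤ H := by
  have h1 : H.subgroupOf Q ⊔ frattini Q = ⊤ := by
    rw [eq_top_iff]
    refine le_trans ?_ (sup_le_sup_left (CfsgLib.commutator_le_frattini_pGroup hQ) _)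
    rw [← Subgroup.map_le_map_iff_of_injective Q.subtype_injective, Subgroup.map_sup,
      Subgroup.map_subgroupOf_eq_of_le hHQ, Subgroup.map_subtype_commutator, ← MonoidHom.range_eq_map,
      Subgroup.range_subtype]
    exact h
  have := frattini_nongenerating h1
  rwa [Subgroup.subgroupOf_eq_top] at this

section group

variable {G : Type*} [Group G] [Finite G] [Fact p.Prime]

theorem coe_autInducedBy_apply {P K : Subgroup G} {g : G} (hg : g ∈ K) (hN : g ∈ Subgroup.normalizer (P : Set G)) :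
    ∃ α ∈ autInducedBy K P, ∀ x : P, ((α x : P) : G) = g * (x : G) * g⁻¹ := by
  let α : MulAut P :=
    { toFun := fun x => ⟨g * x * g⁻¹, (Subgroup.mem_normalizer_iff.mp hN x).mp x.2⟩
      invFun := fun x => ⟨g⁻¹ * x * g, (Subgroup.mem_normalizer_iff''.mp hN x).mp x.2⟩
      left_inv := fun x => by ext; simp [mul_assoc]
      right_inv := fun x => by ext; simp [mul_assoc]
      map_mul' := fun x y => by ext; simp [mul_assoc] }
  exact ⟨α, Subgroup.subset_closure ⟨g, hg, fun _ => rfl⟩, fun _ => rfl⟩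

theorem conj_pow_apply {P : Subgroup G} {α : MulAut P} {g : G}
    (h : ∀ x : P, ((α x : P) : G) = g * (x : G) * g⁻¹) (n : ℕ) (x : P) :
    (((α ^ n) x : P) : G) = g ^ n * (x : G) * (g ^ n)⁻¹ := by
  induction n generalizing x with
  | zero => simp
  | succ n ih =>
    rw [pow_succ, MulAut.mul_apply, ih, h, pow_succ]
    simp [mul_assoc]

theorem orderOf_dvd_of_conj {P : Subgroup G} {α : MulAut P} {g : G}
    (h : ∀ x : P, ((α x : P) : G) = g * (x : G) * g⁻¹) : orderOf α ∣ orderOf g := by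
  refine orderOf_dvd_of_pow_eq_one (MulEquiv.ext fun x => Subtype.ext ?_)
  rw [conj_pow_apply h, pow_orderOf_eq_one]
  simp

/-- The hyperfocal subgroup of a group is generated by `[x, g]` for `p'`-elements `g` of normalizers. -/
theorem hyperfocal_group_le_iff (S : Sylow p G) {M : Subgroup G} :
    (groupFusionSystem (S : Subgroup G)).hyperfocalSubgroup p ≤ M ↔
      ∀ P, P ≤ (S : Subgroup G) → ∀ g ∈ Subgroup.normalizer (P : Set G), (orderOf g).Coprime p →
        ∀ x ∈ P, x⁻¹ * (g * x * g⁻¹) ∈ M := by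
  rw [hyperfocalSubgroup_le_iff]
  constructor
  · intro h P hP g hg hp x hx
    obtain ⟨α, hα, he⟩ := coe_autInducedBy_apply (K := ⊤) (P := P) (g := g) trivial hg
    have := h P hP α (by rwa [autGroup_groupFusionSystem hP])
      (hp.coprime_dvd_left (orderOf_dvd_of_conj he)) ⟨x, hx⟩
    rwa [he] at this
  · intro h P hP α hα hp x
    rw [autGroup_groupFusionSystem hP] at hα
    obtain ⟨g, -, hN, he⟩ := mem_autInducedBy_iff.mp hα
    have hq : (p ^ (orderOf g).factorization p).Coprime (orderOf α) := (Nat.Coprime.pow_right _ hp).symm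
    let m : ℕ := Nat.chineseRemainder hq 0 1
    obtain ⟨hm1, hm2⟩ := (Nat.chineseRemainder hq 0 1).2
    have hα' : α ^ m = α := by
      conv_rhs => rw [← pow_one α]
      exact pow_eq_pow_iff_modEq.mpr hm2
    have hcop : (orderOf (g ^ m)).Coprime p := by
      obtain ⟨t, ht⟩ := Nat.modEq_zero_iff_dvd.mp hm1
      rw [show m = p ^ (orderOf g).factorization p * t from ht, pow_mul]
      refine Nat.Coprime.coprime_dvd_left (orderOf_pow_dvd _) ?_
      rw [orderOf_pow, Nat.gcd_eq_right (Nat.ordProj_dvd _ _)]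
      exact (Nat.coprime_ordCompl Fact.out (orderOf_pos g).ne').symm
    have := h P hP (g ^ m) (pow_mem hN m) hcop x x.2
    rwa [← conj_pow_apply he m x, hα'] at this

theorem hyperfocal_group_le_inf_pResidual (S : Sylow p G) :
    (groupFusionSystem (S : Subgroup G)).hyperfocalSubgroup p ≤ (S : Subgroup G) ⊓ pResidual p G := by
  refine le_inf hyperfocalSubgroup_le ((hyperfocal_group_le_iff S).mpr fun P hP g _ hp x hx => ?_)
  have hg := CfsgLib.Transfer.mem_pResidual_of_coprime hp
  rw [← mul_assoc, ← mul_assoc]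
  refine mul_mem ?_ (InvMemClass.inv_mem hg)
  simpa using (inferInstance : (pResidual p G).Normal).conj_mem g hg x⁻¹

/-- Puig's hyperfocal subgroup theorem. -/
theorem hyperfocalSubgroup_groupFusionSystem (S : Sylow p G) :
    (groupFusionSystem (S : Subgroup G)).hyperfocalSubgroup p = (S : Subgroup G) ⊓ pResidual p G := by
  refine le_antisymm (hyperfocal_group_le_inf_pResidual S) ?_
  let K := pResidual p G
  let Q : Sylow p K := CfsgLib.sylowInfNormal S K
  let M := ((groupFusionSystem (S : Subgroup G)).hyperfocalSubgroup p).subgroupOf K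
  have hfoc : (Q : Subgroup K).focalSubgroup = (Q : Subgroup K) :=
    CfsgLib.Transfer.focalSubgroup_eq_of_pResidual_eq_top Q CfsgLib.Transfer.pResidual_pResidual
  have hMQ : M ≤ (Q : Subgroup K) := fun k hk => Subgroup.mem_subgroupOf.mpr (hyperfocalSubgroup_le (Subgroup.mem_subgroupOf.mp hk) : (k : G) ∈ (S : Subgroup G))
  have hH : (groupFusionSystem (Q : Subgroup K)).hyperfocalSubgroup p ≤ M := by
    refine (hyperfocal_group_le_iff Q).mpr fun P hP g hg hp x hx => ?_
    refine Subgroup.mem_subgroupOf.mpr ((hyperfocal_group_le_iff S).mp le_rfl (P.map K.subtype) ?_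
      (g : G) ?_ (by rwa [Subgroup.orderOf_coe]) x ⟨x, hx, rfl⟩)
    · rintro _ ⟨y, hy, rfl⟩
      exact hP hy
    · exact Subgroup.le_normalizer_map K.subtype ⟨g, hg, rfl⟩
  have h2 : (Q : Subgroup K) ≤ M ⊔ ⁅(Q : Subgroup K), (Q : Subgroup K)⁆ := by
    refine le_trans (hfoc.ge.trans ?_)
      ((groupFusionSystem_isSaturated Q).focalSubgroup_le Q.2 le_sup_right (hH.trans le_sup_left))
    rw [Subgroup.focalSubgroup_def, Subgroup.closure_le]
    rintro _ ⟨hgQ, x, hx, u, rfl⟩
    have h3 : x⁻¹ * ⁅x, u⁆ = u * x⁻¹ * u⁻¹ := by rw [commutatorElement_def]; group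
    have hmap : conjHom (Subgroup.zpowers x⁻¹) u ∈ (groupFusionSystem (Q : Subgroup K)).Hom _ := by
      refine conjHom_mem_groupFusionSystem (Subgroup.zpowers_le.mpr (InvMemClass.inv_mem hx)) ?_
      have hu : u * x⁻¹ * u⁻¹ ∈ (Q : Subgroup K) := h3 ▸ mul_mem (InvMemClass.inv_mem hx) hgQ
      intro y hy
      obtain ⟨n, rfl⟩ := Subgroup.mem_zpowers_iff.mp hy
      rw [← conj_zpow]
      exact zpow_mem hu n
    have := focal_gen_mem hmap ⟨x⁻¹, Subgroup.mem_zpowers _⟩
    rw [conjHom_apply, inv_inv, ← h3, mul_inv_cancel_left] at this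
    exact this
  rintro g ⟨hgS, hgK⟩
  exact eq_of_sup_commutator_eq Q.2 hMQ h2 (show (⟨g, hgK⟩ : K) ∈ (Q : Subgroup K) from hgS)

/-- Frobenius' normal `p`-complement criterion. -/
theorem hasNormalPComplement_of_centralizes (S : Sylow p G)
    (h : ∀ Q : Subgroup G, Q ≤ (S : Subgroup G) → ∀ g ∈ Subgroup.normalizer (Q : Set G),
      (orderOf g).Coprime p → g ∈ Subgroup.centralizer (Q : Set G)) :
    HasNormalPComplement p G := by
  refine CfsgLib.Transfer.hasNormalPComplement_of_inf_pResidual_eq_bot S ?_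
  rw [← hyperfocalSubgroup_groupFusionSystem, eq_bot_iff]
  refine (hyperfocal_group_le_iff S).mpr fun Q hQ g hg hp x hx => ?_
  rw [Subgroup.mem_bot, ← Subgroup.mem_centralizer_iff.mp (h Q hQ g hg hp) x hx]
  group

end group

end FusionSystem

end Cfsg
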