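import Cfsg.Agent.Lib.Fusion.NormalFunctor
import Cfsg.Agent.Lib.Fusion.Series
import Cfsg.Agent.Lib.SmallElements

/-!
A strongly closed subgroup is normal when its elements of order `p` have a strongly closed central series,
for odd `p`.
-/

set_option autoImplicit false
set_option linter.unusedSectionVars false

universe u

namespace Cfsg.FusionSystem

open scoped commutatorElement

variable {Ω : Type u} [Group Ω] {S : Subgroup Ω} {F : FusionSystem S} {p : ℕ} [Finite S] [Fact p.Prime]

theorem omegaOne_le {P : Subgroup Ω} : omegaOne p P ≤ P := (Subgroup.closure_le _).mpr fun _ h => h.1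

/-- The subgroup generated by the elements of order `p` is characteristic. -/
theorem characteristic_omegaOne {P : Subgroup Ω} : ((omegaOne p P).subgroupOf P).Characteristic := by
  have he : (omegaOne p P).subgroupOf P = Subgroup.closure {x : P | x ^ p = 1} := by
    rw [omegaOne, show {x : Ω | x ∈ P ∧ x ^ p = 1} = P.subtype '' {x : P | x ^ p = 1} from ?_,
      ← MonoidHom.map_closure, Subgroup.subgroupOf, Subgroup.comap_map_eq_self_of_injective P.subtype_injective]
    ext x
    constructor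
    · rintro ⟨hx, h⟩
      exact ⟨⟨x, hx⟩, Subtype.ext (by simpa using h), rfl⟩
    · rintro ⟨y, hy, rfl⟩
      exact ⟨y.2, by simpa using congrArg Subtype.val (show y ^ p = 1 from hy)⟩
  rw [he]
  refine Subgroup.characteristic_iff_map_le.mpr fun φ => ?_
  rw [MonoidHom.map_closure]
  refine Subgroup.closure_mono ?_
  rintro _ ⟨x, hx, rfl⟩
  show (φ x) ^ p = 1
  rw [← map_pow, show x ^ p = 1 from hx, map_one]

theorem IsSaturated.isNormal_of_omega_series (hF : F.IsSaturated p) (hS : IsPGroup p S) (hp : p ≠ 2)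
    {P : Subgroup Ω} (hP : F.StronglyClosed P) {n : ℕ} (Q : Fin (n + 1) → Subgroup Ω) (h0 : Q 0 = ⊥)
    (hlast : Q (Fin.last n) = omegaOne p P) (hmono : Monotone Q) (hsc : ∀ i, F.StronglyClosed (Q i))
    (hcomm : ∀ i : Fin n, ⁅Q i.succ, P⁆ ≤ Q i.castSucc) : F.IsNormal P := by
  have hΩ : F.IsNormal (omegaOne p P) := hF.isNormal_of_series hS Q h0 hlast hmono fun i => ⟨hsc _, by
    rw [Subgroup.commutator_comm]
    exact (Subgroup.commutator_mono le_rfl omegaOne_le).trans (hcomm i)⟩
  refine hF.isNormal_of_invariant hS fun R hR => ?_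
  have hRS : R ≤ S := by
    rcases hR with rfl | hR
    · exact le_rfl
    · exact hR.1.1
  suffices hPR : P ≤ R by
    refine ⟨hPR, fun α hα => ?_⟩
    haveI := finite_of_le hRS
    obtain ⟨φ, hφ, -, he⟩ := F.exists_map_of_mem_autGroup hRS hα
    refine Subgroup.eq_of_le_of_card_ge ?_ (Subgroup.card_map_of_injective (f := α.toMonoidHom) α.injective).ge
    rintro _ ⟨x, hx, rfl⟩
    show ((α x : R) : Ω) ∈ P
    rw [← he]
    exact hP.apply_mem_of_mem hφ hx
  rcases hR with rfl | hR
  · exact hP.1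
  haveI : Finite R := finite_of_le hRS
  haveI := finite_mulAut_of_le hRS
  haveI := finite_autGroup (F := F) hRS
  have hrad := hR.isRadical hS hF
  have hΩR : omegaOne p P ≤ R := hΩ.le_of_centric_radical hS hR.1 hrad
  have hinv : ∀ {T : Subgroup Ω}, F.StronglyClosed T → ∀ b ∈ F.autGroup R, ∀ y : R, (y : Ω) ∈ T →
      ((b y : R) : Ω) ∈ T := by
    intro T hT b hb y hy
    obtain ⟨χ, hχ, -, hχe⟩ := F.exists_map_of_mem_autGroup hRS hb
    rw [← hχe]
    exact hT.apply_mem_of_mem hχ hy
  let A : Subgroup (F.autGroup R) :=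
    { carrier := {a | (∀ x : R, (x : Ω)⁻¹ * (((a : MulAut R) x : R) : Ω) ∈ P) ∧
        ∀ (i : Fin n) (y : R), (y : Ω) ∈ Q i.succ → (y : Ω)⁻¹ * (((a : MulAut R) y : R) : Ω) ∈ Q i.castSucc}
      one_mem' := ⟨fun x => by simp, fun i y _ => by simp⟩
      mul_mem' := by
        rintro a b ⟨ha, ha'⟩ ⟨hb, hb'⟩
        refine ⟨fun x => ?_, fun i y hy => ?_⟩
        · have := P.mul_mem (hb x) (ha ((b : MulAut R) x))
          simpa [MulAut.mul_apply, mul_assoc] using this
        · have := (Q i.castSucc).mul_mem (hb' i y hy) (ha' i ((b : MulAut R) y) (hinv (hsc _) _ b.2 y hy))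
          simpa [MulAut.mul_apply, mul_assoc] using this
      inv_mem' := by
        rintro a ⟨ha, ha'⟩
        refine ⟨fun x => ?_, fun i y hy => ?_⟩
        · have h1 := ha ((a : MulAut R)⁻¹ x)
          rw [MulAut.apply_inv_self] at h1
          simpa using P.inv_mem h1
        · have h1 := ha' i ((a : MulAut R)⁻¹ y) (hinv (hsc _) _ ((F.autGroup R).inv_mem a.2) y hy)
          rw [MulAut.apply_inv_self] at h1
          simpa using (Q i.castSucc).inv_mem h1 }
  haveI hAn : A.Normal := by
    refine ⟨fun a ⟨ha, ha'⟩ b => ⟨fun x => ?_, fun i y hy => ?_⟩⟩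
    · have h1 := hinv hP _ b.2 (((b : MulAut R)⁻¹ x)⁻¹ * (a : MulAut R) ((b : MulAut R)⁻¹ x))
        (ha ((b : MulAut R)⁻¹ x))
      simpa [map_mul, map_inv, MulAut.mul_apply] using h1
    · have h1 := hinv (hsc i.castSucc) _ b.2 (((b : MulAut R)⁻¹ y)⁻¹ * (a : MulAut R) ((b : MulAut R)⁻¹ y))
        (ha' i ((b : MulAut R)⁻¹ y) (hinv (hsc _) _ ((F.autGroup R).inv_mem b.2) y hy))
      simpa [map_mul, map_inv, MulAut.mul_apply] using h1
  have hcop : ∀ a ∈ A, (orderOf a).Coprime p → a = 1 := by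
    rintro a ⟨ha, ha'⟩ hord
    set β : MulAut R := (a : MulAut R) with hβ
    have hordβ : (orderOf β).Coprime p := by rwa [hβ, ← Subgroup.orderOf_coe] at *
    have hfixQ : ∀ (i : Fin (n + 1)) (y : R), (y : Ω) ∈ Q i → β y = y := by
      intro i
      induction i using Fin.induction with
      | zero =>
        intro y hy
        rw [h0, Subgroup.mem_bot] at hy
        rw [show y = 1 from Subtype.ext hy, map_one]
      | succ i ih =>
        intro y hy
        exact CfsgLib.Small.apply_eq_self_of_step (hS.to_le hRS) hordβ (ih _ (ha' i y hy))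
    let D : Subgroup R := P.subgroupOf R
    have hDinv : ∀ y : R, y ∈ D → β y ∈ D := fun y hy => hinv hP _ a.2 y hy
    let βD : MulAut D := MulEquiv.ofBijective
      (MonoidHom.mk' (fun y : D => (⟨β y, hDinv y y.2⟩ : D)) fun y z => Subtype.ext (map_mul β _ _))
      (Finite.injective_iff_bijective.mp fun y z h =>
        Subtype.ext (β.injective (congrArg (fun w : D => (w : R)) h)))
    have hpow : ∀ (k : ℕ) (y : D), ((((βD ^ k) y : D)) : R) = (β ^ k) y := by
      intro k
      induction k with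
      | zero => intro y; simp
      | succ k ih =>
        intro y
        rw [pow_succ', pow_succ', MulAut.mul_apply, MulAut.mul_apply]
        exact congrArg β (ih y)
    have hβD : βD = 1 := by
      refine CfsgLib.Small.eq_one_of_fixes_small ((hS.to_le hRS).to_subgroup D) ?_ fun y hy => ?_
      · refine Nat.Coprime.coprime_dvd_left (orderOf_dvd_of_pow_eq_one (MulEquiv.ext fun y => Subtype.ext ?_)) hordβ
        rw [hpow, pow_orderOf_eq_one]
        rfl
      · rw [CfsgLib.Small.smallExp, if_neg hp] at hy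
        refine Subtype.ext (hfixQ (Fin.last n) _ ?_)
        rw [hlast]
        exact Subgroup.subset_closure ⟨y.2, by simpa using congrArg (fun w : D => ((w : R) : Ω)) hy⟩
    have hfixD : ∀ y : R, (y : Ω) ∈ P → β y = y := fun y hy => by
      have := congrArg (fun f : MulAut D => ((f ⟨y, hy⟩ : D) : R)) hβD
      exact this
    refine Subtype.ext (MulEquiv.ext fun x => ?_)
    exact CfsgLib.Small.apply_eq_self_of_step (hS.to_le hRS) hordβ (hfixD _ (ha x))
  have hAp : IsPGroup p A := by
    rintro ⟨a, ha⟩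
    have h0' : orderOf a ≠ 0 := (orderOf_pos a).ne'
    obtain ⟨e, m, hm, hord⟩ := Nat.exists_eq_pow_mul_and_not_dvd h0' p (Fact.out : p.Prime).ne_one
    refine ⟨e, Subtype.ext ?_⟩
    refine hcop _ (A.pow_mem ha _) ?_
    rw [SubgroupClass.coe_pow, orderOf_pow' a (pow_ne_zero _ (Fact.out : p.Prime).ne_zero), hord, Nat.gcd_eq_right (dvd_mul_right _ _),
      Nat.mul_div_cancel_left _ (pow_pos (Fact.out : p.Prime).pos _)]
    exact ((Fact.out : p.Prime).coprime_iff_not_dvd.mpr hm).symm
  by_contra hne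
  have hlt : R < R ⊔ P := lt_of_le_of_ne le_sup_left fun e => hne (le_sup_right.trans e.ge)
  have hle : R ⊔ P ≤ S := sup_le hRS hP.1
  haveI := finite_of_le hle
  obtain ⟨w, hw, hwR⟩ := SetLike.exists_of_lt (lt_normalizerIn (hS.to_le hle) hlt)
  have hw1 : w ∈ (↑(R ⊔ P) : Set Ω) := hw.1
  rw [Subgroup.coe_mul_of_left_le_normalizer_right R P (hRS.trans hP.le_normalizer)] at hw1
  obtain ⟨r, hr, g, hg, rfl⟩ := hw1
  have hgN : g ∈ Subgroup.normalizer (R : Set Ω) := by
    have := Subgroup.mul_mem _ (Subgroup.inv_mem _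
      (Subgroup.le_normalizer hr : r ∈ Subgroup.normalizer (R : Set Ω))) hw.2
    simpa [mul_assoc] using this
  refine hwR (R.mul_mem hr ?_)
  let c : F.autGroup R := ⟨R.normalizerMonoidHom ⟨g, hgN⟩,
    autInducedBy_le_autGroup hRS (mem_autInducedBy_iff.mpr ⟨g, hP.1 hg, hgN, fun _ => rfl⟩)⟩
  have hcA : c ∈ A := by
    refine ⟨fun x => ?_, fun i y hy => ?_⟩
    · show (x : Ω)⁻¹ * (g * x * g⁻¹) ∈ P
      have h1 := hP.conj_mem_of_mem (S.inv_mem (hRS x.2)) hg
      rw [inv_inv] at h1
      have := P.mul_mem h1 (P.inv_mem hg)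
      simpa [mul_assoc] using this
    · show (y : Ω)⁻¹ * (g * y * g⁻¹) ∈ Q i.castSucc
      have h1 : ⁅(y : Ω)⁻¹, g⁆ ∈ Q i.castSucc :=
        hcomm i (Subgroup.commutator_mem_commutator ((Q i.succ).inv_mem hy) hg)
      rw [commutatorElement_def, inv_inv] at h1
      simpa [mul_assoc] using h1
  obtain ⟨v, hv⟩ := hrad.2.le ⟨c, CfsgLib.le_pCore hAp hcA, rfl⟩
  have hz : (v : Ω)⁻¹ * g ∈ centralizerIn S R := by
    refine ⟨S.mul_mem (S.inv_mem (hRS v.2)) (hP.1 hg), Subgroup.mem_centralizer_iff.mpr fun y hy => ?_⟩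
    have h1 : (v : Ω) * y * (v : Ω)⁻¹ = g * y * g⁻¹ :=
      congrArg (fun f : MulAut R => ((f ⟨y, hy⟩ : R) : Ω)) hv
    calc y * ((v : Ω)⁻¹ * g) = (v : Ω)⁻¹ * ((v : Ω) * y * (v : Ω)⁻¹) * g := by group
      _ = (v : Ω)⁻¹ * g * y := by rw [h1]; group
  have := R.mul_mem v.2 (hR.1.centralizerIn_le_self hz)
  rwa [mul_inv_cancel_left] at this

theorem StronglyClosed.inf {A B : Subgroup Ω} (hA : F.StronglyClosed A) (hB : F.StronglyClosed B) :
    F.StronglyClosed (A ⊓ B) :=
  ⟨inf_le_left.trans hA.1, fun R hR φ hφ x =>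
    ⟨hA.2 R (hR.trans inf_le_left) φ hφ x, hB.2 R (hR.trans inf_le_right) φ hφ x⟩⟩

theorem IsNormal.exists_omega_series (hS : IsPGroup p S) {P : Subgroup Ω} (h : F.IsNormal P) :
    ∃ (n : ℕ) (Q : Fin (n + 1) → Subgroup Ω), Q 0 = ⊥ ∧ Q (Fin.last n) = omegaOne p P ∧ Monotone Q ∧
      (∀ i, F.StronglyClosed (Q i)) ∧ ∀ i : Fin n, ⁅Q i.succ, P⁆ ≤ Q i.castSucc := by
  haveI := finite_of_le h.1
  haveI : Group.IsNilpotent P := (hS.to_le h.1).isNilpotent
  obtain ⟨c, hc⟩ := Group.IsNilpotent.nilpotent (G := P)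
  have hΩn : F.IsNormal (omegaOne p P) := h.of_characteristic omegaOne_le characteristic_omegaOne
  have hlayer : ∀ k, F.StronglyClosed (centralLayer P k) := fun k => by
    refine (h.of_characteristic (Subgroup.map_subtype_le _) ?_).stronglyClosed
    show ((centralLayer P k).subgroupOf P).Characteristic
    simp only [centralLayer, Subgroup.subgroupOf]
    rw [Subgroup.comap_map_eq_self_of_injective P.subtype_injective]
    infer_instance
  refine ⟨c, fun i => omegaOne p P ⊓ centralLayer P i, by simp [centralLayer], ?_, ?_,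
    fun i => hΩn.stronglyClosed.inf (hlayer i), fun i => ?_⟩
  · show omegaOne p P ⊓ centralLayer P c = _
    rw [show centralLayer P c = P by simp [centralLayer, hc, ← MonoidHom.range_eq_map], inf_eq_left]
    exact omegaOne_le
  · exact fun i j hij => inf_le_inf_left _
      (Subgroup.map_mono (Subgroup.upperCentralSeries_mono P (by simpa using hij)))
  · rw [Subgroup.commutator_le]
    intro y hy q hq
    haveI hn : ((omegaOne p P).subgroupOf P).Normal := by
      haveI := characteristic_omegaOne (p := p) (P := P)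
      infer_instance
    have h1 : q * y * q⁻¹ * y⁻¹ ∈ omegaOne p P ⊓ centralLayer P i := by
      refine ⟨(omegaOne p P).mul_mem ?_ ((omegaOne p P).inv_mem hy.1), ?_⟩
      · exact hn.conj_mem ⟨y, omegaOne_le hy.1⟩ hy.1 ⟨q, hq⟩
      · have h2 : y ∈ centralLayer P ((i : ℕ) + 1) := by simpa using hy.2
        exact centralLayer_commutator hq h2
    have := (omegaOne p P ⊓ centralLayer P i).inv_mem h1
    simpa [commutatorElement_def, mul_assoc] using this

end Cfsg.FusionSystem
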