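import Cfsg.Agent.Lib.Fusion.Induction
import Cfsg.Agent.Lib.ZJ.Complement

/-!
The Glauberman–Thompson nilpotency criterion for saturated fusion systems at odd primes.
-/

set_option autoImplicit false
set_option linter.unusedSectionVars false

universe u v

namespace CfsgLib.ZJ

open Cfsg

variable {G : Type u} [Group G] {H : Type v} [Group H]

theorem thompsonJ_zero_eq (P : Subgroup G) [Finite P] :
    thompsonJ 0 P = thompsonSubgroupAOf P := by
  rw [thompsonSubgroupAOf, thompsonSubgroupA, ← goodMax_top_zero, ← thompsonJ,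
    ← thompsonJ_map 0 P.subtype_injective, ← MonoidHom.range_eq_map, Subgroup.range_subtype]

theorem centerThompsonAOf_eq (P : Subgroup G) [Finite P] : centerThompsonAOf P = zj 0 P := by
  rw [zj, thompsonJ_zero_eq, centerThompsonAOf]

theorem centerThompsonAOf_map {P : Subgroup G} [Finite P] (f : G →* H)
    (hf : Set.InjOn f (P : Set G)) :
    centerThompsonAOf (P.map f) = (centerThompsonAOf P).map f := by
  haveI : Finite (P.map f) := Finite.of_surjective _ (f.subgroupMap_surjective P)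
  have hg : Function.Injective (f.comp P.subtype) := fun x y h => Subtype.ext (hf x.2 y.2 h)
  have h1 : (⊤ : Subgroup P).map P.subtype = P := by
    rw [← MonoidHom.range_eq_map, Subgroup.range_subtype]
  rw [centerThompsonAOf_eq, centerThompsonAOf_eq]
  conv_rhs => rw [← h1, zj_map 0 P.subtype_injective, Subgroup.map_map, ← zj_map 0 hg, ← Subgroup.map_map, h1]

theorem centerThompsonAOf_le (P : Subgroup G) [Finite P] : centerThompsonAOf P ≤ P := by
  rw [centerThompsonAOf_eq]
  exact zj_le 0 P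

theorem centerThompsonAOf_ne_bot {p : ℕ} [Fact p.Prime] {P : Subgroup G} [Finite P] (hP : IsPGroup p P)
    (hne : P ≠ ⊥) : centerThompsonAOf P ≠ ⊥ := by
  have h1 : (⊤ : Subgroup P).map P.subtype = P := by
    rw [← MonoidHom.range_eq_map, Subgroup.range_subtype]
  intro hb
  rw [centerThompsonAOf_eq, ← h1, zj_map 0 P.subtype_injective,
    Subgroup.map_eq_bot_iff_of_injective _ P.subtype_injective] at hb
  haveI : Nontrivial P := (Subgroup.nontrivial_iff_ne_bot _).mpr hne
  exact zj_ne_bot (Or.inl rfl) (hP.of_equiv Subgroup.topEquiv.symm) top_ne_bot hb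

theorem normalizer_le_normalizer_centerThompsonAOf (P : Subgroup G) [Finite P] :
    Subgroup.normalizer (P : Set G) ≤ Subgroup.normalizer (centerThompsonAOf P : Set G) := by
  intro g hg
  have h1 : P.map (MulAut.conj g).toMonoidHom = P := by
    ext x
    rw [Subgroup.mem_map_equiv, MulAut.conj_symm_apply]
    have h2 := Subgroup.mem_normalizer_iff.mp (Subgroup.inv_mem _ hg) x
    simpa using h2.symm
  have h3 := centerThompsonAOf_map (P := P) (MulAut.conj g).toMonoidHom (MulAut.conj g).injective.injOn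
  rw [h1] at h3
  refine Subgroup.mem_normalizer_iff.mpr fun x => ?_
  conv_rhs => rw [h3, Subgroup.mem_map_equiv, MulAut.conj_symm_apply]
  simp [mul_assoc]

end CfsgLib.ZJ

namespace Cfsg.FusionSystem

variable {Ω : Type u} [Group Ω] {S : Subgroup Ω} {F : FusionSystem S} {p : ℕ} {Q X : Subgroup Ω}

/-- The maps of `N_F(Q)` are conjugations by elements of `N_S(Q)`. -/
def NormalizerInner (F : FusionSystem S) (Q : Subgroup Ω) : Prop :=
  ∀ P φ, φ ∈ F.normalizerHom Q P → ∃ g ∈ normalizerIn S Q, ∀ x : P, φ x = g * (x : Ω) * g⁻¹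

theorem IsNormalizerSystem.normalizerInner {E : FusionSystem (normalizerIn S Q)}
    (hE : F.IsNormalizerSystem Q E) (h : E.IsInner) : F.NormalizerInner Q := fun P φ hφ =>
  (h P (by rw [hE P]; exact hφ)).2

theorem IsNormalizerSystem.isInner {E : FusionSystem (normalizerIn S Q)}
    (hE : F.IsNormalizerSystem Q E) (h : F.NormalizerInner Q) : E.IsInner := fun P φ hφ => by
  rw [hE P] at hφ
  exact ⟨hφ.2.1, h P φ hφ⟩

theorem NormalizerInner.isInner_of_normal (h : F.NormalizerInner Q) (hQ : F.IsNormal Q) : F.IsInner :=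
  fun P φ hφ => by
    rw [hQ.hom_eq_normalizerHom] at hφ
    obtain ⟨g, hg, hge⟩ := h P φ hφ
    exact ⟨hφ.2.1.trans normalizerIn_le, g, hg.1, hge⟩

theorem normalizerInner_of_isInner (h : F.IsInner) (hQ : Q ≤ S) : F.NormalizerInner Q := by
  intro P φ hφ
  obtain ⟨hφF, hP, -, ψ, hψ, hψe, hψQ⟩ := hφ
  obtain ⟨-, g, hg, hge⟩ := h _ hψ
  refine ⟨g, ⟨hg, Subgroup.mem_normalizer_iff.mpr fun x => ⟨fun hx => ?_, fun hx => ?_⟩⟩, fun x => ?_⟩
  · rw [← hge ⟨x, Subgroup.mem_sup_right hx⟩]
    exact hψQ.le ⟨_, hx, rfl⟩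
  · obtain ⟨y, hy, e⟩ := hψQ.ge hx
    rw [hge y] at e
    rw [← mul_left_cancel (mul_right_cancel e)]
    exact hy
  · rw [← hψe x]
    exact hge _

theorem NormalizerInner.mono {E : FusionSystem S} (h : F.NormalizerInner Q) (hE : E.IsSubsystemOf F) :
    E.NormalizerInner Q := by
  rintro P φ ⟨h1, h2, h3, ψ, hψ, h4, h5⟩
  exact h P φ ⟨hE P h1, h2, h3, ψ, hE _ hψ, h4, h5⟩

/-- A quotient has inner normaliser of `Z'` when the system has inner normaliser of its preimage. -/
theorem NormalizerInner.factor {Ω' : Type*} [Group Ω'] {θ : S →* Ω'} {E : FusionSystem θ.range} [Finite S]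
    (hker : ∀ s : S, θ s = 1 ↔ (s : Ω) ∈ X)
    (hEm : ∀ P' φ', φ' ∈ E.Hom P' ↔ P' ≤ θ.range ∧ ∃ φ ∈ F.Hom (preimageAlong θ P'), InducedAlong θ φ φ')
    {Z' : Subgroup Ω'} (hZ : Z' ≤ θ.range) (h : F.NormalizerInner (preimageAlong θ Z')) :
    E.NormalizerInner Z' := by
  rintro P' φ' ⟨hφ', hP', -, ψ', hψ', hψ'e, hψ'Z⟩
  obtain ⟨-, χ, hχ, hind⟩ := (hEm _ _).mp hψ'
  have hmono : ∀ {A B : Subgroup Ω'}, A ≤ B → preimageAlong θ A ≤ preimageAlong θ B := by
    intro A B hAB x hx
    obtain ⟨hxS, h1⟩ := mem_preimageAlong.mp hx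
    exact mem_preimageAlong.mpr ⟨hxS, hAB h1⟩
  set Y := preimageAlong θ Z' with hY
  set R := preimageAlong θ P' with hR
  have hYS : Y ≤ S := preimageAlong_le
  have hle : R ⊔ Y ≤ preimageAlong θ (P' ⊔ Z') := sup_le (hmono le_sup_left) (hmono le_sup_right)
  have hYin : ∀ (x : Ω) (hx : x ∈ Y), χ ⟨x, hmono le_sup_right hx⟩ ∈ Y := by
    intro x hx
    obtain ⟨hxS, h1⟩ := mem_preimageAlong.mp hx
    refine mem_preimageAlong.mpr ⟨F.apply_mem hχ _, ?_⟩
    rw [← inducedAlong_apply_mem hχ hind ⟨x, hmono le_sup_right hx⟩ (Subgroup.mem_sup_right h1)]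
    exact hψ'Z.le ⟨_, h1, rfl⟩
  haveI : Finite Y := finite_of_le hYS
  have hmapY : (Y.subgroupOf (R ⊔ Y)).map (χ.comp (Subgroup.inclusion hle)) = Y := by
    refine Subgroup.eq_of_le_of_card_ge ?_ (le_of_eq ?_)
    · rintro _ ⟨x, hx, rfl⟩
      exact hYin x hx
    · rw [Subgroup.card_map_of_injective (fun a b e => Subgroup.inclusion_injective hle (F.injective_of_mem hχ e))]
      exact (Nat.card_congr (Subgroup.subgroupOfEquivOfLe le_sup_right).toEquiv).symm
  have hRN : R ≤ normalizerIn S Y := by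
    intro x hx
    obtain ⟨hxS, h1⟩ := mem_preimageAlong.mp hx
    refine ⟨hxS, Subgroup.mem_normalizer_iff.mpr fun y => ?_⟩
    have h2 := (hP' h1).2
    constructor
    · intro hy
      obtain ⟨hyS, h3⟩ := mem_preimageAlong.mp hy
      refine mem_preimageAlong.mpr ⟨S.mul_mem (S.mul_mem hxS hyS) (S.inv_mem hxS), ?_⟩
      have h4 := (Subgroup.mem_normalizer_iff.mp h2 _).mp h3
      rw [← map_inv, ← map_mul, ← map_mul] at h4
      exact h4
    · intro hy
      obtain ⟨hyS', h3⟩ := mem_preimageAlong.mp hy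
      have hyS : y ∈ S := by
        have := S.mul_mem (S.mul_mem (S.inv_mem hxS) hyS') hxS
        simpa [mul_assoc] using this
      refine mem_preimageAlong.mpr ⟨hyS, (Subgroup.mem_normalizer_iff.mp h2 _).mpr ?_⟩
      rw [← map_inv, ← map_mul, ← map_mul]
      exact h3
  have hφ₀ := F.restrict_mem hχ (le_sup_left.trans hle : R ≤ _)
  have hval : ∀ x : R, (χ.comp (Subgroup.inclusion (le_sup_left.trans hle))) x ∈ normalizerIn S Y := by
    intro x
    refine ⟨F.apply_mem hφ₀ x, Subgroup.mem_normalizer_iff.mpr fun y => ?_⟩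
    have h1 := (Subgroup.mem_normalizer_iff.mp (hRN x.2).2)
    constructor
    · intro hy
      obtain ⟨w, hw, rfl⟩ := hmapY.ge hy
      show χ _ * χ _ * (χ _)⁻¹ ∈ Y
      rw [← map_inv, ← map_mul, ← map_mul]
      exact hYin _ ((h1 w).mp hw)
    · intro hy
      obtain ⟨w, hw, e⟩ := hmapY.ge hy
      have e' : χ (Subgroup.inclusion hle w) = χ (Subgroup.inclusion (le_sup_left.trans hle) x) * y *
          (χ (Subgroup.inclusion (le_sup_left.trans hle) x))⁻¹ := e
      have h2 : (x : Ω)⁻¹ * (w : Ω) * x ∈ Y := by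
        have := (Subgroup.mem_normalizer_iff.mp (Subgroup.inv_mem _ (hRN x.2).2) _).mp hw
        simpa [mul_assoc] using this
      have h3 := hYin _ h2
      have h4 : χ ⟨(x : Ω)⁻¹ * w * x, hmono le_sup_right h2⟩ = y := by
        rw [show (⟨(x : Ω)⁻¹ * w * x, hmono le_sup_right h2⟩ : ↥(preimageAlong θ (P' ⊔ Z'))) =
          (Subgroup.inclusion (le_sup_left.trans hle) x)⁻¹ * Subgroup.inclusion hle w *
            Subgroup.inclusion (le_sup_left.trans hle) x from rfl, map_mul, map_mul, map_inv, e']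
        group
      rwa [h4] at h3
  obtain ⟨g, hg, hge⟩ := h R _ ⟨hφ₀, hRN, hval, _, F.restrict_mem hχ hle, fun x => rfl, hmapY⟩
  have hgN : θ ⟨g, hg.1⟩ ∈ Subgroup.normalizer (Z' : Set Ω') := by
    refine Subgroup.mem_normalizer_iff.mpr fun z => ⟨fun hz => ?_, fun hz => ?_⟩
    · obtain ⟨s, rfl⟩ := hZ hz
      have h1 := (Subgroup.mem_normalizer_iff.mp hg.2 _).mp (mem_preimageAlong.mpr ⟨s.2, hz⟩)
      obtain ⟨hS', h2⟩ := mem_preimageAlong.mp h1
      rw [← map_inv, ← map_mul, ← map_mul]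
      exact h2
    · obtain ⟨s, hs⟩ := hZ hz
      have hz' : z = θ (⟨g, hg.1⟩⁻¹ * s * ⟨g, hg.1⟩) := by
        rw [map_mul, map_mul, map_inv, hs]
        group
      rw [hz']
      have h1 : g⁻¹ * (s : Ω) * g ∈ Y := by
        have := (Subgroup.mem_normalizer_iff.mp (Subgroup.inv_mem _ hg.2) _).mp
          (mem_preimageAlong.mpr ⟨s.2, hs ▸ hz⟩ : (s : Ω) ∈ Y)
        simpa [mul_assoc] using this
      exact (mem_preimageAlong.mp h1).2
  refine ⟨θ ⟨g, hg.1⟩, ⟨⟨_, rfl⟩, hgN⟩, fun y => ?_⟩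
  obtain ⟨x, hx, hxS, e⟩ := exists_mem_preimageAlong (fun z hz => (hP' hz).1) y
  have h1 := inducedAlong_apply_mem hχ hind ⟨x, hmono le_sup_left hx⟩
    (Subgroup.mem_sup_left (e ▸ y.2 : θ ⟨x, hxS⟩ ∈ P'))
  rw [← hψ'e y, show Subgroup.inclusion le_sup_left y =
    (⟨θ ⟨x, hxS⟩, Subgroup.mem_sup_left (e ▸ y.2 : θ ⟨x, hxS⟩ ∈ P')⟩ : ↥(P' ⊔ Z')) from Subtype.ext e.symm,
    h1, ← e, ← map_inv, ← map_mul, ← map_mul]
  exact congrArg θ (Subtype.ext (hge ⟨x, hx⟩))

variable [Finite S] [Fact p.Prime]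

/-- The case of a centric core. -/
theorem IsConstrained.isInner_of_zj (hF : F.IsConstrained p) (hS : IsPGroup p S) (hp : p ≠ 2)
    (h : F.NormalizerInner (centerThompsonAOf S)) : F.IsInner := by
  obtain ⟨L, _, ι, hL⟩ := (hF.setup_core hS).exists_isModel
  obtain ⟨hfin, ⟨hinj, hiff⟩, ⟨T, hT⟩, hC⟩ := hL
  set W := centerThompsonAOf S with hW
  have hWS : W ≤ S := CfsgLib.ZJ.centerThompsonAOf_le S
  have hWz : CfsgLib.ZJ.zj 0 (T : Subgroup L) = (W.subgroupOf S).map ι := by
    haveI : Finite (⊤ : Subgroup S) := inferInstance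
    have h1 : centerThompsonAOf ((⊤ : Subgroup S).map ι) = (centerThompsonAOf (⊤ : Subgroup S)).map ι :=
      CfsgLib.ZJ.centerThompsonAOf_map ι hinj.injOn
    have h2 := CfsgLib.ZJ.centerThompsonAOf_map (P := (⊤ : Subgroup S)) S.subtype S.subtype_injective.injOn
    rw [← MonoidHom.range_eq_map, Subgroup.range_subtype] at h2
    rw [← CfsgLib.ZJ.centerThompsonAOf_eq, hT, MonoidHom.range_eq_map, h1, hW, h2, Subgroup.subgroupOf,
      Subgroup.comap_map_eq_self_of_injective S.subtype_injective]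
  have hNle : Subgroup.normalizer (CfsgLib.ZJ.zj 0 (T : Subgroup L) : Set L) ≤ (T : Subgroup L) := by
    intro l hl
    let X : Subgroup Ω := ((pCore p L).comap ι).map S.subtype
    have hXS : X ≤ S := Subgroup.map_subtype_le _
    have hQT : pCore p L ≤ (T : Subgroup L) := CfsgLib.pCore_le_sylow T
    have hTN : (T : Subgroup L) ≤ Subgroup.normalizer (CfsgLib.ZJ.zj 0 (T : Subgroup L) : Set L) :=
      Subgroup.le_normalizer.trans (CfsgLib.ZJ.normalizer_le_normalizer_zj 0 _)
    have hsup : ∀ x : ↥(X ⊔ W), ι ⟨x, sup_le hXS hWS x.2⟩ ∈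
        pCore p L ⊔ CfsgLib.ZJ.zj 0 (T : Subgroup L) := by
      intro x
      have h1 : X ⊔ W ≤ ((pCore p L ⊔ CfsgLib.ZJ.zj 0 (T : Subgroup L)).comap ι).map S.subtype :=
        sup_le (Subgroup.map_mono (Subgroup.comap_mono le_sup_left)) fun y hy =>
          ⟨⟨y, hWS hy⟩, Subgroup.mem_sup_right (hWz.ge ⟨⟨y, hWS hy⟩, hy, rfl⟩), rfl⟩
      obtain ⟨s, hs, e⟩ := h1 x.2
      rw [show (⟨x, sup_le hXS hWS x.2⟩ : S) = s from Subtype.ext e.symm]
      exact hs
    have hrng : ∀ x : ↥(X ⊔ W), l * ι ⟨x, sup_le hXS hWS x.2⟩ * l⁻¹ ∈ ι.range := by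
      intro x
      rw [← hT]
      have h1 : pCore p L ⊔ CfsgLib.ZJ.zj 0 (T : Subgroup L) ≤
          (T : Subgroup L).comap (MulAut.conj l).toMonoidHom :=
        sup_le (fun y hy => hQT ((inferInstance : (pCore p L).Normal).conj_mem y hy l))
          fun y hy => show l * y * l⁻¹ ∈ (T : Subgroup L) from
            CfsgLib.ZJ.zj_le 0 _ ((Subgroup.mem_normalizer_iff.mp hl y).mp hy)
      exact h1 (hsup x)
    let ψ : ↥(X ⊔ W) →* Ω := S.subtype.comp ((MonoidHom.ofInjective hinj).symm.toMonoidHom.comp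
      (((MulAut.conj l).toMonoidHom.comp (ι.comp (Subgroup.inclusion (sup_le hXS hWS)))).codRestrict ι.range hrng))
    have hψS : ∀ x, ψ x ∈ S := fun x => SetLike.coe_mem _
    have hψι : ∀ x, ι ⟨ψ x, hψS x⟩ = l * ι ⟨x, sup_le hXS hWS x.2⟩ * l⁻¹ := fun x =>
      congrArg Subtype.val ((MonoidHom.ofInjective hinj).apply_symm_apply ⟨_, hrng x⟩)
    have hψ : ψ ∈ F.Hom (X ⊔ W) := (hiff _ (sup_le hXS hWS) ψ hψS).mpr ⟨l, hψι⟩
    have hψW : (W.subgroupOf (X ⊔ W)).map ψ = W := by
      apply le_antisymm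
      · rintro _ ⟨x, hx, rfl⟩
        have h1 := (Subgroup.mem_normalizer_iff.mp hl _).mp (hWz.ge ⟨⟨x, sup_le hXS hWS x.2⟩, hx, rfl⟩)
        rw [← hψι, hWz] at h1
        obtain ⟨w, hw, e⟩ := h1
        rw [show ψ x = (w : Ω) from (congrArg (fun z : S => (z : Ω)) (hinj e)).symm]
        exact hw
      · intro y hy
        have h1 := (Subgroup.mem_normalizer_iff.mp (Subgroup.inv_mem _ hl) _).mp
          (hWz.ge ⟨⟨y, hWS hy⟩, hy, rfl⟩)
        rw [hWz] at h1
        obtain ⟨w, hw, e⟩ := h1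
        refine ⟨⟨w, Subgroup.mem_sup_right hw⟩, hw, ?_⟩
        refine congrArg (fun z : S => (z : Ω)) (hinj (a₁ := ⟨ψ _, hψS _⟩) (a₂ := ⟨y, hWS hy⟩) ?_)
        rw [hψι]
        show l * ι w * l⁻¹ = _
        rw [e]
        group
    have hNS : ∀ x : Ω, x ∈ S → x ∈ normalizerIn S W := fun x hx =>
      ⟨hx, CfsgLib.ZJ.normalizer_le_normalizer_centerThompsonAOf S (Subgroup.le_normalizer hx)⟩
    obtain ⟨g, hg, hge⟩ := h X _ ⟨F.restrict_mem hψ le_sup_left, fun x hx => hNS x (hXS hx),
      fun x => hNS _ (hψS _), ψ, hψ, fun x => rfl, hψW⟩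
    have h1 : (ι ⟨g, hg.1⟩)⁻¹ * l ∈ Subgroup.centralizer (pCore p L : Set L) := by
      refine Subgroup.mem_centralizer_iff.mpr fun y hy => ?_
      obtain ⟨s, rfl⟩ : y ∈ ι.range := hT ▸ hQT hy
      have hsX : (s : Ω) ∈ X := ⟨s, hy, rfl⟩
      have h2 := hψι ⟨s, Subgroup.mem_sup_left hsX⟩
      rw [show (⟨ψ ⟨s, Subgroup.mem_sup_left hsX⟩, hψS _⟩ : S) = ⟨g, hg.1⟩ * s * ⟨g, hg.1⟩⁻¹ from
        Subtype.ext (hge ⟨s, hsX⟩), map_mul, map_mul, map_inv] at h2
      calc ι s * ((ι ⟨g, hg.1⟩)⁻¹ * l)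
          = (ι ⟨g, hg.1⟩)⁻¹ * (ι ⟨g, hg.1⟩ * ι s * (ι ⟨g, hg.1⟩)⁻¹) * l := by group
        _ = (ι ⟨g, hg.1⟩)⁻¹ * l * ι s := by rw [h2]; group
    have h2 := (T : Subgroup L).mul_mem (hT.ge ⟨⟨g, hg.1⟩, rfl⟩) (hQT (hC h1))
    rwa [mul_inv_cancel_left] at h2
  have hN : HasNormalPComplement p (Subgroup.normalizer (CfsgLib.ZJ.zj 0 (T : Subgroup L) : Set L)) := by
    obtain ⟨P, hP⟩ := ((T.2.to_le hNle).of_equiv Subgroup.topEquiv.symm).exists_le_sylow
    refine ⟨P, ⊥, inferInstance, ?_⟩
    rw [top_le_iff.mp hP]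
    exact Subgroup.isComplement'_bot_top
  obtain ⟨P, K, hK, hKP⟩ := CfsgLib.ZJ.hasNormalPComplement_of_normalizer_zj hp (Or.inl rfl) T hN
  have hKb : K = ⊥ := by
    have hdis : K ⊓ (P : Subgroup L) = ⊥ := hKP.disjoint.eq_bot
    have hKC : K ≤ Subgroup.centralizer (pCore p L : Set L) := by
      intro k hk
      refine Subgroup.mem_centralizer_iff.mpr fun q hq => ?_
      have h1 : q * k * q⁻¹ * k⁻¹ ∈ K ⊓ (P : Subgroup L) := by
        refine ⟨K.mul_mem (hK.conj_mem k hk q) (K.inv_mem hk), CfsgLib.pCore_le_sylow P ?_⟩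
        rw [show q * k * q⁻¹ * k⁻¹ = q * (k * q⁻¹ * k⁻¹) by group]
        exact (pCore p L).mul_mem hq ((inferInstance : (pCore p L).Normal).conj_mem _ ((pCore p L).inv_mem hq) k)
      rw [hdis, Subgroup.mem_bot, mul_inv_eq_one, mul_inv_eq_iff_eq_mul] at h1
      exact h1
    rw [eq_bot_iff, ← hdis]
    exact le_inf le_rfl ((hKC.trans hC).trans (CfsgLib.pCore_le_sylow P))
  rw [hKb, Subgroup.isComplement'_bot_left] at hKP
  have hpL : IsPGroup p (⊤ : Subgroup L) := hKP ▸ P.2
  have hTtop : (T : Subgroup L) = ⊤ := (T.3 hpL le_top).symm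
  intro Q φ hφ
  have hQS := F.source_le hφ
  obtain ⟨l, hl⟩ := (hiff Q hQS φ (F.apply_mem hφ)).mp hφ
  obtain ⟨s, rfl⟩ : l ∈ ι.range := hT ▸ hTtop.ge (Subgroup.mem_top l)
  refine ⟨hQS, s, s.2, fun x => ?_⟩
  have h1 := hl x
  rw [← map_inv, ← map_mul, ← map_mul] at h1
  exact congrArg (fun z : S => (z : Ω)) (hinj h1)

omit [Fact p.Prime] in
theorem count_lt_of_lt {T : Subgroup Ω} {E : FusionSystem T} (h : E.IsSubsystemOf F)
    (hne : ¬ ∀ P, F.Hom P ⊆ E.Hom P) (hT : T ≤ S) :
    Nat.card T < Nat.card S ∨ (Nat.card T = Nat.card S ∧ E.count < F.count) := by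
  rcases (Nat.card_le_card_of_injective _ (Subgroup.inclusion_injective hT)).eq_or_lt with e | e
  exacts [Or.inr ⟨e, count_lt h hne⟩, Or.inl e]

/-- The core of a system is not centric; its quotient is forced to be inner. -/
theorem IsSaturated.quotient_isInner (hF : F.IsSaturated p) (hS : IsPGroup p S) (hX : X = F.core)
    (hnc : ¬ F.IsCentric X)
    (hsub : ∀ T : Subgroup Ω, T = S → ∀ E : FusionSystem T, E.IsSaturated p → E.IsSubsystemOf F →
      ¬ (∀ P, F.Hom P ⊆ E.Hom P) → E.IsInner)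
    {Ω' : Type u} [Group Ω'] (θ : S →* Ω') (E : FusionSystem θ.range) [Finite θ.range]
    (hker : ∀ s : S, θ s = 1 ↔ (s : Ω) ∈ X)
    (hEm : ∀ P' φ', φ' ∈ E.Hom P' ↔ P' ≤ θ.range ∧ ∃ φ ∈ F.Hom (preimageAlong θ P'), InducedAlong θ φ φ') :
    E.NormalizerInner (centerThompsonAOf θ.range) := by
  set V := centerThompsonAOf θ.range with hV
  have hVle : V ≤ θ.range := CfsgLib.ZJ.centerThompsonAOf_le _
  have hVn : θ.range ≤ Subgroup.normalizer (V : Set Ω') :=
    Subgroup.le_normalizer.trans (CfsgLib.ZJ.normalizer_le_normalizer_centerThompsonAOf _)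
  have hXn : F.IsNormal X := hX ▸ isNormal_core F
  have hne : θ.range ≠ ⊥ := by
    intro hb
    have hXS : X = S := by
      refine le_antisymm hXn.1 fun x hx => ?_
      have : θ ⟨x, hx⟩ ∈ θ.range := ⟨_, rfl⟩
      rw [hb, Subgroup.mem_bot] at this
      exact (hker _).mp this
    exact hnc (by rw [hXS]; exact isCentric_self)
  have hpr : IsPGroup p θ.range := hS.of_surjective θ.rangeRestrict θ.rangeRestrict_surjective
  have hVne : V ≠ ⊥ := CfsgLib.ZJ.centerThompsonAOf_ne_bot hpr hne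
  set Y := preimageAlong θ V with hY
  have hYS : Y ≤ S := preimageAlong_le
  have hYN : S ≤ Subgroup.normalizer (Y : Set Ω) := by
    intro x hx
    refine Subgroup.mem_normalizer_iff.mpr fun y => ?_
    have h2 := Subgroup.mem_normalizer_iff.mp (hVn ⟨⟨x, hx⟩, rfl⟩)
    constructor
    · intro hy
      obtain ⟨hyS, h3⟩ := mem_preimageAlong.mp hy
      refine mem_preimageAlong.mpr ⟨S.mul_mem (S.mul_mem hx hyS) (S.inv_mem hx), ?_⟩
      have h4 := (h2 _).mp h3
      rw [← map_inv, ← map_mul, ← map_mul] at h4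
      exact h4
    · intro hy
      obtain ⟨hyS', h3⟩ := mem_preimageAlong.mp hy
      have hyS : y ∈ S := by
        have := S.mul_mem (S.mul_mem (S.inv_mem hx) hyS') hx
        simpa [mul_assoc] using this
      refine mem_preimageAlong.mpr ⟨hyS, (h2 _).mpr ?_⟩
      rw [← map_inv, ← map_mul, ← map_mul]
      exact h3
  have hYn : ¬ F.IsNormal Y := by
    intro hn
    refine hVne ((Subgroup.eq_bot_iff_forall _).mpr fun v hv => ?_)
    obtain ⟨s, rfl⟩ := hVle hv
    exact (hker s).mpr (hX ▸ hn.le_core (mem_preimageAlong.mpr ⟨s.2, hv⟩))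
  have hfn : F.IsFullyNormalized Y := isFullyNormalized_of_le_normalizer hYS hYN
  have hNE := F.normalizerSystem_isNormalizerSystem Y hYS
  have hi := hsub _ (normalizerIn_eq_of_le_normalizer hYN) _
    (hF.isSaturated_normalizerSystem hS hfn hNE) hNE.subsystem (hNE.proper hYS hYn)
  exact NormalizerInner.factor hker hEm hVle (hNE.normalizerInner hi)

theorem IsSaturated.isInner_of_zj_aux (hp : p ≠ 2) :
    ∀ n m : ℕ, ∀ {Ω : Type u} [Group Ω] {S : Subgroup Ω} [Finite S] (F : FusionSystem S),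
      Nat.card S = n → F.count = m → F.IsSaturated p → IsPGroup p S →
      F.NormalizerInner (centerThompsonAOf S) → F.IsInner := by
  intro n
  induction n using Nat.strong_induction_on with
  | h n ihn =>
    intro m
    induction m using Nat.strong_induction_on with
    | h m ihm =>
      intro Ω _ S _ F hn hm hF hS hW
      have hsub : ∀ T : Subgroup Ω, T = S → ∀ E : FusionSystem T, E.IsSaturated p → E.IsSubsystemOf F →
          ¬ (∀ P, F.Hom P ⊆ E.Hom P) → E.IsInner := by
        rintro T rfl E hE hEF hne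
        exact ihm _ (hm ▸ count_lt hEF hne) E hn rfl hE hS (hW.mono hEF)
      by_cases hc : F.IsCentric F.core
      · exact IsConstrained.isInner_of_zj ⟨hF, F.core, isNormal_core F, hc⟩ hS hp hW
      by_cases hb : F.core = ⊥
      swap
      · refine hF.isInner_of_noncentric_core hS hc hsub fun Ω' _ θ E hE hker hEm => ?_
        haveI : Finite θ.range := Finite.of_surjective θ.rangeRestrict θ.rangeRestrict_surjective
        have hpr : IsPGroup p θ.range := hS.of_surjective θ.rangeRestrict θ.rangeRestrict_surjective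
        refine ihn _ ?_ _ E rfl rfl hE hpr (hF.quotient_isInner hS rfl hc hsub θ E hker hEm)
        obtain ⟨x, hx, hx1⟩ := (Subgroup.bot_or_exists_ne_one F.core).resolve_left hb
        have hxS := (isNormal_core F).1 hx
        letI : Fintype S := Fintype.ofFinite _
        letI : Fintype θ.range := Fintype.ofFinite _
        rw [← hn]
        simp only [Nat.card_eq_fintype_card]
        refine Fintype.card_lt_of_surjective_not_injective θ.rangeRestrict θ.rangeRestrict_surjective fun hinj => hx1 ?_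
        have h1 : θ.rangeRestrict ⟨x, hxS⟩ = θ.rangeRestrict 1 := by
          apply Subtype.ext
          show θ ⟨x, hxS⟩ = θ 1
          rw [(hker _).mpr hx, map_one]
        exact congrArg Subtype.val (hinj h1)
      -- trivial core: every local subsystem is inner
      have key : ∀ k, ∀ X, F.IsFullyNormalized X → X ≠ ⊥ → Nat.card S - Nat.card (normalizerIn S X) = k →
          F.NormalizerInner X := by
        intro k
        induction k using Nat.strong_induction_on with
        | h k ihk =>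
          intro X hfn hXb hk
          have hXS := hfn.1
          have hXn : ¬ F.IsNormal X := fun h => hXb (le_bot_iff.mp (hb ▸ h.le_core))
          have hNE := F.normalizerSystem_isNormalizerSystem X hXS
          refine hNE.normalizerInner ?_
          have hEsat := hF.isSaturated_normalizerSystem hS hfn hNE
          set T := normalizerIn S X with hTdef
          set E := F.normalizerSystem X hXS with hEdef
          have hTS : T ≤ S := normalizerIn_le
          haveI : Finite T := finite_of_le hTS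
          have hTp : IsPGroup p T := hS.to_le hTS
          set V := centerThompsonAOf T with hVdef
          have hVT : V ≤ T := CfsgLib.ZJ.centerThompsonAOf_le T
          have hTV : Subgroup.normalizer (T : Set Ω) ≤ Subgroup.normalizer (V : Set Ω) :=
            CfsgLib.ZJ.normalizer_le_normalizer_centerThompsonAOf T
          have hV : E.NormalizerInner V := by
            by_cases hTe : T = S
            · have hW' : F.NormalizerInner V := by
                rw [hVdef, hTe]
                exact hW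
              rintro P φ ⟨h1, h2, h3, ψ, hψ, h4, h5⟩
              obtain ⟨g, hg, hge⟩ := hW' P φ ⟨hNE.subsystem P h1, h2.trans (inf_le_inf_right _ hTS),
                fun x => ⟨hTS (h3 x).1, (h3 x).2⟩, ψ, hNE.subsystem _ hψ, h4, h5⟩
              exact ⟨g, ⟨hTe.ge hg.1, hg.2⟩, hge⟩
            have hlt : T < normalizerIn S T := lt_normalizerIn hS (lt_of_le_of_ne hTS hTe)
            have hTDN : normalizerIn S T ≤ normalizerIn S V := inf_le_inf_left _ hTV
            haveI : Finite (normalizerIn S V) := finite_of_le normalizerIn_le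
            have hcard : Nat.card T < Nat.card (normalizerIn S V) := card_lt_of_lt (hlt.trans_le hTDN)
            obtain ⟨Y, hVY, hYfn⟩ := F.exists_isFullyNormalized (hVT.trans hTS)
            obtain ⟨φ₀, hφ₀, hφ₀r, Ψ, hΨ, hΨN, hΨe⟩ := hF.exists_map_to_fullyNormalized hS hYfn hVY
            have hYne : Y ≠ ⊥ := by
              intro hY
              have hT1 : T ≠ ⊥ := fun h => hXb (le_bot_iff.mp (h ▸ (le_normalizerIn hXS : X ≤ T)))
              refine CfsgLib.ZJ.centerThompsonAOf_ne_bot hTp hT1 ((Subgroup.eq_bot_iff_forall _).mpr fun v hv => ?_)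
              have : φ₀ ⟨v, hv⟩ ∈ Y := hφ₀r ▸ ⟨_, rfl⟩
              rw [hY, Subgroup.mem_bot, ← map_one φ₀] at this
              exact congrArg Subtype.val (F.injective_of_mem hφ₀ this)
            have hYcard : Nat.card (normalizerIn S V) ≤ Nat.card (normalizerIn S Y) :=
              hYfn.2 V hVY.symm
            have hYS : Nat.card (normalizerIn S Y) ≤ Nat.card S :=
              Nat.card_le_card_of_injective _ (Subgroup.inclusion_injective normalizerIn_le)
            have hY := ihk _ (by omega) Y hYfn hYne rfl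
            rintro P φ ⟨h1, h2, h3, ψ, hψ, hψe, hψV⟩
            have hψE : ψ ∈ F.normalizerHom X (P ⊔ V) := (hNE _).le hψ
            obtain ⟨-, -, hψT, χ, hχ, hχe, hχX⟩ := hψE
            have hPT : P ≤ T := h2.trans normalizerIn_le
            have hXT : X ≤ T := le_normalizerIn hXS
            have hTD : T ≤ normalizerIn S V := le_trans (le_normalizerIn hTS) hTDN
            have hRT : (P ⊔ V ⊔ X : Subgroup Ω) ≤ T := sup_le (sup_le hPT hVT) hXT
            have hRD : (P ⊔ V ⊔ X : Subgroup Ω) ≤ normalizerIn S V := hRT.trans hTD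
            have hχT : ∀ x : (P ⊔ V ⊔ X : Subgroup Ω), χ x ∈ T := by
              intro x
              have h : (P ⊔ V ⊔ X : Subgroup Ω) ≤ (T.comap χ).map (P ⊔ V ⊔ X).subtype := by
                refine sup_le (fun y hy => ⟨⟨y, Subgroup.mem_sup_left hy⟩, ?_, rfl⟩)
                  fun y hy => ⟨⟨y, Subgroup.mem_sup_right hy⟩, ?_, rfl⟩
                · show χ (Subgroup.inclusion le_sup_left ⟨y, hy⟩) ∈ T
                  rw [hχe]
                  exact hψT _
                · exact hXT (hχX.le ⟨_, hy, rfl⟩)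
              obtain ⟨z, hz, e⟩ := h x.2
              obtain rfl : z = x := Subtype.ext e
              exact hz
            let ΨR : (P ⊔ V ⊔ X : Subgroup Ω) →* Ω := Ψ.comp (Subgroup.inclusion hRD)
            have hΨR : ΨR ∈ F.Hom (P ⊔ V ⊔ X : Subgroup Ω) := F.restrict_mem hΨ hRD
            obtain ⟨θ, hθ, -, hθl, -⟩ := F.exists_inv hΨR rfl
            have hθm : ∀ y, θ y ∈ (P ⊔ V ⊔ X : Subgroup Ω) := by
              rintro ⟨_, x, rfl⟩
              rw [show θ ⟨ΨR x, ⟨x, rfl⟩⟩ = (x : Ω) from hθl x _]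
              exact x.2
            obtain ⟨ω, hω, hωe⟩ : ∃ ω : ΨR.range →* Ω, ω ∈ F.Hom ΨR.range ∧
                ∀ (x : (P ⊔ V ⊔ X : Subgroup Ω)), ω ⟨ΨR x, x, rfl⟩ = Ψ ⟨χ x, hTD (hχT x)⟩ := by
              refine ⟨_, F.comp_mem (F.comp_mem hθ hχ hθm) hΨ fun y => hTD (hχT _), fun x => ?_⟩
              exact congrArg Ψ (Subtype.ext (congrArg χ (Subtype.ext (hθl x _))))
            have hYR : Y ≤ ΨR.range := by
              intro y hy
              obtain ⟨v, rfl⟩ := hφ₀r.ge hy
              exact ⟨⟨v, Subgroup.mem_sup_left (Subgroup.mem_sup_right v.2)⟩, hΨe v _⟩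
            have hφ₀m : ∀ (v : Ω) (hv : v ∈ V) (hD : v ∈ normalizerIn S V), Ψ ⟨v, hD⟩ ∈ Y := fun v hv hD => by
              rw [hΨe ⟨v, hv⟩ hD]
              exact hφ₀r.le ⟨_, rfl⟩
            have hωY : (Y.subgroupOf (ΨR.range ⊔ Y)).map
                (ω.comp (Subgroup.inclusion (sup_le le_rfl hYR))) = Y := by
              apply le_antisymm
              · rintro _ ⟨⟨y, hy'⟩, hy, rfl⟩
                obtain ⟨v, rfl⟩ := hφ₀r.ge hy
                have hvR : (v : Ω) ∈ (P ⊔ V ⊔ X : Subgroup Ω) := Subgroup.mem_sup_left (Subgroup.mem_sup_right v.2)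
                show ω ⟨φ₀ v, _⟩ ∈ Y
                rw [show (⟨φ₀ v, sup_le le_rfl hYR hy'⟩ : ΨR.range) = ⟨ΨR ⟨v, hvR⟩, _, rfl⟩ from
                  Subtype.ext (hΨe v _).symm, hωe]
                refine hφ₀m _ ?_ _
                show χ (Subgroup.inclusion le_sup_left ⟨(v : Ω), Subgroup.mem_sup_right v.2⟩) ∈ V
                rw [hχe]
                exact hψV.le ⟨_, v.2, rfl⟩
              · intro y hy
                obtain ⟨v, rfl⟩ := hφ₀r.ge hy
                obtain ⟨u, hu, e⟩ := hψV.ge v.2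
                have huR : (u : Ω) ∈ (P ⊔ V ⊔ X : Subgroup Ω) := Subgroup.mem_sup_left u.2
                have huY : ΨR ⟨u, huR⟩ ∈ Y := hφ₀m _ hu _
                refine ⟨⟨_, Subgroup.mem_sup_right huY⟩, huY, ?_⟩
                show ω ⟨ΨR ⟨u, huR⟩, _⟩ = _
                rw [hωe, ← hΨe v (hTD (hVT v.2))]
                refine congrArg Ψ (Subtype.ext ?_)
                show χ (Subgroup.inclusion le_sup_left u) = _
                rw [hχe]
                exact e
            obtain ⟨t, ht, hte⟩ := hY ΨR.range ω ⟨hω, by rintro _ ⟨x, rfl⟩; exact hΨN _,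
              fun y => by obtain ⟨_, x, rfl⟩ := y; rw [hωe]; exact hΨN _,
              _, F.restrict_mem hω (sup_le le_rfl hYR), fun _ => rfl, hωY⟩
            -- `t` is in the image of `T`
            let ΨT : T →* Ω := Ψ.comp (Subgroup.inclusion hTD)
            have hΨT : ΨT ∈ F.Hom T := F.restrict_mem hΨ hTD
            let X' : Subgroup Ω := (X.subgroupOf T).map ΨT
            have hX'e : X' = (ΨT.comp (Subgroup.inclusion hXT)).range := by
              apply le_antisymm
              · rintro _ ⟨x, hx, rfl⟩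
                exact ⟨⟨x, hx⟩, rfl⟩
              · rintro _ ⟨x, rfl⟩
                exact ⟨Subgroup.inclusion hXT x, x.2, rfl⟩
            have hconjX : F.IsConj X X' := ⟨_, F.restrict_mem hΨT hXT, hX'e.symm⟩
            have hle' : ΨT.range ≤ normalizerIn S X' := by
              rintro _ ⟨x, rfl⟩
              exact mapsTo_normalizerIn (φ := ΨT.comp (Subgroup.inclusion hXT)) hΨT hXT le_rfl (fun _ => rfl)
                hX'e.symm x
            haveI : Finite (normalizerIn S X') := finite_of_le normalizerIn_le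
            have heq : ΨT.range = normalizerIn S X' := by
              refine Subgroup.eq_of_le_of_card_ge hle' ?_
              rw [Nat.card_congr (MonoidHom.ofInjective (F.injective_of_mem hΨT)).toEquiv.symm]
              exact hfn.2 X' hconjX
            have himg : ∀ (x : Ω) (hx : x ∈ X), ∃ h : χ ⟨x, Subgroup.mem_sup_right hx⟩ ∈ X,
                ΨT ⟨_, hXT h⟩ = t * ΨT ⟨x, hXT hx⟩ * t⁻¹ := by
              intro x hx
              have hxR : x ∈ (P ⊔ V ⊔ X : Subgroup Ω) := Subgroup.mem_sup_right hx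
              refine ⟨hχX.le ⟨⟨x, hxR⟩, hx, rfl⟩, ?_⟩
              have := hte ⟨ΨR ⟨x, hxR⟩, _, rfl⟩
              rw [hωe] at this
              exact this
            have htX : t ∈ Subgroup.normalizer (X' : Set Ω) := by
              refine Subgroup.mem_normalizer_iff.mpr fun y => ⟨?_, fun hy => ?_⟩
              · rintro ⟨x, hx, rfl⟩
                obtain ⟨h, e⟩ := himg x hx
                exact ⟨⟨_, hXT h⟩, h, e⟩
              · obtain ⟨x, hx, e⟩ := hy
                obtain ⟨u, hu, e'⟩ := hχX.ge hx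
                obtain ⟨h, e''⟩ := himg u hu
                rw [show (⟨χ ⟨(u : Ω), Subgroup.mem_sup_right hu⟩, hXT h⟩ : T) = x from Subtype.ext e', e] at e''
                rw [mul_left_cancel (mul_right_cancel e'')]
                exact ⟨⟨u, hXT hu⟩, hu, rfl⟩
            obtain ⟨g, hg⟩ : t ∈ ΨT.range := heq ▸ ⟨ht.1, htX⟩
            refine ⟨g, ⟨g.2, hTV (Subgroup.le_normalizer g.2)⟩, fun x => ?_⟩
            have hxR : (x : Ω) ∈ (P ⊔ V ⊔ X : Subgroup Ω) := Subgroup.mem_sup_left (Subgroup.mem_sup_left x.2)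
            have h := hte ⟨ΨR ⟨x, hxR⟩, _, rfl⟩
            rw [hωe] at h
            have hxT : (x : Ω) ∈ T := hPT x.2
            have h' : ΨT ⟨χ ⟨x, hxR⟩, hχT _⟩ = t * ΨT ⟨x, hxT⟩ * t⁻¹ := h
            rw [← hg, ← map_inv, ← map_mul, ← map_mul] at h'
            have e1 := congrArg (fun z : T => (z : Ω)) (F.injective_of_mem hΨT h')
            rw [← hψe x, ← hχe]
            exact e1
          rcases count_lt_of_lt hNE.subsystem (hNE.proper hXS hXn) hTS with h | ⟨h, h'⟩
          · exact ihn _ (hn ▸ h) _ E rfl rfl hEsat hTp hV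
          · exact ihm _ (hm ▸ h') E (h.trans hn) rfl hEsat hTp hV
      rcases eq_or_ne S ⊥ with hSb | hSb
      · exact fun P φ hφ => ⟨F.source_le hφ, 1, S.one_mem, fun x => by
          have h1 := F.apply_mem hφ x
          have h2 := F.source_le hφ x.2
          rw [hSb, Subgroup.mem_bot] at h1 h2
          rw [h1, h2]
          simp⟩
      have haut : ∀ Q, Q ≤ S → Q ≠ ⊥ → F.IsFullyNormalized Q → IsPGroup p (F.autGroup Q) := by
        intro Q hQS hQb hQfn
        refine (isPGroup_autInducedBy hS).to_le (K := autInducedBy S Q) fun α hα => ?_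
        obtain ⟨φ, hφ, hr, he⟩ := F.exists_map_of_mem_autGroup hQS hα
        have hQN : Q ≤ normalizerIn S Q := le_normalizerIn hQS
        obtain ⟨g, hg, hge⟩ := key _ Q hQfn hQb rfl Q φ ⟨hφ, hQN, fun x => hQN (hr.le ⟨x, rfl⟩), _,
          F.restrict_mem hφ (sup_le le_rfl le_rfl), fun _ => rfl, by
            apply le_antisymm
            · rintro _ ⟨x, -, rfl⟩
              exact hr.le ⟨_, rfl⟩
            · intro y hy
              obtain ⟨x, rfl⟩ := hr.ge hy
              exact ⟨⟨x, Subgroup.mem_sup_left x.2⟩, x.2, rfl⟩⟩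
        exact mem_autInducedBy_iff.mpr ⟨g, hg.1, hg.2, fun x => (he x).symm.trans (hge x)⟩
      refine hF.isInner_of_essential hS (haut S le_rfl hSb isFullyNormalized_self) fun Q hQ => ?_
      obtain ⟨R, hQR, hR⟩ := F.exists_isFullyNormalized hQ.1.1
      have hQb : Q ≠ ⊥ := by
        rintro rfl
        refine hSb (le_bot_iff.mp fun x hx => ?_)
        exact hQ.1.centralizerIn_le_self ⟨hx, Subgroup.mem_centralizer_iff.mpr fun y hy => by
          rw [Subgroup.mem_bot.mp hy, one_mul, mul_one]⟩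
      have hRb : R ≠ ⊥ := fun h => hQb (Subgroup.eq_bot_of_card_eq Q (by
        rw [hQR.card_eq, h, Subgroup.card_bot]))
      haveI := finite_autGroup (F := F) hR.1
      haveI := finite_autGroup (F := F) hQ.1.1
      obtain ⟨k, hk⟩ := IsPGroup.iff_card.mp (haut R hR.1 hRb hR)
      exact IsPGroup.of_card (hQR.card_autGroup.trans hk)

/-- **Glauberman–Thompson for fusion systems.** -/
theorem IsSaturated.isInner_of_zj (hp : p ≠ 2) (hF : F.IsSaturated p) (hS : IsPGroup p S)
    (h : F.NormalizerInner (centerThompsonAOf S)) : F.IsInner :=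
  IsSaturated.isInner_of_zj_aux hp _ _ F rfl rfl hF hS h

/-- A system all of whose proper saturated subsystems on `S` are inner is inner or constrained. -/
theorem IsSaturated.isConstrained_of_minimal (hp : p ≠ 2) (hF : F.IsSaturated p) (hS : IsPGroup p S)
    (hne : ¬ F.IsInner)
    (hsub : ∀ T : Subgroup Ω, T = S → ∀ E : FusionSystem T, E.IsSaturated p → E.IsSubsystemOf F →
      ¬ (∀ P, F.Hom P ⊆ E.Hom P) → E.IsInner) : F.IsConstrained p := by
  refine ⟨hF, F.core, isNormal_core F, ?_⟩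
  by_contra hc
  refine hne (hF.isInner_of_noncentric_core hS hc hsub fun Ω' _ θ E hE hker hEm => ?_)
  haveI : Finite θ.range := Finite.of_surjective θ.rangeRestrict θ.rangeRestrict_surjective
  exact hE.isInner_of_zj hp (hS.of_surjective θ.rangeRestrict θ.rangeRestrict_surjective)
    (hF.quotient_isInner hS rfl hc hsub θ E hker hEm)

end Cfsg.FusionSystem
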