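import Cfsg.Prelude.Def_FusionSystem
import Mathlib.GroupTheory.Subgroup.Centralizer
import Mathlib.GroupTheory.PGroup
import Mathlib.GroupTheory.Index

/-!
Elementary theory of fusion systems: restriction, composition, inverses, conjugacy, automorphism groups,
`autInducedBy`, extenders.
-/

set_option autoImplicit false

namespace Cfsg

namespace FusionSystem

variable {Ω : Type*} [Group Ω] {S : Subgroup Ω} (F : FusionSystem S)

variable {F} {P Q R : Subgroup Ω} {φ : P →* Ω}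

theorem source_le (hφ : φ ∈ F.Hom P) : P ≤ S := (F.le_of_mem hφ).1

theorem apply_mem (hφ : φ ∈ F.Hom P) (x : P) : φ x ∈ S := (F.le_of_mem hφ).2 x

theorem range_le (hφ : φ ∈ F.Hom P) : φ.range ≤ S := by
  rintro _ ⟨x, rfl⟩
  exact F.apply_mem hφ x

variable (F) in
theorem id_mem (hP : P ≤ S) : P.subtype ∈ F.Hom P := by
  have h := F.conj_mem (g := 1) hP S.one_mem
  have e : conjHom P (1 : Ω) = P.subtype := by
    ext x
    show (1 : Ω) * x * 1⁻¹ = x
    group
  rwa [e] at h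

variable (F) in
theorem conjHom_apply (g : Ω) (x : P) : conjHom P g x = g * (x : Ω) * g⁻¹ := rfl

/-- Composition of two maps, as an existence statement. -/
theorem exists_comp {ψ : Q →* Ω} (hφ : φ ∈ F.Hom P) (hψ : ψ ∈ F.Hom Q) (h : ∀ x : P, φ x ∈ Q) :
    ∃ χ ∈ F.Hom P, ∀ x : P, χ x = ψ ⟨φ x, h x⟩ :=
  ⟨_, F.comp_mem hφ hψ h, fun _ => rfl⟩

/-- A homomorphism that agrees pointwise with a map of the system is a map of the system. -/
theorem mem_of_apply_eq {ψ : P →* Ω} (hφ : φ ∈ F.Hom P) (h : ∀ x, ψ x = φ x) : ψ ∈ F.Hom P := by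
  rwa [show ψ = φ from MonoidHom.ext h]

theorem restrict_mem (hφ : φ ∈ F.Hom P) (h : R ≤ P) :
    φ.comp (Subgroup.inclusion h) ∈ F.Hom R :=
  F.comp_mem (F.id_mem (h.trans (F.source_le hφ))) hφ (fun x => h x.2)

/-- Restriction of a map with larger source, given pointwise. -/
theorem mem_of_restrict {ψ : Q →* Ω} (hψ : ψ ∈ F.Hom Q) (h : P ≤ Q)
    (he : ∀ (x : Ω) (hP : x ∈ P), φ ⟨x, hP⟩ = ψ ⟨x, h hP⟩) : φ ∈ F.Hom P :=
  F.mem_of_apply_eq (F.restrict_mem hψ h) fun x => he x x.2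

/-- The inverse of an isomorphism of the system. -/
theorem exists_inv (hφ : φ ∈ F.Hom P) (hQ : φ.range = Q) :
    ∃ ψ ∈ F.Hom Q, ψ.range = P ∧ (∀ (x : P) (h : φ x ∈ Q), ψ ⟨φ x, h⟩ = x) ∧
      ∀ (y : Q) (h : ψ y ∈ P), φ ⟨ψ y, h⟩ = y := by
  subst hQ
  obtain ⟨ψ, hψ, hinv⟩ := F.inv_mem hφ
  refine ⟨ψ, hψ, ?_, fun x h => hinv x, ?_⟩
  · ext y
    constructor
    · rintro ⟨⟨_, x, rfl⟩, rfl⟩
      rw [hinv x]
      exact x.2
    · intro hy
      exact ⟨⟨φ ⟨y, hy⟩, ⟨y, hy⟩, rfl⟩, hinv ⟨y, hy⟩⟩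
  · rintro ⟨_, x, rfl⟩ h
    congr 1
    exact Subtype.ext (hinv x)

theorem IsConj.le_left (h : F.IsConj P Q) : P ≤ S := by
  obtain ⟨φ, hφ, -⟩ := h
  exact F.source_le hφ

theorem IsConj.le_right (h : F.IsConj P Q) : Q ≤ S := by
  obtain ⟨φ, hφ, rfl⟩ := h
  exact F.range_le hφ

variable (F) in
theorem isConj_refl (hP : P ≤ S) : F.IsConj P P := ⟨_, F.id_mem hP, P.range_subtype⟩

theorem IsConj.symm (h : F.IsConj P Q) : F.IsConj Q P := by
  obtain ⟨φ, hφ, hQ⟩ := h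
  obtain ⟨ψ, hψ, hP, -⟩ := F.exists_inv hφ hQ
  exact ⟨ψ, hψ, hP⟩

theorem IsConj.trans (h : F.IsConj P Q) (h' : F.IsConj Q R) : F.IsConj P R := by
  obtain ⟨φ, hφ, rfl⟩ := h
  obtain ⟨ψ, hψ, rfl⟩ := h'
  obtain ⟨χ, hχ, he⟩ := F.exists_comp hφ hψ (fun x => ⟨x, rfl⟩)
  refine ⟨χ, hχ, ?_⟩
  ext y
  constructor
  · rintro ⟨x, rfl⟩
    exact ⟨_, (he x).symm⟩
  · rintro ⟨⟨_, x, rfl⟩, rfl⟩
    exact ⟨x, he x⟩

/-! ### Isomorphisms of subgroups attached to maps -/

variable (F) in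
/-- The isomorphism from the source of a map of the system onto its image. -/
noncomputable def isoOf (hφ : φ ∈ F.Hom P) (hQ : φ.range = Q) : P ≃* Q :=
  (MonoidHom.ofInjective (F.injective_of_mem hφ)).trans (MulEquiv.subgroupCongr hQ)

@[simp] theorem coe_isoOf (hφ : φ ∈ F.Hom P) (hQ : φ.range = Q) (x : P) :
    ((F.isoOf hφ hQ x : Q) : Ω) = φ x := rfl

theorem IsConj.nonempty_mulEquiv (h : F.IsConj P Q) : Nonempty (P ≃* Q) := by
  obtain ⟨φ, hφ, hQ⟩ := h
  exact ⟨F.isoOf hφ hQ⟩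

theorem IsConj.card_eq (h : F.IsConj P Q) : Nat.card P = Nat.card Q := by
  obtain ⟨e⟩ := h.nonempty_mulEquiv
  exact Nat.card_congr e.toEquiv

/-! ### Automorphism groups -/

/-- The automorphisms of `P` coming from maps of the system, as a subgroup. -/
theorem mem_autGroup_iff (hP : P ≤ S) {α : MulAut P} :
    α ∈ F.autGroup P ↔ P.subtype.comp α.toMonoidHom ∈ F.Hom P := by
  let A : Subgroup (MulAut P) :=
    { carrier := {α : MulAut P | P.subtype.comp α.toMonoidHom ∈ F.Hom P}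
      one_mem' := F.mem_of_apply_eq (F.id_mem hP) fun x => rfl
      mul_mem' := by
        intro a b ha hb
        obtain ⟨χ, hχ, he⟩ := F.exists_comp hb ha (fun x => (b x).2)
        exact F.mem_of_apply_eq hχ fun x => by rw [he]; rfl
      inv_mem' := by
        intro a ha
        have hr : (P.subtype.comp a.toMonoidHom).range = P := by
          ext y
          constructor
          · rintro ⟨x, rfl⟩
            exact (a x).2
          · intro hy
            exact ⟨a.symm ⟨y, hy⟩, by simp⟩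
        obtain ⟨ψ, hψ, -, hψl, -⟩ := F.exists_inv ha hr
        refine F.mem_of_apply_eq hψ fun x => ?_
        have h1 := hψl (a.symm x) (by simp)
        have h2 : (⟨(P.subtype.comp a.toMonoidHom) (a.symm x), by simp⟩ : P) = x := by ext; simp
        rw [h2] at h1
        exact h1.symm }
  show α ∈ Subgroup.closure (A : Set (MulAut P)) ↔ α ∈ A
  rw [Subgroup.closure_eq]

theorem autGroup_eq_bot (hP : ¬ P ≤ S) : F.autGroup P = ⊥ := by
  rw [FusionSystem.autGroup, Subgroup.closure_eq_bot_iff]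
  intro α hα
  exact absurd (F.source_le hα) hP

theorem exists_map_of_mem_autGroup (hP : P ≤ S) {α : MulAut P} (hα : α ∈ F.autGroup P) :
    ∃ φ ∈ F.Hom P, φ.range = P ∧ ∀ x : P, φ x = ((α x : P) : Ω) := by
  refine ⟨_, (F.mem_autGroup_iff hP).mp hα, ?_, fun x => rfl⟩
  ext y
  constructor
  · rintro ⟨x, rfl⟩
    exact (α x).2
  · intro hy
    exact ⟨α.symm ⟨y, hy⟩, by simp⟩

theorem mem_autGroup_of_map (hφ : φ ∈ F.Hom P) {α : MulAut P} (h : ∀ x : P, ((α x : P) : Ω) = φ x) :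
    α ∈ F.autGroup P :=
  (F.mem_autGroup_iff (F.source_le hφ)).mpr (F.mem_of_apply_eq hφ h)

theorem isoOf_mem_autGroup (hφ : φ ∈ F.Hom P) (hP : φ.range = P) :
    (F.isoOf hφ hP : MulAut P) ∈ F.autGroup P :=
  F.mem_autGroup_of_map hφ fun _ => rfl

theorem autGroup_map_congr (hφ : φ ∈ F.Hom P) (hQ : φ.range = Q) :
    (F.autGroup P).map (MulAut.congr (F.isoOf hφ hQ)).toMonoidHom = F.autGroup Q := by
  have hP : P ≤ S := F.source_le hφ
  have hQS : Q ≤ S := hQ ▸ F.range_le hφ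
  obtain ⟨ψ, hψ, hψr, hψl, hψr'⟩ := F.exists_inv hφ hQ
  have hψP : ∀ y : Q, ψ y ∈ P := fun y => hψr.le ⟨y, rfl⟩
  have hφQ : ∀ x : P, φ x ∈ Q := fun x => hQ.le ⟨x, rfl⟩
  have hsymm : ∀ y : Q, (((F.isoOf hφ hQ).symm y : P) : Ω) = ψ y := by
    intro y
    obtain ⟨x, rfl⟩ := (F.isoOf hφ hQ).surjective y
    rw [MulEquiv.symm_apply_apply]
    exact (hψl x (hφQ x)).symm
  ext β
  rw [Subgroup.mem_map_equiv]
  constructor
  · intro hα
    obtain ⟨a, ha, -, hae⟩ := F.exists_map_of_mem_autGroup hP hα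
    obtain ⟨χ, hχ, hχe⟩ := F.exists_comp hψ ha hψP
    obtain ⟨ω, hω, hωe⟩ := F.exists_comp hχ hφ (fun y => by rw [hχe, hae]; exact SetLike.coe_mem _)
    refine F.mem_autGroup_of_map hω fun y => ?_
    rw [hωe]
    have : (⟨ψ y, hψP y⟩ : P) = (F.isoOf hφ hQ).symm y := Subtype.ext (hsymm y).symm
    simp only [hχe, hae, this]
    show ((β y : Q) : Ω) = φ _
    rw [← coe_isoOf hφ hQ]
    simp [MulAut.congr]
  · intro hβ
    obtain ⟨b, hb, -, hbe⟩ := F.exists_map_of_mem_autGroup hQS hβ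
    obtain ⟨χ, hχ, hχe⟩ := F.exists_comp hφ hb hφQ
    obtain ⟨ω, hω, hωe⟩ := F.exists_comp hχ hψ (fun x => by rw [hχe, hbe]; exact SetLike.coe_mem _)
    refine F.mem_autGroup_of_map hω fun x => ?_
    rw [hωe]
    simp only [hχe, hbe]
    have : (⟨φ x, hφQ x⟩ : Q) = F.isoOf hφ hQ x := Subtype.ext rfl
    simp only [this]
    rw [← hsymm]
    simp [MulAut.congr]

theorem IsConj.card_autGroup (h : F.IsConj P Q) :
    Nat.card (F.autGroup P) = Nat.card (F.autGroup Q) := by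
  obtain ⟨φ, hφ, hQ⟩ := h
  rw [← F.autGroup_map_congr hφ hQ]
  exact (Subgroup.card_map_of_injective (MulEquiv.injective _)).symm

end FusionSystem

/-! ### `autInducedBy` -/

section autInducedBy

variable {Ω : Type*} [Group Ω] {K P : Subgroup Ω}

theorem autInducedBy_eq_map (K P : Subgroup Ω) :
    autInducedBy K P =
      (K.subgroupOf (Subgroup.normalizer (P : Set Ω))).map P.normalizerMonoidHom := by
  apply le_antisymm
  · rw [autInducedBy, Subgroup.closure_le]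
    rintro α ⟨g, hgK, hg⟩
    have hgN : g ∈ Subgroup.normalizer (P : Set Ω) := by
      rw [Subgroup.mem_normalizer_iff]
      intro x
      constructor
      · intro hx
        rw [← hg ⟨x, hx⟩]
        exact SetLike.coe_mem _
      · intro hx
        obtain ⟨y, hy⟩ := α.surjective ⟨g * x * g⁻¹, hx⟩
        have h1 := hg y
        rw [hy] at h1
        have : x = (y : Ω) := mul_left_cancel (mul_right_cancel h1)
        rw [this]
        exact y.2
    refine ⟨⟨g, hgN⟩, hgK, ?_⟩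
    ext x
    rw [hg x]
    rfl
  · rintro _ ⟨g, hgK, rfl⟩
    exact Subgroup.subset_closure ⟨g, hgK, fun x => rfl⟩

theorem mem_autInducedBy_iff {α : MulAut P} :
    α ∈ autInducedBy K P ↔ ∃ g ∈ K, g ∈ Subgroup.normalizer (P : Set Ω) ∧
      ∀ x : P, ((α x : P) : Ω) = g * x * g⁻¹ := by
  rw [autInducedBy_eq_map]
  constructor
  · rintro ⟨g, hgK, rfl⟩
    exact ⟨g, hgK, g.2, fun x => rfl⟩
  · rintro ⟨g, hgK, hgN, h⟩
    exact ⟨⟨g, hgN⟩, hgK, by ext x; rw [h x]; rfl⟩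

theorem autInducedBy_mono {K' : Subgroup Ω} (h : K ≤ K') : autInducedBy K P ≤ autInducedBy K' P := by
  intro α hα
  obtain ⟨g, hg, hN, he⟩ := mem_autInducedBy_iff.mp hα
  exact mem_autInducedBy_iff.mpr ⟨g, h hg, hN, he⟩

theorem inn_eq_autInducedBy (P : Subgroup Ω) : Inn P = autInducedBy P P := by
  ext α
  rw [mem_autInducedBy_iff]
  constructor
  · rintro ⟨g, rfl⟩
    exact ⟨g, g.2, Subgroup.le_normalizer g.2, fun x => rfl⟩
  · rintro ⟨g, hg, -, h⟩
    exact ⟨⟨g, hg⟩, by ext x; rw [h x]; rfl⟩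

theorem isPGroup_autInducedBy {p : ℕ} (hK : IsPGroup p K) : IsPGroup p (autInducedBy K P) := by
  rw [autInducedBy_eq_map]
  refine IsPGroup.map ?_ _
  exact hK.comap_of_injective (Subgroup.subtype _) Subtype.coe_injective

theorem card_autInducedBy_mul (S P : Subgroup Ω) :
    Nat.card (autInducedBy S P) * Nat.card (FusionSystem.centralizerIn S P) =
      Nat.card (FusionSystem.normalizerIn S P) := by
  let f : ↥(S.subgroupOf (Subgroup.normalizer (P : Set Ω))) →* MulAut P :=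
    P.normalizerMonoidHom.comp (Subgroup.subtype _)
  have hr : f.range = autInducedBy S P := by
    rw [autInducedBy_eq_map]
    simp [f, MonoidHom.range_comp]
  have h1 : Nat.card f.ker * f.ker.index = Nat.card ↥(S.subgroupOf (Subgroup.normalizer (P : Set Ω))) :=
    Subgroup.card_mul_index _
  rw [Subgroup.index_ker, hr] at h1
  have e1 : Nat.card ↥(S.subgroupOf (Subgroup.normalizer (P : Set Ω))) =
      Nat.card (FusionSystem.normalizerIn S P) :=
    Nat.card_congr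
      { toFun := fun x => ⟨((x : Subgroup.normalizer (P : Set Ω)) : Ω), x.2, x.1.2⟩
        invFun := fun x => ⟨⟨x.1, x.2.2⟩, x.2.1⟩
        left_inv := fun _ => rfl
        right_inv := fun _ => rfl }
  have e2 : Nat.card f.ker = Nat.card (FusionSystem.centralizerIn S P) := by
    have hk : ∀ x : ↥(S.subgroupOf (Subgroup.normalizer (P : Set Ω))),
        x ∈ f.ker ↔ ((x : Subgroup.normalizer (P : Set Ω)) : Ω) ∈ Subgroup.centralizer (P : Set Ω) := by
      intro x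
      show (x : Subgroup.normalizer (P : Set Ω)) ∈ P.normalizerMonoidHom.ker ↔ _
      rw [Subgroup.normalizerMonoidHom_ker]
      rfl
    exact Nat.card_congr
      { toFun := fun x => ⟨((x.1 : Subgroup.normalizer (P : Set Ω)) : Ω), x.1.2, (hk x.1).mp x.2⟩
        invFun := fun x => ⟨⟨⟨x.1, Subgroup.centralizer_le_normalizer _ x.2.2⟩, x.2.1⟩,
          (hk _).mpr x.2.2⟩
        left_inv := fun _ => rfl
        right_inv := fun _ => rfl }
  rw [← e1, ← h1, e2, mul_comm]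

end autInducedBy

namespace FusionSystem

variable {Ω : Type*} [Group Ω] {S : Subgroup Ω} {F : FusionSystem S} {P Q R : Subgroup Ω}
  {φ : P →* Ω}

theorem autInducedBy_le_autGroup (hP : P ≤ S) : autInducedBy S P ≤ F.autGroup P := by
  intro α hα
  obtain ⟨g, hg, -, he⟩ := mem_autInducedBy_iff.mp hα
  exact F.mem_autGroup_of_map (F.conj_mem hP hg) he

theorem inn_le_autInducedBy (hP : P ≤ S) : Inn P ≤ autInducedBy S P := by
  rw [inn_eq_autInducedBy]
  exact autInducedBy_mono hP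

theorem inn_le_autGroup (hP : P ≤ S) : Inn P ≤ F.autGroup P :=
  (inn_le_autInducedBy hP).trans (F.autInducedBy_le_autGroup hP)

/-! ### Extenders -/

theorem mem_extender_iff (hφS : ∀ x, φ x ∈ S) {g : Ω} :
    g ∈ extender S P φ ↔ g ∈ S ∧ g ∈ Subgroup.normalizer (P : Set Ω) ∧
      ∃ h ∈ S, ∀ (x : P) (hx : g * (x : Ω) * g⁻¹ ∈ P), φ ⟨g * x * g⁻¹, hx⟩ = h * φ x * h⁻¹ := by
  let A : Subgroup Ω :=
    { carrier := {g : Ω | g ∈ S ∧ g ∈ Subgroup.normalizer (P : Set Ω) ∧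
        ∃ h ∈ S, ∀ (x : P) (hx : g * (x : Ω) * g⁻¹ ∈ P), φ ⟨g * x * g⁻¹, hx⟩ = h * φ x * h⁻¹}
      one_mem' := ⟨S.one_mem, Subgroup.one_mem _, 1, S.one_mem, fun x hx => by
        have : (⟨1 * (x : Ω) * 1⁻¹, hx⟩ : P) = x := by ext; simp
        rw [this]
        group⟩
      mul_mem' := by
        rintro a b ⟨haS, haN, ha, haH, hae⟩ ⟨hbS, hbN, hb, hbH, hbe⟩
        refine ⟨S.mul_mem haS hbS, Subgroup.mul_mem _ haN hbN, ha * hb, S.mul_mem haH hbH, ?_⟩
        intro x hx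
        have h1 : b * (x : Ω) * b⁻¹ ∈ P := (Subgroup.mem_normalizer_iff.mp hbN x).mp x.2
        have h2 : a * (b * (x : Ω) * b⁻¹) * a⁻¹ ∈ P := (Subgroup.mem_normalizer_iff.mp haN _).mp h1
        have : (⟨a * b * (x : Ω) * (a * b)⁻¹, hx⟩ : P) =
            ⟨a * ((⟨b * x * b⁻¹, h1⟩ : P) : Ω) * a⁻¹, h2⟩ := by
          ext
          show a * b * (x : Ω) * (a * b)⁻¹ = a * (b * x * b⁻¹) * a⁻¹
          group
        rw [this, hae, hbe]
        group
      inv_mem' := by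
        rintro a ⟨haS, haN, ha, haH, hae⟩
        refine ⟨S.inv_mem haS, Subgroup.inv_mem _ haN, ha⁻¹, S.inv_mem haH, ?_⟩
        intro x hx
        have h1 : a * ((⟨a⁻¹ * (x : Ω) * a⁻¹⁻¹, hx⟩ : P) : Ω) * a⁻¹ ∈ P := by
          simpa [mul_assoc] using x.2
        have h2 := hae ⟨a⁻¹ * (x : Ω) * a⁻¹⁻¹, hx⟩ h1
        have : (⟨a * ((⟨a⁻¹ * (x : Ω) * a⁻¹⁻¹, hx⟩ : P) : Ω) * a⁻¹, h1⟩ : P) = x := by
          ext
          simp [mul_assoc]
        rw [this] at h2
        rw [h2]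
        group }
  show g ∈ Subgroup.closure (A : Set Ω) ↔ g ∈ A
  rw [Subgroup.closure_eq]

theorem extender_le_normalizerIn (hφS : ∀ x, φ x ∈ S) : extender S P φ ≤ normalizerIn S P :=
  fun g hg => ⟨((mem_extender_iff hφS).mp hg).1, ((mem_extender_iff hφS).mp hg).2.1⟩

theorem le_extender (hP : P ≤ S) (hφS : ∀ x, φ x ∈ S) : P ≤ extender S P φ := by
  intro g hg
  refine (mem_extender_iff hφS).mpr ⟨hP hg, Subgroup.le_normalizer hg, φ ⟨g, hg⟩, hφS _, ?_⟩
  intro x hx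
  rw [← map_mul, ← map_inv, ← map_mul]
  rfl

theorem centralizerIn_le_extender (hφS : ∀ x, φ x ∈ S) : centralizerIn S P ≤ extender S P φ := by
  intro g hg
  refine (mem_extender_iff hφS).mpr
    ⟨hg.1, Subgroup.centralizer_le_normalizer _ hg.2, 1, S.one_mem, ?_⟩
  intro x hx
  have h1 := Subgroup.mem_centralizer_iff.mp hg.2 x x.2
  have : (⟨g * (x : Ω) * g⁻¹, hx⟩ : P) = x := by
    ext
    show g * (x : Ω) * g⁻¹ = x
    rw [← h1, mul_inv_cancel_right]
  rw [this]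
  group

theorem le_normalizerIn (hP : P ≤ S) : P ≤ normalizerIn S P :=
  fun _ hg => ⟨hP hg, Subgroup.le_normalizer hg⟩

theorem centralizerIn_le_normalizerIn : centralizerIn S P ≤ normalizerIn S P :=
  fun _ hg => ⟨hg.1, Subgroup.centralizer_le_normalizer _ hg.2⟩

theorem centralizerIn_le : centralizerIn S P ≤ S := fun _ hg => hg.1

theorem normalizerIn_le : normalizerIn S P ≤ S := fun _ hg => hg.1

/-- A homomorphism defined on `R ⊇ P` intertwines conjugation on `P` with conjugation by the image. -/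
theorem apply_conj {ψ : R →* Ω} (hPR : P ≤ R) (he : ∀ x : P, ψ ⟨x, hPR x.2⟩ = φ x)
    (g : R) (x : P) (hx : (g : Ω) * x * (g : Ω)⁻¹ ∈ P) :
    φ ⟨(g : Ω) * x * (g : Ω)⁻¹, hx⟩ = ψ g * φ x * (ψ g)⁻¹ := by
  rw [← he, ← he, ← map_inv, ← map_mul, ← map_mul]
  rfl

/-- Images of normalising elements normalise the image. -/
theorem apply_mem_normalizer {ψ : R →* Ω} (hPR : P ≤ R)
    (he : ∀ x : P, ψ ⟨x, hPR x.2⟩ = φ x) (hQ : φ.range = Q) (g : R)
    (hg : (g : Ω) ∈ Subgroup.normalizer (P : Set Ω)) :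
    ψ g ∈ Subgroup.normalizer (Q : Set Ω) := by
  subst hQ
  rw [Subgroup.mem_normalizer_iff]
  intro y
  constructor
  · rintro ⟨x, rfl⟩
    exact ⟨⟨_, (Subgroup.mem_normalizer_iff.mp hg x).mp x.2⟩, apply_conj hPR he g x _⟩
  · rintro ⟨z, hz⟩
    have hx : (g : Ω)⁻¹ * z * g ∈ P := (Subgroup.mem_normalizer_iff''.mp hg z).mp z.2
    refine ⟨⟨_, hx⟩, ?_⟩
    have h1 := apply_conj hPR he g ⟨_, hx⟩ (by simpa [mul_assoc] using z.2)
    have h2 : (⟨(g : Ω) * ((g : Ω)⁻¹ * z * g) * (g : Ω)⁻¹, by simpa [mul_assoc] using z.2⟩ : P) = z := by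
      ext
      simp [mul_assoc]
    rw [h2, hz] at h1
    exact (mul_left_cancel (mul_right_cancel h1)).symm

/-- Images of centralising elements centralise the image. -/
theorem apply_mem_centralizer {ψ : R →* Ω} (hPR : P ≤ R)
    (he : ∀ x : P, ψ ⟨x, hPR x.2⟩ = φ x) (hQ : φ.range = Q) (g : R)
    (hg : (g : Ω) ∈ Subgroup.centralizer (P : Set Ω)) :
    ψ g ∈ Subgroup.centralizer (Q : Set Ω) := by
  subst hQ
  rw [Subgroup.mem_centralizer_iff]
  rintro _ ⟨x, rfl⟩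
  rw [← he, ← map_mul, ← map_mul]
  congr 1
  ext
  exact Subgroup.mem_centralizer_iff.mp hg x x.2

theorem finite_of_le [Finite S] (hP : P ≤ S) : Finite P :=
  Finite.of_injective _ (Subgroup.inclusion_injective hP)

theorem finite_mulAut_of_le [Finite S] (hP : P ≤ S) : Finite (MulAut P) :=
  have := finite_of_le hP
  Finite.of_injective (fun α : MulAut P => (α : P → P)) DFunLike.coe_injective

end FusionSystem

end Cfsg
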