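import Cfsg.Agent.Lib.Fusion.Basic
import Mathlib.GroupTheory.Sylow

/-!
Saturated fusion systems: the standard consequences of the "fully automized and receptive" axiom.
-/

set_option autoImplicit false

namespace Cfsg

/-- A `p`-subgroup can be conjugated into a given Sylow subgroup. -/
theorem exists_conj_mem_sylow {p : ℕ} [Fact p.Prime] {A : Type*} [Group A] [Finite A]
    (T : Sylow p A) {X : Subgroup A} (hX : IsPGroup p X) :
    ∃ a : A, ∀ x ∈ X, a * x * a⁻¹ ∈ (T : Subgroup A) := by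
  obtain ⟨U, hU⟩ := hX.exists_le_sylow
  obtain ⟨a, rfl⟩ := MulAction.exists_smul_eq A U T
  refine ⟨a, fun x hx => ?_⟩
  rw [Sylow.coe_subgroup_smul]
  exact Subgroup.smul_mem_pointwise_smul x (MulAut.conj a) _ (hU hx)

namespace FusionSystem

variable {Ω : Type*} [Group Ω] {S : Subgroup Ω} {F : FusionSystem S} {P Q R : Subgroup Ω}
  {φ : P →* Ω} {p : ℕ}

section basicsFinite

variable [Finite S]

theorem finite_autGroup (hP : P ≤ S) : Finite (F.autGroup P) :=
  have := finite_mulAut_of_le hP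
  inferInstance

theorem finite_normalizerIn : Finite (normalizerIn S P) :=
  finite_of_le normalizerIn_le

theorem finite_centralizerIn : Finite (centralizerIn S P) :=
  finite_of_le centralizerIn_le

theorem card_autInducedBy_pos (hP : P ≤ S) : 0 < Nat.card (autInducedBy S P) :=
  have := finite_mulAut_of_le hP
  Nat.card_pos

theorem isFullyAutomized_iff [Fact p.Prime] (hP : P ≤ S) :
    F.IsFullyAutomized p P ↔
      Nat.card (autInducedBy S P) = p ^ (Nat.card (F.autGroup P)).factorization p := by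
  have hfin := finite_autGroup (F := F) hP
  have hc : Nat.card ((autInducedBy S P).subgroupOf (F.autGroup P)) =
      Nat.card (autInducedBy S P) :=
    Nat.card_congr (Subgroup.subgroupOfEquivOfLe (autInducedBy_le_autGroup hP)).toEquiv
  constructor
  · rintro ⟨-, T, hT⟩
    rw [← hc, ← hT]
    exact T.card_eq_multiplicity
  · intro h
    exact ⟨hP, Sylow.ofCard _ (hc.trans h), rfl⟩

theorem finite_setOf_le (H : Subgroup Ω) [Finite H] : {Q : Subgroup Ω | Q ≤ H}.Finite := by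
  refine Set.Finite.of_finite_image (f := fun Q => Q.subgroupOf H) (Set.toFinite _) ?_
  intro a ha b hb h
  have ha' : a ≤ H := ha
  have hb' : b ≤ H := hb
  have h' := congrArg (Subgroup.map H.subtype) h
  simp only [Subgroup.subgroupOf, Subgroup.map_comap_eq, Subgroup.range_subtype,
    inf_eq_right.mpr ha', inf_eq_right.mpr hb'] at h'
  exact h'

theorem finite_setOf_isConj : {Q : Subgroup Ω | F.IsConj P Q}.Finite :=
  (finite_setOf_le S).subset fun _ hQ => hQ.le_right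

variable (F) in
theorem exists_isFullyNormalized (hP : P ≤ S) :
    ∃ Q, F.IsConj P Q ∧ F.IsFullyNormalized Q := by
  let s : Set (Subgroup Ω) := {Q | F.IsConj P Q}
  have hfin : s.Finite := finite_setOf_isConj
  obtain ⟨Q, hQ, hmax⟩ := Set.exists_max_image s (fun Q => Nat.card (normalizerIn S Q)) hfin
    ⟨P, F.isConj_refl hP⟩
  exact ⟨Q, hQ, hQ.le_right, fun R hR => hmax R (hQ.trans hR)⟩

variable (F) in
theorem exists_isFullyCentralized (hP : P ≤ S) :
    ∃ Q, F.IsConj P Q ∧ F.IsFullyCentralized Q := by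
  let s : Set (Subgroup Ω) := {Q | F.IsConj P Q}
  have hfin : s.Finite := finite_setOf_isConj
  obtain ⟨Q, hQ, hmax⟩ := Set.exists_max_image s (fun Q => Nat.card (centralizerIn S Q)) hfin
    ⟨P, F.isConj_refl hP⟩
  exact ⟨Q, hQ, hQ.le_right, fun R hR => hmax R (hQ.trans hR)⟩

/-- The effect on normalisers and centralisers of a map extended to the normaliser. -/
theorem mapsTo_normalizerIn {ψ : R →* Ω} (hψ : ψ ∈ F.Hom R) (hPR : P ≤ R)
    (hR : R ≤ normalizerIn S P) (he : ∀ x : P, ψ ⟨x, hPR x.2⟩ = φ x) (hQ : φ.range = Q) (g : R) :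
    ψ g ∈ normalizerIn S Q :=
  ⟨F.apply_mem hψ g, apply_mem_normalizer hPR he hQ g (hR g.2).2⟩

theorem card_centralizerIn_le {ψ : R →* Ω} (hψ : ψ ∈ F.Hom R) (hPR : P ≤ R)
    (hR : centralizerIn S P ≤ R) (he : ∀ x : P, ψ ⟨x, hPR x.2⟩ = φ x) (hQ : φ.range = Q) :
    Nat.card (centralizerIn S P) ≤ Nat.card (centralizerIn S Q) := by
  have := finite_centralizerIn (S := S) (P := Q)
  exact Nat.card_le_card_of_injective
    (fun g : centralizerIn S P => (⟨ψ ⟨g, hR g.2⟩, F.apply_mem hψ _,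
      apply_mem_centralizer hPR he hQ _ g.2.2⟩ : centralizerIn S Q))
    fun a b h => Subtype.ext (congrArg Subtype.val
      (F.injective_of_mem hψ (congrArg Subtype.val h) : (⟨a, hR a.2⟩ : R) = ⟨b, hR b.2⟩) :)

theorem IsReceptive.isFullyCentralized (hP : F.IsReceptive P) : F.IsFullyCentralized P := by
  refine ⟨hP.1, fun Q hQ => ?_⟩
  obtain ⟨φ, hφ, hr⟩ := hQ.symm
  obtain ⟨ψ, hψ, he⟩ := hP.2 Q φ hφ hr
  have hS : ∀ x, φ x ∈ S := F.apply_mem hφ
  have hle : Q ≤ extender S Q φ := le_extender (F.source_le hφ) hS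
  exact card_centralizerIn_le (φ := φ) hψ hle (centralizerIn_le_extender hS)
    (fun x => he x x.2 (hle x.2)) hr

variable [Fact p.Prime]

/-- For `P` fully automized and receptive, every map onto `P` can be corrected by an automorphism of
`P` so as to extend to the normaliser. -/
theorem exists_correction (hS : IsPGroup p S) (h₁ : F.IsFullyAutomized p P) (h₂ : F.IsReceptive P)
    {φ : Q →* Ω} (hφ : φ ∈ F.Hom Q) (hr : φ.range = P) :
    ∃ χ ∈ F.autGroup P, ∃ ψ ∈ F.Hom (normalizerIn S Q),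
      (∀ x, ψ x ∈ normalizerIn S P) ∧
        ∀ (x : Q) (hN : (x : Ω) ∈ normalizerIn S Q) (hx : φ x ∈ P),
          ψ ⟨x, hN⟩ = ((χ ⟨φ x, hx⟩ : P) : Ω) := by
  obtain ⟨hP, T, hT⟩ := h₁
  have hQ : Q ≤ S := F.source_le hφ
  have hfin := finite_autGroup (F := F) hP
  let c : MulAut Q ≃* MulAut P := MulAut.congr (F.isoOf hφ hr)
  have hX : (autInducedBy S Q).map c.toMonoidHom ≤ F.autGroup P := by
    rw [← F.autGroup_map_congr hφ hr]
    exact Subgroup.map_mono (autInducedBy_le_autGroup hQ)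
  have hXp : IsPGroup p (((autInducedBy S Q).map c.toMonoidHom).subgroupOf (F.autGroup P)) :=
    ((isPGroup_autInducedBy hS).map _).of_equiv (Subgroup.subgroupOfEquivOfLe hX).symm
  obtain ⟨a, ha⟩ := exists_conj_mem_sylow T hXp
  rw [hT] at ha
  obtain ⟨α, hα, -, hαe⟩ := F.exists_map_of_mem_autGroup hP a.2
  have hφP : ∀ x : Q, φ x ∈ P := fun x => hr.le ⟨x, rfl⟩
  obtain ⟨φ', hφ', hφ'e⟩ := F.exists_comp hφ hα hφP
  have hφ'r : φ'.range = P := by
    ext y
    constructor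
    · rintro ⟨x, rfl⟩
      rw [hφ'e, hαe]
      exact SetLike.coe_mem _
    · intro hy
      obtain ⟨x, hx⟩ := (F.isoOf hφ hr).surjective ((a : MulAut P).symm ⟨y, hy⟩)
      refine ⟨x, ?_⟩
      rw [hφ'e, hαe]
      have : (⟨φ x, hφP x⟩ : P) = (a : MulAut P).symm ⟨y, hy⟩ := by
        rw [← hx]
        exact Subtype.ext rfl
      rw [this]
      simp
  have hext : normalizerIn S Q ≤ extender S Q φ' := by
    intro g hg
    refine (mem_extender_iff (F.apply_mem hφ')).mpr ⟨hg.1, hg.2, ?_⟩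
    let cg : MulAut Q := Q.normalizerMonoidHom ⟨g, hg.2⟩
    have hcg : cg ∈ autInducedBy S Q := mem_autInducedBy_iff.mpr ⟨g, hg.1, hg.2, fun x => rfl⟩
    have h1 := ha ⟨c cg, hX ⟨cg, hcg, rfl⟩⟩ ⟨cg, hcg, rfl⟩
    obtain ⟨h, hhS, -, hh⟩ := mem_autInducedBy_iff.mp (Subgroup.mem_subgroupOf.mp h1)
    refine ⟨h, hhS, fun x hx => ?_⟩
    have h2 := hh ((a : MulAut P) ⟨φ x, hφP x⟩)
    rw [hφ'e, hφ'e, hαe, hαe, ← h2]
    congr 1
    have e1 : (⟨g * (x : Ω) * g⁻¹, hx⟩ : Q) = cg x := Subtype.ext rfl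
    have e2 : ∀ y : Q, (⟨φ y, hφP y⟩ : P) = F.isoOf hφ hr y := fun y => Subtype.ext rfl
    rw [e1, e2, e2]
    simp [c, MulAut.congr]
  obtain ⟨ψ, hψ, he⟩ := h₂.2 Q φ' hφ' hφ'r
  have hle := hext
  refine ⟨(a : MulAut P), a.2, _, F.restrict_mem hψ hle, ?_, ?_⟩
  · intro g
    exact mapsTo_normalizerIn (φ := φ') hψ (le_extender hQ (F.apply_mem hφ'))
      (extender_le_normalizerIn (F.apply_mem hφ'))
      (fun x => he x x.2 _) hφ'r (Subgroup.inclusion hle g)
  · intro x hN hx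
    show ψ ⟨x, hle hN⟩ = _
    rw [he x x.2, ← hαe, ← hφ'e]

/-- If `Q` is conjugate to the fully automized receptive `P`, some map on `N_S(Q)` carries `Q` to `P`. -/
theorem exists_normalizer_map (hS : IsPGroup p S) (h₁ : F.IsFullyAutomized p P) (h₂ : F.IsReceptive P)
    (hQ : F.IsConj Q P) :
    ∃ (φ : Q →* Ω) (_ : φ ∈ F.Hom Q) (_ : φ.range = P),
      ∃ ψ ∈ F.Hom (normalizerIn S Q), (∀ x, ψ x ∈ normalizerIn S P) ∧
        ∀ (x : Q) (hN : (x : Ω) ∈ normalizerIn S Q), ψ ⟨x, hN⟩ = φ x := by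
  obtain ⟨φ₀, hφ₀, hr⟩ := hQ
  obtain ⟨χ, hχ, ψ, hψ, hψN, he⟩ := exists_correction hS h₁ h₂ hφ₀ hr
  have hφ₀P : ∀ x : Q, φ₀ x ∈ P := fun x => hr.le ⟨x, rfl⟩
  have hQN : Q ≤ normalizerIn S Q := le_normalizerIn (F.source_le hφ₀)
  refine ⟨_, F.restrict_mem hψ hQN, ?_, ψ, hψ, hψN, fun x hN => rfl⟩
  ext y
  constructor
  · rintro ⟨x, rfl⟩
    show ψ ⟨x, hQN x.2⟩ ∈ P
    rw [he x _ (hφ₀P x)]
    exact SetLike.coe_mem _
  · intro hy
    obtain ⟨x, hx⟩ := (F.isoOf hφ₀ hr).surjective (χ.symm ⟨y, hy⟩)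
    refine ⟨x, ?_⟩
    show ψ ⟨x, hQN x.2⟩ = y
    rw [he x _ (hφ₀P x)]
    have : (⟨φ₀ x, hφ₀P x⟩ : P) = χ.symm ⟨y, hy⟩ := by
      rw [← hx]
      exact Subtype.ext rfl
    rw [this]
    simp

theorem isFullyNormalized_of_automized_receptive (hS : IsPGroup p S) (h₁ : F.IsFullyAutomized p P)
    (h₂ : F.IsReceptive P) : F.IsFullyNormalized P := by
  refine ⟨h₁.1, fun Q hQ => ?_⟩
  obtain ⟨φ, -, -, ψ, hψ, hψN, -⟩ := exists_normalizer_map hS h₁ h₂ hQ.symm
  have := finite_normalizerIn (S := S) (P := P)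
  exact Nat.card_le_card_of_injective (fun g => (⟨ψ g, hψN g⟩ : normalizerIn S P))
    fun a b h => F.injective_of_mem hψ (congrArg Subtype.val h)

theorem IsSaturated.isReceptive_of_isFullyCentralized (hF : F.IsSaturated p) (hS : IsPGroup p S)
    (hQ : F.IsFullyCentralized Q) : F.IsReceptive Q := by
  obtain ⟨P, hQP, h₁, h₂⟩ := hF Q hQ.1
  obtain ⟨φ, hφ, hr, Φ, hΦ, hΦN, hΦe⟩ := exists_normalizer_map hS h₁ h₂ hQP
  refine ⟨hQ.1, fun R ψ hψ hψr => ?_⟩
  have hψQ : ∀ x : R, ψ x ∈ Q := fun x => hψr.le ⟨x, rfl⟩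
  have hQN : Q ≤ normalizerIn S Q := le_normalizerIn hQ.1
  have hψS := F.apply_mem hψ
  obtain ⟨χ, hχ, hχe⟩ := F.exists_comp hψ hφ hψQ
  have hχr : χ.range = P := by
    ext y
    constructor
    · rintro ⟨x, rfl⟩
      rw [hχe]
      exact hr.le ⟨_, rfl⟩
    · intro hy
      obtain ⟨⟨z, hz⟩, rfl⟩ := hr.ge hy
      obtain ⟨x, hx⟩ := hψr.ge hz
      exact ⟨x, by rw [hχe]; exact congrArg φ (Subtype.ext hx)⟩
  have hle : extender S R ψ ≤ extender S R χ := by
    intro g hg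
    obtain ⟨hgS, hgN, h, hhS, hh⟩ := (mem_extender_iff hψS).mp hg
    refine (mem_extender_iff (F.apply_mem hχ)).mpr ⟨hgS, hgN, ?_⟩
    have hhN : h ∈ Subgroup.normalizer (Q : Set Ω) := by
      rw [Subgroup.mem_normalizer_iff]
      intro y
      constructor
      · intro hy
        obtain ⟨x, rfl⟩ := hψr.ge hy
        rw [← hh x ((Subgroup.mem_normalizer_iff.mp hgN x).mp x.2)]
        exact hψQ _
      · intro hy
        obtain ⟨x, hx⟩ := hψr.ge hy
        have hx' : g⁻¹ * (x : Ω) * g ∈ R := (Subgroup.mem_normalizer_iff''.mp hgN x).mp x.2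
        have h1 := hh ⟨_, hx'⟩ (by simp [mul_assoc])
        have h2 : (⟨g * (g⁻¹ * (x : Ω) * g) * g⁻¹, by simp [mul_assoc]⟩ : R) = x := by
          ext; simp [mul_assoc]
        rw [h2, hx] at h1
        rw [mul_left_cancel (mul_right_cancel h1)]
        exact hψQ _
    refine ⟨Φ ⟨h, hhS, hhN⟩, F.apply_mem hΦ _, fun x hx => ?_⟩
    rw [hχe, hχe, ← hΦe _ (hQN (hψQ _)), ← hΦe _ (hQN (hψQ _)), ← map_inv, ← map_mul, ← map_mul]
    congr 1
    ext
    exact hh x hx
  obtain ⟨ρ, hρ, hρe⟩ := h₂.2 R χ hχ hχr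
  -- the centraliser of `Q` maps onto that of `P`
  have hfin := finite_centralizerIn (S := S) (P := P)
  have hQmem : ∀ x : Q, (x : Ω) ∈ normalizerIn S Q := fun x => hQN x.2
  let f : centralizerIn S Q → centralizerIn S P := fun g =>
    ⟨Φ ⟨g, centralizerIn_le_normalizerIn g.2⟩, F.apply_mem hΦ _,
      apply_mem_centralizer hQN (fun x => hΦe x _) hr _ g.2.2⟩
  have hfinj : Function.Injective f := fun a b h =>
    Subtype.ext (congrArg Subtype.val (F.injective_of_mem hΦ (congrArg Subtype.val h)) :)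
  have hfsurj : Function.Surjective f := by
    have := finite_centralizerIn (S := S) (P := Q)
    refine (Nat.bijective_iff_injective_and_card f).mpr ⟨hfinj, ?_⟩ |>.2
    exact le_antisymm (Nat.card_le_card_of_injective f hfinj) (hQ.2 P hQP)
  obtain ⟨Φ', hΦ', -, hΦ'l, -⟩ := F.exists_inv hΦ rfl
  have himg : ∀ g : extender S R ψ, ρ (Subgroup.inclusion hle g) ∈ Φ.range := by
    intro g
    obtain ⟨hgS, hgN, h, hhS, hh⟩ := (mem_extender_iff hψS).mp g.2
    have hRρ : R ≤ extender S R χ := le_extender (F.source_le hψ) (F.apply_mem hχ)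
    have hρx : ∀ x : R, ρ ⟨x, hRρ x.2⟩ = χ x := fun x => hρe x x.2 _
    have hhN : h ∈ Subgroup.normalizer (Q : Set Ω) := by
      rw [Subgroup.mem_normalizer_iff]
      intro y
      constructor
      · intro hy
        obtain ⟨x, rfl⟩ := hψr.ge hy
        rw [← hh x ((Subgroup.mem_normalizer_iff.mp hgN x).mp x.2)]
        exact hψQ _
      · intro hy
        obtain ⟨x, hx⟩ := hψr.ge hy
        have hx' : (g : Ω)⁻¹ * (x : Ω) * g ∈ R := (Subgroup.mem_normalizer_iff''.mp hgN x).mp x.2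
        have h1 := hh ⟨_, hx'⟩ (by simp [mul_assoc])
        have h2 : (⟨(g : Ω) * ((g : Ω)⁻¹ * (x : Ω) * g) * (g : Ω)⁻¹, by simp [mul_assoc]⟩ : R) = x := by
          ext; simp [mul_assoc]
        rw [h2, hx] at h1
        rw [mul_left_cancel (mul_right_cancel h1)]
        exact hψQ _
    let u : Ω := Φ ⟨h, hhS, hhN⟩
    let v : Ω := ρ (Subgroup.inclusion hle g)
    have hc : u⁻¹ * v ∈ centralizerIn S P := by
      refine ⟨S.mul_mem (S.inv_mem (F.apply_mem hΦ _)) (F.apply_mem hρ _), ?_⟩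
      refine Subgroup.mem_centralizer_iff.mpr ?_
      intro y hy
      obtain ⟨x, rfl⟩ := hχr.ge hy
      have hgx : (g : Ω) * x * (g : Ω)⁻¹ ∈ R := (Subgroup.mem_normalizer_iff.mp hgN x).mp x.2
      have h1 : χ ⟨_, hgx⟩ = v * χ x * v⁻¹ := apply_conj hRρ hρx (Subgroup.inclusion hle g) x hgx
      have h2 : χ ⟨_, hgx⟩ = u * χ x * u⁻¹ := by
        rw [hχe, hχe, ← hΦe _ (hQN (hψQ _)), ← hΦe _ (hQN (hψQ _)), ← map_inv, ← map_mul, ← map_mul]
        congr 1
        ext
        exact hh x hgx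
      calc χ x * (u⁻¹ * v) = u⁻¹ * (u * χ x * u⁻¹) * v := by group
        _ = u⁻¹ * v * χ x := by rw [← h2, h1]; group
    obtain ⟨z, hz⟩ := hfsurj ⟨u⁻¹ * v, hc⟩
    have hz' : Φ ⟨z, centralizerIn_le_normalizerIn z.2⟩ = u⁻¹ * v := congrArg Subtype.val hz
    exact ⟨⟨h, hhS, hhN⟩ * ⟨z, centralizerIn_le_normalizerIn z.2⟩, by
      rw [map_mul, hz', mul_inv_cancel_left]⟩
  obtain ⟨ω, hω, hωe⟩ := F.exists_comp (F.restrict_mem hρ hle) hΦ' himg
  refine ⟨ω, hω, fun x hxR hxN => ?_⟩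
  rw [hωe]
  have h1 : ρ (Subgroup.inclusion hle ⟨x, hxN⟩) = Φ ⟨ψ ⟨x, hxR⟩, hQN (hψQ _)⟩ := by
    show ρ ⟨x, hle hxN⟩ = _
    rw [hρe x hxR, hχe, hΦe ⟨_, hψQ _⟩]
  simp only [MonoidHom.comp_apply, h1]
  exact hΦ'l _ _

theorem IsSaturated.isFullyCentralized_of_isFullyNormalized (hF : F.IsSaturated p) (hS : IsPGroup p S)
    (hQ : F.IsFullyNormalized Q) : F.IsFullyCentralized Q := by
  obtain ⟨P, hQP, h₁, h₂⟩ := hF Q hQ.1
  obtain ⟨φ, hφ, hr, Φ, hΦ, hΦN, hΦe⟩ := exists_normalizer_map hS h₁ h₂ hQP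
  have hP := h₂.isFullyCentralized
  have hfin := finite_normalizerIn (S := S) (P := P)
  have hfinQ := finite_normalizerIn (S := S) (P := Q)
  let f : normalizerIn S Q → normalizerIn S P := fun g => ⟨Φ g, hΦN g⟩
  have hfinj : Function.Injective f := fun a b h => F.injective_of_mem hΦ (congrArg Subtype.val h)
  have hfsurj : Function.Surjective f :=
    ((Nat.bijective_iff_injective_and_card f).mpr
      ⟨hfinj, le_antisymm (Nat.card_le_card_of_injective f hfinj) (hQ.2 P hQP)⟩).2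
  refine ⟨hQ.1, fun R hR => le_trans (hP.2 R (hQP.symm.trans hR)) ?_⟩
  have := finite_centralizerIn (S := S) (P := Q)
  choose g hg using fun c : centralizerIn S P => hfsurj ⟨c, centralizerIn_le_normalizerIn c.2⟩
  refine Nat.card_le_card_of_injective (fun c => (⟨(g c : Ω), (g c).2.1, ?_⟩ : centralizerIn S Q))
    fun a b h => ?_
  · have hQN : Q ≤ normalizerIn S Q := le_normalizerIn hQ.1
    have hΦg : Φ (g c) = c := congrArg Subtype.val (hg c)
    refine Subgroup.mem_centralizer_iff.mpr ?_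
    intro x hx
    have h1 : Φ ⟨x, hQN hx⟩ * (c : Ω) = c * Φ ⟨x, hQN hx⟩ :=
      Subgroup.mem_centralizer_iff.mp c.2.2 _ (by
        rw [hΦe ⟨x, hx⟩]
        exact hr.le ⟨_, rfl⟩)
    rw [← hΦg, ← map_mul, ← map_mul] at h1
    exact congrArg Subtype.val (F.injective_of_mem hΦ h1)
  · have h1 : g a = g b := Subtype.ext (congrArg Subtype.val h :)
    have h2 := hg a
    rw [h1, hg b] at h2
    exact Subtype.ext (congrArg Subtype.val h2 :).symm

theorem IsSaturated.isFullyAutomized_of_isFullyNormalized (hF : F.IsSaturated p) (hS : IsPGroup p S)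
    (hQ : F.IsFullyNormalized Q) : F.IsFullyAutomized p Q := by
  obtain ⟨P, hQP, h₁, h₂⟩ := hF Q hQ.1
  have hcQ := hF.isFullyCentralized_of_isFullyNormalized hS hQ
  have hnP := isFullyNormalized_of_automized_receptive hS h₁ h₂
  have hcP := h₂.isFullyCentralized
  rw [isFullyAutomized_iff hQ.1, hQP.card_autGroup]
  rw [isFullyAutomized_iff h₁.1] at h₁
  rw [← h₁]
  have hn : Nat.card (normalizerIn S Q) = Nat.card (normalizerIn S P) :=
    le_antisymm (hnP.2 Q hQP.symm) (hQ.2 P hQP)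
  have hc : Nat.card (centralizerIn S Q) = Nat.card (centralizerIn S P) :=
    le_antisymm (hcP.2 Q hQP.symm) (hcQ.2 P hQP)
  rw [← card_autInducedBy_mul, ← card_autInducedBy_mul, hc] at hn
  have := finite_centralizerIn (S := S) (P := P)
  exact Nat.eq_of_mul_eq_mul_right Nat.card_pos hn

theorem IsSaturated.isReceptive_of_isFullyNormalized (hF : F.IsSaturated p) (hS : IsPGroup p S)
    (hQ : F.IsFullyNormalized Q) : F.IsReceptive Q :=
  hF.isReceptive_of_isFullyCentralized hS (hF.isFullyCentralized_of_isFullyNormalized hS hQ)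

theorem IsSaturated.exists_map_to_fullyNormalized (hF : F.IsSaturated p) (hS : IsPGroup p S)
    (hP : F.IsFullyNormalized P) (hQ : F.IsConj Q P) :
    ∃ (φ : Q →* Ω) (_ : φ ∈ F.Hom Q) (_ : φ.range = P),
      ∃ ψ ∈ F.Hom (normalizerIn S Q), (∀ x, ψ x ∈ normalizerIn S P) ∧
        ∀ (x : Q) (hN : (x : Ω) ∈ normalizerIn S Q), ψ ⟨x, hN⟩ = φ x :=
  exists_normalizer_map hS (hF.isFullyAutomized_of_isFullyNormalized hS hP)
    (hF.isReceptive_of_isFullyNormalized hS hP) hQ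

theorem isSaturated_of_isFullyNormalized
    (h : ∀ P, F.IsFullyNormalized P → F.IsFullyAutomized p P ∧ F.IsReceptive P) :
    F.IsSaturated p := by
  intro P hP
  obtain ⟨Q, hPQ, hQ⟩ := F.exists_isFullyNormalized hP
  exact ⟨Q, hPQ, h Q hQ⟩

/-- Fully centralized subgroups containing their centraliser are centric. -/
theorem IsFullyCentralized.isCentric (hP : F.IsFullyCentralized P) (hC : centralizerIn S P ≤ P) :
    F.IsCentric P := by
  refine ⟨hP.1, fun Q hQ => ?_⟩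
  obtain ⟨φ, hφ, hr⟩ := hQ
  have hQS : Q ≤ S := hr ▸ F.range_le hφ
  let A : Subgroup Ω := Q ⊓ Subgroup.centralizer (Q : Set Ω)
  have hA : A ≤ centralizerIn S Q := fun x hx => ⟨hQS hx.1, hx.2⟩
  have hfinQ := finite_centralizerIn (S := S) (P := Q)
  have hfinA : Finite A := finite_of_le (inf_le_left.trans hQS)
  have h1 : Nat.card (centralizerIn S P) ≤ Nat.card A := by
    refine Nat.card_le_card_of_injective (fun c => (⟨φ ⟨c, hC c.2⟩, hr.le ⟨_, rfl⟩, ?_⟩ : A)) ?_
    · refine Subgroup.mem_centralizer_iff.mpr ?_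
      intro y hy
      obtain ⟨x, rfl⟩ := hr.ge hy
      rw [← map_mul, ← map_mul]
      congr 1
      ext
      exact Subgroup.mem_centralizer_iff.mp c.2.2 x x.2
    · intro a b h
      exact Subtype.ext (congrArg Subtype.val (F.injective_of_mem hφ (congrArg Subtype.val h)) :)
  have h2 : Nat.card (centralizerIn S Q) ≤ Nat.card (centralizerIn S P) := hP.2 Q ⟨φ, hφ, hr⟩
  have : A = centralizerIn S Q := Subgroup.eq_of_le_of_card_ge hA (le_trans h2 h1)
  rw [← this]
  exact inf_le_left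

theorem IsCentric.centralizerIn_le_self (hP : F.IsCentric P) : centralizerIn S P ≤ P :=
  hP.2 P (F.isConj_refl hP.1)

theorem IsCentric.of_isConj (hP : F.IsCentric P) (h : F.IsConj P Q) : F.IsCentric Q :=
  ⟨h.le_right, fun R hR => hP.2 R (h.trans hR)⟩

theorem IsCentric.isFullyCentralized (hP : F.IsCentric P) : F.IsFullyCentralized P := by
  refine ⟨hP.1, fun Q hQ => ?_⟩
  obtain ⟨φ, hφ, hr⟩ := hQ.symm
  have hQc := hP.of_isConj hQ
  have hC := hQc.centralizerIn_le_self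
  exact card_centralizerIn_le (φ := φ) hφ le_rfl hC (fun x => rfl) hr

theorem isCentric_of_le (hP : F.IsCentric P) (h : P ≤ Q) (hQ : Q ≤ S) : F.IsCentric Q := by
  refine ⟨hQ, fun R hR => ?_⟩
  obtain ⟨φ, hφ, hr⟩ := hR
  have hres := F.restrict_mem hφ h
  have hc := hP.2 _ ⟨_, hres, rfl⟩
  have hle : (φ.comp (Subgroup.inclusion h)).range ≤ R := by
    rintro _ ⟨x, rfl⟩
    exact hr.le ⟨_, rfl⟩
  intro z hz
  exact hle (hc ⟨hz.1, Subgroup.centralizer_le (fun y hy => hle hy) hz.2⟩)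

theorem normalizerIn_eq_self : normalizerIn S S = S := by
  apply le_antisymm normalizerIn_le
  exact fun x hx => ⟨hx, Subgroup.le_normalizer hx⟩

theorem isCentric_self : F.IsCentric S :=
  IsFullyCentralized.isCentric (F := F) (P := S)
    ⟨le_rfl, fun Q hQ => by
      have hle := hQ.le_right
      have := finite_of_le hle
      have : Q = S := Subgroup.eq_of_le_of_card_ge hle (ge_of_eq hQ.card_eq.symm)
      rw [this]⟩
    centralizerIn_le

theorem isFullyNormalized_self : F.IsFullyNormalized S :=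
  ⟨le_rfl, fun Q _ => by
    rw [normalizerIn_eq_self]
    exact Nat.card_le_card_of_injective (Subgroup.inclusion (normalizerIn_le (S := S) (P := Q)))
      (Subgroup.inclusion_injective _)⟩

end basicsFinite

end FusionSystem

end Cfsg
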