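import Cfsg.Agent.Lib.Fusion.Model.Local
import Cfsg.Agent.Lib.Fusion.Image
import Cfsg.Agent.Lib.Fusion.Inner

/-!
Reduction steps for nilpotency criteria of fusion systems: counting maps, relative subsystems,
quotients, and the case of a non-centric normal subgroup.
-/

set_option autoImplicit false
set_option linter.unusedSectionVars false

universe u

namespace Cfsg.FusionSystem

variable {Ω : Type u} [Group Ω] {S : Subgroup Ω} {F : FusionSystem S} {p : ℕ} {Q X : Subgroup Ω}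

/-- All maps are conjugations by elements of `S`. -/
def IsInner (F : FusionSystem S) : Prop := F ≤ innerFusionSystem S

theorem IsInner.hom_eq (h : F.IsInner) (P : Subgroup Ω) : F.Hom P = (innerFusionSystem S).Hom P :=
  Set.Subset.antisymm (h P) (innerFusionSystem_le F P)

theorem isInner_of_hom_eq (h : ∀ P, F.Hom P = (innerFusionSystem S).Hom P) : F.IsInner := fun P => (h P).le

theorem IsInner.autGroup_le (h : F.IsInner) {P : Subgroup Ω} (hP : P ≤ S) :
    F.autGroup P ≤ autInducedBy S P := by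
  intro α hα
  obtain ⟨φ, hφ, hr, he⟩ := F.exists_map_of_mem_autGroup hP hα
  obtain ⟨-, g, hg, hge⟩ := h P hφ
  have hN : g ∈ Subgroup.normalizer (P : Set Ω) := by
    refine Subgroup.mem_normalizer_iff.mpr fun x => ⟨fun hx => ?_, fun hx => ?_⟩
    · rw [← hge ⟨x, hx⟩]
      exact hr.le ⟨_, rfl⟩
    · obtain ⟨y, hy⟩ := hr.ge hx
      rw [hge y] at hy
      rw [← mul_left_cancel (mul_right_cancel hy)]
      exact y.2
  exact mem_autInducedBy_iff.mpr ⟨g, hg, hN, fun x => (he x).symm.trans (hge x)⟩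

variable [Finite S] [Fact p.Prime]

theorem IsSaturated.isInner_of_isPGroup (hF : F.IsSaturated p) (hS : IsPGroup p S)
    (h : ∀ P, P ≤ S → IsPGroup p (F.autGroup P)) : F.IsInner :=
  isInner_of_hom_eq (hF.eq_inner_of_isPGroup hS h)

theorem IsInner.isPGroup (hS : IsPGroup p S) (h : F.IsInner) {P : Subgroup Ω} (hP : P ≤ S) :
    IsPGroup p (F.autGroup P) :=
  (isPGroup_autInducedBy hS).to_le (h.autGroup_le hP)

/-- It suffices that the automisers of the essential subgroups and of `S` are `p`-groups. -/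
theorem IsSaturated.isInner_of_essential (hF : F.IsSaturated p) (hS : IsPGroup p S)
    (hSS : IsPGroup p (F.autGroup S)) (h : ∀ Q, F.IsEssential p Q → IsPGroup p (F.autGroup Q)) :
    F.IsInner := by
  refine hF.le_of_autGroup_le hS _ fun Q hQ => ?_
  rcases hQ with rfl | hQ
  · rw [hF.autGroup_self_eq_inn hS hSS, autGroup_innerFusionSystem le_rfl, inn_eq_autInducedBy]
  · exfalso
    have hQ' := hQ
    obtain ⟨hc, -, hnorm, E, hE⟩ := hQ
    have hfin := finite_autGroup (F := F) hc.1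
    have hp : IsPGroup p (⊤ : Subgroup (F.autGroup Q ⧸ (Inn Q).subgroupOf (F.autGroup Q))) :=
      ((h Q hQ').to_quotient _).of_equiv Subgroup.topEquiv.symm
    have htop := Cfsg.IsStronglyPEmbedded.eq_bot_of_normal_pGroup hE ⊤ hp
    obtain ⟨hdvd, -⟩ := hE
    have h1 : Nat.card (F.autGroup Q ⧸ (Inn Q).subgroupOf (F.autGroup Q)) = 1 := by
      rw [← Subgroup.card_top, htop, Subgroup.card_bot]
    rw [h1] at hdvd
    exact (Fact.out : p.Prime).not_dvd_one hdvd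

/-- The graphs of the maps. -/
def graphs (F : FusionSystem S) : Set (Set (Ω × Ω)) :=
  {g | ∃ (P : Subgroup Ω) (φ : P →* Ω), φ ∈ F.Hom P ∧ g = Set.range fun x : P => ((x : Ω), φ x)}

/-- The number of maps. -/
noncomputable def count (F : FusionSystem S) : ℕ := F.graphs.ncard

theorem graphs_finite : F.graphs.Finite := by
  refine (((S : Set Ω).toFinite.prod (S : Set Ω).toFinite).powerset).subset ?_
  rintro _ ⟨P, φ, hφ, rfl⟩ _ ⟨x, rfl⟩
  exact ⟨F.source_le hφ x.2, F.apply_mem hφ x⟩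

theorem count_lt {T : Subgroup Ω} {E : FusionSystem T} (h : E.IsSubsystemOf F)
    (hne : ¬ ∀ P, F.Hom P ⊆ E.Hom P) : E.count < F.count := by
  refine Set.ncard_lt_ncard (ssubset_of_subset_of_ne ?_ ?_) graphs_finite
  · rintro _ ⟨P, φ, hφ, rfl⟩
    exact ⟨P, φ, h P hφ, rfl⟩
  · intro he
    refine hne fun P φ hφ => ?_
    obtain ⟨P', φ', hφ', hg⟩ : (Set.range fun x : P => ((x : Ω), φ x)) ∈ E.graphs := he ▸ ⟨P, φ, hφ, rfl⟩
    obtain rfl : P = P' := by
      refine le_antisymm (fun x hx => ?_) (fun x hx => ?_)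
      · obtain ⟨y, hy⟩ := hg.le ⟨⟨x, hx⟩, rfl⟩
        have e : (y : Ω) = x := congrArg Prod.fst hy
        rw [← e]
        exact y.2
      · obtain ⟨y, hy⟩ := hg.ge ⟨⟨x, hx⟩, rfl⟩
        have e : (y : Ω) = x := congrArg Prod.fst hy
        rw [← e]
        exact y.2
    refine E.mem_of_apply_eq hφ' fun x => ?_
    obtain ⟨y, hy⟩ := hg.le ⟨x, rfl⟩
    obtain rfl : y = x := Subtype.ext (congrArg Prod.fst hy)
    exact (congrArg Prod.snd hy).symm

omit [Finite S] [Fact p.Prime] in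
theorem IsNormalizerSystem.subsystem {E : FusionSystem (normalizerIn S Q)} (hE : F.IsNormalizerSystem Q E) :
    E.IsSubsystemOf F := fun P φ hφ => by
  rw [hE] at hφ
  exact hφ.1

theorem IsNormalizerSystem.proper {E : FusionSystem (normalizerIn S Q)} (hE : F.IsNormalizerSystem Q E)
    (hQS : Q ≤ S) (hn : ¬ F.IsNormal Q) : ¬ ∀ P, F.Hom P ⊆ E.Hom P := fun h => hn
  ⟨hQS, fun P φ hφ => by
    have := h P hφ
    rw [hE] at this
    exact this.2.2.2⟩

omit [Fact p.Prime] in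
theorem normalizerIn_eq_of_le_normalizer (h : S ≤ Subgroup.normalizer (Q : Set Ω)) : normalizerIn S Q = S :=
  inf_eq_left.mpr h

omit [Finite S] [Fact p.Prime] in
theorem isFullyNormalized_of_le_normalizer [Finite S] (hQ : Q ≤ S) (h : S ≤ Subgroup.normalizer (Q : Set Ω)) :
    F.IsFullyNormalized Q := by
  refine ⟨hQ, fun R _ => ?_⟩
  rw [normalizerIn_eq_of_le_normalizer h]
  exact Nat.card_le_card_of_injective _ (Subgroup.inclusion_injective normalizerIn_le)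

/-! ### Relative subsystems at a normal subgroup -/

/-- The maps acting on the normal subgroup `X` as elements of `K`. -/
def relSystem (hX : F.IsNormal X) (K : Subgroup (MulAut X))
    (hK : ∀ g ∈ S, ∃ k ∈ K, ∀ x : X, g * (x : Ω) * g⁻¹ = ((k x : X) : Ω)) : FusionSystem S where
  Hom P := {φ | φ ∈ F.Hom P ∧ ∃ ψ ∈ F.Hom (P ⊔ X), (∀ x : P, ψ (Subgroup.inclusion le_sup_left x) = φ x) ∧
    Restricts K ψ le_sup_right}
  le_of_mem h := F.le_of_mem h.1
  injective_of_mem h := F.injective_of_mem h.1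
  conj_mem := by
    intro P g hP hg
    obtain ⟨k, hk, hke⟩ := hK g hg
    exact ⟨F.conj_mem hP hg, conjHom _ g, F.conj_mem (sup_le hP hX.1) hg, fun _ => rfl, k, hk, hke⟩
  comp_mem := by
    rintro P R φ χ ⟨hφ, ψ, hψ, hψe, k, hk, hke⟩ ⟨hχ, ω, hω, hωe, k', hk', hke'⟩ h
    have hmem : ∀ x : ↥(P ⊔ X), ψ x ∈ R ⊔ X := by
      have h1 : P ⊔ X ≤ ((R ⊔ X).comap ψ).map (P ⊔ X).subtype := by
        refine sup_le (fun x hx => ⟨⟨x, Subgroup.mem_sup_left hx⟩, ?_, rfl⟩)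
          (fun x hx => ⟨⟨x, Subgroup.mem_sup_right hx⟩, ?_, rfl⟩)
        · have h3 : ψ ⟨x, Subgroup.mem_sup_left hx⟩ = φ ⟨x, hx⟩ := hψe ⟨x, hx⟩
          show ψ _ ∈ R ⊔ X
          rw [h3]
          exact Subgroup.mem_sup_left (h _)
        · show ψ _ ∈ R ⊔ X
          rw [hke ⟨x, hx⟩]
          exact Subgroup.mem_sup_right (k _).2
      intro x
      obtain ⟨y, hy, e⟩ := h1 x.2
      obtain rfl : y = x := Subtype.ext e
      exact hy
    refine ⟨F.comp_mem hφ hχ h, _, F.comp_mem hψ hω hmem, fun x => ?_, k' * k, K.mul_mem hk' hk, fun q => ?_⟩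
    · show ω ⟨ψ _, _⟩ = χ ⟨φ x, _⟩
      rw [← hωe]
      exact congrArg ω (Subtype.ext (hψe x))
    · show ω ⟨ψ _, _⟩ = ((k' (k q) : X) : Ω)
      rw [← hke']
      exact congrArg ω (Subtype.ext (hke q))
  inv_mem := by
    rintro P φ ⟨hφ, ψ, hψ, hψe, k, hk, hke⟩
    obtain ⟨φ', hφ', hφ'r, hφ'l, -⟩ := F.exists_inv hφ rfl
    have hψX : (X.subgroupOf (P ⊔ X)).map ψ = X := by
      apply le_antisymm
      · rintro _ ⟨x, hx, rfl⟩
        rw [hke ⟨x, hx⟩]
        exact (k _).2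
      · intro y hy
        refine ⟨⟨_, Subgroup.mem_sup_right (k.symm ⟨y, hy⟩).2⟩, (k.symm ⟨y, hy⟩).2, ?_⟩
        rw [hke, MulEquiv.apply_symm_apply]
    obtain ⟨ψ', hψ', -, hψ'l, -⟩ := F.exists_inv hψ (map_inclusion_sup ψ hψX hψe)
    refine ⟨φ', ⟨hφ', ψ', hψ', ?_, k⁻¹, K.inv_mem hk, fun q => ?_⟩, fun x => hφ'l x _⟩
    · rintro ⟨_, x, rfl⟩
      have h1 := hψ'l (Subgroup.inclusion le_sup_left x) (by rw [hψe]; exact Subgroup.mem_sup_left ⟨x, rfl⟩)
      simp only [hψe] at h1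
      exact h1.trans (hφ'l x ⟨x, rfl⟩).symm
    · have h1 := hψ'l ⟨((k⁻¹ q : X) : Ω), Subgroup.mem_sup_right (k⁻¹ q).2⟩
        (by rw [hke, MulAut.apply_inv_self]; exact Subgroup.mem_sup_right q.2)
      simp only [hke, MulAut.apply_inv_self] at h1
      exact h1

theorem autInducedBy_hK (hX : F.IsNormal X) :
    ∀ g ∈ S, ∃ k ∈ autInducedBy S X, ∀ x : X, g * (x : Ω) * g⁻¹ = ((k x : X) : Ω) := fun g hg =>
  ⟨X.normalizerMonoidHom ⟨g, hX.le_normalizer hg⟩,
    mem_autInducedBy_iff.mpr ⟨g, hg, hX.le_normalizer hg, fun _ => rfl⟩, fun _ => rfl⟩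

theorem IsSaturated.relSystem_isSaturated (hF : F.IsSaturated p) (hS : IsPGroup p S) (hX : F.IsNormal X) :
    (relSystem hX (autInducedBy S X) (autInducedBy_hK hX)).IsSaturated p := by
  have hX' := hX.stronglyClosed
  have hfn : F.IsFullyNormalized X := isFullyNormalized_of_le_normalizer hX.1 hX.le_normalizer
  have hrec := hF.isReceptive_of_isFullyNormalized hS hfn
  have hN : S = kNormalizer S (autInducedBy S X) X.subtype :=
    le_antisymm (fun g hg => ⟨hg, autInducedBy_hK hX g hg⟩) (kNormalizer_le _)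
  refine IsRelativeSystem.isSaturated hS hF hX.1 ?_ (N := S) ⟨hN, fun P φ => ?_⟩
  · intro φ hφ
    obtain ⟨θ, hθ, hθr, hθl, -⟩ := F.exists_inv hφ rfl
    have hφr : φ.range = X := hX'.weaklyClosed.2 φ hφ
    obtain ⟨χ, hχ, hχe⟩ := hrec.2 φ.range θ hθ hθr
    have hθS := F.apply_mem hθ
    refine ⟨_, le_extender (F.range_le hφ) hθS, χ, hχ, fun g hg => ?_, 1, one_mem _, fun x => ?_⟩
    · refine (mem_extender_iff hθS).mpr ⟨hg.1, kNormalizer_le_normalizer φ hg, ?_⟩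
      obtain ⟨-, k, hk, hke⟩ := hg
      obtain ⟨w, hw, -, hwe⟩ := mem_autInducedBy_iff.mp hk
      refine ⟨w, hw, fun y hy => ?_⟩
      obtain ⟨_, x, rfl⟩ := y
      show θ _ = w * θ ⟨φ x, _⟩ * w⁻¹
      rw [show θ ⟨φ x, ⟨x, rfl⟩⟩ = (x : Ω) from hθl x _]
      refine Eq.trans ?_ (hwe x)
      refine (congrArg θ (Subtype.ext (hke x) : (⟨g * φ x * g⁻¹, hy⟩ : φ.range) = ⟨φ (k x), _, rfl⟩)).trans ?_
      exact hθl (k x) _
    · rw [hχe _ ⟨x, rfl⟩]
      exact hθl x _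
  · exact ⟨fun ⟨h1, h2⟩ => ⟨h1, F.source_le h1, F.apply_mem h1, h2⟩, fun ⟨h1, _, _, h2⟩ => ⟨h1, h2⟩⟩

theorem relSystem_le (hX : F.IsNormal X) (K : Subgroup (MulAut X))
    (hK : ∀ g ∈ S, ∃ k ∈ K, ∀ x : X, g * (x : Ω) * g⁻¹ = ((k x : X) : Ω)) :
    (relSystem hX K hK).IsSubsystemOf F := fun _ _ h => h.1

/-! ### Quotients -/

theorem IsSaturated.exists_factor (hF : F.IsSaturated p) (hS : IsPGroup p S) (hX : F.IsNormal X) :
    ∃ (Ω' : Type u) (_ : Group Ω') (θ : S →* Ω') (E : FusionSystem θ.range),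
      E.IsSaturated p ∧ (∀ s : S, θ s = 1 ↔ (s : Ω) ∈ X) ∧
      (∀ P' φ', φ' ∈ E.Hom P' ↔ P' ≤ θ.range ∧ ∃ φ ∈ F.Hom (preimageAlong θ P'), InducedAlong θ φ φ') := by
  haveI hn : (X.subgroupOf S).Normal :=
    ⟨fun x hx s => (Subgroup.mem_normalizer_iff.mp (hX.le_normalizer s.2) _).mp hx⟩
  let θ : S →* S ⧸ X.subgroupOf S := QuotientGroup.mk' _
  have hker : ∀ s : S, θ s = 1 ↔ (s : Ω) ∈ X := fun s => QuotientGroup.eq_one_iff s
  let E := factorSystem (S₀ := X) (F := F) (θ := θ) hker hX.stronglyClosed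
  refine ⟨_, inferInstance, θ, E, ?_, hker, fun P' φ' => Iff.rfl⟩
  refine IsSurjectiveMorphism.isSaturated (F := F) (α := θ) ?_ hS hF
  refine ⟨⟨fun s => ⟨s, rfl⟩, fun P φ hφ => ?_⟩, rfl, fun P' _ φ' h => h.2⟩
  obtain ⟨ψ, hψ, hψe, -⟩ := hX.2 P φ hφ
  have hPS := F.source_le hφ
  obtain ⟨ψ', hψ'⟩ := exists_inducedAlong hker hX.stronglyClosed hψ
  have hle : imageAlong θ P ≤ imageAlong θ (P ⊔ X) :=
    Subgroup.map_mono fun y hy => Subgroup.mem_sup_left (T := X) hy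
  have hψ'E : ψ' ∈ E.Hom (imageAlong θ (P ⊔ X)) := by
    refine ⟨by rintro _ ⟨s, -, rfl⟩; exact ⟨s, rfl⟩, ?_⟩
    have hle' : preimageAlong θ (imageAlong θ (P ⊔ X)) ≤ P ⊔ X := by
      intro x hx
      obtain ⟨hxS, s, hs, hse⟩ := mem_preimageAlong.mp hx
      have h1 : (s : Ω)⁻¹ * x ∈ X :=
        (hker (s⁻¹ * ⟨x, hxS⟩)).mp (by rw [map_mul, map_inv, hse, inv_mul_cancel])
      have := (P ⊔ X).mul_mem hs (Subgroup.mem_sup_right h1)
      simpa using this
    obtain ⟨h1, h2, h3, h4⟩ := hψ'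
    exact ⟨_, F.restrict_mem hψ hle', preimageAlong_le, F.apply_mem (F.restrict_mem hψ hle'),
      fun x => (mem_preimageAlong.mp x.2).2, fun x => h4 ⟨x, hle' x.2⟩⟩
  refine ⟨ψ'.comp (Subgroup.inclusion hle), E.restrict_mem hψ'E hle, hPS, F.apply_mem hφ,
    fun x => ⟨⟨x, hPS x.2⟩, x.2, rfl⟩, fun x => ?_⟩
  obtain ⟨h1, h2, h3, h4⟩ := hψ'
  exact (h4 ⟨x, Subgroup.mem_sup_left x.2⟩).trans (congrArg θ (Subtype.ext (hψe x)))

/-- **The case of a non-centric core.** If every proper saturated subsystem over `S` is inner and the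
quotient by the core is forced to be inner, then so is the system. -/
theorem IsSaturated.isInner_of_noncentric_core (hF : F.IsSaturated p) (hS : IsPGroup p S)
    (hnc : ¬ F.IsCentric F.core)
    (hsub : ∀ T : Subgroup Ω, T = S → ∀ E : FusionSystem T, E.IsSaturated p → E.IsSubsystemOf F →
      ¬ (∀ P, F.Hom P ⊆ E.Hom P) → E.IsInner)
    (hquot : ∀ (Ω' : Type u) [Group Ω'] (θ : S →* Ω') (E : FusionSystem θ.range), E.IsSaturated p →
      (∀ s : S, θ s = 1 ↔ (s : Ω) ∈ F.core) →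
      (∀ P' φ', φ' ∈ E.Hom P' ↔ P' ≤ θ.range ∧ ∃ φ ∈ F.Hom (preimageAlong θ P'), InducedAlong θ φ φ') →
      E.IsInner) : F.IsInner := by
  classical
  have hX : F.IsNormal F.core := isNormal_core F
  set X := F.core with hXdef
  have hXs := hX.stronglyClosed
  set U := X ⊔ centralizerIn S X with hU
  have hUs : F.StronglyClosed U := hXs.sup_centralizerIn hF hS
  have hUc : F.IsCentric U := by
    refine ⟨hUs.1, fun R hR => ?_⟩
    obtain ⟨φ, hφ, rfl⟩ := hR
    rw [hUs.weaklyClosed.2 φ hφ]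
    exact fun x hx => Subgroup.mem_sup_right ⟨hx.1, Subgroup.centralizer_le (SetLike.coe_subset_coe.mpr (le_sup_left : X ≤ U)) hx.2⟩
  have hUn : ¬ F.IsNormal U := fun h => hnc (isCentric_of_le hUc h.le_core hX.1)
  -- the subsystems are inner
  have hUfn : F.IsFullyNormalized U := isFullyNormalized_of_le_normalizer hUs.1 hUs.le_normalizer
  have hNU := F.normalizerSystem_isNormalizerSystem U hUs.1
  have hNUi : (F.normalizerSystem U hUs.1).IsInner :=
    hsub _ (normalizerIn_eq_of_le_normalizer hUs.le_normalizer) _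
      (hF.isSaturated_normalizerSystem hS hUfn hNU) hNU.subsystem (hNU.proper hUs.1 hUn)
  set H := relSystem hX (autInducedBy S X) (autInducedBy_hK hX) with hH
  haveI := finite_mulAut_of_le hX.1
  haveI := finite_mulAut_of_le (le_refl S)
  have hSS : IsPGroup p (F.autGroup S) := by
    refine (isPGroup_autInducedBy hS).to_le (K := autInducedBy S S) fun α hα => ?_
    obtain ⟨φ, hφ, hr, he⟩ := F.exists_map_of_mem_autGroup le_rfl hα
    have hSN : S ≤ normalizerIn S U := (normalizerIn_eq_of_le_normalizer hUs.le_normalizer).ge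
    have hφN : φ ∈ (F.normalizerSystem U hUs.1).Hom S := by
      refine ⟨hφ, hSN, fun x => hSN (F.apply_mem hφ x), _,
        F.restrict_mem hφ (sup_le le_rfl hUs.1), fun x => rfl, ?_⟩
      exact hUs.map_eq (F.restrict_mem hφ (sup_le le_rfl hUs.1)) le_sup_right
    obtain ⟨-, g, hg, hge⟩ := hNUi S hφN
    exact mem_autInducedBy_iff.mpr ⟨g, hg.1, Subgroup.le_normalizer hg.1, fun x => (he x).symm.trans (hge x)⟩
  by_cases hprop : ¬ ∀ P, F.Hom P ⊆ H.Hom P
  · have hHi := hsub S rfl H (hF.relSystem_isSaturated hS hX) (relSystem_le hX _ _) hprop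
    refine hF.isInner_of_essential hS hSS fun Q hQ => ?_
    have hQS : Q ≤ S := hQ.1.1
    haveI := finite_mulAut_of_le hQS
    haveI : Finite Q := finite_of_le hQS
    have hXQ : X ≤ Q := hX.le_of_centric_radical hS hQ.1 (hQ.isRadical hS hF)
    -- the automorphisms acting on `X` as inner ones
    have hres : ∀ a : F.autGroup Q, ∀ x : X, (((a : MulAut Q) ⟨x, hXQ x.2⟩ : Q) : Ω) ∈ X := by
      intro a x
      obtain ⟨φ, hφ, -, he⟩ := F.exists_map_of_mem_autGroup hQS a.2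
      rw [← he]
      exact hXs.apply_mem_of_mem hφ x.2
    have hCn : ∀ a : F.autGroup Q, ∀ c : F.autGroup Q,
        (∃ x₀ : X, ∀ x : X, (((c : MulAut Q) ⟨x, hXQ x.2⟩ : Q) : Ω) = x₀ * x * (x₀ : Ω)⁻¹) →
        ∃ x₀ : X, ∀ x : X, (((a * c * a⁻¹ : F.autGroup Q) : MulAut Q) ⟨x, hXQ x.2⟩ : Ω) = x₀ * x * (x₀ : Ω)⁻¹ := by
      rintro a c ⟨x₀, h⟩
      refine ⟨⟨_, hres a x₀⟩, fun x => ?_⟩
      show (((a : MulAut Q) ((c : MulAut Q) (((a⁻¹ : F.autGroup Q) : MulAut Q) ⟨x, hXQ x.2⟩)) : Q) : Ω) = _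
      have e1 : (c : MulAut Q) (((a⁻¹ : F.autGroup Q) : MulAut Q) ⟨x, hXQ x.2⟩) =
          ⟨x₀, hXQ x₀.2⟩ * ((a⁻¹ : F.autGroup Q) : MulAut Q) ⟨x, hXQ x.2⟩ * ⟨x₀, hXQ x₀.2⟩⁻¹ :=
        Subtype.ext (h ⟨_, hres a⁻¹ x⟩)
      rw [e1, map_mul, map_mul, map_inv]
      rw [show (a : MulAut Q) (((a⁻¹ : F.autGroup Q) : MulAut Q) ⟨x, hXQ x.2⟩) = ⟨x, hXQ x.2⟩ from
        (a : MulAut Q).apply_symm_apply _]
      rfl
    let C : Subgroup (F.autGroup Q) :=
      { carrier := {c | ∃ x₀ : X, ∀ x : X, (((c : MulAut Q) ⟨x, hXQ x.2⟩ : Q) : Ω) = x₀ * x * (x₀ : Ω)⁻¹}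
        one_mem' := ⟨1, fun x => by simp⟩
        mul_mem' := by
          rintro a b ⟨a₀, ha⟩ ⟨b₀, hb⟩
          refine ⟨a₀ * b₀, fun x => ?_⟩
          show (((a : MulAut Q) ((b : MulAut Q) ⟨x, hXQ x.2⟩) : Q) : Ω) = _
          rw [show (b : MulAut Q) ⟨x, hXQ x.2⟩ = ⟨((b₀ * x * b₀⁻¹ : X) : Ω), hXQ (b₀ * x * b₀⁻¹).2⟩ from
            Subtype.ext (hb x), ha]
          simp [mul_assoc]
        inv_mem' := by
          rintro a ⟨a₀, ha⟩
          refine ⟨a₀⁻¹, fun x => ?_⟩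
          have h1 := ha (a₀⁻¹ * x * a₀)
          have e : (⟨((a₀⁻¹ * x * a₀ : X) : Ω), hXQ (a₀⁻¹ * x * a₀).2⟩ : Q) =
              ((a⁻¹ : F.autGroup Q) : MulAut Q) ⟨x, hXQ x.2⟩ := by
            apply (a : MulAut Q).injective
            rw [show (a : MulAut Q) (((a⁻¹ : F.autGroup Q) : MulAut Q) ⟨x, hXQ x.2⟩) = ⟨x, hXQ x.2⟩ from
              (a : MulAut Q).apply_symm_apply _]
            exact Subtype.ext (h1.trans (by simp [mul_assoc]))
          rw [← e]
          simp }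
    haveI hCnormal : C.Normal := ⟨fun c hc a => hCn a c hc⟩
    have hCp : IsPGroup p C := by
      refine ((isPGroup_autInducedBy hS : IsPGroup p (autInducedBy S Q)).of_injective
        (((F.autGroup Q).subtype.comp C.subtype).codRestrict _ fun c => ?_) ?_)
      · obtain ⟨φ, hφ, hr, he⟩ := F.exists_map_of_mem_autGroup hQS c.1.2
        obtain ⟨x₀, hx₀⟩ := c.2
        have hφH : φ ∈ H.Hom Q := by
          refine ⟨hφ, _, F.restrict_mem hφ (sup_le le_rfl hXQ), fun x => rfl,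
            X.normalizerMonoidHom ⟨(x₀ : Ω), Subgroup.le_normalizer x₀.2⟩,
            mem_autInducedBy_iff.mpr ⟨x₀, hX.1 x₀.2, Subgroup.le_normalizer x₀.2, fun x => rfl⟩, fun x => ?_⟩
          exact (he _).trans (hx₀ x)
        exact hHi.autGroup_le hQS (H.mem_autGroup_of_map hφH fun x => (he x).symm)
      · intro c c' h
        exact Subtype.ext (Subtype.ext (congrArg (fun w : autInducedBy S Q => (w : MulAut Q)) h))
    have hUQ : U ≤ Q := by
      by_contra hne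
      haveI : Finite ↥(Q ⊔ U) := finite_of_le (sup_le hQS hUs.1)
      have hlt : Q < Q ⊔ U := lt_of_le_of_ne le_sup_left fun e => hne (le_sup_right.trans e.ge)
      obtain ⟨w, hw, hwQ⟩ := SetLike.exists_of_lt (lt_normalizerIn (hS.to_le (sup_le hQS hUs.1)) hlt)
      have hw1 : w ∈ (↑(Q ⊔ U) : Set Ω) := hw.1
      rw [Subgroup.coe_mul_of_left_le_normalizer_right Q U (hQS.trans hUs.le_normalizer)] at hw1
      obtain ⟨q, hq, v, hv, rfl⟩ := hw1
      have hvN : v ∈ Subgroup.normalizer (Q : Set Ω) := by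
        have := Subgroup.mul_mem _
          (Subgroup.inv_mem _ (Subgroup.le_normalizer hq : q ∈ Subgroup.normalizer (Q : Set Ω))) hw.2
        simpa [mul_assoc] using this
      have hvS : v ∈ S := hUs.1 hv
      let d : F.autGroup Q := ⟨Q.normalizerMonoidHom ⟨v, hvN⟩,
        autInducedBy_le_autGroup hQS (mem_autInducedBy_iff.mpr ⟨v, hvS, hvN, fun _ => rfl⟩)⟩
      have hd : d ∈ C := by
        have hv' : v ∈ (↑(X ⊔ centralizerIn S X) : Set Ω) := hv
        rw [sup_comm, Subgroup.coe_mul_of_left_le_normalizer_right (centralizerIn S X) X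
          (fun c hc => Subgroup.centralizer_le_normalizer _ hc.2)] at hv'
        obtain ⟨c, hc, y, hy, rfl⟩ := hv'
        refine ⟨⟨c * y * c⁻¹, ?_⟩, fun x => ?_⟩
        · rw [← Subgroup.mem_centralizer_iff.mp hc.2 y hy, mul_inv_cancel_right]
          exact hy
        · show c * y * (x : Ω) * (c * y)⁻¹ = c * y * c⁻¹ * x * (c * y * c⁻¹)⁻¹
          have h1 := Subgroup.mem_centralizer_iff.mp hc.2 (y * x * y⁻¹)
            (X.mul_mem (X.mul_mem hy x.2) (X.inv_mem hy))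
          have h2 := Subgroup.mem_centralizer_iff.mp hc.2 y hy
          rw [show c * y * c⁻¹ = y by rw [← h2, mul_inv_cancel_right]]
          calc c * y * (x : Ω) * (c * y)⁻¹ = c * (y * x * y⁻¹) * c⁻¹ := by group
            _ = y * x * y⁻¹ * c * c⁻¹ := by rw [h1]
            _ = y * x * y⁻¹ := by group
      have h2 : (d : MulAut Q) ∈ Inn Q := by
        rw [← (hQ.isRadical hS hF).2]
        exact ⟨d, CfsgLib.le_pCore hCp hd, rfl⟩
      rw [inn_eq_autInducedBy] at h2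
      obtain ⟨z, hz, -, hze⟩ := mem_autInducedBy_iff.mp h2
      have hzv : z⁻¹ * v ∈ centralizerIn S Q := by
        refine ⟨mul_mem (S.inv_mem (hQS hz)) hvS, Subgroup.mem_centralizer_iff.mpr fun x hx => ?_⟩
        have h1 : v * x * v⁻¹ = z * x * z⁻¹ := hze ⟨x, hx⟩
        calc x * (z⁻¹ * v) = z⁻¹ * (z * x * z⁻¹) * v := by group
          _ = z⁻¹ * v * x := by rw [← h1]; group
      have := Q.mul_mem hz (hQ.1.centralizerIn_le_self hzv)
      rw [mul_inv_cancel_left] at this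
      exact hwQ (Q.mul_mem hq this)
    refine (isPGroup_autInducedBy hS).to_le (K := autInducedBy S Q) fun α hα => ?_
    obtain ⟨φ, hφ, hr, he⟩ := F.exists_map_of_mem_autGroup hQS hα
    have hSN : S ≤ normalizerIn S U := (normalizerIn_eq_of_le_normalizer hUs.le_normalizer).ge
    have hφN : φ ∈ (F.normalizerSystem U hUs.1).Hom Q :=
      ⟨hφ, hQS.trans hSN, fun x => hSN (F.apply_mem hφ x), _, F.restrict_mem hφ (sup_le le_rfl hUQ),
        fun x => rfl, hUs.map_eq (F.restrict_mem hφ (sup_le le_rfl hUQ)) le_sup_right⟩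
    obtain ⟨-, g, hg, hge⟩ := hNUi Q hφN
    have hgN : g ∈ Subgroup.normalizer (Q : Set Ω) := by
      refine Subgroup.mem_normalizer_iff.mpr fun x => ⟨fun hx => ?_, fun hx => ?_⟩
      · rw [← hge ⟨x, hx⟩]
        exact hr.le ⟨_, rfl⟩
      · obtain ⟨y, hy⟩ := hr.ge hx
        rw [hge y] at hy
        rw [← mul_left_cancel (mul_right_cancel hy)]
        exact y.2
    exact mem_autInducedBy_iff.mpr ⟨g, hg.1, hgN, fun x => (he x).symm.trans (hge x)⟩
  -- the quotient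
  rw [not_not] at hprop
  obtain ⟨Ω', _, θ, E, hE, hker, hEm⟩ := hF.exists_factor hS hX
  have hEi := hquot Ω' θ E hE hker hEm
  haveI : Finite θ.range := Finite.of_surjective θ.rangeRestrict θ.rangeRestrict_surjective
  refine hF.isInner_of_essential hS hSS fun Q hQ => ?_
  have hQS : Q ≤ S := hQ.1.1
  haveI := finite_mulAut_of_le hQS
  haveI : Finite Q := finite_of_le hQS
  have hXQ : X ≤ Q := hX.le_of_centric_radical hS hQ.1 (hQ.isRadical hS hF)
  rintro ⟨α, hα⟩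
  obtain ⟨φ, hφ, hr, he⟩ := F.exists_map_of_mem_autGroup hQS hα
  -- on `X` the map is induced by `S`
  obtain ⟨-, ψ, hψ, hψe, k, hk, hke⟩ := hprop Q hφ
  obtain ⟨s, hs, hsN, hse⟩ := mem_autInducedBy_iff.mp hk
  -- modulo `X` as well
  have hle : preimageAlong θ (imageAlong θ Q) ≤ Q := by
    intro x hx
    obtain ⟨hxS, y, hy, hye⟩ := mem_preimageAlong.mp hx
    have h1 : (y : Ω)⁻¹ * x ∈ X :=
      (hker (y⁻¹ * ⟨x, hxS⟩)).mp (by rw [map_mul, map_inv, hye, inv_mul_cancel])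
    have := Q.mul_mem hy (hXQ h1)
    simpa using this
  obtain ⟨φ', hφ'⟩ := exists_inducedAlong hker hXs hφ
  have hφ'E : φ' ∈ E.Hom (imageAlong θ Q) := by
    refine (hEm _ _).mpr ⟨by rintro _ ⟨s, -, rfl⟩; exact ⟨s, rfl⟩, ?_⟩
    obtain ⟨h1, h2, h3, h4⟩ := hφ'
    exact ⟨_, F.restrict_mem hφ hle, preimageAlong_le, F.apply_mem (F.restrict_mem hφ hle),
      fun x => (mem_preimageAlong.mp x.2).2, fun x => h4 ⟨x, hle x.2⟩⟩
  obtain ⟨-, t', ⟨t, rfl⟩, hte⟩ := hEi _ hφ'E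
  have hmod : ∀ x : Q, θ ⟨((α x : Q) : Ω), hQS (α x).2⟩ = θ t * θ ⟨(x : Ω), hQS x.2⟩ * (θ t)⁻¹ := by
    intro x
    rw [show θ t * θ ⟨(x : Ω), hQS x.2⟩ * (θ t)⁻¹ = φ' ⟨θ ⟨(x : Ω), hQS x.2⟩, ⟨_, x.2, rfl⟩⟩ from
      (hte ⟨θ ⟨(x : Ω), hQS x.2⟩, ⟨_, x.2, rfl⟩⟩).symm,
      inducedAlong_apply_mem hφ hφ' x ⟨_, x.2, rfl⟩]
    exact congrArg θ (Subtype.ext (he x).symm)
  -- so a `p`-power of it stabilises `X ≤ Q`
  obtain ⟨m, hm⟩ := IsPGroup.iff_card.mp hS
  let n := p ^ m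
  have hsn : (⟨s, hs⟩ : S) ^ n = 1 := by rw [show n = Nat.card S from hm.symm]; exact pow_card_eq_one'
  have htn : t ^ n = 1 := by rw [show n = Nat.card S from hm.symm]; exact pow_card_eq_one'
  have hαX : ∀ (i : ℕ) (x : X), (((α ^ i) ⟨x, hXQ x.2⟩ : Q) : Ω) = s ^ i * x * (s ^ i)⁻¹ := by
    intro i
    induction i with
    | zero => intro x; simp
    | succ i ih =>
      intro x
      rw [pow_succ', MulAut.mul_apply]
      have hmem : s ^ i * x * (s ^ i)⁻¹ ∈ X :=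
        (Subgroup.mem_normalizer_iff.mp (Subgroup.pow_mem _ hsN i) _).mp x.2
      rw [show (α ^ i) ⟨x, hXQ x.2⟩ = (⟨_, hXQ hmem⟩ : Q) from Subtype.ext (ih x)]
      have h1 := hke ⟨_, hmem⟩
      rw [hse] at h1
      have h3 : ψ ⟨s ^ i * x * (s ^ i)⁻¹, Subgroup.mem_sup_right hmem⟩ = φ ⟨_, hXQ hmem⟩ :=
        hψe ⟨_, hXQ hmem⟩
      rw [← he, ← h3, h1, pow_succ']
      group
  have hαm : ∀ (i : ℕ) (x : Q), θ ⟨(((α ^ i) x : Q) : Ω), hQS ((α ^ i) x).2⟩ =
      θ t ^ i * θ ⟨(x : Ω), hQS x.2⟩ * (θ t ^ i)⁻¹ := by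
    intro i
    induction i with
    | zero => intro x; simp
    | succ i ih =>
      intro x
      simp only [pow_succ', MulAut.mul_apply]
      rw [hmod, ih]
      group
  have hβX : ∀ x : X, (((α ^ n) ⟨x, hXQ x.2⟩ : Q) : Ω) = x := by
    intro x
    have h1 : s ^ n = 1 := congrArg Subtype.val hsn
    rw [hαX, h1]
    simp
  have hβm : ∀ x : Q, (x : Ω)⁻¹ * (((α ^ n) x : Q) : Ω) ∈ X := by
    intro x
    refine (hker (⟨(x : Ω), hQS x.2⟩⁻¹ * ⟨_, hQS ((α ^ n) x).2⟩)).mp ?_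
    rw [map_mul, map_inv, hαm, ← map_pow, htn, map_one, one_mul, inv_one, mul_one, inv_mul_cancel]
  have hp := isPGroup_of_stabilises (p := p) (hS.to_le hQS) (n := 2)
    ![⊥, X.subgroupOf Q, ⊤] rfl rfl (Subgroup.zpowers (α ^ n)) ?_
  · obtain ⟨e, he'⟩ := hp ⟨_, Subgroup.mem_zpowers _⟩
    refine ⟨m + e, Subtype.ext ?_⟩
    have h1 : (α ^ n) ^ p ^ e = 1 := congrArg Subtype.val he'
    show α ^ p ^ (m + e) = 1
    rw [pow_add, pow_mul]
    exact h1
  · intro β hβ i x hx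
    let good : Subgroup (MulAut Q) :=
      { carrier := {β | (∀ x : X, ((β ⟨x, hXQ x.2⟩ : Q) : Ω) = x) ∧ ∀ x : Q, (x : Ω)⁻¹ * ((β x : Q) : Ω) ∈ X}
        one_mem' := ⟨fun x => rfl, fun x => by simp⟩
        mul_mem' := by
          rintro a b ⟨ha, ha'⟩ ⟨hb, hb'⟩
          refine ⟨fun x => ?_, fun x => ?_⟩
          · rw [MulAut.mul_apply, show b ⟨x, hXQ x.2⟩ = (⟨x, hXQ x.2⟩ : Q) from Subtype.ext (hb x), ha]
          · rw [MulAut.mul_apply]
            have := X.mul_mem (hb' x) (ha' (b x))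
            simpa [mul_assoc] using this
        inv_mem' := by
          rintro a ⟨ha, ha'⟩
          refine ⟨fun x => ?_, fun x => ?_⟩
          · have e : a⁻¹ ⟨x, hXQ x.2⟩ = (⟨x, hXQ x.2⟩ : Q) := by
              apply a.injective
              rw [MulAut.apply_inv_self]
              exact Subtype.ext (ha x).symm
            rw [e]
          · have h1 := ha' (a⁻¹ x)
            rw [MulAut.apply_inv_self] at h1
            simpa using X.inv_mem h1 }
    have hgood : Subgroup.zpowers (α ^ n) ≤ good := Subgroup.zpowers_le.mpr ⟨hβX, hβm⟩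
    obtain ⟨h1, h2⟩ := hgood hβ
    fin_cases i
    · show x⁻¹ * β x ∈ (⊥ : Subgroup Q)
      have hxX : x ∈ X.subgroupOf Q := hx
      rw [Subgroup.mem_bot, inv_mul_eq_one]
      exact Subtype.ext (h1 ⟨x, hxX⟩).symm
    · exact h2 x

end Cfsg.FusionSystem
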