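import Cfsg.Agent.Lib.Fusion.Alperin

/-!
Uniqueness of extensions from centric subgroups.
-/

set_option autoImplicit false

namespace Cfsg

namespace FusionSystem

variable {Ω : Type*} [Group Ω] {S : Subgroup Ω} {F : FusionSystem S} {P Q R : Subgroup Ω}
  {p : ℕ}

variable [Finite S]

omit [Finite S] in
theorem range_eq_map_of_le {φ : P →* Ω} (hQP : Q ≤ P) :
    (φ.comp (Subgroup.inclusion hQP)).range = (Q.subgroupOf P).map φ := by
  ext y
  exact ⟨fun ⟨x, hx⟩ => ⟨Subgroup.inclusion hQP x, x.2, hx⟩, fun ⟨x, hx, he⟩ => ⟨⟨x, hx⟩, he⟩⟩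

theorem IsCentric.map_centric (hQ : F.IsCentric Q) {φ : P →* Ω} (hφ : φ ∈ F.Hom P) (hQP : Q ≤ P) :
    F.IsCentric ((Q.subgroupOf P).map φ) :=
  hQ.of_isConj ⟨_, F.restrict_mem hφ hQP, range_eq_map_of_le hQP⟩

/-- Two maps agreeing on a centric subgroup normal in the source differ by conjugation by a central
element of it. -/
theorem exists_conj_of_eqOn_normal [Fact p.Prime] (hS : IsPGroup p S) (hF : F.IsSaturated p)
    (hQ : F.IsCentric Q) (hQP : Q ≤ P) (hPQ : P ≤ Subgroup.normalizer (Q : Set Ω))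
    {φ φ' : P →* Ω} (hφ : φ ∈ F.Hom P) (hφ' : φ' ∈ F.Hom P)
    (h : ∀ x : P, (x : Ω) ∈ Q → φ x = φ' x) :
    ∃ z : P, (z : Ω) ∈ Q ∧ (z : Ω) ∈ Subgroup.centralizer (Q : Set Ω) ∧
      ∀ y : P, φ' y = φ (z * y * z⁻¹) := by
  have hPS : P ≤ S := F.source_le hφ
  have : Finite P := finite_of_le hPS
  have hfin := finite_autGroup (F := F) hPS
  -- the discrepancy lies in the image of `Z(Q)`
  have hdisc : ∀ y : P, ∃ c : P, (c : Ω) ∈ Q ∧ φ c = (φ y)⁻¹ * φ' y := by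
    intro y
    have hmem : (φ y)⁻¹ * φ' y ∈ centralizerIn S ((Q.subgroupOf P).map φ) := by
      refine ⟨S.mul_mem (S.inv_mem (F.apply_mem hφ y)) (F.apply_mem hφ' y),
        Subgroup.mem_centralizer_iff.mpr ?_⟩
      rintro _ ⟨x, hx, rfl⟩
      have hx' : (y : Ω) * x * (y : Ω)⁻¹ ∈ Q := (Subgroup.mem_normalizer_iff.mp (hPQ y.2) x).mp hx
      have h1 := h (y * x * y⁻¹) hx'
      rw [map_mul, map_mul, map_inv, map_mul, map_mul, map_inv, ← h x hx] at h1
      calc φ x * ((φ y)⁻¹ * φ' y) = (φ y)⁻¹ * (φ y * φ x * (φ y)⁻¹) * φ' y := by group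
        _ = (φ y)⁻¹ * φ' y * φ x := by rw [h1]; group
    obtain ⟨c, hc, hce⟩ := (hQ.map_centric hφ hQP).centralizerIn_le_self hmem
    exact ⟨c, hc, hce⟩
  choose c hcQ hc using hdisc
  have hφ'e : ∀ y, φ' y = φ (y * c y) := fun y => by rw [map_mul, hc]; group
  let δ₀ : P →* P :=
    { toFun := fun y => y * c y
      map_one' := by
        apply F.injective_of_mem hφ
        rw [← hφ'e, map_one, map_one]
      map_mul' := fun a b => by
        apply F.injective_of_mem hφ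
        rw [← hφ'e, map_mul, map_mul, ← hφ'e, ← hφ'e] }
  have hδinj : Function.Injective δ₀ := fun a b hab => by
    apply F.injective_of_mem hφ'
    rw [hφ'e, hφ'e]
    exact congrArg φ hab
  let δ : MulAut P := MulEquiv.ofBijective δ₀ (Finite.injective_iff_bijective.mp hδinj)
  have hδe : ∀ y, δ y = y * c y := fun _ => rfl
  have hφ'δ : ∀ y, φ' y = φ (δ y) := hφ'e
  have hδQ : ∀ x : P, (x : Ω) ∈ Q → δ x = x := fun x hx =>
    F.injective_of_mem hφ ((hφ'δ x).symm.trans (h x hx).symm)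
  -- `δ` is a map of the system
  have hδmem : δ ∈ F.autGroup P := by
    have hr : φ'.range = φ.range := by
      ext w
      constructor
      · rintro ⟨y, rfl⟩
        exact ⟨δ y, (hφ'δ y).symm⟩
      · rintro ⟨y, rfl⟩
        exact ⟨δ.symm y, by rw [hφ'δ]; simp⟩
    obtain ⟨i, hi, -, hil, -⟩ := F.exists_inv hφ rfl
    obtain ⟨χ, hχ, hχe⟩ := F.exists_comp hφ' hi (fun x => hr.le ⟨x, rfl⟩)
    refine F.mem_autGroup_of_map hχ fun x => ?_
    rw [hχe]
    have : (⟨φ' x, hr.le ⟨x, rfl⟩⟩ : φ.range) = ⟨φ (δ x), ⟨δ x, rfl⟩⟩ := Subtype.ext (hφ'δ x)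
    rw [this]
    exact (hil (δ x) _).symm
  -- and a `p`-element
  obtain ⟨n, hn⟩ : ∃ n : ℕ, δ ^ p ^ n = 1 := by
    obtain ⟨n, hn⟩ := IsPGroup.iff_card.mp (hS.to_le hPS : IsPGroup p P)
    refine ⟨n, ?_⟩
    ext y
    have hpow : ∀ k : ℕ, (δ ^ k) y = y * c y ^ k := by
      intro k
      induction k with
      | zero => simp
      | succ k ihk =>
        rw [pow_succ', MulAut.mul_apply, ihk, map_mul, map_pow, hδQ _ (hcQ y), hδe, pow_succ']
        simp [mul_assoc]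
    rw [hpow, ← hn, pow_card_eq_one']
    simp
  -- transport to a fully automised conjugate
  obtain ⟨P', ⟨θ, hθ, hθr⟩, ⟨hP'S, T, hT⟩, -⟩ := hF P hPS
  have hfin' := finite_autGroup (F := F) hP'S
  let e : P ≃* P' := F.isoOf hθ hθr
  have he : ∀ x, ((e x : P') : Ω) = θ x := fun x => rfl
  have hmem' : MulAut.congr e δ ∈ F.autGroup P' :=
    (F.autGroup_map_congr hθ hθr).le ⟨δ, hδmem, rfl⟩
  have hp : IsPGroup p (Subgroup.zpowers (⟨_, hmem'⟩ : F.autGroup P')) := by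
    rintro ⟨_, k, rfl⟩
    refine ⟨n, Subtype.ext ?_⟩
    show ((⟨MulAut.congr e δ, hmem'⟩ : F.autGroup P') ^ k) ^ p ^ n = 1
    rw [← zpow_natCast, ← zpow_mul, mul_comm, zpow_mul, zpow_natCast]
    have : (⟨MulAut.congr e δ, hmem'⟩ : F.autGroup P') ^ p ^ n = 1 := by
      apply Subtype.ext
      show (MulAut.congr e δ) ^ p ^ n = 1
      rw [← map_pow, hn, map_one]
    rw [this, one_zpow]
  obtain ⟨a, ha⟩ := exists_conj_mem_sylow T hp
  have h1 := ha _ (Subgroup.mem_zpowers _)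
  rw [hT] at h1
  obtain ⟨g, hgS, -, hg⟩ := mem_autInducedBy_iff.mp (Subgroup.mem_subgroupOf.mp h1)
  -- `g` centralises a conjugate of `Q`
  let f : P ≃* P' := e.trans (a : MulAut P')
  obtain ⟨α, hα, -, hαe⟩ := F.exists_map_of_mem_autGroup hP'S a.2
  obtain ⟨χ, hχ, hχe⟩ := F.exists_comp hθ hα (fun x => hθr.le ⟨x, rfl⟩)
  have hχf : ∀ x, χ x = ((f x : P') : Ω) := fun x => by
    rw [hχe, hαe]
    rfl
  have hg' : ∀ x : P, ((f (δ x) : P') : Ω) = g * f x * g⁻¹ := by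
    intro x
    have h2 := hg (f x)
    rw [← h2]
    simp [f, MulAut.congr]
  have hgc : g ∈ centralizerIn S ((Q.subgroupOf P).map χ) := by
    refine ⟨hgS, Subgroup.mem_centralizer_iff.mpr ?_⟩
    rintro _ ⟨x, hx, rfl⟩
    have h2 := hg' x
    rw [hδQ x hx, ← hχf] at h2
    calc χ x * g = g * χ x * g⁻¹ * g := by rw [← h2]
      _ = g * χ x := by group
  obtain ⟨z, hzQ, hzg⟩ := (hQ.map_centric hχ hQP).centralizerIn_le_self hgc
  refine ⟨z, hzQ, ?_, fun y => ?_⟩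
  · refine Subgroup.mem_centralizer_iff.mpr fun q hq => ?_
    have h2 := Subgroup.mem_centralizer_iff.mp hgc.2 _ ⟨⟨q, hQP hq⟩, hq, rfl⟩
    rw [← hzg, ← map_mul, ← map_mul] at h2
    exact congrArg Subtype.val (F.injective_of_mem hχ h2)
  · rw [hφ'δ]
    congr 1
    apply f.injective
    apply Subtype.ext
    rw [hg', map_mul, map_mul, map_inv, ← hzg, hχf]
    rfl

/-- Two maps agreeing on a centric subgroup differ by conjugation by a central element of it. -/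
theorem exists_conj_of_eqOn [Fact p.Prime] (hS : IsPGroup p S) (hF : F.IsSaturated p)
    (hQ : F.IsCentric Q) (hQP : Q ≤ P)
    {φ φ' : P →* Ω} (hφ : φ ∈ F.Hom P) (hφ' : φ' ∈ F.Hom P)
    (h : ∀ x : P, (x : Ω) ∈ Q → φ x = φ' x) :
    ∃ z : P, (z : Ω) ∈ Q ∧ (z : Ω) ∈ Subgroup.centralizer (Q : Set Ω) ∧
      ∀ y : P, φ' y = φ (z * y * z⁻¹) := by
  have hPS : P ≤ S := F.source_le hφ
  have : Finite P := finite_of_le hPS
  suffices key : ∀ (d : ℕ) (Q : Subgroup Ω), Nat.card P - Nat.card Q = d → F.IsCentric Q → Q ≤ P →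
      ∀ φ φ' : P →* Ω, φ ∈ F.Hom P → φ' ∈ F.Hom P → (∀ x : P, (x : Ω) ∈ Q → φ x = φ' x) →
      ∃ z : P, (z : Ω) ∈ Q ∧ (z : Ω) ∈ Subgroup.centralizer (Q : Set Ω) ∧
        ∀ y : P, φ' y = φ (z * y * z⁻¹) from key _ Q rfl hQ hQP φ φ' hφ hφ' h
  intro d
  induction d using Nat.strong_induction_on with
  | _ d ih =>
  intro Q hd hQ hQP φ φ' hφ hφ' h
  by_cases hn : P ≤ Subgroup.normalizer (Q : Set Ω)
  · exact exists_conj_of_eqOn_normal hS hF hQ hQP hn hφ hφ' h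
  have hlt : Q < P := lt_of_le_of_ne hQP fun e => hn (e ▸ Subgroup.le_normalizer)
  let N : Subgroup Ω := normalizerIn P Q
  have hQN : Q ≤ N := fun x hx => ⟨hQP hx, Subgroup.le_normalizer hx⟩
  have hNP : N ≤ P := normalizerIn_le
  obtain ⟨z, hzQ, hzC, hz⟩ := exists_conj_of_eqOn_normal hS hF hQ hQN (fun x hx => hx.2)
    (F.restrict_mem hφ hNP) (F.restrict_mem hφ' hNP) (fun x hx => h ⟨x, hNP x.2⟩ hx)
  let z' : P := ⟨z, hNP z.2⟩
  obtain ⟨φ'', hφ'', hφ''e⟩ := F.exists_comp (F.conj_mem (g := (z : Ω)) hPS (hPS (hNP z.2))) hφ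
    (fun x => P.mul_mem (P.mul_mem z'.2 x.2) (P.inv_mem z'.2))
  have hφ''e' : ∀ y : P, φ'' y = φ (z' * y * z'⁻¹) := fun y => hφ''e y
  have : Finite N := finite_of_le (hNP.trans hPS)
  have hcard : Nat.card Q < Nat.card N := card_lt_of_lt (lt_normalizerIn (hS.to_le hPS) hlt)
  have hNP' : Nat.card N ≤ Nat.card P :=
    Nat.card_le_card_of_injective (Subgroup.inclusion hNP) (Subgroup.inclusion_injective _)
  obtain ⟨u, huN, huC, hu⟩ := ih _ (by omega) N rfl (isCentric_of_le hQ hQN (hNP.trans hPS)) hNP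
    φ'' φ' hφ'' hφ' (fun x hx => by rw [hφ''e']; exact (hz ⟨x, hx⟩).symm)
  have huQ' : (u : Ω) ∈ Subgroup.centralizer (Q : Set Ω) := Subgroup.centralizer_le hQN huC
  have huQ : (u : Ω) ∈ Q := hQ.centralizerIn_le_self ⟨hPS u.2, huQ'⟩
  refine ⟨z' * u, Q.mul_mem hzQ huQ, Subgroup.mul_mem _ hzC huQ', fun y => ?_⟩
  rw [hu, hφ''e']
  congr 1
  simp [mul_assoc]

/-- A map of `F` is in a saturated subsystem once its restriction to a centric subgroup is. -/
theorem mem_of_restrict_centric [Fact p.Prime] (hS : IsPGroup p S) (hF : F.IsSaturated p)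
    {E : FusionSystem S} (hE : E.IsSaturated p) (hle : E ≤ F) (hQ : F.IsCentric Q) (hQP : Q ≤ P)
    {ψ : P →* Ω} (hψ : ψ ∈ F.Hom P) (h : ψ.comp (Subgroup.inclusion hQP) ∈ E.Hom Q) :
    ψ ∈ E.Hom P := by
  have hPS : P ≤ S := F.source_le hψ
  suffices key : ∀ (d : ℕ) (Q : Subgroup Ω), Nat.card P - Nat.card Q = d → F.IsCentric Q →
      ∀ hQP : Q ≤ P, ψ.comp (Subgroup.inclusion hQP) ∈ E.Hom Q → ψ ∈ E.Hom P from
    key _ Q rfl hQ hQP h
  intro d
  induction d using Nat.strong_induction_on with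
  | _ d ih =>
  intro Q hd hQ hQP h
  rcases eq_or_lt_of_le hQP with rfl | hlt
  · exact E.mem_of_apply_eq h fun x => rfl
  have : Finite P := finite_of_le hPS
  let N : Subgroup Ω := normalizerIn P Q
  have hQN : Q ≤ N := fun x hx => ⟨hQP hx, Subgroup.le_normalizer hx⟩
  have hNP : N ≤ P := normalizerIn_le
  let φ : Q →* Ω := ψ.comp (Subgroup.inclusion hQP)
  have hQ' : F.IsCentric φ.range := hQ.of_isConj ⟨φ, hle _ h, rfl⟩
  -- in a saturated system a centric subgroup is receptive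
  have hQE : E.IsCentric φ.range :=
    ⟨hQ'.1, fun R hR => hQ'.2 R (by obtain ⟨χ, hχ, hr⟩ := hR; exact ⟨χ, hle _ hχ, hr⟩)⟩
  have hrec := hE.isReceptive_of_isFullyCentralized hS hQE.isFullyCentralized
  obtain ⟨χ, hχ, hχe⟩ := hrec.2 Q φ h rfl
  have hNext : N ≤ extender S Q φ := by
    intro g hg
    refine (mem_extender_iff (E.apply_mem h)).mpr ⟨hPS hg.1, hg.2, ψ ⟨g, hg.1⟩, F.apply_mem hψ _, ?_⟩
    intro x hx
    exact apply_conj (φ := φ) (R := P) hQP (fun x => rfl) ⟨g, hg.1⟩ x hx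
  obtain ⟨z, hzQ, hzC, hz⟩ := exists_conj_of_eqOn hS hF hQ hQN (F.restrict_mem (hle _ hχ) hNext)
    (F.restrict_mem hψ hNP) (fun x hx => hχe x hx _)
  obtain ⟨ω, hω, hωe⟩ := E.exists_comp (E.conj_mem (g := (z : Ω)) (hNP.trans hPS) (hPS (hNP z.2)))
    (E.restrict_mem hχ hNext) (fun x => N.mul_mem (N.mul_mem z.2 x.2) (N.inv_mem z.2))
  have hN : ψ.comp (Subgroup.inclusion hNP) ∈ E.Hom N :=
    E.mem_of_apply_eq hω fun x => (hz x).trans (hωe x).symm
  have : Finite N := finite_of_le (hNP.trans hPS)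
  have hcard : Nat.card Q < Nat.card N := card_lt_of_lt (lt_normalizerIn (hS.to_le hPS) hlt)
  have hNP' : Nat.card N ≤ Nat.card P :=
    Nat.card_le_card_of_injective (Subgroup.inclusion hNP) (Subgroup.inclusion_injective _)
  exact ih _ (by omega) N rfl (isCentric_of_le hQ hQN (hNP.trans hPS)) hNP hN

end FusionSystem

end Cfsg
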