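import Cfsg.Agent.Lib.Fusion.Systems
import Cfsg.Agent.Lib.Fusion.Centric

/-!
Saturation of the normalizer systems `N^K_F(Q)`.
-/

set_option autoImplicit false
set_option linter.unusedSectionVars false

namespace Cfsg

namespace FusionSystem

variable {Ω : Type*} [Group Ω] {S : Subgroup Ω} {F : FusionSystem S} {Q : Subgroup Ω}
  {K : Subgroup (MulAut Q)} {p : ℕ}

/-- The map restricts to `Q` as a member of `K`. -/
def Restricts (K : Subgroup (MulAut Q)) {R : Subgroup Ω} (ψ : R →* Ω) (hQR : Q ≤ R) : Prop :=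
  ∃ k ∈ K, ∀ q : Q, ψ ⟨q, hQR q.2⟩ = ((k q : Q) : Ω)

/-- The elements of `S` acting on the image of `φ` as members of `K`. -/
def kNormalizer (S : Subgroup Ω) (K : Subgroup (MulAut Q)) (φ : Q →* Ω) : Subgroup Ω where
  carrier := {g | g ∈ S ∧ ∃ k ∈ K, ∀ x : Q, g * φ x * g⁻¹ = φ (k x)}
  one_mem' := ⟨S.one_mem, 1, K.one_mem, fun x => by simp⟩
  mul_mem' := by
    rintro a b ⟨ha, ka, hka, hae⟩ ⟨hb, kb, hkb, hbe⟩
    refine ⟨S.mul_mem ha hb, ka * kb, K.mul_mem hka hkb, fun x => ?_⟩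
    rw [MulAut.mul_apply, ← hae, ← hbe]
    group
  inv_mem' := by
    rintro a ⟨ha, ka, hka, hae⟩
    refine ⟨S.inv_mem ha, ka⁻¹, K.inv_mem hka, fun x => ?_⟩
    have h := hae (ka⁻¹ x)
    rw [MulAut.apply_inv_self] at h
    rw [← h]
    group

theorem kNormalizer_le (φ : Q →* Ω) : kNormalizer S K φ ≤ S := fun _ h => h.1

theorem kNormalizer_le_normalizer (φ : Q →* Ω) :
    kNormalizer S K φ ≤ Subgroup.normalizer (φ.range : Set Ω) := by
  rintro g ⟨-, k, -, he⟩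
  refine Subgroup.mem_normalizer_iff.mpr fun y => ⟨?_, ?_⟩
  · rintro ⟨x, rfl⟩
    exact ⟨k x, (he x).symm⟩
  · rintro ⟨x, hx⟩
    have h := he (k.symm x)
    rw [MulEquiv.apply_symm_apply, hx] at h
    exact ⟨k.symm x, mul_left_cancel (mul_right_cancel h)⟩

/-- `E` is the system `N^K_F(Q)`. -/
structure IsRelativeSystem (F : FusionSystem S) (K : Subgroup (MulAut Q)) {N : Subgroup Ω}
    (E : FusionSystem N) : Prop where
  carrier : N = kNormalizer S K Q.subtype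
  mem : ∀ (P : Subgroup Ω) (φ : P →* Ω), φ ∈ E.Hom P ↔ φ ∈ F.Hom P ∧ P ≤ N ∧ (∀ x : P, φ x ∈ N) ∧
    ∃ ψ ∈ F.Hom (P ⊔ Q), (∀ x : P, ψ (Subgroup.inclusion le_sup_left x) = φ x) ∧
      Restricts K ψ le_sup_right

/-- Every conjugate of `Q` can be moved back to `Q` over its `K`-normaliser. -/
def IsKExtremal (F : FusionSystem S) (K : Subgroup (MulAut Q)) : Prop :=
  ∀ φ ∈ F.Hom Q, ∃ (D : Subgroup Ω) (hQD : φ.range ≤ D), ∃ χ ∈ F.Hom D, kNormalizer S K φ ≤ D ∧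
    ∃ k ∈ K, ∀ x : Q, χ ⟨φ x, hQD ⟨x, rfl⟩⟩ = ((k x : Q) : Ω)

theorem IsRelativeSystem.isSaturated [Finite S] [Fact p.Prime] (hS : IsPGroup p S) (hF : F.IsSaturated p)
    (hQS : Q ≤ S) (hK : IsKExtremal F K) {N : Subgroup Ω} {E : FusionSystem N} (hE : F.IsRelativeSystem K E) :
    E.IsSaturated p := by
  classical
  obtain ⟨hN, hEm⟩ := hE
  have hNS : N ≤ S := hN ▸ kNormalizer_le _
  haveI : Finite N := finite_of_le hNS
  have hNn : N ≤ Subgroup.normalizer (Q : Set Ω) := by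
    rw [hN]
    simpa using kNormalizer_le_normalizer (S := S) (K := K) Q.subtype
  intro P₀ hP₀
  -- choose the conjugate with the largest part of the normaliser
  obtain ⟨P, hP₀P, hmax⟩ := Set.exists_max_image {P : Subgroup Ω | E.IsConj P₀ P}
    (fun P => Nat.card (normalizerIn N P)) finite_setOf_isConj ⟨P₀, E.isConj_refl hP₀⟩
  have hPN : P ≤ N := hP₀P.le_right
  set R : Subgroup Ω := P ⊔ Q with hR
  have hRS : R ≤ S := sup_le (hPN.trans hNS) hQS
  haveI : Finite R := finite_of_le hRS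
  haveI := finite_autGroup (F := F) hRS
  haveI := finite_mulAut_of_le hRS
  set T : Subgroup Ω := normalizerIn N P with hT
  have hTS : T ≤ S := normalizerIn_le.trans hNS
  have hTR : T ≤ Subgroup.normalizer (R : Set Ω) := fun g hg => by
    refine Subgroup.mem_normalizer_iff_map_conj_eq.mpr ?_
    rw [hR, Subgroup.map_sup, Subgroup.mem_normalizer_iff_map_conj_eq.mp hg.2,
      Subgroup.mem_normalizer_iff_map_conj_eq.mp (hNn hg.1)]
  have hCT : centralizerIn S R ≤ T := by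
    rintro g ⟨hgS, hgC⟩
    have hfix : ∀ x ∈ R, g * x * g⁻¹ = x := fun x hx => by
      rw [← Subgroup.mem_centralizer_iff.mp hgC x hx, mul_inv_cancel_right]
    refine ⟨?_, Subgroup.mem_normalizer_iff_map_conj_eq.mpr ?_⟩
    · rw [hN]
      exact ⟨hgS, 1, K.one_mem, fun x => hfix _ (Subgroup.mem_sup_right x.2)⟩
    · exact le_antisymm (fun _ ⟨x, hx, e⟩ => e ▸ (show g * x * g⁻¹ ∈ P by
        rw [hfix x (Subgroup.mem_sup_left hx)]; exact hx))
        fun x hx => ⟨x, hx, hfix x (Subgroup.mem_sup_left hx)⟩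
  -- the automorphisms of the pair
  let KR : Subgroup (MulAut R) :=
    { carrier := {α | α ∈ F.autGroup R ∧ (∀ x : R, ((α x : R) : Ω) ∈ P ↔ (x : Ω) ∈ P) ∧
        ∃ k ∈ K, ∀ q : Q, ((α ⟨q, Subgroup.mem_sup_right q.2⟩ : R) : Ω) = ((k q : Q) : Ω)}
      one_mem' := ⟨one_mem _, fun _ => Iff.rfl, 1, K.one_mem, fun q => rfl⟩
      mul_mem' := by
        rintro a b ⟨ha, ha1, ka, hka, hae⟩ ⟨hb, hb1, kb, hkb, hbe⟩
        refine ⟨mul_mem ha hb, fun x => (ha1 _).trans (hb1 x), ka * kb, K.mul_mem hka hkb, fun q => ?_⟩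
        show ((a (b _) : R) : Ω) = ((ka (kb q) : Q) : Ω)
        rw [show b ⟨q, _⟩ = (⟨(kb q : Q), Subgroup.mem_sup_right (kb q).2⟩ : R) from Subtype.ext (hbe q), hae]
      inv_mem' := by
        rintro a ⟨ha, ha1, ka, hka, hae⟩
        refine ⟨Subgroup.inv_mem _ ha, fun x => ?_, ka⁻¹, K.inv_mem hka, fun q => ?_⟩
        · have h := ha1 (a⁻¹ x)
          rw [MulAut.apply_inv_self] at h
          exact h.symm
        · have h := hae (ka⁻¹ q)
          rw [MulAut.apply_inv_self] at h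
          have e : a ⟨((ka⁻¹ q : Q) : Ω), Subgroup.mem_sup_right (ka⁻¹ q).2⟩ = ⟨q, Subgroup.mem_sup_right q.2⟩ :=
            Subtype.ext h
          rw [← e, MulAut.inv_apply_self] }
  have hKR : KR ≤ F.autGroup R := fun α hα => hα.1
  haveI : Finite KR := Finite.of_injective _ (Subgroup.inclusion_injective hKR)
  have hAT : autInducedBy T R ≤ KR := by
    intro α hα
    obtain ⟨g, hg, -, he⟩ := mem_autInducedBy_iff.mp hα
    refine ⟨F.autInducedBy_le_autGroup hRS (autInducedBy_mono hTS hα), fun x => ?_, ?_⟩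
    · rw [he]
      exact ((Subgroup.mem_normalizer_iff.mp hg.2) x).symm
    · have hg' := hg.1
      rw [hN] at hg'
      obtain ⟨-, k, hk, hke⟩ := hg'
      exact ⟨k, hk, fun q => (he _).trans (hke q)⟩
  -- a fully normalized conjugate of `R`, positioned well for `KR`
  obtain ⟨R₁, hRR₁, hR₁⟩ := F.exists_isFullyNormalized hRS
  obtain ⟨β₀, hβ₀, hβ₀r⟩ := hRR₁
  have hA₁ := hF.isFullyAutomized_of_isFullyNormalized hS hR₁
  obtain ⟨hR₁S, T₁, hT₁⟩ := hA₁
  haveI := finite_mulAut_of_le hR₁S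
  haveI := finite_autGroup (F := F) hR₁S
  let c₀ : MulAut R ≃* MulAut R₁ := MulAut.congr (F.isoOf hβ₀ hβ₀r)
  obtain ⟨PK⟩ : Nonempty (Sylow p KR) := inferInstance
  have hPK' : ((PK : Subgroup KR).map KR.subtype).map c₀.toMonoidHom ≤ F.autGroup R₁ := by
    rw [← F.autGroup_map_congr hβ₀ hβ₀r]
    exact Subgroup.map_mono ((Subgroup.map_subtype_le _).trans hKR)
  have hPKp : IsPGroup p ((((PK : Subgroup KR).map KR.subtype).map c₀.toMonoidHom).subgroupOf (F.autGroup R₁)) :=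
    ((PK.2.map _).map _).of_equiv (Subgroup.subgroupOfEquivOfLe hPK').symm
  obtain ⟨γ, hγ⟩ := exists_conj_mem_sylow T₁ hPKp
  rw [hT₁] at hγ
  obtain ⟨γφ, hγφ, -, hγe⟩ := F.exists_map_of_mem_autGroup hR₁S γ.2
  obtain ⟨β, hβ, hβe⟩ := F.exists_comp hβ₀ hγφ (fun x => hβ₀r.le ⟨x, rfl⟩)
  have hβe' : ∀ x : R, β x = (((γ : MulAut R₁) (F.isoOf hβ₀ hβ₀r x) : R₁) : Ω) := fun x => by
    rw [hβe, hγe]
    rfl
  -- move back to `Q`
  let φQ : Q →* Ω := β.comp (Subgroup.inclusion le_sup_right)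
  obtain ⟨D, hQD, χ, hχ, hKD, k₀, hk₀, hχk⟩ := hK φQ (F.restrict_mem hβ le_sup_right)
  have hβQ : ∀ q : Q, β ⟨q, Subgroup.mem_sup_right q.2⟩ = φQ q := fun q => rfl
  have hβP : ∀ (x : Ω) (hx : x ∈ P), β ⟨x, Subgroup.mem_sup_left hx⟩ ∈ kNormalizer S K φQ := by
    intro x hx
    have hxN := hPN hx
    rw [hN] at hxN
    obtain ⟨-, k, hk, hke⟩ := hxN
    refine ⟨F.apply_mem hβ _, k, hk, fun q => ?_⟩
    rw [← hβQ, ← map_inv, ← map_mul, ← map_mul, ← hβQ]
    exact congrArg β (Subtype.ext (hke q))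
  have hβD : ∀ x : R, β x ∈ D := by
    have h : R ≤ (D.comap β).map R.subtype := sup_le
      (fun x hx => ⟨⟨x, Subgroup.mem_sup_left hx⟩, hKD (hβP x hx), rfl⟩)
      (fun x hx => ⟨⟨x, Subgroup.mem_sup_right hx⟩, hQD ⟨⟨x, hx⟩, rfl⟩, rfl⟩)
    intro x
    obtain ⟨y, hy, e⟩ := h x.2
    obtain rfl : y = x := Subtype.ext e
    exact hy
  obtain ⟨σ, hσ, hσe⟩ := F.exists_comp hβ hχ hβD
  have hσQ : ∀ q : Q, σ ⟨q, Subgroup.mem_sup_right q.2⟩ = ((k₀ q : Q) : Ω) := fun q => by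
    rw [hσe, ← hχk q]
    rfl
  have hχN : ∀ (g : Ω) (hg : g ∈ kNormalizer S K φQ), χ ⟨g, hKD hg⟩ ∈ N := by
    intro g hg
    obtain ⟨-, k, hk, hke⟩ := hg
    rw [hN]
    refine ⟨F.apply_mem hχ _, k₀ * k * k₀⁻¹, K.mul_mem (K.mul_mem hk₀ hk) (K.inv_mem hk₀), fun q => ?_⟩
    obtain ⟨q', rfl⟩ := k₀.surjective q
    show χ _ * ((k₀ q' : Q) : Ω) * (χ _)⁻¹ = ((k₀ (k (k₀⁻¹ (k₀ q'))) : Q) : Ω)
    rw [MulAut.inv_apply_self, ← hχk, ← hχk, ← map_inv, ← map_mul, ← map_mul]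
    exact congrArg χ (Subtype.ext (hke q'))
  let σP : P →* Ω := σ.comp (Subgroup.inclusion le_sup_left)
  have hσPN : ∀ x : P, σP x ∈ N := fun x => by
    show σ ⟨(x : Ω), _⟩ ∈ N
    rw [hσe]
    exact hχN _ (hβP x x.2)
  have hσE : σP ∈ E.Hom P :=
    (hEm P σP).mpr ⟨F.restrict_mem hσ le_sup_left, hPN, hσPN, σ, hσ, fun x => rfl, k₀, hk₀, hσQ⟩
  set P₁ : Subgroup Ω := (P.subgroupOf R).map β with hP₁
  set Tβ : Subgroup Ω := kNormalizer S K φQ ⊓ Subgroup.normalizer (P₁ : Set Ω) with hTβ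
  haveI : Finite Tβ := finite_of_le (inf_le_left.trans (kNormalizer_le _))
  have hle₁ : Nat.card Tβ ≤ Nat.card T := by
    refine le_trans ?_ (hmax σP.range (hP₀P.trans ⟨σP, hσE, rfl⟩))
    have hmem : ∀ g : Tβ, χ ⟨g, hKD g.2.1⟩ ∈ normalizerIn N σP.range := by
      rintro ⟨g, hg1, hg2⟩
      refine ⟨hχN g hg1, ?_⟩
      haveI : Finite P := finite_of_le (hPN.trans hNS)
      haveI : Finite σP.range := finite_of_le (F.range_le (F.restrict_mem hσ le_sup_left))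
      refine Subgroup.mem_normalizer_iff_map_conj_eq.mpr (Subgroup.eq_of_le_of_card_ge ?_ ?_)
      · rintro _ ⟨_, ⟨x, rfl⟩, rfl⟩
        have hx : g * β ⟨x, Subgroup.mem_sup_left x.2⟩ * g⁻¹ ∈ P₁ :=
          (Subgroup.mem_normalizer_iff.mp hg2 _).mp ⟨⟨x, Subgroup.mem_sup_left x.2⟩, x.2, rfl⟩
        obtain ⟨y, hy, hye⟩ := hx
        refine ⟨⟨y, hy⟩, ?_⟩
        show σ ⟨(y : Ω), _⟩ = χ _ * σ ⟨(x : Ω), _⟩ * (χ _)⁻¹
        rw [hσe, hσe, ← map_inv, ← map_mul, ← map_mul]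
        exact congrArg χ (Subtype.ext hye)
      · exact (Nat.card_congr (σP.range.equivMapOfInjective _ (MulAut.conj _).injective).toEquiv).le
    haveI : Finite (normalizerIn N σP.range) := finite_normalizerIn
    exact Nat.card_le_card_of_injective (fun g => (⟨_, hmem g⟩ : normalizerIn N σP.range))
      fun a b h => Subtype.ext (congrArg Subtype.val
        (F.injective_of_mem hχ (congrArg Subtype.val h) : (⟨a, hKD a.2.1⟩ : D) = ⟨b, hKD b.2.1⟩) :)
  have hP₁R : P₁ ≤ R₁ := by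
    rintro _ ⟨x, -, rfl⟩
    rw [hβe']
    exact SetLike.coe_mem _
  -- `Tβ` covers a Sylow subgroup of `KR`
  let c : MulAut R ≃* MulAut R₁ := MulAut.congr ((F.isoOf hβ₀ hβ₀r).trans (γ : MulAut R₁))
  have hcov : ((PK : Subgroup KR).map KR.subtype).map c.toMonoidHom ≤ autInducedBy Tβ R₁ := by
    rintro _ ⟨α, hα, rfl⟩
    have h1 := hγ ⟨c₀ α, hPK' ⟨α, hα, rfl⟩⟩ (Subgroup.mem_subgroupOf.mpr ⟨α, hα, rfl⟩)
    obtain ⟨s, hsS, hsN, hse⟩ := mem_autInducedBy_iff.mp (Subgroup.mem_subgroupOf.mp h1)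
    have hcon : c α = (γ : MulAut R₁) * c₀ α * (γ : MulAut R₁)⁻¹ := rfl
    have hsb : ∀ x : R, s * β x * s⁻¹ = β (α x) := by
      intro x
      rw [hβe', hβe', ← hse]
      simp [c₀, MulAut.congr]
    obtain ⟨α', hα', rfl⟩ := hα
    obtain ⟨-, hαP, k, hk, hke⟩ := α'.2
    refine mem_autInducedBy_iff.mpr ⟨s, ⟨⟨hsS, k, hk, fun q => ?_⟩, ?_⟩, hsN, fun y => ?_⟩
    · rw [← hβQ, hsb, ← hβQ]
      exact congrArg β (Subtype.ext (hke q))
    · refine Subgroup.mem_normalizer_iff_map_conj_eq.mpr ?_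
      apply le_antisymm
      · rintro _ ⟨_, ⟨x, hx, rfl⟩, rfl⟩
        exact ⟨_, (hαP x).mpr hx, (hsb x).symm⟩
      · rintro _ ⟨x, hx, rfl⟩
        refine ⟨β ((KR.subtype α').symm x), ⟨_, ?_, rfl⟩, ?_⟩
        · show (((α' : MulAut R).symm x : R) : Ω) ∈ P
          rw [← hαP ((α' : MulAut R).symm x), MulEquiv.apply_symm_apply]
          exact hx
        · show s * β _ * s⁻¹ = β x
          rw [hsb]
          exact congrArg β ((α' : MulAut R).apply_symm_apply x)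
    · show (((c (KR.subtype α')) y : R₁) : Ω) = _
      rw [hcon, ← hse]
      rfl
  have hC₁ : centralizerIn S R₁ ≤ Tβ := by
    rintro g ⟨hgS, hgC⟩
    have hfix : ∀ x ∈ R₁, g * x * g⁻¹ = x := fun x hx => by
      rw [← Subgroup.mem_centralizer_iff.mp hgC x hx, mul_inv_cancel_right]
    refine ⟨⟨hgS, 1, K.one_mem, fun q => hfix _ ?_⟩, Subgroup.mem_normalizer_iff_map_conj_eq.mpr ?_⟩
    · rw [← hβQ, hβe']
      exact SetLike.coe_mem _
    · exact le_antisymm (fun _ ⟨x, hx, e⟩ => e ▸ (show g * x * g⁻¹ ∈ P₁ by rw [hfix x (hP₁R hx)]; exact hx))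
        fun x hx => ⟨x, hx, hfix x (hP₁R hx)⟩
  have hcT : Nat.card T = Nat.card (autInducedBy T R) * Nat.card (centralizerIn S R) := by
    rw [show centralizerIn S R = centralizerIn T R from
      le_antisymm (fun g hg => ⟨hCT hg, hg.2⟩) (fun g hg => ⟨hTS hg.1, hg.2⟩), card_autInducedBy_mul,
      show normalizerIn T R = T from inf_eq_left.mpr hTR]
  have hge : Nat.card (PK : Subgroup KR) * Nat.card (centralizerIn S R₁) ≤ Nat.card Tβ := by
    have h1 := card_autInducedBy_mul Tβ R₁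
    rw [show centralizerIn Tβ R₁ = centralizerIn S R₁ from
      le_antisymm (fun g hg => ⟨kNormalizer_le _ hg.1.1, hg.2⟩) (fun g hg => ⟨hC₁ hg, hg.2⟩)] at h1
    have h2 : Nat.card (PK : Subgroup KR) ≤ Nat.card (autInducedBy Tβ R₁) := by
      rw [← Subgroup.card_map_of_injective (K := (PK : Subgroup KR)) KR.subtype_injective,
        ← Subgroup.card_map_of_injective (K := (PK : Subgroup KR).map KR.subtype) (f := c.toMonoidHom) c.injective]
      exact Nat.card_le_card_of_injective _ (Subgroup.inclusion_injective hcov)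
    refine le_trans (Nat.mul_le_mul_right _ h2) (h1.le.trans ?_)
    exact Nat.card_le_card_of_injective _ (Subgroup.inclusion_injective normalizerIn_le)
  have hATle : Nat.card (autInducedBy T R) ≤ Nat.card (PK : Subgroup KR) := by
    have hp : IsPGroup p ((autInducedBy T R).subgroupOf KR) :=
      (isPGroup_autInducedBy (hS.to_le hTS)).of_equiv (Subgroup.subgroupOfEquivOfLe hAT).symm
    obtain ⟨U, hU⟩ := hp.exists_le_sylow
    rw [← Nat.card_congr (Subgroup.subgroupOfEquivOfLe hAT).toEquiv,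
      show Nat.card (PK : Subgroup KR) = Nat.card (U : Subgroup KR) from Nat.card_congr (PK.equiv U).toEquiv]
    exact Nat.card_le_card_of_injective _ (Subgroup.inclusion_injective hU)
  have hCle : Nat.card (centralizerIn S R) ≤ Nat.card (centralizerIn S R₁) :=
    (hF.isFullyCentralized_of_isFullyNormalized hS hR₁).2 R (F.isConj_refl hR₁S |>.trans
      (IsConj.symm ⟨β₀, hβ₀, hβ₀r⟩))
  haveI := finite_centralizerIn (S := S) (P := R)
  haveI := finite_centralizerIn (S := S) (P := R₁)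
  have hchain := hge.trans (hle₁.trans hcT.le)
  have hATeq : Nat.card (autInducedBy T R) = Nat.card (PK : Subgroup KR) := by
    refine le_antisymm hATle (Nat.le_of_mul_le_mul_right (le_trans hchain ?_) (Nat.card_pos (α := centralizerIn S R₁)))
    exact Nat.mul_le_mul_left _ hCle
  have hCeq : Nat.card (centralizerIn S R₁) ≤ Nat.card (centralizerIn S R) :=
    Nat.le_of_mul_le_mul_left (le_trans hchain (Nat.mul_le_mul_right _ hATle)) Nat.card_pos
  have hRc : F.IsReceptive R := by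
    refine hF.isReceptive_of_isFullyCentralized hS ⟨hRS, fun X hX => le_trans ?_ hCeq⟩
    exact (hF.isFullyCentralized_of_isFullyNormalized hS hR₁).2 X
      ((IsConj.symm ⟨β₀, hβ₀, hβ₀r⟩).trans hX)
  let A : Sylow p KR := Sylow.ofCard ((autInducedBy T R).subgroupOf KR) (by
    rw [Nat.card_congr (Subgroup.subgroupOfEquivOfLe hAT).toEquiv, hATeq]
    exact PK.card_eq_multiplicity)
  -- restriction to `P`
  have hPR : ∀ (α : KR) (x : P), (((α : MulAut R) ⟨(x : Ω), Subgroup.mem_sup_left x.2⟩ : R) : Ω) ∈ P :=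
    fun α x => (α.2.2.1 _).mpr x.2
  let r : KR →* MulAut P :=
    { toFun := fun α =>
        { toFun := fun x => ⟨_, hPR α x⟩
          invFun := fun x => ⟨_, hPR α⁻¹ x⟩
          left_inv := fun x => Subtype.ext (congrArg Subtype.val
            ((α : MulAut R).symm_apply_apply ⟨(x : Ω), Subgroup.mem_sup_left x.2⟩) :)
          right_inv := fun x => Subtype.ext (congrArg Subtype.val
            ((α : MulAut R).apply_symm_apply ⟨(x : Ω), Subgroup.mem_sup_left x.2⟩) :)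
          map_mul' := fun x y => Subtype.ext (congrArg Subtype.val
            ((α : MulAut R).map_mul ⟨(x : Ω), Subgroup.mem_sup_left x.2⟩ ⟨(y : Ω), Subgroup.mem_sup_left y.2⟩) :) }
      map_one' := MulEquiv.ext fun x => rfl
      map_mul' := fun α α' => MulEquiv.ext fun x => rfl }
  have hr_eq : r.range = E.autGroup P := by
    apply le_antisymm
    · rintro _ ⟨α, rfl⟩
      obtain ⟨φ, hφ, -, hφe⟩ := F.exists_map_of_mem_autGroup hRS α.2.1
      obtain ⟨k, hk, hke⟩ := α.2.2.2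
      refine E.mem_autGroup_of_map (φ := φ.comp (Subgroup.inclusion le_sup_left)) ?_ fun x => (hφe _).symm
      refine (hEm P _).mpr ⟨F.restrict_mem hφ le_sup_left, hPN, fun x => ?_, φ, hφ, fun x => rfl,
        k, hk, fun q => (hφe _).trans (hke q)⟩
      exact (hφe _).symm ▸ hPN (hPR α x)
    · intro a ha
      obtain ⟨φ, hφ, hφr, hφe⟩ := E.exists_map_of_mem_autGroup hPN ha
      obtain ⟨-, -, -, ψ, hψ, hψe, k, hk, hke⟩ := (hEm P φ).mp hφ
      have hψQ : (Q.subgroupOf R).map ψ = Q := by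
        apply le_antisymm
        · rintro _ ⟨x, hx, rfl⟩
          have := hke ⟨x, hx⟩
          rw [this]
          exact SetLike.coe_mem _
        · intro y hy
          refine ⟨⟨_, Subgroup.mem_sup_right (k.symm ⟨y, hy⟩).2⟩, (k.symm ⟨y, hy⟩).2, ?_⟩
          rw [hke, MulEquiv.apply_symm_apply]
      have hψr : ψ.range = R := by
        rw [map_inclusion_sup ψ hψQ hψe, hφr]
      refine ⟨⟨F.isoOf hψ hψr, F.isoOf_mem_autGroup hψ hψr, fun x => ?_, k, hk, hke⟩, ?_⟩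
      · show ψ x ∈ P ↔ _
        refine ⟨fun hx => ?_, fun hx => ?_⟩
        · obtain ⟨y, hy⟩ := hφr.ge hx
          have := F.injective_of_mem hψ ((hψe y).trans hy)
          rw [← this]
          exact y.2
        · have h3 : ψ x = φ ⟨x, hx⟩ := hψe ⟨x, hx⟩
          rw [h3]
          exact hφr.le ⟨_, rfl⟩
      · exact MulEquiv.ext fun x => Subtype.ext ((hψe x).trans (hφe x))
  have hAr : ((A : Subgroup KR)).map r = autInducedBy N P := by
    apply le_antisymm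
    · rintro _ ⟨α, hα, rfl⟩
      obtain ⟨g, hg, -, he⟩ := mem_autInducedBy_iff.mp (show (α : MulAut R) ∈ autInducedBy T R from hα)
      exact mem_autInducedBy_iff.mpr ⟨g, hg.1, hg.2, fun x => he _⟩
    · intro a ha
      obtain ⟨g, hg, hgP, he⟩ := mem_autInducedBy_iff.mp ha
      have hgT : g ∈ T := ⟨hg, hgP⟩
      have h1 : R.normalizerMonoidHom ⟨g, hTR hgT⟩ ∈ autInducedBy T R :=
        mem_autInducedBy_iff.mpr ⟨g, hgT, hTR hgT, fun x => rfl⟩
      exact ⟨⟨_, hAT h1⟩, h1, MulEquiv.ext fun x => Subtype.ext (he x).symm⟩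
  refine ⟨P, hP₀P, ⟨hPN, ?_⟩, ⟨hPN, fun X φ hφ hφr => ?_⟩⟩
  · haveI := finite_mulAut_of_le (S := S) (P := P) (hPN.trans hNS)
    let r' : KR →* E.autGroup P := r.codRestrict _ fun α => hr_eq.le ⟨α, rfl⟩
    have hr's : Function.Surjective r' := fun a => by
      obtain ⟨α, hα⟩ := hr_eq.ge a.2
      exact ⟨α, Subtype.ext hα⟩
    refine ⟨A.mapSurjective hr's, ?_⟩
    rw [Sylow.coe_mapSurjective]
    ext a
    rw [Subgroup.mem_subgroupOf, ← hAr]
    exact ⟨fun ⟨α, hα, e⟩ => ⟨α, hα, congrArg Subtype.val e⟩, fun ⟨α, hα, e⟩ => ⟨α, hα, Subtype.ext e⟩⟩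
  · -- receptivity
    obtain ⟨hφF, hXN, hφN, ψ, hψ, hψe, κ, hκ, hκe⟩ := (hEm X φ).mp hφ
    have hψQ : (Q.subgroupOf (X ⊔ Q)).map ψ = Q := by
      apply le_antisymm
      · rintro _ ⟨x, hx, rfl⟩
        rw [hκe ⟨x, hx⟩]
        exact SetLike.coe_mem _
      · intro y hy
        refine ⟨⟨_, Subgroup.mem_sup_right (κ.symm ⟨y, hy⟩).2⟩, (κ.symm ⟨y, hy⟩).2, ?_⟩
        rw [hκe, MulEquiv.apply_symm_apply]
    have hψr : ψ.range = R := by rw [map_inclusion_sup ψ hψQ hψe, hφr]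
    set Nφ := extender N X φ with hNφ
    have hNφN : Nφ ≤ normalizerIn N X := extender_le_normalizerIn (E.apply_mem hφ)
    have hNφR : Nφ ≤ Subgroup.normalizer ((X ⊔ Q : Subgroup Ω) : Set Ω) := fun g hg => by
      refine Subgroup.mem_normalizer_iff_map_conj_eq.mpr ?_
      rw [Subgroup.map_sup, Subgroup.mem_normalizer_iff_map_conj_eq.mp (hNφN hg).2,
        Subgroup.mem_normalizer_iff_map_conj_eq.mp (hNn (hNφN hg).1)]
    let e := F.isoOf hψ hψr
    let w : Nφ →* MulAut R :=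
      (MulAut.congr e).toMonoidHom.comp ((X ⊔ Q).normalizerMonoidHom.comp (Subgroup.inclusion hNφR))
    have hwe : ∀ (g : Nφ) (x : ↥(X ⊔ Q)), ((w g (e x) : R) : Ω) =
        ψ ⟨(g : Ω) * x * (g : Ω)⁻¹, (Subgroup.mem_normalizer_iff.mp (hNφR g.2) x).mp x.2⟩ := by
      intro g x
      show ((e ((X ⊔ Q).normalizerMonoidHom ⟨g, hNφR g.2⟩ (e.symm (e x))) : R) : Ω) = _
      rw [MulEquiv.symm_apply_apply]
      rfl
    have hwK : ∀ g : Nφ, w g ∈ KR := by
      intro g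
      obtain ⟨hgN, hgX, h, hh, hhe⟩ := (mem_extender_iff (E.apply_mem hφ)).mp g.2
      refine ⟨?_, fun z => ?_, ?_⟩
      · rw [← F.autGroup_map_congr hψ hψr]
        exact ⟨_, F.mem_autGroup_of_map (α := (X ⊔ Q).normalizerMonoidHom ⟨g, hNφR g.2⟩)
          (F.conj_mem (sup_le (hXN.trans hNS) hQS) (hNS hgN)) (fun x => rfl), rfl⟩
      · obtain ⟨x, rfl⟩ := e.surjective z
        rw [hwe]
        have key : ∀ y : ↥(X ⊔ Q), ψ y ∈ P ↔ (y : Ω) ∈ X := fun y => by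
          refine ⟨fun hy => ?_, fun hy => ?_⟩
          · obtain ⟨y', hy'⟩ := hφr.ge hy
            have := F.injective_of_mem hψ ((hψe y').trans hy')
            rw [← this]
            exact y'.2
          · have h3 : ψ y = φ ⟨y, hy⟩ := hψe ⟨y, hy⟩
            rw [h3]
            exact hφr.le ⟨_, rfl⟩
        show _ ↔ ψ x ∈ P
        rw [key, key]
        exact ((Subgroup.mem_normalizer_iff.mp hgX) x).symm
      · have hg' : (g : Ω) ∈ kNormalizer S K Q.subtype := hN ▸ hgN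
        obtain ⟨-, k, hk, hke⟩ := hg'
        refine ⟨κ * k * κ⁻¹, K.mul_mem (K.mul_mem hκ hk) (K.inv_mem hκ), fun q => ?_⟩
        obtain ⟨q', rfl⟩ := κ.surjective q
        have hcast : (⟨((κ q' : Q) : Ω), Subgroup.mem_sup_right (κ q').2⟩ : R) =
            e ⟨q', Subgroup.mem_sup_right q'.2⟩ := Subtype.ext (hκe q').symm
        rw [hcast, hwe, show (κ * k * κ⁻¹) (κ q') = κ (k q') by simp, ← hκe]
        exact congrArg ψ (Subtype.ext (hke q'))
    let w' : Nφ →* KR := w.codRestrict KR hwK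
    have hNS' : IsPGroup p Nφ := hS.to_le ((hNφN.trans normalizerIn_le).trans hNS)
    have hW : w'.range ≤ ((A : Subgroup KR).map r).comap r := by
      rintro _ ⟨g, rfl⟩
      obtain ⟨hgN, hgX, h, hh, hhe⟩ := (mem_extender_iff (E.apply_mem hφ)).mp g.2
      rw [Subgroup.mem_comap, hAr]
      have hhP : h ∈ Subgroup.normalizer (P : Set Ω) := by
        haveI : Finite P := finite_of_le (hPN.trans hNS)
        refine Subgroup.mem_normalizer_iff_map_conj_eq.mpr (Subgroup.eq_of_le_of_card_ge ?_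
          (Nat.card_congr (P.equivMapOfInjective _ (MulAut.conj h).injective).toEquiv).le)
        rintro _ ⟨x, hx, rfl⟩
        obtain ⟨y, rfl⟩ := hφr.ge hx
        show h * φ y * h⁻¹ ∈ P
        rw [← hhe y ((Subgroup.mem_normalizer_iff.mp hgX _).mp y.2)]
        exact hφr.le ⟨_, rfl⟩
      refine mem_autInducedBy_iff.mpr ⟨h, hh, hhP, fun z => ?_⟩
      obtain ⟨y, hy⟩ := hφr.ge z.2
      show ((w g ⟨(z : Ω), _⟩ : R) : Ω) = _
      have hcast : (⟨(z : Ω), Subgroup.mem_sup_left z.2⟩ : R) = e ⟨y, Subgroup.mem_sup_left y.2⟩ :=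
        Subtype.ext (hy.symm.trans (hψe y).symm)
      rw [hcast, hwe, ← hy, ← hhe y ((Subgroup.mem_normalizer_iff.mp hgX _).mp y.2)]
      exact hψe ⟨_, (Subgroup.mem_normalizer_iff.mp hgX _).mp y.2⟩
    rw [Subgroup.comap_map_eq] at hW
    set M : Subgroup KR := (A : Subgroup KR) ⊔ r.ker
    haveI : Finite M := inferInstance
    let AM : Sylow p M := A.subtype le_sup_left
    have hWp : IsPGroup p (w'.range.subgroupOf M) :=
      (hNS'.of_surjective w'.rangeRestrict w'.rangeRestrict_surjective).of_equiv (Subgroup.subgroupOfEquivOfLe hW).symm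
    obtain ⟨m, hm⟩ := exists_conj_mem_sylow AM hWp
    obtain ⟨a, ha, l, hl, hal⟩ := Subgroup.mem_sup_of_normal_right.mp m.2
    have hlW : ∀ g : Nφ, l * w' g * l⁻¹ ∈ (A : Subgroup KR) := by
      intro g
      have h1 := hm ⟨w' g, hW ⟨g, rfl⟩⟩ (Subgroup.mem_subgroupOf.mpr ⟨g, rfl⟩)
      have h2 : (m : KR) * w' g * (m : KR)⁻¹ ∈ (A : Subgroup KR) := h1
      have h3 := mul_mem (mul_mem (Subgroup.inv_mem _ ha) h2) ha
      rw [← hal] at h3
      simpa [mul_assoc] using h3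
    -- correct the extension
    obtain ⟨lφ, hlφ, -, hle⟩ := F.exists_map_of_mem_autGroup hRS l.2.1
    obtain ⟨ψ', hψ', hψ'e⟩ := F.exists_comp hψ hlφ (fun x => hψr.le ⟨x, rfl⟩)
    have hψ'v : ∀ x, ψ' x = (((l : MulAut R) (e x) : R) : Ω) := fun x => by
      rw [hψ'e, hle]
      rfl
    have hψ'r : ψ'.range = R := by
      ext y
      refine ⟨?_, fun hy => ?_⟩
      · rintro ⟨x, rfl⟩
        rw [hψ'v]
        exact SetLike.coe_mem _
      · refine ⟨e.symm ((l : MulAut R).symm ⟨y, hy⟩), ?_⟩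
        rw [hψ'v, MulEquiv.apply_symm_apply, MulEquiv.apply_symm_apply]
    obtain ⟨Ψ, hΨ, hΨe⟩ := hRc.2 (X ⊔ Q) ψ' hψ' hψ'r
    have hψ'S := F.apply_mem hψ'
    have hext : Nφ ≤ extender S (X ⊔ Q) ψ' := by
      intro g hg
      refine (mem_extender_iff hψ'S).mpr ⟨hNS (hNφN hg).1, hNφR hg, ?_⟩
      obtain ⟨s, hs, -, hse⟩ := mem_autInducedBy_iff.mp
        (show ((l * w' ⟨g, hg⟩ * l⁻¹ : KR) : MulAut R) ∈ autInducedBy T R from hlW ⟨g, hg⟩)
      refine ⟨s, hTS hs, fun x hx => ?_⟩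
      rw [hψ'v, hψ'v, ← hse]
      rw [show ((l * w' ⟨g, hg⟩ * l⁻¹ : KR) : MulAut R) = (l : MulAut R) * w ⟨g, hg⟩ * (l : MulAut R)⁻¹ from rfl,
        MulAut.mul_apply, MulAut.mul_apply, MulAut.inv_apply_self]
      congr 2
      exact Subtype.ext (hwe ⟨g, hg⟩ x).symm
    have hXe : X ≤ extender S (X ⊔ Q) ψ' := le_sup_left.trans (le_extender (sup_le (hXN.trans hNS) hQS) hψ'S)
    have hQe : Q ≤ extender S (X ⊔ Q) ψ' := le_sup_right.trans (le_extender (sup_le (hXN.trans hNS) hQS) hψ'S)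
    have hsupe : Nφ ⊔ Q ≤ extender S (X ⊔ Q) ψ' := sup_le hext hQe
    obtain ⟨kl, hkl, hkle⟩ := l.2.2.2
    have hΨQ : ∀ q : Q, Ψ ⟨q, hQe q.2⟩ = (((kl * κ) q : Q) : Ω) := fun q => by
      rw [hΨe q (Subgroup.mem_sup_right q.2), hψ'v, MulAut.mul_apply, ← hkle]
      congr 2
      exact Subtype.ext (hκe q)
    refine ⟨Ψ.comp (Subgroup.inclusion hext), ?_, fun x hxX hxN => ?_⟩
    · refine (hEm _ _).mpr ⟨F.restrict_mem hΨ hext, hNφN.trans normalizerIn_le, fun g => ?_,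
        Ψ.comp (Subgroup.inclusion hsupe), F.restrict_mem hΨ hsupe, fun x => rfl, kl * κ, K.mul_mem hkl hκ, hΨQ⟩
      have hgN : (g : Ω) ∈ N := (hNφN g.2).1
      rw [hN] at hgN ⊢
      obtain ⟨-, k, hk, hke⟩ := hgN
      refine ⟨F.apply_mem hΨ _, (kl * κ) * k * (kl * κ)⁻¹,
        K.mul_mem (K.mul_mem (K.mul_mem hkl hκ) hk) (K.inv_mem (K.mul_mem hkl hκ)), fun q => ?_⟩
      obtain ⟨q', rfl⟩ := (kl * κ).surjective q
      show Ψ ⟨g, _⟩ * (((kl * κ) q' : Q) : Ω) * (Ψ ⟨g, _⟩)⁻¹ = _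
      rw [show ((kl * κ) * k * (kl * κ)⁻¹) ((kl * κ) q') = (kl * κ) (k q') by simp]
      show _ = (((kl * κ) (k q') : Q) : Ω)
      rw [← hΨQ, ← hΨQ, ← map_inv, ← map_mul, ← map_mul]
      exact congrArg Ψ (Subtype.ext (hke q'))
    · show Ψ ⟨x, _⟩ = φ ⟨x, hxX⟩
      rw [hΨe x (Subgroup.mem_sup_left hxX), hψ'v]
      have hz : (e ⟨x, Subgroup.mem_sup_left hxX⟩ : R) =
          ⟨φ ⟨x, hxX⟩, Subgroup.mem_sup_left (hφr.le ⟨_, rfl⟩)⟩ := Subtype.ext (hψe ⟨x, hxX⟩)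
      rw [hz]
      exact congrArg (fun v : P => (v : Ω)) (DFunLike.congr_fun (MonoidHom.mem_ker.mp hl)
        ⟨φ ⟨x, hxX⟩, hφr.le ⟨_, rfl⟩⟩)

theorem normalizerSystem_isRelative {E : FusionSystem (normalizerIn S Q)} (hE : F.IsNormalizerSystem Q E) :
    F.IsRelativeSystem (⊤ : Subgroup (MulAut Q)) E := by
  refine ⟨le_antisymm (fun g hg => ⟨hg.1, Q.normalizerMonoidHom ⟨g, hg.2⟩, trivial, fun x => rfl⟩)
    (fun g hg => ⟨hg.1, ?_⟩), fun P φ => ?_⟩
  · simpa using kNormalizer_le_normalizer (S := S) (K := (⊤ : Subgroup (MulAut Q))) Q.subtype hg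
  · rw [hE]
    refine ⟨fun ⟨h1, h2, h3, ψ, hψ, h4, h5⟩ => ⟨h1, h2, h3, ψ, hψ, h4, ?_⟩,
      fun ⟨h1, h2, h3, ψ, hψ, h4, k, _, h5⟩ => ⟨h1, h2, h3, ψ, hψ, h4, ?_⟩⟩
    · have hr : (ψ.comp (Subgroup.inclusion (le_sup_right : Q ≤ P ⊔ Q))).range = Q := by
        rw [range_eq_map_of_le le_sup_right]
        exact h5
      exact ⟨F.isoOf (F.restrict_mem hψ le_sup_right) hr, trivial, fun q => rfl⟩
    · apply le_antisymm
      · rintro _ ⟨x, hx, rfl⟩
        rw [h5 ⟨x, hx⟩]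
        exact SetLike.coe_mem _
      · intro y hy
        refine ⟨⟨_, Subgroup.mem_sup_right (k.symm ⟨y, hy⟩).2⟩, (k.symm ⟨y, hy⟩).2, ?_⟩
        rw [h5, MulEquiv.apply_symm_apply]

theorem IsSaturated.isKExtremal_top [Finite S] [Fact p.Prime] (hF : F.IsSaturated p) (hS : IsPGroup p S)
    (hQ : F.IsFullyNormalized Q) : IsKExtremal F (⊤ : Subgroup (MulAut Q)) := by
  intro φ hφ
  obtain ⟨θ, hθ, hθr, ψ, hψ, -, hψe⟩ := hF.exists_map_to_fullyNormalized hS hQ (IsConj.symm ⟨φ, hφ, rfl⟩)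
  obtain ⟨c, hc, hce⟩ := F.exists_comp hφ hθ (fun x => ⟨x, rfl⟩)
  have hcr : c.range = Q := by
    refine le_antisymm ?_ fun y hy => ?_
    · rintro _ ⟨x, rfl⟩
      rw [hce]
      exact hθr.le ⟨_, rfl⟩
    · obtain ⟨⟨z, x, rfl⟩, rfl⟩ := hθr.ge hy
      exact ⟨x, hce x⟩
  refine ⟨_, le_normalizerIn (F.range_le hφ), ψ, hψ,
    fun g hg => ⟨hg.1, kNormalizer_le_normalizer φ hg⟩, F.isoOf hc hcr, trivial, fun x => ?_⟩
  show _ = c x
  rw [hce]
  exact hψe ⟨φ x, x, rfl⟩ _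

theorem centralizerSystem_isRelative {E : FusionSystem (centralizerIn S Q)} (hE : F.IsCentralizerSystem Q E) :
    F.IsRelativeSystem (⊥ : Subgroup (MulAut Q)) E := by
  refine ⟨?_, fun P φ => ?_⟩
  · apply le_antisymm
    · intro g hg
      refine ⟨hg.1, 1, one_mem _, fun x => ?_⟩
      show g * (x : Ω) * g⁻¹ = x
      rw [← Subgroup.mem_centralizer_iff.mp hg.2 x x.2, mul_inv_cancel_right]
    · rintro g ⟨hgS, k, hk, he⟩
      refine ⟨hgS, Subgroup.mem_centralizer_iff.mpr fun x hx => ?_⟩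
      have h1 : g * x * g⁻¹ = x := by
        have := he ⟨x, hx⟩
        rw [Subgroup.mem_bot.mp hk] at this
        exact this
      calc x * g = g * x * g⁻¹ * g := by rw [h1]
        _ = g * x := by group
  · rw [hE]
    refine ⟨fun ⟨h1, h2, h3, ψ, hψ, h4, h5⟩ => ⟨h1, h2, h3, ψ, hψ, h4, 1, one_mem _, fun q => h5 q⟩,
      fun ⟨h1, h2, h3, ψ, hψ, h4, k, hk, h5⟩ => ⟨h1, h2, h3, ψ, hψ, h4, fun q => ?_⟩⟩
    rw [Subgroup.mem_bot.mp hk] at h5
    exact h5 q

theorem IsSaturated.isKExtremal_bot [Finite S] [Fact p.Prime] (hF : F.IsSaturated p) (hS : IsPGroup p S)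
    (hQ : F.IsFullyCentralized Q) : IsKExtremal F (⊥ : Subgroup (MulAut Q)) := by
  intro φ hφ
  obtain ⟨θ, hθ, hθr, hθl, -⟩ := F.exists_inv hφ rfl
  obtain ⟨χ, hχ, hχe⟩ := (hF.isReceptive_of_isFullyCentralized hS hQ).2 φ.range θ hθ hθr
  have hθS := F.apply_mem hθ
  refine ⟨_, le_extender (F.range_le hφ) hθS, χ, hχ, fun g hg => centralizerIn_le_extender hθS ?_,
    1, one_mem _, fun x => ?_⟩
  · obtain ⟨hgS, k, hk, he⟩ := hg
    refine ⟨hgS, Subgroup.mem_centralizer_iff.mpr ?_⟩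
    rintro _ ⟨x, rfl⟩
    have h1 : g * φ x * g⁻¹ = φ x := by
      rw [he x, Subgroup.mem_bot.mp hk]
      rfl
    calc φ x * g = g * φ x * g⁻¹ * g := by rw [h1]
      _ = g * φ x := by group
  · rw [hχe _ ⟨x, rfl⟩]
    exact hθl x _

theorem IsSaturated.isSaturated_normalizerSystem [Finite S] [Fact p.Prime] (hF : F.IsSaturated p)
    (hS : IsPGroup p S) (hQ : F.IsFullyNormalized Q) {E : FusionSystem (normalizerIn S Q)}
    (hE : F.IsNormalizerSystem Q E) : E.IsSaturated p :=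
  (normalizerSystem_isRelative hE).isSaturated hS hF hQ.1 (hF.isKExtremal_top hS hQ)

theorem IsSaturated.isSaturated_centralizerSystem [Finite S] [Fact p.Prime] (hF : F.IsSaturated p)
    (hS : IsPGroup p S) (hQ : F.IsFullyCentralized Q) {E : FusionSystem (centralizerIn S Q)}
    (hE : F.IsCentralizerSystem Q E) : E.IsSaturated p :=
  (centralizerSystem_isRelative hE).isSaturated hS hF hQ.1 (hF.isKExtremal_bot hS hQ)

end FusionSystem

end Cfsg
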