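import Cfsg.Agent.S5197
import Cfsg.Agent.S5090
import Cfsg.Agent.Lib.TransferControl.Index
import Cfsg.Agent.Lib.Fusion.Relative
import Cfsg.Agent.Lib.Fusion.Systems
import Cfsg.Agent.Lib.Fusion.Induction

/-!
# For `p ≥ 5` the focal subgroup is proper when the automorphisms of `S` form a `p`-group
-/

set_option autoImplicit false
set_option linter.unusedVariables false
set_option linter.unusedSectionVars false

namespace Cfsg.FusionSystem

open scoped commutatorElement

universe u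

variable {Ω : Type u} [Group Ω] {S : Subgroup Ω} {F : FusionSystem S} {Q : Subgroup Ω}

/-- `Q` is normal in its own normalizer system. -/
theorem IsNormalizerSystem.isNormal_self {E : FusionSystem (normalizerIn S Q)}
    (hE : F.IsNormalizerSystem Q E) (hQ : Q ≤ S) : E.IsNormal Q := by
  have hQN : Q ≤ normalizerIn S Q := le_inf hQ Subgroup.le_normalizer
  refine ⟨hQN, fun P φ hφ => ?_⟩
  rw [hE] at hφ
  obtain ⟨hφF, hPN, hφN, ψ, hψ, hψφ, hψQ⟩ := hφ
  refine ⟨ψ, ?_, hψφ, hψQ⟩
  rw [hE]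
  have hle : P ⊔ Q ⊔ Q ≤ P ⊔ Q := sup_le le_rfl le_sup_right
  refine ⟨hψ, sup_le hPN hQN, fun x => ?_, ψ.comp (Subgroup.inclusion hle),
    F.restrict_mem hψ hle, fun x => rfl, ?_⟩
  · have hx : (⊤ : Subgroup ↥(P ⊔ Q)) = P.subgroupOf (P ⊔ Q) ⊔ Q.subgroupOf (P ⊔ Q) := by
      rw [← Subgroup.subgroupOf_sup le_sup_left le_sup_right, Subgroup.subgroupOf_self]
    have hin : (⊤ : Subgroup ↥(P ⊔ Q)).map ψ ≤ normalizerIn S Q := by
      rw [hx, Subgroup.map_sup, hψQ]
      refine sup_le ?_ hQN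
      rintro _ ⟨y, hy, rfl⟩
      have := hψφ ⟨y, hy⟩
      rw [show Subgroup.inclusion (le_sup_left : P ≤ P ⊔ Q) ⟨y, hy⟩ = y from rfl] at this
      rw [this]
      exact hφN _
    exact hin ⟨x, trivial, rfl⟩
  · refine le_antisymm ?_ ?_
    · rintro _ ⟨x, hx, rfl⟩
      exact hψQ.le ⟨Subgroup.inclusion hle x, hx, rfl⟩
    · intro y hy
      obtain ⟨x, hx, rfl⟩ := hψQ.ge hy
      exact ⟨⟨x, Subgroup.mem_sup_right hx⟩, hx, rfl⟩

theorem focal_le_comap_commutator {G : Type*} [Group G] {ι : S →* G} (hr : F.IsRealizedBy ι) :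
    F.focalSubgroup ≤ ((commutator G).comap ι).map S.subtype := by
  rw [focalSubgroup, Subgroup.closure_le]
  rintro _ ⟨P, φ, x, hφ, rfl⟩
  obtain ⟨g, hg⟩ := (hr.2 P (F.source_le hφ) φ (F.apply_mem hφ)).1 hφ
  refine ⟨⟨x, F.source_le hφ x.2⟩⁻¹ * ⟨φ x, F.apply_mem hφ x⟩, ?_, rfl⟩
  show ι _ ∈ commutator G
  rw [map_mul, map_inv, hg x, commutator_def]
  set a := ι ⟨x, F.source_le hφ x.2⟩
  rw [show a⁻¹ * (g * a * g⁻¹) = ⁅a⁻¹, g⁆ by rw [commutatorElement_def]; group]
  exact Subgroup.commutator_mem_commutator trivial trivial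

/-- For `p ≥ 5`: if `Aut_F(S)` is a `p`-group then `foc(F) < S`. -/
theorem focal_lt_of_autGroup_isPGroup [Finite S] {p : ℕ} [Fact p.Prime] (hS : IsPGroup p S)
    (hF : F.IsSaturated p) (hp : 5 ≤ p) (hS1 : S ≠ ⊥) (haut : IsPGroup p ↥(F.autGroup S)) :
    F.focalSubgroup < S := by
  obtain ⟨hW1, hW2⟩ := (CfsgLib.KInf.isCharPFunctor.{u} p).1
  set K : Subgroup Ω := (kInfLower ↥S).map S.subtype with hK
  have hKS : K ≤ S := Subgroup.map_subtype_le _
  have hKn : S ≤ Subgroup.normalizer (K : Set Ω) :=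
    Subgroup.le_normalizer.trans (normalizer_le_normalizer_functorOn _ hW2 hS)
  have hT : normalizerIn S K = S := normalizerIn_eq_of_le_normalizer hKn
  have hN := F.normalizerSystem_isNormalizerSystem K hKS
  set N := F.normalizerSystem K hKS
  -- transfer is controlled by the K-infinity subgroup
  have hfoc : N.focalSubgroup = F.focalSubgroup := by
    refine Cfsg.Agent.S5197.result (fun Q _ => kInfLower Q) hW1 hW2 ?_ hS F hF N hN
    intro G _ _ P hC
    have hok := CfsgLib.TransferControl.ok_kInf (p := p) (W := kInfLower) hp (Or.inl rfl) G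
    have e := CfsgLib.TransferControl.single_eq hok P
    have hO : pCore p G ≤ (P : Subgroup G) := CfsgLib.pCore_le_sylow P
    have hc : ∀ H : Subgroup G, (commutator ↥H).map H.subtype = ⁅H, H⁆ := fun H => by
      rw [commutator_def, Subgroup.map_commutator, ← MonoidHom.range_eq_map, Subgroup.range_subtype]
    rw [hc]
    refine le_antisymm ?_ (inf_le_inf_left _ (Subgroup.commutator_mono le_top le_top))
    intro x hx
    refine ⟨hx.1, ?_⟩
    have h2 : x ∈ (P : Subgroup G) ⊓ commutator G := ⟨hO hx.1, hx.2⟩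
    rw [e] at h2
    exact h2.2
  -- the normalizer system is constrained
  have hfn := isFullyNormalized_of_le_normalizer (F := F) hKS hKn
  have hsat : N.IsSaturated p := hF.isSaturated_normalizerSystem hS hfn hN
  have hnorm : N.IsNormal K := hN.isNormal_self hKS
  have hcen : N.IsCentric K := by
    refine ⟨hnorm.1, fun R ⟨φ, hφ, hφr⟩ => ?_⟩
    obtain ⟨ψ, hψ, hψφ, hψK⟩ := hnorm.2 K φ hφ
    have hR : R = K := by
      rw [← hφr]
      refine le_antisymm ?_ fun y hy => ?_
      · rintro _ ⟨x, rfl⟩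
        rw [← hψφ x]
        exact hψK.le ⟨_, x.2, rfl⟩
      · obtain ⟨x, hx, rfl⟩ := hψK.ge hy
        exact ⟨⟨x, hx⟩, (hψφ ⟨x, hx⟩).symm⟩
    rw [hR]
    rintro s ⟨hs, hsc⟩
    rw [hT] at hs
    have h1 : (⟨s, hs⟩ : S) ∈ Subgroup.centralizer ((kInfLower ↥S : Subgroup ↥S) : Set ↥S) := by
      rw [Subgroup.mem_centralizer_iff]
      intro k hk
      exact Subtype.ext (Subgroup.mem_centralizer_iff.1 hsc k ⟨k, hk, rfl⟩)
    exact ⟨_, (CfsgLib.KInf.centralizer_kInf hS).1 h1, rfl⟩
  have hTp : IsPGroup p (normalizerIn S K) := by rw [hT]; exact hS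
  haveI : Finite (normalizerIn S K) := by rw [hT]; infer_instance
  obtain ⟨G, _, ι, hG, hreal, ⟨P, hP⟩, -⟩ :=
    Cfsg.Agent.S5090.result p hTp N ⟨hsat, K, hnorm, hcen⟩
  haveI := hG
  -- automorphisms of order prime to `p` induced on the Sylow subgroup are trivial
  have hcent : ∀ g ∈ Subgroup.normalizer ((P : Subgroup G) : Set G), (orderOf g).Coprime p →
      g ∈ Subgroup.centralizer ((P : Subgroup G) : Set G) := by
    intro g hg hcop
    rw [hP] at hg ⊢
    have hmem : ∀ x : (normalizerIn S K), g * ι x * g⁻¹ ∈ ι.range := fun x =>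
      (Subgroup.mem_normalizer_iff.1 hg (ι x)).1 ⟨x, rfl⟩
    let e := MonoidHom.ofInjective hreal.1
    let θ : (normalizerIn S K) →* (normalizerIn S K) := e.symm.toMonoidHom.comp
      (((MulAut.conj g).toMonoidHom.comp ι).codRestrict ι.range hmem)
    have hθ : ∀ x : (normalizerIn S K), ι (θ x) = g * ι x * g⁻¹ := fun x => by
      show ι (e.symm ⟨g * ι x * g⁻¹, hmem x⟩) = _
      exact MonoidHom.apply_ofInjective_symm hreal.1 _
    have hθb : Function.Bijective θ := Finite.injective_iff_bijective.1 fun a b hab => by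
      have h1 := congrArg ι hab
      rw [hθ, hθ] at h1
      exact hreal.1 (mul_left_cancel (mul_right_cancel h1))
    have hθF : ((normalizerIn S K)).subtype.comp θ ∈ N.Hom (normalizerIn S K) :=
      (hreal.2 (normalizerIn S K) le_rfl _ (fun x => (θ x).2)).2 ⟨g, fun x => hθ x⟩
    have key : ∀ (R : Subgroup Ω), R = S → ∀ α : R ≃* R, R.subtype.comp α.toMonoidHom ∈ F.Hom R →
        ∃ k : ℕ, (α : MulAut R) ^ p ^ k = 1 := by
      rintro R rfl α hα
      obtain ⟨k, hk⟩ := haut ⟨α, (F.mem_autGroup_iff le_rfl).2 hα⟩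
      exact ⟨k, congrArg Subtype.val hk⟩
    obtain ⟨k, hk⟩ := key (normalizerIn S K) hT (MulEquiv.ofBijective θ hθb) (hN.subsystem (normalizerIn S K) hθF)
    set α : MulAut (normalizerIn S K) := MulEquiv.ofBijective θ hθb with hα
    have hpow : ∀ (n : ℕ) (x : (normalizerIn S K)), ι ((α ^ n) x) = g ^ n * ι x * (g ^ n)⁻¹ := by
      intro n
      induction n with
      | zero => intro x; simp
      | succ n ih =>
        intro x
        rw [pow_succ' α, MulAut.mul_apply, show α ((α ^ n) x) = θ ((α ^ n) x) from rfl, hθ, ih,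
          pow_succ' g]
        group
    obtain ⟨m, hm⟩ := exists_pow_eq_self_of_coprime (x := g) (n := p ^ k)
      ((Nat.Coprime.pow_right k hcop).symm)
    rw [Subgroup.mem_centralizer_iff]
    rintro _ ⟨x, rfl⟩
    have h1 : ∀ y : (normalizerIn S K), g ^ p ^ k * ι y * (g ^ p ^ k)⁻¹ = ι y := fun y => by
      rw [← hpow, hk, MulAut.one_apply]
    have h2 : Commute (g ^ p ^ k) (ι x) := mul_inv_eq_iff_eq_mul.1 (h1 x)
    have h3 := h2.pow_left m
    rw [hm] at h3
    exact h3.eq.symm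
  have hP1 : (P : Subgroup G) ≠ ⊥ := by
    rw [hP]
    intro h
    rw [MonoidHom.range_eq_bot_iff] at h
    refine hS1 (hT ▸ (Subgroup.eq_bot_iff_forall (normalizerIn S K)).2 fun x hx => ?_)
    exact congrArg Subtype.val (hreal.1 (show ι ⟨x, hx⟩ = ι 1 by simp [h]))
  obtain ⟨H, hHn, hHi⟩ := CfsgLib.TransferControl.exists_index_of_five hp P hP1 hcent
  have hcH : commutator G ≤ H := by
    haveI := hHn
    haveI : Fact (Nat.card (G ⧸ H)).Prime := ⟨by rw [← Subgroup.index_eq_card, hHi]; exact Fact.out⟩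
    haveI : IsCyclic (G ⧸ H) := isCyclic_of_prime_card rfl
    intro x hx
    have h1 := Subgroup.mem_map_of_mem (QuotientGroup.mk' H) hx
    rw [commutator_def, Subgroup.map_commutator] at h1
    refine (QuotientGroup.eq_one_iff x).1 ?_
    have h2 : ⁅(⊤ : Subgroup G).map (QuotientGroup.mk' H), (⊤ : Subgroup G).map (QuotientGroup.mk' H)⁆ = ⊥ := by
      rw [Subgroup.commutator_eq_bot_iff_le_centralizer]
      intro a _
      rw [Subgroup.mem_centralizer_iff]
      intro b _
      exact (IsCyclic.isMulCommutative (α := G ⧸ H)).is_comm.comm b a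
    rw [h2, Subgroup.mem_bot] at h1
    exact h1
  refine lt_of_le_of_ne ?_ ?_
  · rw [focalSubgroup, Subgroup.closure_le]
    rintro _ ⟨R, φ, x, hφ, rfl⟩
    exact S.mul_mem (S.inv_mem (F.source_le hφ x.2)) (F.apply_mem hφ x)
  intro he
  have hPH : (P : Subgroup G) ≤ H := by
    rw [hP]
    rintro _ ⟨x, rfl⟩
    have hx : (x : Ω) ∈ N.focalSubgroup := by rw [hfoc, he]; exact hT.le x.2
    obtain ⟨y, hy, hyx⟩ := focal_le_comap_commutator hreal hx
    rw [← show y = x from Subtype.ext hyx]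
    exact hcH hy
  refine P.not_dvd_index ?_
  have := Subgroup.index_dvd_of_le hPH
  rwa [hHi] at this

end Cfsg.FusionSystem
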