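import Cfsg.Agent.Lib.Fusion.GLTwoSylow

/-!
Sylow 2-subgroups of `PSL(3,q)` for odd `q`.
-/

set_option autoImplicit false
set_option linter.unusedSectionVars false

namespace CfsgLib.PSLThreeSylow

open Matrix

variable {F : Type*} [Field F] [Fintype F]

local notation "G2" => GL (Fin 2) F
local notation "S3" => SpecialLinearGroup (Fin 3) F
local notation "PS3" => ProjectiveSpecialLinearGroup (Fin 3) F

/-- The matrix `diag(g, det g⁻¹)`. -/
def emb (g : Matrix (Fin 2) (Fin 2) F) (d : F) : Matrix (Fin 3) (Fin 3) F :=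
  !![g 0 0, g 0 1, 0; g 1 0, g 1 1, 0; 0, 0, d]

theorem det_emb (g : Matrix (Fin 2) (Fin 2) F) (d : F) : (emb g d).det = g.det * d := by
  rw [Matrix.det_fin_three, Matrix.det_fin_two]
  simp [emb]
  ring

/-- The embedding of `GL₂` into `SL₃`. -/
noncomputable def toSL : G2 →* S3 where
  toFun g := ⟨emb g.1 (g.1.det)⁻¹, by
    rw [det_emb]; exact mul_inv_cancel₀ (GeneralLinearGroup.det g).ne_zero⟩
  map_one' := by
    apply Subtype.ext
    ext i j
    fin_cases i <;> fin_cases j <;> simp [emb]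
  map_mul' g h := by
    apply Subtype.ext
    show emb (g.1 * h.1) ((g.1 * h.1).det)⁻¹ = emb g.1 (g.1.det)⁻¹ * emb h.1 (h.1.det)⁻¹
    rw [Matrix.det_mul]
    ext i j
    fin_cases i <;> fin_cases j <;> simp [emb, Matrix.mul_apply, Fin.sum_univ_two, Fin.sum_univ_three, mul_comm]

/-- The map to `PSL₃`. -/
noncomputable def toPSL : G2 →* PS3 := (QuotientGroup.mk' _).comp toSL

theorem toPSL_eq_one {g : G2} (h : toPSL g = 1) : g ^ 3 = 1 := by
  have h' : toSL g ∈ Subgroup.center S3 := (QuotientGroup.eq_one_iff _).mp h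
  obtain ⟨r, hr, hg⟩ := Matrix.SpecialLinearGroup.mem_center_iff.mp h'
  rw [Fintype.card_fin] at hr
  change Matrix.scalar (Fin 3) r = emb g.1 (g.1.det)⁻¹ at hg
  have h00 : g.1 0 0 = r := by
    have := congrFun (congrFun hg 0) 0
    simpa [emb] using this.symm
  have h11 : g.1 1 1 = r := by
    have := congrFun (congrFun hg 1) 1
    simpa [emb] using this.symm
  have h01 : g.1 0 1 = 0 := by
    have := congrFun (congrFun hg 0) 1
    simpa [emb] using this.symm
  have h10 : g.1 1 0 = 0 := by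
    have := congrFun (congrFun hg 1) 0
    simpa [emb] using this.symm
  have hgr : g.1 = Matrix.scalar (Fin 2) r := by
    ext i j
    fin_cases i <;> fin_cases j <;> simp [h00, h11, h01, h10]
  apply Units.ext
  rw [Units.val_pow_eq_pow_val, hgr, ← map_pow, hr, map_one]
  rfl

theorem card_GL3 : Nat.card (GL (Fin 3) F) =
    Nat.card G2 * (Fintype.card F ^ 2 * (Fintype.card F - 1) *
      (Fintype.card F ^ 2 + Fintype.card F + 1)) := by
  rw [GLTwoSylow.card_GL2, Matrix.card_GL_field, Fin.prod_univ_three]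
  have h := Fintype.one_lt_card (α := F)
  obtain ⟨t, ht⟩ := Nat.exists_eq_add_of_le h.le
  simp only [Fin.val_zero, Fin.val_one, Fin.val_two, pow_zero, pow_one]
  rw [ht, show 1 + t - 1 = t by omega,
    show (1 + t) ^ 3 - 1 = t * ((1 + t) ^ 2 + (1 + t) + 1) by
      rw [show (1 + t) ^ 3 = t * ((1 + t) ^ 2 + (1 + t) + 1) + 1 by ring]; rfl,
    show (1 + t) ^ 3 - (1 + t) = (1 + t) * (t * (t + 2)) by
      rw [show (1 + t) ^ 3 = (1 + t) * (t * (t + 2)) + (1 + t) by ring]; omega,
    show (1 + t) ^ 3 - (1 + t) ^ 2 = (1 + t) ^ 2 * t by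
      rw [show (1 + t) ^ 3 = (1 + t) ^ 2 * t + (1 + t) ^ 2 by ring]; omega]
  ring

/-- A Sylow 2-subgroup of `GL₂` gives one of `PSL₃`. -/
theorem exists_sylow (hodd : Fintype.card F % 2 = 1) (P : Sylow 2 G2) :
    ∃ U : Sylow 2 PS3, Nonempty ((P : Subgroup G2) ≃* (U : Subgroup PS3)) := by
  classical
  haveI : Fact (Nat.Prime 2) := ⟨Nat.prime_two⟩
  let φ : (P : Subgroup G2) →* PS3 := toPSL.comp (P : Subgroup G2).subtype
  have hφ : Function.Injective φ := by
    rw [injective_iff_map_eq_one]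
    intro a ha
    obtain ⟨k, hk⟩ := P.2 a
    have h3 : a ^ 3 = 1 := Subtype.ext (toPSL_eq_one ha)
    have := Nat.dvd_gcd (orderOf_dvd_of_pow_eq_one h3) (orderOf_dvd_of_pow_eq_one hk)
    rw [Nat.Coprime.gcd_eq_one ((show Nat.Coprime 3 2 by norm_num).pow_right k), Nat.dvd_one] at this
    exact orderOf_eq_one_iff.mp this
  have hq := Fintype.one_lt_card (α := F)
  have hSL : Nat.card S3 = Nat.card G2 * (Fintype.card F ^ 2 * (Fintype.card F ^ 2 + Fintype.card F + 1)) := by
    have h := SLCard.card_units_mul_card_SL (F := F) (n := 3) (by norm_num)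
    rw [card_GL3] at h
    refine Nat.eq_of_mul_eq_mul_left (show 0 < Fintype.card F - 1 by omega) ?_
    rw [h]; ring
  have hfac : (Nat.card PS3).factorization 2 = (Nat.card G2).factorization 2 := by
    have h := SLCard.gcd_mul_card_PSL (F := F) (n := 3) (by norm_num)
    rw [hSL] at h
    have e := congrArg (fun n : ℕ => n.factorization 2) h
    have hd : ¬ 2 ∣ Nat.gcd 3 (Fintype.card F - 1) := fun hh => by
      have h32 := hh.trans (Nat.gcd_dvd_left _ _)
      norm_num at h32
    have ho : ¬ 2 ∣ Fintype.card F ^ 2 * (Fintype.card F ^ 2 + Fintype.card F + 1) := by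
      have h1 : Fintype.card F ^ 2 % 2 = 1 := by rw [Nat.pow_mod, hodd]
      rw [Nat.prime_two.dvd_mul]
      omega
    rw [Nat.factorization_mul (fun h0 => hd (by rw [h0]; exact dvd_zero 2)) Nat.card_pos.ne', Finsupp.add_apply,
      Nat.factorization_eq_zero_of_not_dvd hd, zero_add,
      Nat.factorization_mul Nat.card_pos.ne' (fun h0 => ho (by rw [h0]; exact dvd_zero 2)), Finsupp.add_apply,
      Nat.factorization_eq_zero_of_not_dvd ho, add_zero] at e
    exact e
  have hcard : Nat.card φ.range = 2 ^ (Nat.card PS3).factorization 2 := by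
    rw [← Nat.card_congr (MonoidHom.ofInjective hφ).toEquiv, hfac, ← P.card_eq_multiplicity]
  exact ⟨Sylow.ofCard φ.range hcard, ⟨MonoidHom.ofInjective hφ⟩⟩

end CfsgLib.PSLThreeSylow
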