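import Cfsg.Agent.Lib.Fusion.RankTwoSimple
import Cfsg.Agent.Lib.WreathedFusion
import Cfsg.Agent.S1202
import Cfsg.Agent.S1208
import Cfsg.Agent.S1209
import Cfsg.Agent.S1210
import Cfsg.Agent.S1211
import Cfsg.Agent.S1212

/-!
Simple groups with wreathed Sylow 2-subgroups have simple 2-fusion systems.
-/

set_option autoImplicit false
set_option linter.unusedSectionVars false

namespace CfsgLib.RankTwoSimple

open CfsgLib.GroupSimple CfsgLib.Wr

variable {G : Type*} [Group G] [Finite G]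

/-- The automorphism group of a wreathed group is a 2-group. -/
theorem isPGroup_mulAut_wreathed {X : Type*} [Group X] [Finite X] (hX : Cfsg.IsWreathed X) :
    IsPGroup 2 (MulAut X) := by
  obtain ⟨n, -, hn, -⟩ := CfsgLib.Wr.exists_data hX
  by_contra hA
  have h := (Cfsg.Agent.S1202.result hX n hn (⊤ : Subgroup X) (fun _ _ => trivial)
    (fun h => hA (h.of_equiv (MulAut.congr Subgroup.topEquiv)))).1
  rw [Subgroup.relIndex_eq_one.mpr le_top] at h
  omega

theorem not_two_power_index [IsSimpleGroup G] {K : Subgroup G} (hK : K.Normal) {n : ℕ} (hn : 1 ≤ n)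
    (hne : K.index = 2 ^ n) (hbig : ¬ IsPGroup 2 G) : False := by
  rcases Subgroup.Normal.eq_bot_or_eq_top hK with rfl | rfl
  · rw [Subgroup.index_bot] at hne
    exact hbig (IsPGroup.of_card hne)
  · rw [Subgroup.index_top] at hne
    exact absurd hne (Nat.one_lt_two_pow (by omega)).ne

/-- A nonabelian simple group is no 2-group. -/
theorem not_isPGroup [IsSimpleGroup G] (h4 : 4 ≤ Nat.card G) : ¬ IsPGroup 2 G := by
  intro hG
  haveI : Fact (Nat.Prime 2) := ⟨Nat.prime_two⟩
  haveI : Nontrivial G := Finite.one_lt_card_iff_nontrivial.mp (by omega)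
  rcases Subgroup.Normal.eq_bot_or_eq_top (inferInstance : (Subgroup.center G).Normal) with h | h
  · exact (Subgroup.nontrivial_iff_ne_bot _).mp hG.center_nontrivial h
  · letI : CommGroup G :=
      { (inferInstance : Group G) with mul_comm := fun a b => Subgroup.mem_center_iff.mp (h ▸ Subgroup.mem_top b) a }
    obtain ⟨k, hk⟩ := hG.exists_card_eq
    have hp := IsSimpleGroup.prime_card (α := G)
    rw [hk] at hp h4
    have := Nat.Prime.eq_one_of_pow hp
    subst this
    norm_num at h4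

variable [IsSimpleGroup G]

/-- No proper closed subgroup, wreathed case. -/
theorem closed_of_wreathed (S : Sylow 2 G) (hW : Cfsg.IsWreathed (S : Subgroup G))
    (T : Subgroup G) (hT : FusionClosed (S : Subgroup G) T) (h1 : T ≠ ⊥) : (S : Subgroup G) ≤ T := by
  haveI : Fact (Nat.Prime 2) := ⟨Nat.prime_two⟩
  obtain ⟨n, hn2, hn, d, hdh⟩ := CfsgLib.Wr.exists_data hW
  have h2h : 2 * d.h = 2 ^ n := by rw [hdh, ← pow_succ']; congr 1; omega
  have hm : d.h = 2 * 2 ^ (n - 2) := by rw [hdh, ← pow_succ']; congr 1; omega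
  have hcardU : Nat.card (up S d.U) = 2 ^ (2 * n) := by
    rw [Nat.card_congr (upEquiv S _).toEquiv, card_U, h2h, ← pow_add, two_mul]
  have hUab : IsMulCommutative (up S d.U) := ⟨⟨fun a b => Subtype.ext (U_comm_up S d a a.2 b b.2)⟩⟩
  have hab : (d.h : ℤ) + 0 = d.h := add_zero _
  obtain ⟨eQ₀⟩ := Qs_equiv d hm hab
  have eQ : up S (d.Qs (2 ^ (n - 2)) d.h 0) ≃* QuaternionGroup 2 := (upEquiv S _).trans eQ₀
  have hQS := up_le S (d.Qs (2 ^ (n - 2)) d.h 0)
  have h4 : 4 ≤ Nat.card G := by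
    refine le_trans ?_ (Nat.le_of_dvd Nat.card_pos (Subgroup.card_subgroup_dvd_card (S : Subgroup G)))
    rw [hn]
    exact le_trans (by norm_num) (Nat.pow_le_pow_right two_pos (by omega : 2 ≤ 2 * n + 1))
  have hbig := not_isPGroup h4
  obtain ⟨h1', h2'⟩ := Cfsg.Agent.S1208.result S hW n hn _ (up_le S _) hUab hcardU _ hQS eQ
  have h66 : (Subgroup.centralizer (up S d.U : Set G)).relIndex (Subgroup.normalizer (up S d.U : Set G)) = 6 ∧
      Nat.card {C : ConjClasses G // ∃ t : G, orderOf t = 2 ∧ ConjClasses.mk t = C} = 1 := by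
    rcases h1' with h1' | h1' <;> rcases h2' with h2' | h2'
    · exfalso
      obtain ⟨⟨P, N, hN, hc⟩, -⟩ := Cfsg.Agent.S1212.result S hW n hn _ (up_le S _) hUab hcardU _ hQS eQ h1' h2'
      refine not_two_power_index hN (n := 2 * n + 1) (by omega) ?_ hbig
      rw [Subgroup.IsComplement'.index_eq_card hc.symm, ← hn]
      exact Nat.card_congr (P.equiv S).toEquiv
    · obtain ⟨⟨K, hK, hKi, -⟩, -⟩ := Cfsg.Agent.S1210.result S hW n hn _ (up_le S _) hUab hcardU _ hQS eQ h1' h2'
      exact (not_two_power_index hK (n := n) (by omega) hKi hbig).elim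
    · obtain ⟨⟨K, hK, hKi, -⟩, -⟩ := Cfsg.Agent.S1211.result S hW n hn _ (up_le S _) hUab hcardU _ hQS eQ h1' h2'
      exact (not_two_power_index hK (n := 1) le_rfl (by rw [hKi, pow_one]) hbig).elim
    · exact ⟨h1', (Cfsg.Agent.S1209.result S hW n hn _ (up_le S _) hUab hcardU _ hQS eQ h1' h2').2⟩
  obtain ⟨h6, hI⟩ := h66
  -- all involutions lie in `T`
  obtain ⟨c, hcT, -, hc2⟩ := exists_central S hT h1
  have hinv : ∀ b : (S : Subgroup G), b * b = 1 → (b : G) ∈ T := by
    intro b hb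
    rcases eq_or_ne b 1 with rfl | hb1
    · exact one_mem T
    obtain ⟨g, hg⟩ := isConj_iff.mp (isConj_of_card_classes hI (a := (c : G)) (b := (b : G))
      (by rw [Subgroup.orderOf_coe, hc2])
      (by rw [Subgroup.orderOf_coe]; exact CfsgLib.Involutions.orderOf_eq_two_iff'.mpr ⟨hb, hb1⟩))
    have := hT.2 _ hcT g (by rw [hg]; exact b.2)
    rwa [hg] at this
  have hz : ((d.z : (S : Subgroup G)) : G) ∈ T := hinv d.z (hzz d)
  let e : (S : Subgroup G) := d.u 1 (-1)
  have he : (e : G) ∈ T := by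
    have hv := hinv (d.v 1 (-1)) ((v_mul_self_eq_one_iff d).mpr (by simp))
    have := mul_mem hv hz
    rwa [← Subgroup.coe_mul, show d.v 1 (-1) * d.z = e by
      rw [v_eq, mul_assoc, hzz, mul_one]] at this
  -- an element rotating the involutions of `U`
  obtain ⟨g, hgU, hgT0, hgC, hgodd⟩ := exists_odd_U S d h6
  obtain ⟨o, hoU, ho⟩ : ∃ o ∈ d.U, (o : G) = g * (e : G) * g⁻¹ := by
    obtain ⟨o, hoU, ho⟩ := (Subgroup.mem_normalizer_iff.mp hgU (e : G)).mp ((coe_mem_up S).mpr (u_mem d 1 (-1)))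
    exact ⟨o, hoU, ho⟩
  obtain ⟨i, j, rfl⟩ := hoU
  have hoT : ((d.u i j : (S : Subgroup G)) : G) ∈ T := by
    have h := hT.2 _ he g (by rw [← ho]; exact (d.u i j).2)
    rwa [← ho] at h
  have hpar : ¬ (2 : ℤ) ∣ i + j := by
    intro hdvd
    have hew : e ^ (d.h : ℤ) = d.w := by
      show d.u 1 (-1) ^ (d.h : ℤ) = d.u d.h d.h
      rw [u_zpow, u_eq_iff]
      exact ⟨⟨0, by ring⟩, ⟨1, by ring⟩⟩
    have how : ((d.u (i * d.h) (j * d.h) : (S : Subgroup G)) : G) = g * ((d.w : (S : Subgroup G)) : G) * g⁻¹ := by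
      rw [← u_zpow, Subgroup.coe_zpow, ho, conj_zpow, ← Subgroup.coe_zpow, hew]
    have hfix : g * ((d.w : (S : Subgroup G)) : G) * g⁻¹ = ((d.w : (S : Subgroup G)) : G) := by
      rw [← how]
      have hcase : d.u (i * d.h) (j * d.h) = 1 ∨ d.u (i * d.h) (j * d.h) = d.w := by
        obtain ⟨t, ht⟩ := hdvd
        obtain ⟨r, rfl | rfl⟩ := Int.even_or_odd' i
        · left
          rw [u_eq_one_iff]
          exact ⟨⟨r, by ring⟩, ⟨t - r, by rw [show j = 2 * (t - r) by linarith]; ring⟩⟩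
        · right
          rw [Data.w, u_eq_iff]
          refine ⟨⟨-r, by ring⟩, ⟨r - t + 1, ?_⟩⟩
          rw [show j = 2 * t - (2 * r + 1) by linarith]
          ring
      rcases hcase with h0 | h0
      · exfalso
        rw [h0, Subgroup.coe_one] at how
        have hw1 : d.w = 1 := Subtype.ext (conj_eq_one_iff.mp how.symm)
        have := (orderOf_half_u d).2
        rw [hw1, orderOf_one] at this
        omega
      · exact congrArg Subtype.val h0
    haveI := T0_klein S d
    obtain ⟨m1, -, m3⟩ := half_mem_T0 S d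
    have hne1 : ∀ {a : (S : Subgroup G)}, orderOf a = 2 → (a : G) ≠ 1 := fun {a} ha h => by
      rw [show a = 1 from Subtype.ext h, orderOf_one] at ha
      omega
    rcases CfsgLib.LocalFusion.klein_transitive (T0_klein S d) hgT0 hgC hgodd ((coe_mem_up S).mpr m3)
      (hne1 (orderOf_half_u d).2) ((coe_mem_up S).mpr m1) (hne1 (orderOf_half_u d).1) with e1 | e1 | e1
    · exact (half_ne S d).1 (Subtype.ext e1)
    · exact (half_ne S d).1 (Subtype.ext (e1.trans hfix))
    · exact (half_ne S d).1 (Subtype.ext (e1.trans (CfsgLib.LocalFusion.conj_pow_fix hfix 2)))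
  -- so all of `U` lies in `T`
  let M := T.subgroupOf (S : Subgroup G)
  have heM : d.u 1 (-1) ∈ M := he
  have hoM : d.u i j ∈ M := hoT
  have hsum : d.u (i + j) 0 ∈ M := by
    have := mul_mem hoM (zpow_mem heM j)
    rwa [u_zpow, u_mul_u, one_mul, neg_one_mul, add_neg_cancel] at this
  obtain ⟨a, b, hab'⟩ : ∃ a b : ℤ, a * (i + j) + b * (2 * d.h : ℤ) = 1 := by
    have hco : IsCoprime (i + j) ((2 : ℤ) ^ n) :=
      (((Int.prime_two.coprime_iff_not_dvd).mpr hpar).symm).pow_right
    have hcast : (2 : ℤ) ^ n = 2 * (d.h : ℤ) := by exact_mod_cast h2h.symm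
    rw [hcast] at hco
    exact hco
  have hx : d.u 1 0 ∈ M := by
    have := zpow_mem hsum a
    rwa [u_zpow, zero_mul, show d.u ((i + j) * a) 0 = d.u 1 0 by
      rw [u_eq_iff]; exact ⟨⟨b, by linear_combination -hab'⟩, ⟨0, by ring⟩⟩] at this
  have hy : d.u 0 1 ∈ M := by
    have := mul_mem (inv_mem heM) hx
    rwa [u_inv, u_mul_u, neg_add_cancel, neg_neg, add_zero] at this
  intro s hs
  obtain ⟨k, l, hk | hk⟩ := cases_elem d (⟨s, hs⟩ : (S : Subgroup G))
  all_goals
    have hu : d.u k l ∈ M := by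
      have := mul_mem (zpow_mem hx k) (zpow_mem hy l)
      rwa [u_zpow, u_zpow, u_mul_u, one_mul, one_mul, zero_mul, zero_mul, add_zero, zero_add] at this
  · show (⟨s, hs⟩ : (S : Subgroup G)) ∈ M
    rw [hk]; exact hu
  · show (⟨s, hs⟩ : (S : Subgroup G)) ∈ M
    rw [hk, v_eq]; exact mul_mem hu hz

/-- A simple group with wreathed Sylow 2-subgroup has a simple fusion system. -/
theorem isSimple_of_wreathed (U S : Sylow 2 G) (hU : Cfsg.IsWreathed (U : Subgroup G)) :
    (Cfsg.groupFusionSystem (S : Subgroup G)).IsSimple 2 := by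
  haveI : Fact (Nat.Prime 2) := ⟨Nat.prime_two⟩
  refine isSimple_of_isPGroup_mulAut U S (fun h => ?_) (isPGroup_mulAut_wreathed hU) (closed_of_wreathed U hU)
  obtain ⟨n, -, hn, -⟩ := CfsgLib.Wr.exists_data hU
  have h1 : Nat.card (U : Subgroup G) = 1 := by rw [h, Subgroup.card_bot]
  rw [hn] at h1
  exact absurd h1 (Nat.one_lt_two_pow (by omega)).ne'

end CfsgLib.RankTwoSimple
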