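import Cfsg.Agent.Lib.Fusion.GUTwoSylow
import Cfsg.Agent.Lib.Fusion.RankTwoSimple
import Cfsg.Agent.Lib.Fusion.WreathedSimple
import Cfsg.Agent.Lib.Fusion.PSLThreeSylow
import Cfsg.Agent.S0280

/-!
The 2-fusion system of `PSU(3,q)`, `q` odd.
-/

set_option autoImplicit false
set_option linter.unusedSectionVars false
set_option maxHeartbeats 800000

namespace CfsgLib.PSUThree

open Matrix CfsgLib.GroupSimple
open CfsgLib.PSLThreeSylow (emb det_emb)

variable {F : Type*} [Field F] [Fintype F] {q : ℕ}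

local notation "G2" => GL (Fin 2) F
local notation "U2" => Cfsg.GU 2 F q
local notation "PU" => Cfsg.PSU 3 F q

theorem emb_mem (hF : Fintype.card F = q ^ 2) (g : U2) :
    (⟨emb (g : G2).1 ((g : G2).1.det)⁻¹, by
      rw [det_emb]; exact mul_inv_cancel₀ (GeneralLinearGroup.det (g : G2)).ne_zero⟩ :
        SpecialLinearGroup (Fin 3) F) ∈ Cfsg.SU 3 F q := by
  have hd : ((g : G2).1.det) ^ (q + 1) = 1 := by
    have := congrArg Units.val (UnitaryBasic.det_pow hF g.2)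
    simpa using this
  have hd' : (((g : G2).1.det)⁻¹) * (((g : G2).1.det)⁻¹) ^ q = 1 := by
    rw [← pow_succ', inv_pow, hd, inv_one]
  intro u v
  show Cfsg.hermForm 3 F q (emb (g : G2).1 _ *ᵥ u) (emb (g : G2).1 _ *ᵥ v) = _
  have h := g.2 ![u 0, u 1] ![v 0, v 1]
  change Cfsg.hermForm 2 F q ((g : G2).1 *ᵥ ![u 0, u 1]) ((g : G2).1 *ᵥ ![v 0, v 1]) = _ at h
  simp [Cfsg.hermForm, emb, Matrix.mulVec, dotProduct, Fin.sum_univ_two, Fin.sum_univ_three, mul_pow] at h ⊢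
  linear_combination h + (u 2 * v 2 ^ q) * (by simpa [inv_pow] using hd' :
    ((g : G2).1.det)⁻¹ * (((g : G2).1.det) ^ q)⁻¹ = 1)

/-- The embedding of `GU₂` into `SU₃`. -/
noncomputable def toSU (hF : Fintype.card F = q ^ 2) : U2 →* Cfsg.SU 3 F q where
  toFun g := ⟨_, emb_mem hF g⟩
  map_one' := by
    apply Subtype.ext
    apply Subtype.ext
    show emb (1 : Matrix (Fin 2) (Fin 2) F) ((1 : Matrix (Fin 2) (Fin 2) F).det)⁻¹ = 1
    ext i j
    fin_cases i <;> fin_cases j <;> simp [emb]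
  map_mul' g h := by
    apply Subtype.ext
    apply Subtype.ext
    show emb ((g : G2).1 * (h : G2).1) (((g : G2).1 * (h : G2).1).det)⁻¹ =
      emb (g : G2).1 ((g : G2).1.det)⁻¹ * emb (h : G2).1 ((h : G2).1.det)⁻¹
    rw [Matrix.det_mul]
    ext i j
    fin_cases i <;> fin_cases j <;> simp [emb, Matrix.mul_apply, Fin.sum_univ_two, Fin.sum_univ_three, mul_comm]

theorem toSU_val (hF : Fintype.card F = q ^ 2) (g : U2) :
    (toSU hF g).1.1 = emb (g : G2).1 ((g : G2).1.det)⁻¹ := rfl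

theorem toSU_injective (hF : Fintype.card F = q ^ 2) : Function.Injective (toSU (F := F) hF) := by
  intro g h e
  have e' := congrArg (fun m : Cfsg.SU 3 F q => m.1.1) e
  rw [toSU_val, toSU_val] at e'
  apply Subtype.ext
  apply Units.ext
  ext i j
  have := congrFun (congrFun e' (Fin.castSucc i)) (Fin.castSucc j)
  fin_cases i <;> fin_cases j <;> simpa [emb] using this

/-- The map to `PSU₃`. -/
noncomputable def toPSU (hF : Fintype.card F = q ^ 2) : U2 →* PU :=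
  (QuotientGroup.mk' _).comp (toSU hF)

theorem toPSU_eq_one (hF : Fintype.card F = q ^ 2) {g : U2} (h : toPSU hF g = 1) : g ^ 3 = 1 := by
  have h' : toSU hF g ∈ Subgroup.center (Cfsg.SU 3 F q) := (QuotientGroup.eq_one_iff _).mp h
  have h1 : (⟨_, h'⟩ : Subgroup.center (Cfsg.SU 3 F q)) ^ Nat.gcd 3 (q + 1) = 1 := by
    rw [← Cfsg.Agent.S0280.center_card hF 3 (by norm_num)]
    exact pow_card_eq_one'
  have h3 : (⟨_, h'⟩ : Subgroup.center (Cfsg.SU 3 F q)) ^ 3 = 1 :=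
    orderOf_dvd_iff_pow_eq_one.mp ((orderOf_dvd_of_pow_eq_one h1).trans (Nat.gcd_dvd_left _ _))
  apply toSU_injective hF
  rw [map_pow, map_one]
  exact congrArg Subtype.val h3

/-- Exchanging the last two coordinates. -/
def weylM : Matrix (Fin 3) (Fin 3) F := !![-1, 0, 0; 0, 0, 1; 0, 1, 0]

theorem weyl_mem (hF : Fintype.card F = q ^ 2) (hodd : Odd q) :
    (⟨weylM, by simp [weylM, Matrix.det_fin_three]⟩ : SpecialLinearGroup (Fin 3) F) ∈ Cfsg.SU 3 F q := by
  intro u v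
  show Cfsg.hermForm 3 F q (weylM *ᵥ u) (weylM *ᵥ v) = _
  simp [Cfsg.hermForm, weylM, Matrix.mulVec, dotProduct, Fin.sum_univ_three, hodd.neg_pow]
  ring

/-- Elements of a subgroup of `GU₂` fused in `PSU₃`. -/
def Fused (hF : Fintype.card F = q ^ 2) (a b : U2) : Prop :=
  ∃ k : PU, k * toPSU hF a * k⁻¹ = toPSU hF b

theorem fused_conj (hF : Fintype.card F = q ^ 2) (a g : U2) : Fused hF a (g * a * g⁻¹) :=
  ⟨toPSU hF g, by rw [map_mul, map_mul, map_inv]⟩

/-- Exchanging the second entry with the determinant entry. -/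
theorem fused_weyl (hF : Fintype.card F = q ^ 2) (hodd : Odd q) {a b : U2} {x y z : F}
    (ha : (a : G2).1 = !![x, 0; 0, y]) (hb : (b : G2).1 = !![x, 0; 0, z]) (hxyz : x * y * z = 1) :
    Fused hF a b := by
  let w : Cfsg.SU 3 F q := ⟨_, weyl_mem hF hodd⟩
  refine ⟨QuotientGroup.mk' _ w, ?_⟩
  rw [mul_inv_eq_iff_eq_mul]
  show QuotientGroup.mk' _ w * QuotientGroup.mk' _ (toSU hF a) = QuotientGroup.mk' _ (toSU hF b) * QuotientGroup.mk' _ w
  rw [← map_mul, ← map_mul]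
  congr 1
  apply Subtype.ext
  apply Subtype.ext
  show weylM * (toSU hF a).1.1 = (toSU hF b).1.1 * weylM
  rw [toSU_val, toSU_val, ha, hb]
  have hx : x ≠ 0 := fun h => by simp [h] at hxyz
  have hy : y ≠ 0 := fun h => by simp [h] at hxyz
  have hz : z ≠ 0 := fun h => by simp [h] at hxyz
  have e1 : (x * y)⁻¹ = z := inv_eq_of_mul_eq_one_right hxyz
  have e2 : (x * z)⁻¹ = y := inv_eq_of_mul_eq_one_right (by linear_combination hxyz)
  rw [Matrix.det_fin_two_of, Matrix.det_fin_two_of, mul_zero, sub_zero, sub_zero, e1, e2]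
  ext i j
  fin_cases i <;> fin_cases j <;> simp [weylM, emb, Matrix.mul_apply, Fin.sum_univ_three]

/-- Transfer of a Sylow subgroup and closedness criterion. -/
theorem isSimple_of (hF : Fintype.card F = q ^ 2) (hodd : Odd q) (P : Sylow 2 U2)
    (hP1 : (P : Subgroup U2) ≠ ⊥)
    (hshape : IsPGroup 2 (MulAut (P : Subgroup U2)))
    (hcl : ∀ T₀ : Subgroup (P : Subgroup U2), T₀.Normal →
      (∃ c ∈ T₀, c ∈ Subgroup.center (P : Subgroup U2) ∧ orderOf c = 2) →
      (∀ a b : (P : Subgroup U2), a ∈ T₀ → Fused hF (a : U2) (b : U2) → b ∈ T₀) → T₀ = ⊤)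
    (S : Sylow 2 PU) : (Cfsg.groupFusionSystem (S : Subgroup PU)).IsSimple 2 := by
  classical
  haveI : Fact (Nat.Prime 2) := ⟨Nat.prime_two⟩
  let φ : (P : Subgroup U2) →* PU := (toPSU hF).comp (P : Subgroup U2).subtype
  have hφ : Function.Injective φ := by
    rw [injective_iff_map_eq_one]
    intro a ha
    obtain ⟨k, hk⟩ := P.2 a
    have h3 : a ^ 3 = 1 := Subtype.ext (toPSU_eq_one hF ha)
    have := Nat.dvd_gcd (orderOf_dvd_of_pow_eq_one h3) (orderOf_dvd_of_pow_eq_one hk)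
    rw [Nat.Coprime.gcd_eq_one ((show Nat.Coprime 3 2 by norm_num).pow_right k), Nat.dvd_one] at this
    exact orderOf_eq_one_iff.mp this
  have hq := (UnitaryBasic.frob_exists hF).1
  have hq1 : q % 2 = 1 := Nat.odd_iff.mp hodd
  have h3 := Cfsg.Agent.S0280.result hF 3 (by norm_num)
  rw [Finset.prod_range_succ, Finset.prod_range_succ, Finset.prod_range_succ, Finset.prod_range_zero, one_mul,
    if_pos (by exact ⟨0, rfl⟩ : Even 0), if_neg (by decide : ¬ Even 1), if_pos (by decide : Even 2)] at h3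
  obtain ⟨m, hm, hmo⟩ : ∃ m, q ^ 3 + 1 = (q + 1) * m ∧ ¬ 2 ∣ m := by
    refine ⟨q * (q - 1) + 1, ?_, ?_⟩
    · obtain ⟨r, rfl⟩ := Nat.exists_eq_add_of_le hq.le
      simp only [Nat.add_sub_cancel_left]
      ring
    · have : 2 ∣ q * (q - 1) := Dvd.dvd.mul_left (by omega) q
      omega
  have hcardeq : Nat.gcd 3 (q + 1) * Nat.card PU = Nat.card U2 * (q ^ 2 * m) := by
    refine Nat.eq_of_mul_eq_mul_left (show 0 < q + 1 by omega) ?_
    rw [← mul_assoc, mul_comm (q + 1) (Nat.gcd _ _), mul_assoc, h3, GUTwoSylow.card_GU2 hF, hm,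
      show 3 * (3 - 1) / 2 = 3 from rfl]
    ring
  have hfac : (Nat.card PU).factorization 2 = (Nat.card U2).factorization 2 := by
    have e := congrArg (fun n : ℕ => n.factorization 2) hcardeq
    have hd : ¬ 2 ∣ Nat.gcd 3 (q + 1) := fun hh => by
      have h32 := hh.trans (Nat.gcd_dvd_left _ _)
      norm_num at h32
    have ho : ¬ 2 ∣ q ^ 2 * m := by
      have h1 : q ^ 2 % 2 = 1 := by rw [Nat.pow_mod, hq1]
      rw [Nat.prime_two.dvd_mul]
      omega
    rw [Nat.factorization_mul (fun h0 => hd (by rw [h0]; exact dvd_zero 2)) Nat.card_pos.ne', Finsupp.add_apply,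
      Nat.factorization_eq_zero_of_not_dvd hd, zero_add,
      Nat.factorization_mul Nat.card_pos.ne' (fun h0 => ho (by rw [h0]; exact dvd_zero 2)), Finsupp.add_apply,
      Nat.factorization_eq_zero_of_not_dvd ho, add_zero] at e
    exact e
  let e := MonoidHom.ofInjective hφ
  let U : Sylow 2 PU := Sylow.ofCard φ.range (by
    rw [← Nat.card_congr e.toEquiv, hfac, ← P.card_eq_multiplicity])
  refine isSimple_of_isPGroup_mulAut U S (fun h => hP1 ?_) (hshape.of_equiv (MulAut.congr e)) (fun T hT h1 => ?_)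
  · refine (Subgroup.eq_bot_iff_forall _).mpr fun a ha => ?_
    have hr : φ.range = ⊥ := h
    exact congrArg Subtype.val (hφ ((Subgroup.eq_bot_iff_forall _).mp hr _ ⟨⟨a, ha⟩, rfl⟩ |>.trans (map_one φ).symm))
  let T₀ : Subgroup (P : Subgroup U2) := T.comap φ
  have hclosed : ∀ a b : (P : Subgroup U2), a ∈ T₀ → Fused hF (a : U2) (b : U2) → b ∈ T₀ := by
    rintro a b ha ⟨k, hk⟩
    have := hT.2 (φ a) ha k (by
      show k * φ a * k⁻¹ ∈ φ.range
      exact ⟨b, hk.symm⟩)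
    show φ b ∈ T
    rwa [show φ b = k * φ a * k⁻¹ from hk.symm]
  have hn : T₀.Normal := ⟨fun a ha g => hclosed a (g * a * g⁻¹) ha (fused_conj hF (a : U2) (g : U2))⟩
  obtain ⟨⟨_, c₀, rfl⟩, hcT, hcc, hc2⟩ := RankTwoSimple.exists_central U hT h1
  have hc₀ : c₀ ∈ T₀ ∧ c₀ ∈ Subgroup.center (P : Subgroup U2) ∧ orderOf c₀ = 2 := by
    refine ⟨hcT, ?_, ?_⟩
    · refine Subgroup.mem_center_iff.mpr fun g => hφ ?_
      rw [map_mul, map_mul]
      exact congrArg Subtype.val (Subgroup.mem_center_iff.mp hcc ⟨φ g, g, rfl⟩)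
    · rw [← orderOf_injective φ hφ c₀]
      rw [← Subgroup.orderOf_coe] at hc2
      exact hc2
  have htop := hcl T₀ hn ⟨c₀, hc₀⟩ hclosed
  rintro _ ⟨a, rfl⟩
  show a ∈ T₀
  rw [htop]
  trivial

theorem unit_sq {u : Fˣ} (h : orderOf u = 2) : (u : F) = -1 := by
  have h1 : (u : F) * (u : F) = 1 := by
    rw [← Units.val_mul, Involutions.mul_self_eq_one_of_orderOf h, Units.val_one]
  rcases mul_self_eq_one_iff.mp h1 with e | e
  · rw [show u = 1 from Units.ext e, orderOf_one] at h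
    omega
  · exact e

/-- The wreathed case. -/
theorem isSimple_wreathed (hF : Fintype.card F = q ^ 2) (h4 : q % 4 = 3) (S : Sylow 2 PU) :
    (Cfsg.groupFusionSystem (S : Subgroup PU)).IsSimple 2 := by
  haveI : Fact (Nat.Prime 2) := ⟨Nat.prime_two⟩
  have hodd : Odd q := Nat.odd_iff.mpr (by omega)
  obtain ⟨P, d, ζ, n, hn, hh, hζ, hζq, hcard, hx, hy, hz⟩ := GUTwoSylow.exists_wreathed hF h4
  have hW := GUTwoSylow.isWreathed_of_data d hn hh hcard
  refine isSimple_of hF hodd P (fun h => ?_)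
    (RankTwoSimple.isPGroup_mulAut_wreathed hW) (fun T₀ hN hc hcl => ?_) S
  · have : Nat.card (P : Subgroup U2) = 1 := by rw [h, Subgroup.card_bot]
    change Nat.card P = 1 at this
    rw [hcard] at this
    exact absurd this (Nat.one_lt_two_pow (by omega)).ne'
  have hval : ∀ i j : ℤ, ((d.u i j : U2) : G2) = GUTwoSylow.diagHom (ζ ^ i, ζ ^ j) := by
    intro i j
    rw [Wr.Data.u]
    push_cast
    rw [hx, hy, ← map_zpow, ← map_zpow, ← map_mul]
    simp
  have hh2 := d.h2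
  have hζh : ((ζ ^ (d.h : ℤ) : Fˣ) : F) = -1 := by
    refine unit_sq ?_
    rw [zpow_natCast, orderOf_pow, hζ, Nat.gcd_eq_right (dvd_mul_left _ 2), Nat.mul_div_cancel _ (by omega)]
  -- the central involution
  obtain ⟨c, hcT, hcc, hc2⟩ := hc
  have hw : d.w ∈ T₀ := by
    obtain ⟨i, j, rfl | rfl⟩ := Wr.cases_elem d c
    · obtain ⟨hc1, hne⟩ := Involutions.orderOf_eq_two_iff'.mp hc2
      rcases Wr.u_involution_cases d hc1 with e | e | e | e
      · exact absurd e hne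
      · exfalso
        rw [e, Wr.u_central_iff, zero_sub, dvd_neg] at hcc
        have := Int.le_of_dvd (by omega) hcc
        omega
      · exfalso
        rw [e, Wr.u_central_iff, sub_zero] at hcc
        have := Int.le_of_dvd (by omega) hcc
        omega
      · exact e ▸ hcT
    · exact absurd hcc (Wr.v_not_central d i j)
  have hh0 : d.u d.h 0 ∈ T₀ := by
    refine hcl d.w _ hw (fused_weyl hF hodd (x := -1) (y := -1) (z := 1) ?_ ?_ (by ring))
    · rw [Wr.Data.w, hval, GUTwoSylow.diagHom_val, hζh]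
    · rw [hval, GUTwoSylow.diagHom_val, hζh, zpow_zero, Units.val_one]
  have h0h : d.u 0 d.h ∈ T₀ := by
    have := mul_mem (inv_mem hh0) hw
    rwa [Wr.Data.w, Wr.u_inv, Wr.u_mul_u, neg_add_cancel, neg_zero, zero_add] at this
  -- the swap
  have h2 : (2 : F) ≠ 0 := fun h2 => by
      have : ((-1 : F)) = 1 := by linear_combination -h2
      rw [← hζh, Units.val_eq_one] at this
      have := orderOf_dvd_iff_zpow_eq_one.mpr this
      rw [hζ] at this
      have := Int.le_of_dvd (by omega) this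
      omega
  obtain ⟨α, hα⟩ := HermCount.exists_norm hF (c := (2 : F)⁻¹) (inv_ne_zero h2) (by
    obtain ⟨-, σ, hσ⟩ := UnitaryBasic.frob_exists hF
    rw [← hσ, map_inv₀, map_ofNat])
  obtain ⟨a, ha⟩ : ∃ a : F, a = (α : F) := ⟨_, rfl⟩
  rw [← ha] at hα
  have ha2 : a * a ^ q = (2 : F)⁻¹ := by rw [← pow_succ']; exact hα
  have ha0 : a ≠ 0 := fun h => by rw [ha] at h; exact α.ne_zero h
  let k₀ : G2 := Matrix.GeneralLinearGroup.mkOfDetNeZero !![a, a; a, -a] (by
    rw [Matrix.det_fin_two_of]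
    intro h
    have : (2 : F) * (a * a) = 0 := by linear_combination -h
    simp [h2, ha0] at this)
  have hk₀ : k₀ ∈ Cfsg.GU 2 F q := by
    refine GUTwoSylow.mem_GU2 hF ?_ ?_ ?_ <;>
      simp [k₀, Matrix.GeneralLinearGroup.mkOfDetNeZero, hodd.neg_pow, ha2] <;> field_simp <;> ring
  have hzT : d.z ∈ T₀ := by
    refine hcl _ _ h0h ?_
    have key : (⟨k₀, hk₀⟩ : U2)⁻¹ * (d.u 0 d.h : U2) * (⟨k₀, hk₀⟩ : U2)⁻¹⁻¹ = (d.z : U2) := by
      rw [inv_inv, mul_assoc, inv_mul_eq_iff_eq_mul]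
      apply Subtype.ext
      apply Units.ext
      show ((d.u 0 d.h : U2) : G2).1 * k₀.1 = k₀.1 * ((d.z : U2) : G2).1
      rw [hval, hz, GUTwoSylow.diagHom_val, zpow_zero, Units.val_one, hζh]
      ext i j
      fin_cases i <;> fin_cases j <;>
        simp [k₀, Matrix.GeneralLinearGroup.mkOfDetNeZero, GUTwoSylow.swapM, Matrix.mul_apply, Fin.sum_univ_two]
    rw [← key]
    exact fused_conj hF _ _
  have h11 : d.u 1 (-1) ∈ T₀ := by
    have := mul_mem (hN.conj_mem _ hzT (d.u 1 0)) hzT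
    rwa [Wr.u_inv, show d.z = d.v 0 0 by simp [Wr.Data.v], Wr.u_mul_v, Wr.v_mul_u, Wr.v_mul_v,
      show ((1 : ℤ) + 0 + -0 + 0) = 1 by ring, show ((0 : ℤ) + 0 + -1 + 0) = -1 by ring] at this
  have hxT : d.x ∈ T₀ := by
    have h10 : d.u 1 0 ∈ T₀ := by
      refine hcl _ _ h11 (fused_weyl hF hodd (x := (ζ : F)) (y := ((ζ⁻¹ : Fˣ) : F)) (z := 1) ?_ ?_ (by simp))
      · rw [hval, GUTwoSylow.diagHom_val, zpow_one, _root_.zpow_neg_one]
      · rw [hval, GUTwoSylow.diagHom_val, zpow_one, zpow_zero, Units.val_one]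
    simpa [Wr.Data.u] using h10
  have hyT : d.y ∈ T₀ := by
    have := hN.conj_mem _ hxT d.z
    rwa [d.hzx] at this
  refine (Subgroup.eq_top_iff' _).mpr fun g => ?_
  obtain ⟨i, j, rfl | rfl⟩ := Wr.cases_elem d g
  · exact mul_mem (zpow_mem hxT i) (zpow_mem hyT j)
  · exact mul_mem (mul_mem (zpow_mem hxT i) (zpow_mem hyT j)) hzT

/-- The quasi-dihedral case. -/
theorem isSimple_quasiDihedral (hF : Fintype.card F = q ^ 2) (h4 : q % 4 = 1) (S : Sylow 2 PU) :
    (Cfsg.groupFusionSystem (S : Subgroup PU)).IsSimple 2 := by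
  haveI : Fact (Nat.Prime 2) := ⟨Nat.prime_two⟩
  have hodd : Odd q := Nat.odd_iff.mpr (by omega)
  obtain ⟨P, d, l, n, a, ha, h2, hn, hM, hcard, haq, hl, ⟨r, hr, hqr⟩, hx, hy⟩ :=
    GUTwoSylow.exists_quasiDihedral hF h4
  have hQ := GUTwoSylow.isQuasiDihedral_of_data d hn hM hcard
  refine isSimple_of hF hodd P (fun h => ?_)
    (Cfsg.Agent.S3116.result P.2 (Or.inr hQ)) (fun T₀ hN hc hcl => ?_) S
  · have : Nat.card (P : Subgroup U2) = 1 := by rw [h, Subgroup.card_bot]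
    change Nat.card P = 1 at this
    rw [hcard] at this
    exact absurd this (Nat.one_lt_two_pow (by omega)).ne'
  have hM0 := d.hM
  have hl4 : ((l ^ (4 * d.M) : Fˣ) : F) = -1 := by
    refine unit_sq ?_
    rw [orderOf_pow, hl, Nat.gcd_eq_right ⟨2, by ring⟩, show 8 * d.M = 2 * (4 * d.M) by ring,
      Nat.mul_div_cancel _ (by omega)]
  set i₀ : Fˣ := l ^ (2 * d.M) with hi₀
  have hi2 : (i₀ : F) ^ 2 = -1 := by
    rw [hi₀, ← Units.val_pow_eq_pow_val, ← pow_mul, show 2 * d.M * 2 = 4 * d.M by ring, hl4]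
  have hlq : (l : F) ^ q = -(l : F) := by
    rw [show q = (q - 1) + 1 by omega, pow_succ, hqr, pow_mul, ← Units.val_pow_eq_pow_val, hl4,
      (Nat.odd_iff.mpr (by omega) : Odd r).neg_one_pow, neg_one_mul]
  have hiq : (i₀ : F) ^ q = (i₀ : F) := by
    rw [hi₀, Units.val_pow_eq_pow_val, ← pow_mul, mul_comm, pow_mul, hlq, neg_pow, (even_two_mul _).neg_one_pow,
      one_mul]
  have hl0 : (l : F) ≠ 0 := l.ne_zero
  have hi0 : (i₀ : F) ≠ 0 := i₀.ne_zero
  have hxval : ((d.x : U2) : G2).1 = GUTwoSylow.torusM a (l : F) (-(l : F)⁻¹) := by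
    rw [hx]
    show GUTwoSylow.torusM a (l : F) (((l⁻¹ : Fˣ) : F) ^ q) = _
    rw [Units.val_inv_eq_inv_val, inv_pow, hlq, neg_inv]
  have hxpow : ∀ k : ℤ, ((d.x ^ k : (P : Subgroup U2)) : U2).1 = GUTwoSylow.torusHom q ha h2 (l ^ k) := by
    intro k
    push_cast
    rw [hx, map_zpow]
  obtain ⟨c, hcT, hcc, hc2⟩ := hc
  have hz : d.z ∈ T₀ := by
    have hcz : c = d.z := by
      have h1 : c ∈ Subgroup.zpowers d.z := QD.center_eq_zpowers d ▸ hcc
      obtain ⟨k, hk⟩ := h1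
      replace hk : d.z ^ k = c := hk
      have hzz := Involutions.mul_self_eq_one_of_orderOf (QD.orderOf_z d)
      rcases Int.even_or_odd' k with ⟨j, rfl | rfl⟩
      · rw [_root_.zpow_mul, _root_.zpow_two, hzz, _root_.one_zpow] at hk
        rw [← hk, orderOf_one] at hc2
        omega
      · rw [_root_.zpow_add, _root_.zpow_mul, _root_.zpow_two, hzz, _root_.one_zpow, one_mul, zpow_one] at hk
        exact hk.symm
    exact hcz ▸ hcT
  have hzval : ((d.z : (P : Subgroup U2)) : U2).1.1 = !![-1, 0; 0, -1] := by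
    rw [QD.Data.z, hxpow]
    show GUTwoSylow.torusM a ((l ^ (4 * (d.M : ℤ)) : Fˣ) : F) ((((l ^ (4 * (d.M : ℤ)))⁻¹ : Fˣ) : F) ^ q) = _
    rw [show (4 * (d.M : ℤ)) = ((4 * d.M : ℕ) : ℤ) by push_cast; ring, zpow_natCast, Units.val_inv_eq_inv_val, hl4,
      inv_neg_one, hodd.neg_one_pow]
    ext i j
    fin_cases i <;> fin_cases j <;> simp [GUTwoSylow.torusM] <;> field_simp <;> ring
  have hyval : ((d.y : (P : Subgroup U2)) : U2).1.1 = !![1, 0; 0, -1] := by rw [hy]; rfl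
  have hyT : d.y ∈ T₀ := by
    have hyz : d.y * d.z ∈ T₀ := by
      refine hcl _ _ hz (fused_weyl hF hodd (x := -1) (y := -1) (z := 1) hzval ?_ (by ring))
      push_cast
      rw [hyval, hzval]
      ext i j
      fin_cases i <;> fin_cases j <;> simp [Matrix.mul_apply, Fin.sum_univ_two]
    have := mul_mem hyz (inv_mem hz)
    rwa [mul_inv_cancel_right] at this
  have hsq : d.x ^ (2 * (1 - 2 * (d.M : ℤ))) ∈ T₀ := by
    have := mul_mem (hN.conj_mem _ hyT (d.x ^ (1 : ℤ))) (inv_mem hyT)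
    rwa [show d.x ^ (1 : ℤ) * d.y * (d.x ^ (1 : ℤ))⁻¹ * d.y⁻¹ = d.x ^ (1 : ℤ) * (d.y * (d.x ^ (1 : ℤ))⁻¹ * d.y⁻¹) by
      group, ← _root_.zpow_neg, QD.conj_y, ← _root_.zpow_add,
      show (1 : ℤ) + (4 * (d.M : ℤ) - 1) * -1 = 2 * (1 - 2 * (d.M : ℤ)) by ring] at this
  have hcT2 : d.x ^ (2 * (d.M : ℤ)) ∈ T₀ := by
    obtain ⟨s, t, hst⟩ : IsCoprime (1 - 2 * (d.M : ℤ)) (4 * (d.M : ℤ)) :=
      ⟨1 + 2 * (d.M : ℤ), (d.M : ℤ), by ring⟩
    have := zpow_mem hsq (s * (d.M : ℤ))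
    rwa [← _root_.zpow_mul, show d.x ^ (2 * (1 - 2 * (d.M : ℤ)) * (s * (d.M : ℤ))) = d.x ^ (2 * (d.M : ℤ)) by
      rw [QD.zpow_eq_iff]; exact ⟨t * (d.M : ℤ), by linear_combination (-2 * (d.M : ℤ)) * hst⟩] at this
  -- the rotation taking `x ^ (2M)` to `x y`
  have hσ : ∃ σ : F →+* F, ∀ x, σ x = x ^ q := (UnitaryBasic.frob_exists hF).2
  obtain ⟨σ, hσ⟩ := hσ
  set κ : F := (i₀ : F) / (l : F) with hκ
  have hκ0 : κ ≠ 0 := div_ne_zero hi0 hl0
  have hσκ : σ κ = -κ := by rw [hκ, map_div₀, hσ, hσ, hiq, hlq, div_neg]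
  have hσa : σ a = -1 / a := by rw [hσ, eq_div_iff ha, mul_comm, haq]
  let M₀ : Matrix (Fin 2) (Fin 2) F :=
    !![((1 + κ) / (2 * κ) + (1 - κ)) / 2, ((1 + κ) / (2 * κ) - (1 - κ)) / (2 * a);
       a * ((1 - κ) / (2 * κ) + (1 + κ)) / 2, ((1 - κ) / (2 * κ) - (1 + κ)) / 2]
  have hdet : M₀.det ≠ 0 := by
    have : M₀.det = -1 := by
      rw [Matrix.det_fin_two_of]
      field_simp
      ring
    rw [this]
    exact neg_ne_zero.mpr one_ne_zero
  let g₀ : G2 := Matrix.GeneralLinearGroup.mkOfDetNeZero M₀ hdet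
  have hg₀ : g₀ ∈ Cfsg.GU 2 F q := by
    refine GUTwoSylow.mem_GU2 hF ?_ ?_ ?_ <;>
      · have hv : g₀.1 = M₀ := rfl
        rw [hv]
        simp only [M₀, Matrix.GeneralLinearGroup.mkOfDetNeZero, Matrix.unitOfDetInvertible, Matrix.cons_val_zero,
          Matrix.cons_val_one, Matrix.of_apply, Matrix.cons_val', Matrix.cons_val_fin_one, ← hσ]
        simp only [map_div₀, map_mul, map_add, map_sub, map_ofNat, map_one, hσκ, hσa]
        field_simp
        ring
  have hxy : d.x ^ (1 : ℤ) * d.y ∈ T₀ := by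
    refine hcl _ _ hcT2 ?_
    have key : (⟨g₀, hg₀⟩ : U2) * ((d.x ^ (2 * (d.M : ℤ)) : (P : Subgroup U2)) : U2) * (⟨g₀, hg₀⟩ : U2)⁻¹ =
        ((d.x ^ (1 : ℤ) * d.y : (P : Subgroup U2)) : U2) := by
      rw [mul_inv_eq_iff_eq_mul]
      apply Subtype.ext
      apply Units.ext
      show M₀ * ((d.x ^ (2 * (d.M : ℤ)) : (P : Subgroup U2)) : U2).1.1 =
        ((d.x ^ (1 : ℤ) * d.y : (P : Subgroup U2)) : U2).1.1 * M₀
      rw [hxpow, zpow_one]
      push_cast
      rw [hyval, hxval, show (2 * (d.M : ℤ)) = ((2 * d.M : ℕ) : ℤ) by push_cast; ring, zpow_natCast, ← hi₀]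
      show M₀ * GUTwoSylow.torusM a (i₀ : F) (((i₀⁻¹ : Fˣ) : F) ^ q) = _
      rw [Units.val_inv_eq_inv_val, inv_pow, hiq, show (i₀ : F)⁻¹ = -(i₀ : F) from
        inv_eq_of_mul_eq_one_right (by linear_combination -hi2)]
      have hlκ : (l : F)⁻¹ = κ / (i₀ : F) := by rw [hκ]; field_simp
      have hlval : (l : F) = (i₀ : F) / κ := by rw [hκ]; field_simp
      rw [hlκ, hlval]
      ext i j
      fin_cases i <;> fin_cases j <;>
        simp [M₀, GUTwoSylow.torusM, Matrix.mul_apply, Fin.sum_univ_two] <;> field_simp <;> grind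
    rw [← key]
    exact fused_conj hF _ _
  have hxT : d.x ∈ T₀ := by
    have := mul_mem hxy hyT
    rwa [mul_assoc, QD.hyy, mul_one, zpow_one] at this
  refine (Subgroup.eq_top_iff' _).mpr fun g => ?_
  obtain ⟨i, rfl | rfl⟩ := QD.cases_elem d g
  · exact zpow_mem hxT i
  · exact mul_mem (zpow_mem hxT i) hyT

end CfsgLib.PSUThree
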