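import Cfsg.Prelude.Def_CaseTheorems
import Cfsg.Agent.Lib.SLCard
import Cfsg.Agent.Lib.Involutions

/-!
Sylow 2-subgroups of `GL(2,q)` for odd `q`: quasi-dihedral or wreathed.
-/

set_option autoImplicit false
set_option linter.unusedSectionVars false

namespace CfsgLib.GLTwoSylow

open Matrix

/-- Doubling a subgroup by a normalising element squaring into it. -/
theorem card_double {G : Type*} [Group G] [Finite G] (D : Subgroup G) {z : G} (hz : z * z ∈ D)
    (hn : z ∈ Subgroup.normalizer (D : Set G)) (hzD : z ∉ D) :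
    Nat.card ↥(D ⊔ Subgroup.zpowers z) = 2 * Nat.card D := by
  have hmem : ∀ a : G, a ∈ D ⊔ Subgroup.zpowers z ↔ a ∈ D ∨ a * z ∈ D := by
    intro a
    rw [← SetLike.mem_coe, Subgroup.coe_mul_of_right_le_normalizer_left D _ (Subgroup.zpowers_le.mpr hn)]
    constructor
    · rintro ⟨u, hu, v, ⟨k, rfl⟩, rfl⟩
      rcases Int.even_or_odd' k with ⟨j, rfl | rfl⟩
      · left
        show u * z ^ (2 * j) ∈ D
        rw [_root_.zpow_mul, _root_.zpow_two]
        exact mul_mem hu (zpow_mem hz j)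
      · right
        show u * z ^ (2 * j + 1) * z ∈ D
        rw [_root_.zpow_add_one, _root_.zpow_mul, _root_.zpow_two, mul_assoc, mul_assoc]
        exact mul_mem hu (mul_mem (zpow_mem hz j) hz)
    · rintro (h | h)
      · exact ⟨a, h, 1, one_mem _, mul_one a⟩
      · exact ⟨a * z * (z * z)⁻¹, mul_mem h (inv_mem hz), z, Subgroup.mem_zpowers _, by simp [mul_assoc]⟩
  have hidx : (D.subgroupOf (D ⊔ Subgroup.zpowers z)).index = 2 := by
    refine Subgroup.index_eq_two_iff.mpr ⟨⟨z, (hmem z).mpr (Or.inr hz)⟩, ?_⟩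
    rintro ⟨b, hb⟩
    show Xor (b * z ∈ D) (b ∈ D)
    rcases (hmem b).mp hb with h | h
    · exact Or.inr ⟨h, fun h2 => hzD (by simpa using mul_mem (inv_mem h) h2)⟩
    · exact Or.inl ⟨h, fun h2 => hzD (by simpa using mul_mem (inv_mem h2) h)⟩
  rw [← (D.subgroupOf (D ⊔ Subgroup.zpowers z)).card_mul_index, hidx,
    Nat.card_congr (Subgroup.subgroupOfEquivOfLe (le_sup_left : D ≤ _)).toEquiv, mul_comm]

theorem isQuasiDihedral_congr {A B : Type*} [Group A] [Group B] (e : A ≃* B) (h : Cfsg.IsQuasiDihedral A) :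
    Cfsg.IsQuasiDihedral B := by
  obtain ⟨n, hn, hc, x, y, hx, hy, hxy⟩ := h
  exact ⟨n, hn, by rw [← Nat.card_congr e.toEquiv, hc], e x, e y, by rw [MulEquiv.orderOf_eq, hx],
    by rw [MulEquiv.orderOf_eq, hy], by rw [← map_inv, ← map_mul, ← map_mul, hxy, map_pow]⟩

theorem isWreathed_congr {A B : Type*} [Group A] [Group B] (e : A ≃* B) (h : Cfsg.IsWreathed A) :
    Cfsg.IsWreathed B := by
  obtain ⟨n, hn, hc, x, y, z, hx, hxy, hd, hz, hzx⟩ := h
  refine ⟨n, hn, by rw [← Nat.card_congr e.toEquiv, hc], e x, e y, e z, by rw [MulEquiv.orderOf_eq, hx],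
    by rw [← map_mul, hxy, map_mul], ?_, by rw [MulEquiv.orderOf_eq, hz], by rw [← map_inv, ← map_mul, ← map_mul, hzx]⟩
  have := congrArg (Subgroup.map e.toMonoidHom) hd
  rw [Subgroup.map_inf _ _ _ e.injective, MonoidHom.map_zpowers, MonoidHom.map_zpowers, Subgroup.map_bot] at this
  exact this

variable {F : Type*} [Field F] [Fintype F]

local notation "G2" => GL (Fin 2) F
local notation "M2" => Matrix (Fin 2) (Fin 2) F

theorem card_GL2 : Nat.card G2 =
    Fintype.card F * ((Fintype.card F - 1) * (Fintype.card F - 1) * (Fintype.card F + 1)) := by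
  rw [Matrix.card_GL_field, Fin.prod_univ_two]
  have h := Fintype.one_lt_card (α := F)
  obtain ⟨t, ht⟩ := Nat.exists_eq_add_of_le h.le
  simp only [Fin.val_zero, Fin.val_one, pow_zero, pow_one]
  rw [ht, show (1 + t) ^ 2 - 1 = t * (t + 2) by rw [show (1 + t) ^ 2 = t * (t + 2) + 1 by ring]; rfl,
    show (1 + t) ^ 2 - (1 + t) = t * (t + 1) by rw [show (1 + t) ^ 2 = t * (t + 1) + (1 + t) by ring]; omega,
    show 1 + t - 1 = t by omega]
  ring

theorem factorization_two (n r : ℕ) (hr : ¬ 2 ∣ r) : (2 ^ n * r).factorization 2 = n := by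
  have hr0 : r ≠ 0 := fun h => hr (h ▸ dvd_zero 2)
  rw [Nat.factorization_mul (by positivity) hr0, Finsupp.add_apply, Nat.factorization_eq_zero_of_not_dvd hr,
    add_zero, Nat.factorization_pow, Finsupp.smul_apply, Nat.Prime.factorization_self Nat.prime_two, smul_eq_mul,
    mul_one]

/-- The wreathed case. -/
theorem exists_wreathed (h4 : Fintype.card F % 4 = 1) :
    ∃ U : Sylow 2 G2, Cfsg.IsWreathed (U : Subgroup G2) := by
  classical
  haveI : Fact (Nat.Prime 2) := ⟨Nat.prime_two⟩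
  set q := Fintype.card F
  have hq := Fintype.one_lt_card (α := F)
  obtain ⟨n, r, hr, hqr⟩ := Nat.exists_eq_pow_mul_and_not_dvd (show q - 1 ≠ 0 by omega) 2 (by norm_num)
  have hn2 : 2 ≤ n := by
    by_contra hlt
    have hc : Nat.Coprime (2 ^ 2) r := (Nat.prime_two.coprime_iff_not_dvd.mpr hr).pow_left 2
    have h42 : 2 ^ 2 ∣ 2 ^ n * r := by rw [← hqr]; norm_num; omega
    have := (Nat.pow_dvd_pow_iff_le_right (by norm_num : 1 < 2)).mp (hc.dvd_of_dvd_mul_right h42)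
    omega
  obtain ⟨g, hg⟩ := IsCyclic.exists_ofOrder_eq_natCard (α := Fˣ)
  rw [Nat.card_units, Nat.card_eq_fintype_card] at hg
  let ζ : Fˣ := g ^ r
  have hζ : orderOf ζ = 2 ^ n := by
    rw [orderOf_pow, hg, hqr, Nat.gcd_eq_right (dvd_mul_left r _), Nat.mul_div_cancel _
      (Nat.pos_of_ne_zero fun h => hr (by rw [h]; exact dvd_zero 2))]
  let f : Fˣ × Fˣ →* G2 :=
    { toFun := fun p => ⟨!![(p.1 : F), 0; 0, p.2], !![((p.1⁻¹ : Fˣ) : F), 0; 0, ((p.2⁻¹ : Fˣ) : F)],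
        by ext i j; fin_cases i <;> fin_cases j <;> simp [Matrix.mul_apply, Fin.sum_univ_two],
        by ext i j; fin_cases i <;> fin_cases j <;> simp [Matrix.mul_apply, Fin.sum_univ_two]⟩
      map_one' := by ext i j; fin_cases i <;> fin_cases j <;> simp
      map_mul' := fun p p' => by
        ext i j; fin_cases i <;> fin_cases j <;> simp [Matrix.mul_apply, Fin.sum_univ_two] }
  have hf : Function.Injective f := by
    intro p p' h
    have h0 := congrArg (fun m : G2 => (m : M2) 0 0) h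
    have h1 := congrArg (fun m : G2 => (m : M2) 1 1) h
    simp [f] at h0 h1
    exact Prod.ext (Units.ext h0) (Units.ext h1)
  let w : G2 := ⟨!![0, 1; 1, 0], !![0, 1; 1, 0],
    by ext i j; fin_cases i <;> fin_cases j <;> simp [Matrix.mul_apply, Fin.sum_univ_two],
    by ext i j; fin_cases i <;> fin_cases j <;> simp [Matrix.mul_apply, Fin.sum_univ_two]⟩
  have hw2 : w * w = 1 := by ext i j; fin_cases i <;> fin_cases j <;> simp [w, Matrix.mul_apply, Fin.sum_univ_two]
  have hwf : ∀ a b : Fˣ, w * f (a, b) * w⁻¹ = f (b, a) := by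
    intro a b
    rw [mul_inv_eq_iff_eq_mul]
    ext i j; fin_cases i <;> fin_cases j <;> simp [w, f, Matrix.mul_apply, Fin.sum_univ_two]
  let D : Subgroup G2 := ((Subgroup.zpowers ζ).prod (Subgroup.zpowers ζ)).map f
  have hD : Nat.card D = 2 ^ n * 2 ^ n := by
    rw [Subgroup.card_map_of_injective hf, Nat.card_congr (Subgroup.prodEquiv _ _).toEquiv, Nat.card_prod,
      Nat.card_zpowers, hζ]
  have hwD : w ∉ D := by
    rintro ⟨p, -, h⟩
    have h0 := congrArg (fun m : G2 => (m : M2) 0 0) h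
    simp [f, w] at h0
  have hwn : w ∈ Subgroup.normalizer (D : Set G2) := by
    have key : ∀ a ∈ D, w * a * w⁻¹ ∈ D := by
      rintro _ ⟨⟨a, b⟩, ⟨ha, hb⟩, rfl⟩
      exact ⟨(b, a), ⟨hb, ha⟩, (hwf a b).symm⟩
    refine Subgroup.mem_normalizer_iff.mpr fun a => ⟨key a, fun h => ?_⟩
    have := key _ h
    have hwi : w⁻¹ = w := inv_eq_of_mul_eq_one_right hw2
    rw [hwi, show w * (w * a * w) * w = (w * w) * a * (w * w) by group, hw2, one_mul, mul_one] at this
    exact this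
  have hcard : Nat.card ↥(D ⊔ Subgroup.zpowers w) = 2 ^ (2 * n + 1) := by
    rw [card_double D (by rw [hw2]; exact one_mem D) hwn hwD, hD, ← pow_add, ← pow_succ']
    congr 1
    omega
  obtain ⟨t, ht, ht2⟩ : ∃ t, q + 1 = 2 * t ∧ ¬ 2 ∣ t := ⟨(q + 1) / 2, by omega, by omega⟩
  have hfac : (Nat.card G2).factorization 2 = 2 * n + 1 := by
    rw [card_GL2, show q * ((q - 1) * (q - 1) * (q + 1)) = 2 ^ (2 * n + 1) * (q * r * r * t) by
      rw [hqr, ht, two_mul n, pow_succ, pow_add]; ring]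
    refine factorization_two _ _ ?_
    simp only [Nat.prime_two.dvd_mul]
    omega
  refine ⟨Sylow.ofCard (D ⊔ Subgroup.zpowers w) (by rw [hcard, hfac]), n, hn2, hcard,
    ⟨f (ζ, 1), le_sup_left (a := D) ⟨_, ⟨Subgroup.mem_zpowers ζ, one_mem _⟩, rfl⟩⟩,
    ⟨f (1, ζ), le_sup_left (a := D) ⟨_, ⟨one_mem _, Subgroup.mem_zpowers ζ⟩, rfl⟩⟩,
    ⟨w, le_sup_right (a := D) (Subgroup.mem_zpowers w)⟩, ?_, ?_, ?_, ?_, ?_⟩
  · refine (Subgroup.orderOf_mk _ _).trans ?_
    rw [orderOf_injective f hf, Prod.orderOf_mk, orderOf_one, hζ, Nat.lcm_one_right]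
  · exact Subtype.ext (show f (ζ, 1) * f (1, ζ) = f (1, ζ) * f (ζ, 1) by rw [← map_mul, ← map_mul]; simp)
  · refine (Subgroup.eq_bot_iff_forall _).mpr ?_
    rintro a ⟨⟨i, hi⟩, ⟨j, hj⟩⟩
    have e1 : f (ζ, 1) ^ i = (a : G2) := congrArg Subtype.val hi
    have e2 : f (1, ζ) ^ j = (a : G2) := congrArg Subtype.val hj
    rw [← map_zpow] at e1 e2
    have e := hf (e1.trans e2.symm)
    simp [Prod.ext_iff] at e
    refine Subtype.ext ?_
    rw [← e1]
    simp [e.1]
    exact map_one f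
  · exact (Subgroup.orderOf_mk _ _).trans (CfsgLib.Involutions.orderOf_eq_two_iff'.mpr
      ⟨hw2, fun h => hwD (h ▸ one_mem D)⟩)
  · exact Subtype.ext (hwf ζ 1)

/-- The quasi-dihedral case. -/
theorem exists_quasiDihedral (h4 : Fintype.card F % 4 = 3) :
    ∃ U : Sylow 2 G2, Cfsg.IsQuasiDihedral (U : Subgroup G2) := by
  classical
  haveI : Fact (Nat.Prime 2) := ⟨Nat.prime_two⟩
  haveI : Finite F := Finite.of_fintype F
  obtain ⟨p, hp⟩ := CharP.exists F
  haveI := hp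
  haveI : Fact p.Prime := ⟨CharP.char_is_prime F p⟩
  set q := Fintype.card F with hqdef
  have hq := Fintype.one_lt_card (α := F)
  obtain ⟨e, r, hr, hqr⟩ := Nat.exists_eq_pow_mul_and_not_dvd (show q + 1 ≠ 0 by omega) 2 (by norm_num)
  have he2 : 2 ≤ e := by
    by_contra hlt
    have hc : Nat.Coprime (2 ^ 2) r := (Nat.prime_two.coprime_iff_not_dvd.mpr hr).pow_left 2
    have h42 : 2 ^ 2 ∣ 2 ^ e * r := by rw [← hqr]; norm_num; omega
    have := (Nat.pow_dvd_pow_iff_le_right (by norm_num : 1 < 2)).mp (hc.dvd_of_dvd_mul_right h42)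
    omega
  obtain ⟨t, ht, ht2⟩ : ∃ t, q - 1 = 2 * t ∧ ¬ 2 ∣ t := ⟨(q - 1) / 2, by omega, by omega⟩
  let K := FiniteField.Extension F p 2
  let b : Module.Basis (Fin 2) F K := Module.finBasisOfFinrankEq F K (FiniteField.finrank_extension F p 2)
  haveI : Fintype K := Fintype.ofFinite K
  have hKcard : Fintype.card K = q ^ 2 := by
    rw [← Nat.card_eq_fintype_card, FiniteField.natCard_extension, Nat.card_eq_fintype_card]
  have hsq : q ^ 2 - 1 = 2 ^ (e + 1) * (r * t) := by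
    rw [show q ^ 2 - 1 = (q + 1) * (q - 1) by simpa using Nat.sq_sub_sq q 1, hqr, ht]
    ring
  obtain ⟨g, hg⟩ := IsCyclic.exists_ofOrder_eq_natCard (α := Kˣ)
  rw [Nat.card_units, Nat.card_eq_fintype_card, hKcard] at hg
  let ξ : Kˣ := g ^ (r * t)
  have hrt : ¬ 2 ∣ r * t := by rw [Nat.prime_two.dvd_mul]; omega
  have hξ : orderOf ξ = 2 ^ (e + 1) := by
    rw [orderOf_pow, hg, hsq, Nat.gcd_eq_right (dvd_mul_left (r * t) _), Nat.mul_div_cancel _
      (Nat.pos_of_ne_zero fun h => hrt (by rw [h]; exact dvd_zero 2))]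
  let L : Kˣ →* G2 := Units.map (Algebra.leftMulMatrix b : K →ₐ[F] M2).toRingHom.toMonoidHom
  have hL : Function.Injective L := fun a a' h =>
    Units.ext (Algebra.leftMulMatrix_injective b (congrArg Units.val h))
  let σ : K →ₐ[F] K := FiniteField.frobeniusAlgHom F K
  have hσ : ∀ a : K, σ a = a ^ q := fun a => rfl
  have hσσ : ∀ a : K, σ (σ a) = a := fun a => by
    rw [hσ, hσ, ← pow_mul, ← sq, ← hKcard, FiniteField.pow_card]
  let Y : M2 := LinearMap.toMatrix b b σ.toLinearMap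
  have hYY : Y * Y = 1 := by
    rw [← LinearMap.toMatrix_mul, ← LinearMap.toMatrix_one b]
    congr 1
    ext a
    exact hσσ a
  let y : G2 := ⟨Y, Y, hYY, hYY⟩
  have hyy : y * y = 1 := Units.ext hYY
  have hconj : ∀ a : Kˣ, y * L a * y⁻¹ = L (a ^ q) := by
    intro a
    rw [mul_inv_eq_iff_eq_mul]
    apply Units.ext
    show Y * Algebra.leftMulMatrix b (a : K) = Algebra.leftMulMatrix b ((a ^ q : Kˣ) : K) * Y
    rw [Algebra.leftMulMatrix_apply, Algebra.leftMulMatrix_apply, ← LinearMap.toMatrix_mul, ← LinearMap.toMatrix_mul]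
    congr 1
    ext v
    simp [map_mul, hσ, mul_pow]
  let X : Subgroup G2 := (Subgroup.zpowers ξ).map L
  have hXc : Nat.card X = 2 ^ (e + 1) := by rw [Subgroup.card_map_of_injective hL, Nat.card_zpowers, hξ]
  have hξq : ξ ^ q ≠ ξ := by
    intro h
    have h1 : ξ ^ q = ξ ^ 1 := by rw [pow_one]; exact h
    rw [pow_eq_pow_iff_modEq, hξ] at h1
    have h2 : 2 ^ (e + 1) ∣ q - 1 := (Nat.modEq_iff_dvd' (by omega)).mp h1.symm
    have h3 : 2 ^ 2 ∣ q - 1 := (pow_dvd_pow 2 (by omega)).trans h2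
    norm_num at h3
    omega
  have hyX : y ∉ X := by
    rintro ⟨a, -, ha⟩
    refine hξq (hL ?_)
    rw [← hconj ξ, ← ha, ← map_mul, ← map_inv, ← map_mul, mul_inv_cancel_comm]
  have hyn : y ∈ Subgroup.normalizer (X : Set G2) := by
    have key : ∀ a ∈ X, y * a * y⁻¹ ∈ X := by
      rintro _ ⟨a, ha, rfl⟩
      exact ⟨a ^ q, pow_mem ha q, (hconj a).symm⟩
    refine Subgroup.mem_normalizer_iff.mpr fun a => ⟨key a, fun h => ?_⟩
    have := key _ h
    rw [inv_eq_of_mul_eq_one_right hyy, show y * (y * a * y) * y = (y * y) * a * (y * y) by group, hyy,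
      one_mul, mul_one] at this
    exact this
  have hcard : Nat.card ↥(X ⊔ Subgroup.zpowers y) = 2 ^ (e + 1 + 1) := by
    rw [card_double X (by rw [hyy]; exact one_mem X) hyn hyX, hXc, ← pow_succ']
  have hfac : (Nat.card G2).factorization 2 = e + 1 + 1 := by
    rw [card_GL2, show q * ((q - 1) * (q - 1) * (q + 1)) = 2 ^ (e + 1 + 1) * (q * r * t * t) by
      rw [hqr, ht]; ring]
    refine factorization_two _ _ ?_
    simp only [Nat.prime_two.dvd_mul]
    omega
  refine ⟨Sylow.ofCard (X ⊔ Subgroup.zpowers y) (by rw [hcard, hfac]), e + 1, by omega, hcard,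
    ⟨L ξ, le_sup_left (a := X) ⟨_, Subgroup.mem_zpowers ξ, rfl⟩⟩,
    ⟨y, le_sup_right (a := X) (Subgroup.mem_zpowers y)⟩, ?_, ?_, ?_⟩
  · exact (Subgroup.orderOf_mk _ _).trans (by rw [orderOf_injective L hL, hξ])
  · exact (Subgroup.orderOf_mk _ _).trans (CfsgLib.Involutions.orderOf_eq_two_iff'.mpr
      ⟨hyy, fun h => hyX (h ▸ one_mem X)⟩)
  · refine Subtype.ext ?_
    show y * L ξ * y⁻¹ = L ξ ^ (2 ^ (e + 1 - 1) - 1)
    rw [hconj, ← map_pow]
    congr 1
    rw [pow_eq_pow_iff_modEq, hξ, Nat.add_sub_cancel]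
    have hle : 2 ^ e ≤ q + 1 := hqr ▸ Nat.le_mul_of_pos_right _ (Nat.pos_of_ne_zero fun h => hr (by rw [h]; exact dvd_zero 2))
    have h1 : 1 ≤ 2 ^ e := Nat.one_le_two_pow
    obtain ⟨s, rfl⟩ : ∃ s, r = 2 * s + 1 := ⟨r / 2, by omega⟩
    refine (Nat.modEq_iff_dvd' (by omega)).mpr ?_ |>.symm
    refine ⟨s, ?_⟩
    rw [pow_succ]
    have : 2 ^ e * (2 * s + 1) = 2 ^ e * 2 * s + 2 ^ e := by ring
    omega

theorem sylow_cases (P : Sylow 2 G2) :
    (Fintype.card F % 4 = 3 → Cfsg.IsQuasiDihedral (P : Subgroup G2)) ∧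
      (Fintype.card F % 4 = 1 → Cfsg.IsWreathed (P : Subgroup G2)) := by
  haveI : Fact (Nat.Prime 2) := ⟨Nat.prime_two⟩
  constructor <;> intro h
  · obtain ⟨U, hU⟩ := exists_quasiDihedral h
    exact isQuasiDihedral_congr (U.equiv P) hU
  · obtain ⟨U, hU⟩ := exists_wreathed h
    exact isWreathed_congr (U.equiv P) hU

end CfsgLib.GLTwoSylow
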