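import Cfsg.Agent.Lib.Fusion.Center
import Mathlib.Data.Nat.Factorization.Basic

/-!
The action of `Aut_F(S)` on the centre of `S`; the normality criterion in pointwise form.
-/

set_option autoImplicit false
set_option linter.unusedSectionVars false

namespace Cfsg.FusionSystem

variable {Ω : Type*} [Group Ω] {S : Subgroup Ω} [Finite S] {p : ℕ} [Fact p.Prime] {F : FusionSystem S}

theorem IsSaturated.exists_conj_of_pow (hF : F.IsSaturated p) (hS : IsPGroup p S) {α : MulAut S}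
    (hα : α ∈ F.autGroup S) {n : ℕ} (hn : α ^ p ^ n = 1) : ∃ s : S, MulAut.conj s = α := by
  obtain ⟨-, R, hR⟩ := hF.isFullyAutomized_of_isFullyNormalized hS (isFullyNormalized_self (F := F))
  haveI := finite_autGroup (F := F) (P := S) le_rfl
  rw [← inn_eq_autInducedBy] at hR
  haveI : ((Inn S).subgroupOf (F.autGroup S)).Normal := ⟨fun a ha g => by
    obtain ⟨s, hs⟩ := Subgroup.mem_subgroupOf.mp ha
    refine Subgroup.mem_subgroupOf.mpr ⟨(g : MulAut S) s, ?_⟩
    push_cast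
    rw [← hs]
    ext y
    simp [mul_assoc]⟩
  have hp : IsPGroup p (Subgroup.zpowers (⟨α, hα⟩ : F.autGroup S)) := by
    intro ⟨y, hy⟩
    obtain ⟨i, rfl⟩ := hy
    refine ⟨n, Subtype.ext (Subtype.ext ?_)⟩
    push_cast
    rw [← zpow_natCast, ← zpow_mul, mul_comm, zpow_mul, zpow_natCast, hn, one_zpow]
  have hle : Subgroup.zpowers (⟨α, hα⟩ : F.autGroup S) ≤ (R : Subgroup (F.autGroup S)) := by
    haveI : (R : Subgroup (F.autGroup S)).Normal := by rw [hR]; infer_instance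
    exact le_sup_left.trans (R.3 (hp.to_sup_of_normal_right R.2) le_sup_right).le
  obtain ⟨s, hs⟩ := hR.le (hle (Subgroup.mem_zpowers _))
  exact ⟨s, hs⟩

/-- An element of `Aut_F(S)` fixing `K` pointwise and trivial on `Z(S)/K` fixes the centre. -/
theorem IsSaturated.fixes_center_of_stab (hF : F.IsSaturated p) (hS : IsPGroup p S) {γ : MulAut S}
    (hγ : γ ∈ F.autGroup S) (K : Subgroup S) (h1 : ∀ z ∈ Subgroup.center S, z⁻¹ * γ z ∈ K) (h2 : ∀ c ∈ K, γ c = c)
    {z : S} (hz : z ∈ Subgroup.center S) : γ z = z := by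
  haveI : Finite (MulAut S) := Finite.of_injective (fun α : MulAut S => (α : S → S)) DFunLike.coe_injective
  set n := orderOf γ with hn
  have hn0 : n ≠ 0 := (orderOf_pos γ).ne'
  set a := n.factorization p
  have hm : (n / p ^ a).Coprime p := (Nat.coprime_ordCompl (Fact.out : p.Prime) hn0).symm
  have hγm : (γ ^ (n / p ^ a)) ^ p ^ a = 1 := by
    rw [← pow_mul, Nat.div_mul_cancel (Nat.ordProj_dvd n p), hn, pow_orderOf_eq_one]
  obtain ⟨s, hs⟩ := hF.exists_conj_of_pow hS (pow_mem hγ _) hγm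
  have hfix1 : (γ ^ (n / p ^ a)) z = z := by
    rw [← hs, MulAut.conj_apply, Subgroup.mem_center_iff.mp hz s, mul_inv_cancel_right]
  have hpow : ∀ j : ℕ, (γ ^ j) z = z * (z⁻¹ * γ z) ^ j := by
    intro j
    induction j with
    | zero => simp
    | succ j ih =>
      rw [pow_succ', MulAut.mul_apply, ih, map_mul, map_pow, h2 _ (h1 z hz), pow_succ', ← mul_assoc, mul_inv_cancel_left]
  have hd1 : orderOf (z⁻¹ * γ z) ∣ n / p ^ a := by
    refine orderOf_dvd_of_pow_eq_one ?_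
    have := hpow (n / p ^ a)
    rw [hfix1] at this
    exact mul_eq_left.mp this.symm
  obtain ⟨j, hj⟩ := IsPGroup.iff_orderOf.mp hS (z⁻¹ * γ z)
  have h3 : orderOf (z⁻¹ * γ z) = 1 := Nat.eq_one_of_dvd_coprimes (Nat.Coprime.pow_right j hm) hd1 (by rw [hj])
  exact (inv_mul_eq_one.mp (orderOf_eq_one_iff.mp h3)).symm

theorem IsSaturated.eq_bot_of_invariant (hF : F.IsSaturated p) (hS : IsPGroup p S) (hcore : F.core = ⊥)
    {Q : Subgroup Ω} (hQS : Q ≤ S)
    (hS' : ∀ α ∈ F.autGroup S, ∀ y : S, (y : Ω) ∈ Q → ((α y : S) : Ω) ∈ Q)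
    (hE' : ∀ E, F.IsEssential p E → Q ≤ E ∧ ∀ α ∈ F.autGroup E, ∀ y : E, (y : Ω) ∈ Q → ((α y : E) : Ω) ∈ Q) :
    Q = ⊥ := by
  refine le_bot_iff.mp (hcore ▸ IsNormal.le_core (hF.isNormal_of_invariant hS fun P hP => ?_))
  have key : ∀ (P : Subgroup Ω), P ≤ S → ∀ α : MulAut P, (∀ y : P, (y : Ω) ∈ Q → ((α y : P) : Ω) ∈ Q) →
      (Q.subgroupOf P).map α.toMonoidHom = Q.subgroupOf P := by
    intro P hP α ha
    haveI : Finite P := finite_of_le hP
    refine Subgroup.eq_of_le_of_card_ge ?_ (le_of_eq ?_)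
    · rintro _ ⟨y, hy, rfl⟩; exact ha y hy
    · exact Nat.card_congr ((Q.subgroupOf P).equivMapOfInjective _ α.injective).toEquiv
  rcases hP with rfl | hP
  · exact ⟨hQS, fun α hα => key P le_rfl α (hS' α hα)⟩
  · exact ⟨(hE' P hP).1, fun α hα => key P hP.1.1 α ((hE' P hP).2 α hα)⟩

end Cfsg.FusionSystem
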