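import Cfsg.Agent.Lib.Fusion.Supersoluble
import Mathlib.GroupTheory.FiniteAbelian.Basic
import Mathlib.GroupTheory.PGroup

/-!
Supersoluble fusion systems over abelian groups.
-/

set_option autoImplicit false
set_option linter.unusedSectionVars false

universe u v

namespace CfsgLib.DistinctInvariants

/-- In a cyclic `p`-group of order `p ^ n`, `n ≠ i + 1`, a `p ^ i`-th power of order `p` is a `p ^ (i+1)`-th power. -/
theorem exists_root {p n i : ℕ} [Fact p.Prime] (hn : n ≠ i + 1) {z : Multiplicative (ZMod (p ^ n))} (hz : z ^ p = 1)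
    {c : Multiplicative (ZMod (p ^ n))} (hc : c ^ (p ^ i) = z) : ∃ d, d ^ (p ^ (i + 1)) = z := by
  have hp := (Fact.out : p.Prime)
  haveI : NeZero (p ^ n) := ⟨pow_ne_zero _ hp.ne_zero⟩
  have hpow : ∀ w : Multiplicative (ZMod (p ^ n)), w ^ (p ^ n) = 1 := fun w => by
    have := pow_card_eq_one' (x := w)
    rwa [Nat.card_congr Multiplicative.toAdd, Nat.card_zmod] at this
  rcases Nat.lt_or_ge n (i + 1) with h | h
  · refine ⟨1, ?_⟩
    rw [one_pow, ← hc, ← Nat.sub_add_cancel (show n ≤ i by omega), pow_add, mul_comm, pow_mul, hpow, one_pow]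
  · set g : Multiplicative (ZMod (p ^ n)) := Multiplicative.ofAdd 1 with hg
    have hgo : orderOf g = p ^ n := by
      rw [hg, orderOf_ofAdd_eq_addOrderOf, ZMod.addOrderOf_one]
    set l := (Multiplicative.toAdd z).val
    have hl : g ^ l = z := by
      rw [hg, ← ofAdd_nsmul, nsmul_one, ZMod.natCast_zmod_val, ofAdd_toAdd]
    rw [← hl, ← pow_mul, ← orderOf_dvd_iff_pow_eq_one, hgo] at hz
    obtain ⟨n', rfl⟩ : ∃ n', n = n' + 1 := ⟨n - 1, by omega⟩
    rw [pow_succ] at hz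
    have h1 := Nat.dvd_of_mul_dvd_mul_right hp.pos hz
    obtain ⟨t, ht⟩ := (pow_dvd_pow p (show i + 1 ≤ n' by omega)).trans h1
    refine ⟨g ^ t, ?_⟩
    rw [← pow_mul, mul_comm, ← ht, hl]

/-- Elements of order `p` of a finite cyclic group are powers of each other. -/
theorem exists_pow_eq {C : Type*} [Group C] [Finite C] [IsCyclic C] {p : ℕ} [Fact p.Prime] {α β : C}
    (hα : α ^ p = 1) (hα1 : α ≠ 1) (hβ : β ^ p = 1) : ∃ l : ℕ, β = α ^ l := by
  classical
  have := Fintype.ofFinite C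
  have hp := (Fact.out : p.Prime)
  have hord : orderOf α = p := orderOf_eq_prime hα hα1
  have hsub : (Finset.range p).image (α ^ ·) ⊆ Finset.univ.filter (fun a : C => a ^ p = 1) := by
    intro x hx
    obtain ⟨l, -, rfl⟩ := Finset.mem_image.mp hx
    refine Finset.mem_filter.mpr ⟨Finset.mem_univ _, ?_⟩
    rw [← pow_mul, mul_comm, pow_mul, hα, one_pow]
  have hcard : ((Finset.range p).image (α ^ ·)).card = p := by
    rw [Finset.card_image_of_injOn, Finset.card_range]
    intro a ha b hb h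
    rw [Finset.coe_range, Set.mem_Iio, ← hord] at ha hb
    exact pow_injOn_Iio_orderOf ha hb h
  have heq := Finset.eq_of_subset_of_card_le hsub (by rw [hcard]; exact IsCyclic.card_pow_eq_one_le hp.pos)
  have : β ∈ (Finset.range p).image (α ^ ·) := heq ▸ Finset.mem_filter.mpr ⟨Finset.mem_univ _, hβ⟩
  obtain ⟨l, -, rfl⟩ := Finset.mem_image.mp this
  exact ⟨l, rfl⟩

/-- Splitting off two factors of a product. -/
theorem split_pair {ι : Type} [DecidableEq ι] (m : ι → ℕ) {i j : ι} (hij : i ≠ j) (h : m j = m i) :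
    Nonempty ((∀ k, Multiplicative (ZMod (m k))) ≃* (Multiplicative (ZMod (m i)) × Multiplicative (ZMod (m i))) ×
      (∀ k : {k : ι // k ≠ i ∧ k ≠ j}, Multiplicative (ZMod (m k.1)))) := by
  let c : Multiplicative (ZMod (m j)) ≃* Multiplicative (ZMod (m i)) :=
    AddEquiv.toMultiplicative (ZMod.ringEquivCongr h).toAddEquiv
  exact ⟨{
    toFun := fun f => ((f i, c (f j)), fun k => f k.1)
    invFun := fun q k => if hi : k = i then hi.symm ▸ q.1.1 else
      if hj : k = j then hj.symm ▸ c.symm q.1.2 else q.2 ⟨k, hi, hj⟩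
    left_inv := fun f => funext fun k => by
      by_cases hi : k = i
      · subst hi; simp
      · by_cases hj : k = j
        · subst hj; simp [hi]
        · simp [hi, hj]
    right_inv := fun q => by
      refine Prod.ext (Prod.ext ?_ ?_) (funext fun k => ?_)
      · simp
      · simp [hij.symm]
      · simp [k.2.1, k.2.2]
    map_mul' := fun f g => by
      refine Prod.ext (Prod.ext rfl ?_) rfl
      simp }⟩

/-- The invariants of a finite abelian `p`-group without a repeated invariant give small layers. -/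
theorem layer_cyclic {A : Type v} [CommGroup A] [Finite A] {p : ℕ} [Fact p.Prime] (hA : IsPGroup p A)
    (hno : ¬ ∃ (n : ℕ) (H : Type) (_ : CommGroup H), 0 < n ∧
      Nonempty (A ≃* (Multiplicative (ZMod (p ^ n)) × Multiplicative (ZMod (p ^ n))) × H))
    (i : ℕ) {a b : A} (ha : a ^ p = 1) (ha' : ∃ c, c ^ (p ^ i) = a) (ha1 : ¬ ∃ c, c ^ (p ^ (i + 1)) = a)
    (hb : b ^ p = 1) (hb' : ∃ c, c ^ (p ^ i) = b) : ∃ l : ℕ, ∃ c, c ^ (p ^ (i + 1)) = b * (a ^ l)⁻¹ := by
  classical
  have hp := (Fact.out : p.Prime)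
  obtain ⟨ι, inst, m, hm, ⟨e⟩⟩ := CommGroup.equiv_prod_multiplicative_zmod_of_finite A
  obtain ⟨k, hk⟩ := IsPGroup.iff_card.mp hA
  have hcard : Nat.card A = ∏ x, m x := by
    rw [Nat.card_congr e.toEquiv, Nat.card_pi]
    exact Finset.prod_congr rfl fun x _ => by rw [Nat.card_congr Multiplicative.toAdd, Nat.card_zmod]
  have hex : ∀ x, ∃ n, m x = p ^ n := fun x => by
    obtain ⟨n, -, hn⟩ := (Nat.dvd_prime_pow hp).mp (hk ▸ hcard ▸ Finset.dvd_prod_of_mem m (Finset.mem_univ x))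
    exact ⟨n, hn⟩
  choose f hf using hex
  obtain rfl : m = fun x => p ^ f x := funext hf
  have hinj : ∀ x y, f x = f y → x = y := fun x y hxy => by
    by_contra hne
    obtain ⟨E⟩ := split_pair (fun x => p ^ f x) hne (by simp [hxy])
    exact hno ⟨f x, _, inferInstance, Nat.pos_of_ne_zero fun h0 => by simpa [h0] using hm x, ⟨e.trans E⟩⟩
  obtain ⟨ca, hca⟩ := ha'
  obtain ⟨cb, hcb⟩ := hb'
  have hpA : ∀ x, (e a x) ^ p = 1 := fun x => by rw [← Pi.pow_apply, ← map_pow, ha, map_one, Pi.one_apply]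
  have hpB : ∀ x, (e b x) ^ p = 1 := fun x => by rw [← Pi.pow_apply, ← map_pow, hb, map_one, Pi.one_apply]
  have hrA : ∀ x, (e ca x) ^ (p ^ i) = e a x := fun x => by rw [← Pi.pow_apply, ← map_pow, hca]
  have hrB : ∀ x, (e cb x) ^ (p ^ i) = e b x := fun x => by rw [← Pi.pow_apply, ← map_pow, hcb]
  have hroot : ∀ w : A, (∀ x, ∃ d, d ^ (p ^ (i + 1)) = e w x) → ∃ c, c ^ (p ^ (i + 1)) = w := fun w hw => by
    choose d hd using hw
    exact ⟨e.symm d, e.injective (by rw [map_pow, MulEquiv.apply_symm_apply]; exact funext hd)⟩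
  obtain ⟨x₀, hx₀, hx₀1⟩ : ∃ x, f x = i + 1 ∧ e a x ≠ 1 := by
    by_contra hcon
    push Not at hcon
    refine ha1 (hroot a fun x => ?_)
    by_cases hx : f x = i + 1
    · exact ⟨1, by rw [one_pow, hcon x hx]⟩
    · exact exists_root hx (hpA x) (hrA x)
  haveI : NeZero (p ^ f x₀) := ⟨pow_ne_zero _ hp.ne_zero⟩
  obtain ⟨l, hl⟩ := exists_pow_eq (hpA x₀) hx₀1 (hpB x₀)
  refine ⟨l, hroot _ fun x => ?_⟩
  rw [map_mul, map_inv, map_pow]
  show ∃ d, d ^ (p ^ (i + 1)) = e b x * (e a x ^ l)⁻¹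
  by_cases hx : x = x₀
  · subst hx
    exact ⟨1, by rw [one_pow, hl, mul_inv_cancel]⟩
  · have hne : f x ≠ i + 1 := fun h => hx (hinj _ _ (h.trans hx₀.symm))
    obtain ⟨d, hd⟩ := exists_root hne (hpA x) (hrA x)
    obtain ⟨d', hd'⟩ := exists_root hne (hpB x) (hrB x)
    exact ⟨d' * (d ^ l)⁻¹, by rw [mul_pow, inv_pow, ← pow_mul, mul_comm l, pow_mul, hd, hd']⟩

/-- A characteristic subgroup extends by a cyclic step to a larger one. -/
theorem exists_char_step {A : Type v} [CommGroup A] [Finite A] {p : ℕ} [Fact p.Prime] (hA : IsPGroup p A)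
    (hno : ¬ ∃ (n : ℕ) (H : Type) (_ : CommGroup H), 0 < n ∧
      Nonempty (A ≃* (Multiplicative (ZMod (p ^ n)) × Multiplicative (ZMod (p ^ n))) × H))
    {D : Subgroup A} (hD : ∀ φ : MulAut A, ∀ z ∈ D, φ z ∈ D) (hne : D ≠ ⊤) :
    ∃ x, x ∉ D ∧ ∀ φ : MulAut A, ∀ z ∈ D ⊔ Subgroup.zpowers x, φ z ∈ D ⊔ Subgroup.zpowers x := by
  classical
  obtain ⟨N, hN⟩ := IsPGroup.iff_card.mp hA
  have hexp : ∀ x : A, x ^ (p ^ N) = 1 := fun x => hN ▸ pow_card_eq_one'
  have hexm : ∃ m, ∃ x : A, x ^ (p ^ (m + 1)) = 1 ∧ x ∉ D := by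
    obtain ⟨x, hx⟩ : ∃ x, x ∉ D := by
      by_contra h
      push Not at h
      exact hne (eq_top_iff.mpr fun x _ => h x)
    exact ⟨N, x, by rw [pow_succ, pow_mul, hexp, one_pow], hx⟩
  set m := Nat.find hexm
  obtain ⟨hmx⟩ : Nonempty {x : A // x ^ (p ^ (m + 1)) = 1 ∧ x ∉ D} :=
    let ⟨x, hx⟩ := Nat.find_spec hexm; ⟨⟨x, hx⟩⟩
  have hlow : ∀ x : A, x ^ (p ^ m) = 1 → x ∈ D := fun x hx => by
    rcases Nat.eq_zero_or_pos m with h | h
    · rw [h, pow_zero, pow_one] at hx
      exact hx ▸ D.one_mem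
    · by_contra hxD
      exact Nat.find_min hexm (show m - 1 < m by omega) ⟨x, by rwa [Nat.sub_add_cancel h], hxD⟩
  let L : ℕ → Subgroup A := fun i => (powMonoidHom (p ^ (m + 1))).ker ⊓
    (powMonoidHom (α := A) (p ^ i)).range.comap (powMonoidHom (p ^ m))
  have hLmem : ∀ i x, x ∈ L i ↔ x ^ (p ^ (m + 1)) = 1 ∧ ∃ c, c ^ (p ^ i) = x ^ (p ^ m) := fun i x => Iff.rfl
  have htop : ∃ i, L (i + 1) ≤ D := ⟨N, fun x hx => by
    obtain ⟨-, c, hc⟩ := (hLmem _ _).mp hx
    exact hlow x (by rw [← hc, pow_succ, pow_mul, hexp, one_pow])⟩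
  set i := Nat.find htop
  have hnot : ¬ L i ≤ D := by
    rcases Nat.eq_zero_or_pos i with h | h
    · rw [h]
      exact fun hle => hmx.2.2 (hle ((hLmem _ _).mpr ⟨hmx.2.1, hmx.1 ^ (p ^ m), by simp⟩))
    · have := Nat.find_min htop (show i - 1 < i by omega)
      rwa [Nat.sub_add_cancel h] at this
  obtain ⟨x, hxL, hxD⟩ := SetLike.not_le_iff_exists.mp hnot
  refine ⟨x, hxD, fun φ => ?_⟩
  obtain ⟨hx1, hx2⟩ := (hLmem _ _).mp hxL
  have hLe : L i ≤ D ⊔ Subgroup.zpowers x := fun y hy => by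
    obtain ⟨hy1, hy2⟩ := (hLmem _ _).mp hy
    obtain ⟨l, hl⟩ := layer_cyclic hA hno i (by rw [← pow_mul, ← pow_succ, hx1]) hx2
      (fun h => hxD (Nat.find_spec htop ((hLmem _ _).mpr ⟨hx1, h⟩)))
      (by rw [← pow_mul, ← pow_succ, hy1]) hy2
    have hmem : y * (x ^ l)⁻¹ ∈ L (i + 1) := by
      refine (hLmem _ _).mpr ⟨?_, ?_⟩
      · rw [mul_pow, inv_pow, ← pow_mul, mul_comm l, pow_mul, hx1, hy1, one_pow, inv_one, mul_one]
      · rw [mul_pow, inv_pow, ← pow_mul x l, mul_comm l, pow_mul]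
        exact hl
    have := mul_mem (Subgroup.mem_sup_left (T := Subgroup.zpowers x) (Nat.find_spec htop hmem))
      (Subgroup.mem_sup_right (Subgroup.pow_mem _ (Subgroup.mem_zpowers x) l))
    rwa [inv_mul_cancel_right] at this
  suffices hle : (D ⊔ Subgroup.zpowers x).map φ.toMonoidHom ≤ D ⊔ Subgroup.zpowers x from
    fun z hz => hle ⟨z, hz, rfl⟩
  rw [Subgroup.map_sup, MonoidHom.map_zpowers]
  refine sup_le ?_ (Subgroup.zpowers_le.mpr (hLe ((hLmem _ _).mpr ⟨?_, ?_⟩)))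
  · rintro _ ⟨z, hz, rfl⟩
    exact Subgroup.mem_sup_left (hD φ z hz)
  · show (φ x) ^ _ = 1
    rw [← map_pow, hx1, map_one]
  · obtain ⟨c, hc⟩ := hx2
    exact ⟨φ c, by show φ c ^ _ = φ x ^ _; rw [← map_pow, ← map_pow, hc]⟩

/-- A square of a group has a bad group of automorphisms of order prime to `p`. -/
theorem exists_bad_autos_square {p : ℕ} [Fact p.Prime] {C : Type*} [CommGroup C] (g : C) (hg1 : g ≠ 1)
    (hodd : p ≠ 2 → g ^ 2 ≠ 1) [Finite C] :
    ∃ K : Subgroup (MulAut (C × C)),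
      (Nat.card K).Coprime p ∧ ¬ ((∀ a ∈ K, ∀ b ∈ K, a * b = b * a) ∧ ∀ h ∈ K, h ^ (p - 1) = 1) := by
  have hp := (Fact.out : p.Prime)
  haveI : Finite (MulAut (C × C)) := Finite.of_injective (fun f : MulAut (C × C) => (f : C × C → C × C)) DFunLike.coe_injective
  by_cases hp2 : p = 2
  · let σ : MulAut (C × C) :=
      { toFun := fun q => (q.2⁻¹, q.1 * q.2⁻¹)
        invFun := fun q => (q.2 * q.1⁻¹, q.1⁻¹)
        left_inv := fun q => by ext <;> simp
        right_inv := fun q => by ext <;> simp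
        map_mul' := fun q r => by ext <;> simp [mul_comm, mul_left_comm, mul_assoc] }
    have hσ3 : σ ^ 3 = 1 := by
      refine MulEquiv.ext fun q => ?_
      show σ (σ (σ q)) = q
      simp [σ, mul_comm]
    have hσ1 : σ ≠ 1 := fun h => hg1 (by
      have := congrArg Prod.snd (DFunLike.congr_fun h ((g, 1) : C × C))
      simpa [σ] using this)
    haveI : Fact (Nat.Prime 3) := ⟨Nat.prime_three⟩
    refine ⟨Subgroup.zpowers σ, ?_, fun h => hσ1 ?_⟩
    · rw [Nat.card_zpowers, orderOf_eq_prime hσ3 hσ1, hp2]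
      decide
    · have := h.2 σ (Subgroup.mem_zpowers σ)
      rwa [show p - 1 = 1 by omega, pow_one] at this
  · let a : MulAut (C × C) := MulEquiv.prodComm
    let b : MulAut (C × C) := MulEquiv.prodCongr (MulEquiv.inv C) (MulEquiv.refl C)
    have ha : ∀ q, a q = (q.2, q.1) := fun q => rfl
    have hb : ∀ q, b q = (q.1⁻¹, q.2) := fun q => rfl
    have haa : a * a = 1 := MulEquiv.ext fun q => rfl
    have hbb : b * b = 1 := MulEquiv.ext fun q => by
      show b (b q) = q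
      simp [hb]
    have hai : a⁻¹ = a := inv_eq_of_mul_eq_one_right haa
    have hbi : b⁻¹ = b := inv_eq_of_mul_eq_one_right hbb
    have hr4 : (a * b) ^ 4 = 1 := MulEquiv.ext fun q => by
      show a (b (a (b (a (b (a (b q))))))) = q
      simp [ha, hb]
    have hnorm : Subgroup.zpowers a ≤ Subgroup.normalizer (Subgroup.zpowers (a * b) : Set (MulAut (C × C))) := by
      refine Subgroup.zpowers_le.mpr (Subgroup.mem_normalizer_fintype fun x hx => ?_)
      obtain ⟨z, rfl⟩ := Subgroup.mem_zpowers_iff.mp hx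
      have he : a * (a * b) * a⁻¹ = (a * b)⁻¹ := by
        rw [← mul_assoc, haa, one_mul, mul_inv_rev, hai, hbi]
      rw [← conj_zpow, he]
      exact Subgroup.zpow_mem _ (InvMemClass.inv_mem (Subgroup.mem_zpowers _)) z
    have h2 : ∀ x : MulAut (C × C), (∃ k, x ^ (2 ^ k) = 1) → IsPGroup 2 (Subgroup.zpowers x) := by
      rintro x ⟨k, hk⟩
      haveI : Fact (Nat.Prime 2) := ⟨Nat.prime_two⟩
      obtain ⟨j, -, hj⟩ := (Nat.dvd_prime_pow Nat.prime_two).mp (orderOf_dvd_of_pow_eq_one hk)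
      exact IsPGroup.of_card (by rw [Nat.card_zpowers, hj])
    have hK : IsPGroup 2 (Subgroup.zpowers (a * b) ⊔ Subgroup.zpowers a : Subgroup (MulAut (C × C))) :=
      IsPGroup.to_sup_of_normal_left' (h2 _ ⟨2, hr4⟩) (h2 _ ⟨1, by rw [pow_one, sq, haa]⟩) hnorm
    refine ⟨Subgroup.zpowers (a * b) ⊔ Subgroup.zpowers a, ?_, fun h => ?_⟩
    · haveI : Fact (Nat.Prime 2) := ⟨Nat.prime_two⟩
      obtain ⟨k, hk⟩ := IsPGroup.iff_card.mp hK
      rw [hk]
      exact ((Nat.coprime_primes Nat.prime_two hp).mpr (Ne.symm hp2)).pow_left k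
    · have ham : a ∈ Subgroup.zpowers (a * b) ⊔ Subgroup.zpowers a := Subgroup.mem_sup_right (Subgroup.mem_zpowers a)
      have hab : a * b ∈ Subgroup.zpowers (a * b) ⊔ Subgroup.zpowers a :=
        Subgroup.mem_sup_left (Subgroup.mem_zpowers _)
      have h3 := congrArg Prod.fst (DFunLike.congr_fun (h.1 a ham (a * b) hab) ((g, 1) : C × C))
      have h4 : g ^ 2 = 1 := by
        simp only [MulAut.mul_apply, ha, hb] at h3
        rw [sq]
        first | exact mul_eq_one_iff_eq_inv.mpr (by simpa using h3.symm) | exact mul_eq_one_iff_eq_inv.mpr (by simpa using h3)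
      exact hodd hp2 h4

/-- Two equal invariants give a bad group of automorphisms of order prime to `p`. -/
theorem exists_bad_autos {p n : ℕ} [Fact p.Prime] (hn : 0 < n) :
    ∃ K : Subgroup (MulAut (Multiplicative (ZMod (p ^ n)) × Multiplicative (ZMod (p ^ n)))),
      (Nat.card K).Coprime p ∧ ¬ ((∀ a ∈ K, ∀ b ∈ K, a * b = b * a) ∧ ∀ h ∈ K, h ^ (p - 1) = 1) := by
  have hp := (Fact.out : p.Prime)
  haveI : NeZero (p ^ n) := ⟨pow_ne_zero _ hp.ne_zero⟩
  have hgo : orderOf (Multiplicative.ofAdd (1 : ZMod (p ^ n))) = p ^ n := by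
    rw [orderOf_ofAdd_eq_addOrderOf, ZMod.addOrderOf_one]
  refine exists_bad_autos_square (Multiplicative.ofAdd (1 : ZMod (p ^ n))) (fun h => ?_) fun hp2 h4 => ?_
  · rw [h, orderOf_one] at hgo
    exact absurd hgo.symm (one_lt_pow₀ hp.one_lt hn.ne').ne'
  · have h5 := orderOf_dvd_of_pow_eq_one h4
    rw [hgo] at h5
    exact hp2 ((Nat.prime_dvd_prime_iff_eq hp Nat.prime_two).mp ((dvd_pow_self p hn.ne').trans h5))

end CfsgLib.DistinctInvariants

namespace Cfsg

namespace FusionSystem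

variable {Ω : Type u} [Group Ω] {S : Subgroup Ω} [Finite S] {F : FusionSystem S} {p : ℕ} [Fact p.Prime]

theorem isNormal_self_of_commutative (hab : ∀ x ∈ S, ∀ y ∈ S, x * y = y * x) (hS : IsPGroup p S)
    (hF : F.IsSaturated p) : F.IsNormal S :=
  hF.isNormal_of_invariant hS fun P hP => by
    rcases hP with rfl | hP
    · refine ⟨le_rfl, fun α _ => ?_⟩
      rw [Subgroup.subgroupOf_self]
      exact Subgroup.map_top_of_surjective _ α.surjective
    · exact absurd (fun s hs => hP.1.centralizerIn_le_self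
        ⟨hs, Subgroup.mem_centralizer_iff.mpr fun x hx => hab x (hP.1.1 hx) s hs⟩) (hP.lt hS hF).not_ge

theorem stronglyClosed_of_aut_invariant (hN : F.IsNormal S) {D : Subgroup Ω} (hDS : D ≤ S)
    (hD : ∀ φ : MulAut S, ∀ z : S, (z : Ω) ∈ D → ((φ z : S) : Ω) ∈ D) : F.StronglyClosed D := by
  refine ⟨hDS, fun R hR φ hφ z => ?_⟩
  obtain ⟨ψ, hψ, he, -⟩ := hN.2 R φ hφ
  have hsup : R ⊔ S = S := sup_eq_right.mpr (hR.trans hDS)
  have hres := F.restrict_mem hψ hsup.ge
  have hr : (ψ.comp (Subgroup.inclusion hsup.ge)).range = S :=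
    Subgroup.eq_of_le_of_card_ge (F.range_le hres)
      (Nat.card_congr (MonoidHom.ofInjective (F.injective_of_mem hres)).toEquiv).le
  have h2 : ((F.isoOf hres hr ⟨z, hDS (hR z.2)⟩ : S) : Ω) = φ z := (congrArg ψ (Subtype.ext rfl)).trans (he z)
  rw [← h2]
  exact hD _ _ (hR z.2)

theorem supersoluble_of_distinct (hS : IsPGroup p S) (hab : IsMulCommutative S) (hF : F.IsSaturated p)
    (hno : ¬ ∃ (n : ℕ) (H : Type) (_ : CommGroup H), 0 < n ∧
      Nonempty (S ≃* (Multiplicative (ZMod (p ^ n)) × Multiplicative (ZMod (p ^ n))) × H)) :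
    F.IsSupersoluble := by
  classical
  let _ : CommGroup S := { (inferInstance : Group S) with mul_comm := fun a b => hab.is_comm.comm a b }
  have hN : F.IsNormal S := isNormal_self_of_commutative (fun x hx y hy => congrArg Subtype.val
    (hab.is_comm.comm ⟨x, hx⟩ ⟨y, hy⟩)) hS hF
  let T := {D : Subgroup S // ∀ φ : MulAut S, ∀ z ∈ D, φ z ∈ D}
  have hnext : ∀ D : T, D.1 ≠ ⊤ → ∃ D' : T, D.1 < D'.1 ∧ ∃ x : S, D'.1 = D.1 ⊔ Subgroup.zpowers x := fun D hD => by
    obtain ⟨x, hx, hxi⟩ := CfsgLib.DistinctInvariants.exists_char_step hS hno D.2 hD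
    exact ⟨⟨_, hxi⟩, left_lt_sup.mpr fun hle => hx (hle (Subgroup.mem_zpowers x)), x, rfl⟩
  let next := fun D : T => if hD : D.1 = ⊤ then D else (hnext D hD).choose
  let Q := fun i : ℕ => next^[i] ⟨⊥, fun φ z hz => by rw [Subgroup.mem_bot.mp hz, map_one]; exact one_mem _⟩
  have hQs : ∀ i, Q (i + 1) = next (Q i) := fun i => Function.iterate_succ_apply' next i _
  have hstep : ∀ D : T, D.1 ≤ (next D).1 ∧ ∃ x : S, (next D).1 = D.1 ⊔ Subgroup.zpowers x := fun D => by
    by_cases hD : D.1 = ⊤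
    · rw [show next D = D by simp [next, hD]]
      exact ⟨le_rfl, 1, by simp⟩
    · rw [show next D = (hnext D hD).choose by simp [next, hD]]
      exact ⟨(hnext D hD).choose_spec.1.le, (hnext D hD).choose_spec.2⟩
  have hgrow : ∀ i, (Q i).1 = ⊤ ∨ i < Nat.card (Q i).1 := by
    intro i
    induction i with
    | zero => exact Or.inr Nat.card_pos
    | succ i ih =>
      rw [hQs]
      by_cases hD : (Q i).1 = ⊤
      · left; simp [next, hD]
      · right
        have hi := ih.resolve_left hD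
        rw [show next (Q i) = (hnext (Q i) hD).choose by simp [next, hD]]
        have := card_lt_of_lt (hnext (Q i) hD).choose_spec.1
        omega
  have hlast : (Q (Nat.card S)).1 = ⊤ := (hgrow _).resolve_right fun hlt => by
    have := Subgroup.card_le_card_group (Q (Nat.card S)).1
    omega
  refine ⟨Nat.card S, fun i => (Q i).1.map S.subtype, ?_, ?_, fun i => ?_, fun i => ?_⟩
  · exact Subgroup.map_bot _
  · show (Q (Nat.card S)).1.map S.subtype = S
    rw [hlast, ← MonoidHom.range_eq_map, Subgroup.range_subtype]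
  · refine stronglyClosed_of_aut_invariant hN (Subgroup.map_subtype_le _) fun φ z hz => ?_
    rw [← Subgroup.coe_subtype, Subgroup.mem_map_iff_mem S.subtype_injective] at hz ⊢
    exact (Q i).2 φ z hz
  · show (Q i).1.map S.subtype ≤ (Q (i + 1)).1.map S.subtype ∧ _
    rw [hQs]
    obtain ⟨hle, x, hx⟩ := hstep (Q i)
    refine ⟨Subgroup.map_mono hle, x, x.2, ?_⟩
    show (Q (i + 1)).1.map S.subtype = _
    rw [hQs, hx, Subgroup.map_sup, MonoidHom.map_zpowers]
    rfl

theorem not_repeated_of_supersoluble (hS : IsPGroup p S)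
    (hall : ∀ F : FusionSystem S, F.IsSaturated p → F.IsSupersoluble) :
    ¬ ∃ (n : ℕ) (H : Type) (_ : CommGroup H), 0 < n ∧
      Nonempty (S ≃* (Multiplicative (ZMod (p ^ n)) × Multiplicative (ZMod (p ^ n))) × H) := by
  rintro ⟨n, H, _, hn, ⟨e⟩⟩
  obtain ⟨K, hKp, hKbad⟩ := CfsgLib.DistinctInvariants.exists_bad_autos (p := p) hn
  let Φ : MulAut (Multiplicative (ZMod (p ^ n)) × Multiplicative (ZMod (p ^ n))) →* MulAut S :=
    { toFun := fun σ => e.trans ((MulEquiv.prodCongr σ (MulEquiv.refl H)).trans e.symm)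
      map_one' := MulEquiv.ext fun s => e.symm_apply_apply s
      map_mul' := fun σ τ => MulEquiv.ext fun s => e.injective (by simp [MulAut.mul_apply]; rfl) }
  have hΦ : Function.Injective Φ := fun σ τ h => MulEquiv.ext fun q => by
    have := congrArg e (DFunLike.congr_fun h (e.symm (q, 1)))
    simp [Φ] at this
    exact congrArg Prod.fst this
  have hc : (Nat.card (K.map Φ)).Coprime p := by rwa [Subgroup.card_map_of_injective hΦ]
  obtain ⟨F, hF, hle⟩ := exists_saturated_containing hS _ hc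
  obtain ⟨h1, h2⟩ := pPrime_autos_of_supersoluble (hall F hF) hS hF hc hle
  refine hKbad ⟨fun x hx y hy => hΦ ?_, fun x hx => hΦ ?_⟩
  · rw [map_mul, map_mul]
    exact congrArg Subtype.val (h1.is_comm.comm ⟨_, Subgroup.mem_map_of_mem Φ hx⟩ ⟨_, Subgroup.mem_map_of_mem Φ hy⟩)
  · rw [map_pow, map_one]
    exact h2 _ (Subgroup.mem_map_of_mem Φ hx)

end FusionSystem

end Cfsg
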