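import Cfsg.Agent.Lib.Fusion.Criterion
import Cfsg.Agent.Lib.ZJ.Axiomatic

/-!
The Glauberman–Thompson criterion for a family of abelian subgroups with replacement.
-/

set_option autoImplicit false
set_option linter.unusedSectionVars false

universe u

namespace Cfsg.FusionSystem

open CfsgLib.ZJ

variable {Ω : Type u} [Group Ω] {S : Subgroup Ω} {F : FusionSystem S} {p : ℕ}

/-- Invariance of the intersections of members. -/
def FamilyInvariant (F : FusionSystem S) (𝒜 : Set (Subgroup Ω)) : Prop :=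
  ∀ Q : Subgroup Ω, Q ≤ S → (∃ A ∈ 𝒜, A ≤ Q) → ∀ α ∈ F.autGroup Q, ∀ x : ↥Q,
    (x : Ω) ∈ interAbove 𝒜 Q → (((α : MulAut ↥Q) x : ↥Q) : Ω) ∈ interAbove 𝒜 Q

theorem FamilyInvariant.mono {E : FusionSystem S} {𝒜 : Set (Subgroup Ω)} (h : F.FamilyInvariant 𝒜)
    (hE : E.IsSubsystemOf F) : E.FamilyInvariant 𝒜 := by
  intro Q hQ hA α hα
  refine h Q hQ hA α ?_
  obtain ⟨φ, hφ, -, he⟩ := E.exists_map_of_mem_autGroup hQ hα
  exact F.mem_autGroup_of_map (hE Q hφ) fun x => (he x).symm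

theorem interAbove_subgroupOf {𝒜 : Set (Subgroup Ω)} (hA : ∀ A ∈ 𝒜, A ≤ S) (X : Subgroup S) (y : S) :
    y ∈ interAbove ((fun A => A.subgroupOf S) '' 𝒜) X ↔ (y : Ω) ∈ interAbove 𝒜 (X.map S.subtype) := by
  constructor
  · intro h
    refine mem_interAbove.mpr fun A hA' hle => ?_
    refine mem_interAbove.mp h _ ⟨A, hA', rfl⟩ fun z hz => ?_
    obtain ⟨w, hw, e⟩ := hle hz
    exact Subtype.ext e ▸ hw
  · intro h
    refine mem_interAbove.mpr ?_
    rintro _ ⟨A, hA', rfl⟩ hle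
    exact mem_interAbove.mp h A hA' fun z hz => ⟨⟨z, hA A hA' hz⟩, hle hz, rfl⟩

theorem replaceable_subgroupOf {𝒜 : Set (Subgroup Ω)} {D : Subgroup Ω} (hrep : Replaceable S D 𝒜) :
    Replaceable (⊤ : Subgroup S) (D.subgroupOf S) ((fun A => A.subgroupOf S) '' 𝒜) := by
  rintro B hBD hBn hcl ⟨_, ⟨A, hA, rfl⟩, hBA, hnA⟩
  have hcm : (⁅B, B⁆ : Subgroup S).map S.subtype = ⁅B.map S.subtype, B.map S.subtype⁆ :=
    Subgroup.map_commutator _ _ _
  have hnorm : S ≤ Subgroup.normalizer (B.map S.subtype : Set Ω) := by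
    intro g hg
    refine Subgroup.mem_normalizer_iff.mpr fun y => ?_
    have hn : ∀ (s : S) (b : S), b ∈ B → s * b * s⁻¹ ∈ B := fun s b hb =>
      (Subgroup.mem_normalizer_iff.mp (hBn (Subgroup.mem_top s)) b).mp hb
    constructor
    · rintro ⟨b, hb, rfl⟩
      exact ⟨_, hn ⟨g, hg⟩ b hb, rfl⟩
    · rintro ⟨b, hb, e⟩
      refine ⟨_, hn ⟨g, hg⟩⁻¹ b hb, ?_⟩
      have e' : (b : Ω) = g * y * g⁻¹ := e
      simp [e', mul_assoc]
  obtain ⟨A', hA', h1, h2, h3⟩ := hrep (B.map S.subtype) (Subgroup.map_le_iff_le_comap.mpr hBD) hnorm (by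
    rw [← hcm, ← Subgroup.map_commutator, hcl, Subgroup.map_bot]) ⟨A, hA, by
    rw [← hcm, Subgroup.map_le_iff_le_comap]
    exact hBA, fun h => hnA (Subgroup.map_le_iff_le_comap.mp h)⟩
  refine ⟨_, ⟨A', hA', rfl⟩, ?_, fun h => h2 (Subgroup.map_le_iff_le_comap.mpr h), ?_⟩
  · rw [← hcm, Subgroup.map_le_iff_le_comap] at h1
    exact h1
  · intro b hb
    refine Subgroup.mem_normalizer_iff.mpr fun y => ?_
    exact Subgroup.mem_normalizer_iff.mp (h3 ⟨b, hb, rfl⟩) (y : Ω)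

variable [Finite S] [Fact p.Prime]

theorem IsConstrained.isInner_of_family (hF : F.IsConstrained p) (hS : IsPGroup p S) (hp : p ≠ 2)
    {𝒜 : Set (Subgroup Ω)} (hab : ∀ A ∈ 𝒜, A ≤ S ∧ IsMulCommutative A) (hne : 𝒜.Nonempty)
    (hinv : F.FamilyInvariant 𝒜) {D : Subgroup Ω} (hD : F.StronglyClosed D) (hZD : interAbove 𝒜 S ≤ D)
    (hrep : Replaceable S D 𝒜) (h : F.NormalizerInner (interAbove 𝒜 S)) :
    F.IsInner := by
  obtain ⟨L, _, ι, hL⟩ := (hF.setup_core hS).exists_isModel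
  haveI := hL.1
  obtain ⟨T, hT⟩ := hL.2.2.1
  have hinj := hL.2.1.1
  set ℬ : Set (Subgroup S) := (fun A => A.subgroupOf S) '' 𝒜 with hℬ
  set Z := interAbove 𝒜 S with hZ
  have hZS : Z ≤ S := interAbove_le (fun A hA => (hab A hA).1) hne
  have hZmap : interAbove ℬ (⊤ : Subgroup S) = Z.subgroupOf S := by
    ext y
    rw [interAbove_subgroupOf (fun A hA => (hab A hA).1), ← MonoidHom.range_eq_map, Subgroup.range_subtype]
    rfl
  have hEmb : EmbInvariant ι ℬ := by
    intro X hXne g hg x hx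
    obtain ⟨_, ⟨A, hA, rfl⟩, hAX⟩ := hXne
    set R := X.map S.subtype with hR
    have hRS : R ≤ S := Subgroup.map_subtype_le X
    have hRof : R.subgroupOf S = X := Subgroup.comap_map_eq_self_of_injective S.subtype_injective X
    obtain ⟨ψ, hψ, hψι, hψR⟩ := hL.exists_map hRS (l := g) (by rwa [hRof])
    have hr : (ψ.comp (Subgroup.inclusion le_sup_right)).range = R := by
      rw [range_eq_map_of_le]
      exact hψR
    have hxR : (x : Ω) ∈ R := by
      have hxA : x ∈ A.subgroupOf S := mem_interAbove.mp hx _ ⟨A, hA, rfl⟩ hAX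
      exact Subgroup.mem_map_of_mem _ (hAX hxA)
    have h1 := hinv R hRS ⟨A, hA, fun z hz => ⟨⟨z, (hab A hA).1 hz⟩, hAX hz, rfl⟩⟩ _
      (F.isoOf_mem_autGroup (F.restrict_mem hψ le_sup_right) hr) ⟨x, hxR⟩
      ((interAbove_subgroupOf (fun A hA => (hab A hA).1) X x).mp hx)
    rw [coe_isoOf] at h1
    refine ⟨⟨ψ ⟨x, Subgroup.mem_sup_right hxR⟩, F.apply_mem hψ _⟩,
      (interAbove_subgroupOf (fun A hA => (hab A hA).1) X _).mpr h1, ?_⟩
    exact hψι _ _ x.2
  have hN : Subgroup.normalizer ((interAbove ℬ (⊤ : Subgroup S)).map ι : Set L) ≤ ι.range := by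
    intro l hl
    rw [hZmap] at hl
    set X : Subgroup Ω := ((pCore p L).comap ι).map S.subtype with hX
    obtain ⟨ψ, hψ, hψι, hψZ⟩ := hL.exists_map hZS hl
    have hXS : X ≤ S := Subgroup.map_subtype_le _
    have hNS : ∀ x : Ω, x ∈ S → x ∈ normalizerIn S Z := fun x hx => by
      refine ⟨hx, Subgroup.mem_normalizer_iff.mpr fun y => ?_⟩
      have hA0 : ∃ A ∈ 𝒜, A ≤ S := ⟨hne.some, hne.some_mem, (hab _ hne.some_mem).1⟩
      have hc : ∀ s ∈ S, ∀ w ∈ Z, s * w * s⁻¹ ∈ Z := fun s hs w hw =>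
        hinv S le_rfl hA0 _ (autInducedBy_le_autGroup le_rfl
          (mem_autInducedBy_iff (α := S.normalizerMonoidHom ⟨s, Subgroup.le_normalizer hs⟩) |>.mpr
            ⟨s, hs, Subgroup.le_normalizer hs, fun _ => rfl⟩)) ⟨w, hZS hw⟩ hw
      refine ⟨hc x hx y, fun hy => ?_⟩
      have := hc _ (S.inv_mem hx) _ hy
      simpa [mul_assoc] using this
    obtain ⟨g, hg, hge⟩ := h X _ ⟨F.restrict_mem hψ le_sup_left, fun x hx => hNS x (hXS hx),
      fun x => hNS _ (F.apply_mem hψ _), ψ, hψ, fun x => rfl, hψZ⟩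
    refine hL.mem_range_of_conj hg.1 fun s hs => ?_
    have hsX : (s : Ω) ∈ X := ⟨s, hs, rfl⟩
    rw [← hψι ⟨s, Subgroup.mem_sup_left hsX⟩ (F.apply_mem hψ _) s.2]
    exact congrArg ι (Subtype.ext (hge ⟨s, hsX⟩).symm)
  have hab' : ∀ A ∈ ℬ, IsMulCommutative A := by
    rintro _ ⟨A, hA, rfl⟩
    haveI := (hab A hA).2
    exact ⟨⟨fun a b => Subtype.ext (Subtype.ext (congrArg Subtype.val
      (mul_comm' (⟨((a : S) : Ω), a.2⟩ : A) ⟨((b : S) : Ω), b.2⟩) :))⟩⟩
  have hcl : EmbClosed ι (D.subgroupOf S) := by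
    intro d hd g w hw
    obtain ⟨φ, hφ, hφe⟩ : ∃ φ ∈ F.Hom (Subgroup.zpowers (d : Ω)), φ ⟨d, Subgroup.mem_zpowers _⟩ = (w : Ω) := by
      have hle : Subgroup.zpowers (d : Ω) ≤ S := Subgroup.zpowers_le.mpr d.2
      have hr : ∀ x : ↥(Subgroup.zpowers (d : Ω)), g * ι ⟨x, hle x.2⟩ * g⁻¹ ∈ ι.range := by
        rintro ⟨x, k, rfl⟩
        refine ⟨w ^ k, ?_⟩
        rw [map_zpow, ← hw, conj_zpow, ← map_zpow]
        rfl
      let φ : ↥(Subgroup.zpowers (d : Ω)) →* Ω := S.subtype.comp ((MonoidHom.ofInjective hinj).symm.toMonoidHom.comp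
        (((MulAut.conj g).toMonoidHom.comp (ι.comp (Subgroup.inclusion hle))).codRestrict ι.range hr))
      have hφι : ∀ x, ι ⟨φ x, SetLike.coe_mem _⟩ = g * ι ⟨x, hle x.2⟩ * g⁻¹ := fun x =>
        congrArg Subtype.val ((MonoidHom.ofInjective hinj).apply_symm_apply ⟨_, hr x⟩)
      refine ⟨φ, (hL.2.1.2 _ hle φ fun x => SetLike.coe_mem _).mpr ⟨g, hφι⟩, ?_⟩
      exact congrArg (fun z : S => (z : Ω)) (hinj ((hφι ⟨d, Subgroup.mem_zpowers _⟩).trans hw))
    show (w : Ω) ∈ D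
    exact hφe ▸ hD.apply_mem_of_mem hφ (x := ⟨d, Subgroup.mem_zpowers _⟩) hd
  have hZD' : interAbove ℬ (⊤ : Subgroup S) ≤ D.subgroupOf S := hZmap ▸ fun x hx => hZD hx
  have htop := eq_top_of_family hp hab' (hne.image _) hZD' (replaceable_subgroupOf hrep) _ rfl ι T hinj hT
    hL.2.2.2 hEmb hcl hN
  intro R φ hφ
  have hRS := F.source_le hφ
  obtain ⟨l, hl⟩ := (hL.2.1.2 R hRS φ (F.apply_mem hφ)).mp hφ
  obtain ⟨s, rfl⟩ : l ∈ ι.range := htop ▸ Subgroup.mem_top l
  refine ⟨hRS, s, s.2, fun x => ?_⟩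
  have h1 := hl x
  rw [← map_inv, ← map_mul, ← map_mul] at h1
  exact congrArg (fun z : S => (z : Ω)) (hinj h1)

/-- **The criterion.** -/
theorem IsSaturated.isInner_of_family (hF : F.IsSaturated p) (hS : IsPGroup p S) (hp : p ≠ 2)
    {𝒜 : Set (Subgroup Ω)} (hab : ∀ A ∈ 𝒜, A ≤ S ∧ IsMulCommutative A) (hne : 𝒜.Nonempty)
    (hinv : F.FamilyInvariant 𝒜) {D : Subgroup Ω} (hD : F.StronglyClosed D) (hZD : interAbove 𝒜 S ≤ D)
    (hrep : Replaceable S D 𝒜) (h : F.NormalizerInner (interAbove 𝒜 S)) :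
    F.IsInner := by
  induction hm : F.count using Nat.strong_induction_on generalizing F with
  | h m ih =>
    have hsub : ∀ T : Subgroup Ω, T = S → ∀ E : FusionSystem T, E.IsSaturated p → E.IsSubsystemOf F →
        ¬ (∀ P, F.Hom P ⊆ E.Hom P) → E.IsInner := by
      rintro T rfl E hE hEF hne'
      exact ih _ (hm ▸ count_lt hEF hne') hE (hinv.mono hEF) ⟨hD.1, fun R hR φ hφ => hD.2 R hR φ (hEF R hφ)⟩
        (h.mono hEF) rfl
    have hfree : F.Free p := Or.inl hp
    by_cases hc : F.IsCentric F.core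
    · exact IsConstrained.isInner_of_family ⟨hF, F.core, isNormal_core F, hc⟩ hS hp hab hne hinv hD hZD hrep h
    by_cases hb : F.core = ⊥
    swap
    · refine hF.isInner_of_noncentric_core hS hc hsub fun Ω' _ θ E hE hker hEm => ?_
      haveI : Finite θ.range := Finite.of_surjective θ.rangeRestrict θ.rangeRestrict_surjective
      have hpr : IsPGroup p θ.range := hS.of_surjective θ.rangeRestrict θ.rangeRestrict_surjective
      exact hE.isInner_of_thompson hpr (hfree.factor hker hEm)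
        (ThompsonInner.of_normalizerInner hpr fun V hV hVne hVn =>
          hF.normalizerInner_quotient hS rfl hsub θ E hker hEm hV (Subgroup.le_normalizer.trans hVn) hVne)
    refine hF.isInner_of_local hS ?_
    suffices key : ∀ k, ∀ X, F.IsFullyNormalized X → X ≠ ⊥ → Nat.card S - Nat.card (normalizerIn S X) = k →
        F.NormalizerInner X from fun X hX hXb => key _ X hX hXb rfl
    intro k
    induction k using Nat.strong_induction_on with
    | h k ihk =>
      intro X hfn hXb hk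
      have hXS := hfn.1
      have hXn : ¬ F.IsNormal X := fun h => hXb (le_bot_iff.mp (hb ▸ h.le_core))
      have hNE := F.normalizerSystem_isNormalizerSystem X hXS
      refine hNE.normalizerInner ?_
      have hEsat := hF.isSaturated_normalizerSystem hS hfn hNE
      haveI : Finite (normalizerIn S X) := finite_of_le normalizerIn_le
      have hTp : IsPGroup p (normalizerIn S X) := hS.to_le normalizerIn_le
      by_cases hTe : normalizerIn S X = S
      · exact hsub _ hTe _ hEsat hNE.subsystem (hNE.proper hXS hXn)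
      refine hEsat.isInner_of_thompson hTp (hfree.mono hNE.subsystem)
        (ThompsonInner.of_normalizerInner hTp fun V hVT hVne hTV =>
          hF.normalizerInner_local hS hfn hTe hVT hVne hTV fun Y hY hYne hlt => ?_)
      have := Nat.card_le_card_of_injective _ (Subgroup.inclusion_injective (normalizerIn_le (S := S) (P := Y)))
      exact ihk _ (by omega) Y hY hYne rfl

end Cfsg.FusionSystem
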