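import Cfsg.Agent.Lib.Fusion.PPowerIndex
import Cfsg.Agent.Lib.Fusion.Transport
import Cfsg.Agent.Lib.Fusion.Hyperfocal
import Cfsg.Agent.Lib.Fusion.Induction
import Cfsg.Agent.Lib.Fusion.Quotient
import Cfsg.Agent.Lib.PResidual

/-!
Saturated subsystems of `p`-power index over normal subgroups are normal.
-/

set_option autoImplicit false
set_option linter.unusedSectionVars false

universe u

namespace Cfsg

namespace FusionSystem

variable {Ω : Type u} [Group Ω] {S T : Subgroup Ω} [Finite S] {F : FusionSystem S} {p : ℕ} [Fact p.Prime]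
  {E : FusionSystem T}

/-- A saturated `p`-power-index subsystem is invariant under `Aut_F(T)`. -/
theorem IsSaturated.exists_conj_map (hE : E.IsSaturated p) (hS : IsPGroup p S) (hidx : E.HasPPowerIndexIn F p)
    (hTS : T ≤ S) {α : MulAut T} (hα : α ∈ F.autGroup T) {R : Subgroup Ω} (hR : R ≤ T) {θ : R →* Ω}
    (hθ : θ ∈ E.Hom R) :
    ∃ χ ∈ E.Hom ((R.subgroupOf T).map (T.subtype.comp α.toMonoidHom)), ∀ (x : R) (hm : ((α ⟨x, hR x.2⟩ : T) : Ω) ∈
        (R.subgroupOf T).map (T.subtype.comp α.toMonoidHom)),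
      χ ⟨_, hm⟩ = ((α ⟨θ x, E.apply_mem hθ x⟩ : T) : Ω) := by
  haveI := finite_of_le hTS
  let f : T →* Ω := T.subtype.comp α.toMonoidHom
  have hfr : f.range = T := by
    rw [MonoidHom.range_comp, MonoidHom.range_eq_top.mpr α.surjective, ← MonoidHom.range_eq_map, Subgroup.range_subtype]
  obtain ⟨E', hE'⟩ := exists_isFactorSystem_bot E f (T.subtype_injective.comp α.injective) hfr
  have hE's := hE'.isSaturated (hS.to_le hTS) hE
  have hinv : α⁻¹ ∈ F.autGroup T := InvMemClass.inv_mem hα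
  have hsub : E'.IsSubsystemOf F := by
    intro P φ hφ
    obtain ⟨φ', hφ', he⟩ := hE'.down hφ
    have hPT : P ≤ T := E'.source_le hφ
    have h1 : ∀ y : P, (((α⁻¹ : MulAut T) ⟨y, hPT y.2⟩ : T) : Ω) ∈ preimageAlong f P := fun y =>
      mem_preimageAlong.mpr ⟨((α⁻¹ : MulAut T) ⟨y, hPT y.2⟩).2, by
        show ((α ((α⁻¹ : MulAut T) ⟨y, hPT y.2⟩) : T) : Ω) ∈ P
        rw [MulAut.apply_inv_self]
        exact y.2⟩
    obtain ⟨χ₁, hχ₁, he₁⟩ := F.exists_comp (F.restrict_mem ((F.mem_autGroup_iff hTS).mp hinv) hPT)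
      (hidx.1 _ hφ') h1
    obtain ⟨χ₂, hχ₂, he₂⟩ := F.exists_comp hχ₁ ((F.mem_autGroup_iff hTS).mp hα)
      fun y => by rw [he₁]; exact E.apply_mem hφ' _
    refine F.mem_of_apply_eq hχ₂ fun y => ?_
    rw [he₂]
    have hm : f ((α⁻¹ : MulAut T) ⟨y, hPT y.2⟩) ∈ P := by
      show ((α ((α⁻¹ : MulAut T) ⟨y, hPT y.2⟩) : T) : Ω) ∈ P
      rw [MulAut.apply_inv_self]
      exact y.2
    refine ((congrArg φ (Subtype.ext ?_)).trans (he ⟨_, h1 y⟩ ((α⁻¹ : MulAut T) ⟨y, hPT y.2⟩).2 hm)).trans ?_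
    · exact (congrArg (fun z : T => (z : Ω)) (MulAut.apply_inv_self T α ⟨y, hPT y.2⟩)).symm
    · exact congrArg (fun z : T => ((α z : T) : Ω)) (Subtype.ext (he₁ y).symm)
  have hle : E'.IsSubsystemOf E := hE's.le_pPowerIndex (finite_of_le hTS) hS hsub hTS le_rfl E hidx
  obtain ⟨χ, hχ, hχe⟩ := hE'.up hθ
  exact ⟨χ, hle _ hχ, fun x hm => hχe x (hR x.2) hm⟩

/-- Conjugated maps, in the form used for composing. -/
theorem IsSaturated.mem_of_conj (hE : E.IsSaturated p) (hS : IsPGroup p S) (hidx : E.HasPPowerIndexIn F p)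
    (hTS : T ≤ S) {α : MulAut T} (hα : α ∈ F.autGroup T) {R R' : Subgroup Ω} (hR : R ≤ T) {θ : R →* Ω}
    (hθ : θ ∈ E.Hom R) (hR' : R' ≤ T) {θ' : R' →* Ω}
    (h : ∀ y : R', ∃ x : R, ((α ⟨x, hR x.2⟩ : T) : Ω) = y ∧ θ' y = ((α ⟨θ x, E.apply_mem hθ x⟩ : T) : Ω)) :
    θ' ∈ E.Hom R' := by
  obtain ⟨χ, hχ, he⟩ := hE.exists_conj_map hS hidx hTS hα hR hθ
  refine E.mem_of_restrict hχ (fun y hy => ?_) fun y hy => ?_
  · obtain ⟨x, hx, -⟩ := h ⟨y, hy⟩
    exact ⟨⟨x, hR x.2⟩, x.2, hx⟩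
  · obtain ⟨x, hx, hx'⟩ := h ⟨y, hy⟩
    exact (hx'.trans (he x ⟨⟨x, hR x.2⟩, x.2, rfl⟩).symm).trans (congrArg χ (Subtype.ext hx))

/-- The maps that respect `T` and split on it. -/
def pPowerSplitSystem (F : FusionSystem S) (E : FusionSystem T) (hTS : T ≤ S)
    (hTn : ∀ g ∈ S, ∀ x, x ∈ T ↔ g * x * g⁻¹ ∈ T)
    (hconj : ∀ α ∈ F.autGroup T, ∀ (R R' : Subgroup Ω) (hR : R ≤ T) (θ : R →* Ω) (hθ : θ ∈ E.Hom R),
      R' ≤ T → ∀ θ' : R' →* Ω,
      (∀ y : R', ∃ x : R, ((α ⟨x, hR x.2⟩ : T) : Ω) = y ∧ θ' y = ((α ⟨θ x, E.apply_mem hθ x⟩ : T) : Ω)) →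
      θ' ∈ E.Hom R') : FusionSystem S where
  Hom P := {φ | φ ∈ F.Hom P ∧ (∀ x : P, (x : Ω) ∈ T ↔ φ x ∈ T) ∧ ∃ α ∈ F.autGroup T,
    ∃ (φ₀ : ↥(P ⊓ T) →* Ω) (hφ₀ : φ₀ ∈ E.Hom (P ⊓ T)), ∀ x : ↥(P ⊓ T),
      φ ⟨x, x.2.1⟩ = ((α ⟨φ₀ x, E.apply_mem hφ₀ x⟩ : T) : Ω)}
  le_of_mem h := F.le_of_mem h.1
  injective_of_mem h := F.injective_of_mem h.1
  conj_mem := by
    intro P g hP hg
    have hgN : g ∈ Subgroup.normalizer (T : Set Ω) := Subgroup.mem_normalizer_iff.mpr (hTn g hg)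
    refine ⟨F.conj_mem hP hg, fun x => hTn g hg x, T.normalizerMonoidHom ⟨g, hgN⟩,
      autInducedBy_le_autGroup hTS (mem_autInducedBy_iff.mpr ⟨g, hg, hgN, fun _ => rfl⟩),
      (P ⊓ T).subtype, E.id_mem inf_le_right, fun x => rfl⟩
  comp_mem := by
    rintro P Q φ ψ ⟨hφ, hφT, α, hα, φ₀, hφ₀, hφe⟩ ⟨hψ, hψT, α', hα', ψ₀, hψ₀, hψe⟩ hh
    refine ⟨F.comp_mem hφ hψ hh, fun x => (hφT x).trans (hψT ⟨φ x, hh x⟩), α' * α, mul_mem hα' hα, ?_⟩
    let R' : Subgroup Ω := φ₀.range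
    have hR'T : R' ≤ T := by rintro _ ⟨x, rfl⟩; exact E.apply_mem hφ₀ x
    have hsrc : ∀ x : ↥(P ⊓ T), ((α ⟨φ₀ x, E.apply_mem hφ₀ x⟩ : T) : Ω) ∈ Q ⊓ T := fun x => by
      rw [← hφe x]
      exact ⟨hh _, (hφT ⟨x, x.2.1⟩).mp x.2.2⟩
    let j : R' →* ↥(Q ⊓ T) :=
      ((T.subtype.comp α.toMonoidHom).comp (Subgroup.inclusion hR'T)).codRestrict (Q ⊓ T) (by
        rintro ⟨_, x, rfl⟩
        exact hsrc x)
    let θ' : R' →* Ω := (T.subtype.comp (α⁻¹ : MulAut T).toMonoidHom).comp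
      ((ψ₀.comp j).codRestrict T fun y => E.apply_mem hψ₀ _)
    have hθ' : θ' ∈ E.Hom R' := hconj α⁻¹ (InvMemClass.inv_mem hα) (Q ⊓ T) R' inf_le_right ψ₀ hψ₀ hR'T θ' fun y =>
      ⟨j y, congrArg (fun z : T => (z : Ω))
        ((congrArg _ (Subtype.ext rfl)).trans (MulAut.inv_apply_self T α (Subgroup.inclusion hR'T y))), rfl⟩
    obtain ⟨χ, hχ, hχe⟩ := E.exists_comp hφ₀ hθ' fun x => ⟨x, rfl⟩
    refine ⟨χ, hχ, fun x => ?_⟩
    show ψ ⟨φ ⟨x, x.2.1⟩, hh _⟩ = _
    have h1 : ψ ⟨φ ⟨x, x.2.1⟩, hh _⟩ = ψ ⟨((α ⟨φ₀ x, E.apply_mem hφ₀ x⟩ : T) : Ω), (hsrc x).1⟩ :=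
      congrArg ψ (Subtype.ext (hφe x))
    rw [h1, hψe ⟨_, hsrc x⟩, MulAut.mul_apply]
    refine congrArg (fun z : T => ((α' z : T) : Ω)) ?_
    rw [← MulEquiv.symm_apply_eq]
    refine Subtype.ext ?_
    show _ = χ x
    rw [hχe]
    rfl
  inv_mem := by
    rintro P φ ⟨hφ, hφT, α, hα, φ₀, hφ₀, hφe⟩
    obtain ⟨ψ, hψ, hψi⟩ := F.inv_mem hφ
    have hψT : ∀ y : φ.range, (y : Ω) ∈ T ↔ ψ y ∈ T := by
      rintro ⟨_, x, rfl⟩
      rw [hψi x]
      exact (hφT x).symm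
    obtain ⟨χ₀, hχ₀, -, hχl, -⟩ := E.exists_inv hφ₀ rfl
    have hmem : ∀ y : ↥(φ.range ⊓ T), (((α⁻¹ : MulAut T) ⟨y, y.2.2⟩ : T) : Ω) ∈ φ₀.range := by
      rintro ⟨_, ⟨x, rfl⟩, hyT⟩
      refine ⟨⟨x, x.2, (hφT x).mpr hyT⟩, ?_⟩
      have h2 : (⟨φ x, hyT⟩ : T) = α ⟨φ₀ ⟨x, x.2, (hφT x).mpr hyT⟩, E.apply_mem hφ₀ _⟩ :=
        Subtype.ext (hφe ⟨x, x.2, (hφT x).mpr hyT⟩)
      exact (congrArg (fun z : T => (z : Ω))
        ((congrArg _ h2).trans (MulAut.inv_apply_self T α _))).symm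
    let j : ↥(φ.range ⊓ T) →* φ₀.range :=
      ((T.subtype.comp (α⁻¹ : MulAut T).toMonoidHom).comp (Subgroup.inclusion inf_le_right)).codRestrict _ hmem
    let θ' : ↥(φ.range ⊓ T) →* Ω := (T.subtype.comp α.toMonoidHom).comp
      ((χ₀.comp j).codRestrict T fun y => E.apply_mem hχ₀ _)
    have hθ' : θ' ∈ E.Hom (φ.range ⊓ T) := hconj α hα φ₀.range _ (E.range_le hφ₀) χ₀ hχ₀ inf_le_right θ' fun y =>
      ⟨j y, congrArg (fun z : T => (z : Ω))
        ((congrArg _ (Subtype.ext rfl)).trans (MulAut.apply_inv_self T α (Subgroup.inclusion inf_le_right y))), rfl⟩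
    refine ⟨ψ, ⟨hψ, hψT, α⁻¹, InvMemClass.inv_mem hα, θ', hθ', ?_⟩, hψi⟩
    rintro ⟨_, ⟨x, rfl⟩, hyT⟩
    rw [hψi x]
    symm
    refine (congrArg (fun z : T => (z : Ω)) (MulAut.inv_apply_self T α _)).trans ?_
    show χ₀ _ = _
    have hy := hφe ⟨x, x.2, (hφT x).mpr hyT⟩
    refine Eq.trans (congrArg χ₀ (Subtype.ext ?_)) (hχl ⟨x, x.2, (hφT x).mpr hyT⟩ ⟨_, rfl⟩)
    have h2 : (⟨φ x, hyT⟩ : T) = α ⟨φ₀ ⟨x, x.2, (hφT x).mpr hyT⟩, E.apply_mem hφ₀ _⟩ := Subtype.ext hy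
    exact congrArg (fun z : T => (z : Ω)) ((congrArg _ h2).trans (MulAut.inv_apply_self T α _))

theorem IsSaturated.isNormalIn_of_pPowerIndex (hF : F.IsSaturated p) (hS : IsPGroup p S) (hE : E.IsSaturated p)
    (hTS : T ≤ S) (hTn : (T.subgroupOf S).Normal) (hidx : E.HasPPowerIndexIn F p) : E.IsNormalIn F p := by
  haveI := finite_of_le hTS
  have hT : F.hyperfocalSubgroup p ≤ T := hidx.2.1
  have hconjT : ∀ g ∈ S, ∀ x, x ∈ T ↔ g * x * g⁻¹ ∈ T := fun g hg =>
    Subgroup.mem_normalizer_iff.mp ((Subgroup.normal_subgroupOf_iff_le_normalizer hTS).mp hTn hg)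
  let K := pPowerSplitSystem F E hTS hconjT fun α hα R R' hR θ hθ hR' θ' h => hE.mem_of_conj hS hidx hTS hα hR hθ hR' h
  have hle : F ≤ K := hF.le_of_pResidual_le hS fun P hP => by
    rw [Subgroup.map_le_iff_le_comap]
    refine (Subgroup.closure_le _).mpr fun γ hγ => ?_
    show (γ : MulAut P) ∈ K.autGroup P
    have hgen : ∀ x : P, (x : Ω)⁻¹ * (((γ : MulAut P) x : P) : Ω) ∈ T := fun x =>
      hT (Subgroup.subset_closure ⟨P, γ, x, hP, Subgroup.subset_closure hγ, rfl⟩)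
    have hiff : ∀ x : P, (x : Ω) ∈ T ↔ (((γ : MulAut P) x : P) : Ω) ∈ T := fun x => by
      constructor
      · intro hx
        have := mul_mem hx (hgen x)
        rwa [mul_inv_cancel_left] at this
      · intro hx
        have := mul_mem hx (InvMemClass.inv_mem (hgen x))
        rwa [mul_inv_rev, inv_inv, mul_inv_cancel_left] at this
    have hR : P ⊓ T ≤ P := inf_le_left
    haveI := finite_of_le (hR.trans hP)
    let ψ : ↥(P ⊓ T) →* ↥(P ⊓ T) :=
      MonoidHom.codRestrict ((P.subtype.comp (γ : MulAut P).toMonoidHom).comp (Subgroup.inclusion hR)) _ fun z =>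
        ⟨SetLike.coe_mem _, (hiff _).mp z.2.2⟩
    have hψ : Function.Bijective ψ := Finite.injective_iff_bijective.mp fun a b h =>
      Subgroup.inclusion_injective hR ((γ : MulAut P).injective (Subtype.ext
        (congrArg (fun z : ↥(P ⊓ T) => (z : Ω)) h)))
    let γ' : MulAut ↥(P ⊓ T) := MulEquiv.ofBijective ψ hψ
    have hγF : γ' ∈ F.autGroup (P ⊓ T) :=
      (F.mem_autGroup_iff (hR.trans hP)).mpr (F.mem_of_restrict ((F.mem_autGroup_iff hP).mp γ.2) hR fun x hx => rfl)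
    have hpow : ∀ n : ℕ, ∀ z : ↥(P ⊓ T), (((γ' ^ n) z : ↥(P ⊓ T)) : Ω) =
        ((((γ : MulAut P) ^ n) (Subgroup.inclusion hR z) : P) : Ω) := by
      intro n
      induction n with
      | zero => intro z; rfl
      | succ n ih =>
        intro z
        rw [pow_succ', pow_succ', MulAut.mul_apply, MulAut.mul_apply]
        exact congrArg (fun w : P => (((γ : MulAut P) w : P) : Ω)) (Subtype.ext (ih z))
    have hord : orderOf γ' ∣ orderOf γ := orderOf_dvd_of_pow_eq_one (MulEquiv.ext fun z => Subtype.ext (by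
      rw [hpow, show ((γ : MulAut P)) ^ orderOf γ = 1 by rw [← SubmonoidClass.coe_pow, pow_orderOf_eq_one]; rfl]
      rfl))
    have hγE : γ' ∈ E.autGroup (P ⊓ T) := hidx.2.2 _ inf_le_right ⟨⟨γ', hγF⟩, Subgroup.subset_closure (by
      show (orderOf (⟨γ', hγF⟩ : F.autGroup (P ⊓ T))).Coprime p
      rw [← Subgroup.orderOf_coe]
      exact Nat.Coprime.coprime_dvd_left hord hγ), rfl⟩
    refine (K.mem_autGroup_iff hP).mpr ⟨(F.mem_autGroup_iff hP).mp γ.2, hiff, 1, one_mem _, _,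
      (E.mem_autGroup_iff inf_le_right).mp hγE, fun x => rfl⟩
  have hsc : F.StronglyClosed T := ⟨hTS, fun R hR φ hφ x => ((hle R hφ).2.1 x).mp (hR x.2)⟩
  refine ⟨⟨hE, hF, hidx.1, hsc, fun P hPT φ hφ α hα => ?_, fun P hPT φ hφ => ?_⟩, fun α hα => ?_⟩
  · obtain ⟨χ, hχ, he⟩ := hE.exists_conj_map hS hidx hTS hα hPT hφ
    exact ⟨χ, hχ, fun x _ hm => he x hm⟩
  · obtain ⟨-, -, α, hα, φ₀, hφ₀, he⟩ := hle P hφ
    refine ⟨α, hα, _, E.restrict_mem hφ₀ (le_inf le_rfl hPT), fun x hx => ?_⟩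
    exact he ⟨x, x.2, hPT x.2⟩
  · -- the extension condition
    set M := T ⊔ centralizerIn S T with hMdef
    have hMS : M ≤ S := sup_le hTS centralizerIn_le
    haveI := finite_of_le hMS
    have hN : F.IsFullyNormalized T :=
      isFullyNormalized_of_le_normalizer hTS ((Subgroup.normal_subgroupOf_iff_le_normalizer hTS).mp hTn)
    let X : Subgroup (MulAut T) :=
      { carrier := {a | ∃ b : MulAut M, b ∈ F.autGroup M ∧
          (∀ x : T, ((b (Subgroup.inclusion le_sup_left x) : M) : Ω) = ((a x : T) : Ω)) ∧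
          ∀ c : M, (c : Ω) ∈ centralizerIn S T → (c : Ω)⁻¹ * ((b c : M) : Ω) ∈ T ⊓ Subgroup.centralizer (T : Set Ω)}
        one_mem' := ⟨1, one_mem _, fun x => rfl, fun c _ => by simp⟩
        mul_mem' := by
          rintro a₁ a₂ ⟨b₁, hb₁, h₁, h₁'⟩ ⟨b₂, hb₂, h₂, h₂'⟩
          refine ⟨b₁ * b₂, mul_mem hb₁ hb₂, fun x => ?_, fun c hc => ?_⟩
          · exact (congrArg (fun z : M => ((b₁ z : M) : Ω)) (Subtype.ext (h₂ x))).trans (h₁ (a₂ x))
          · have hc2 : ((b₂ c : M) : Ω) ∈ centralizerIn S T := by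
              refine ⟨hMS (b₂ c).2, ?_⟩
              have := mul_mem hc.2 (h₂' c hc).2
              rwa [mul_inv_cancel_left] at this
            have := mul_mem (h₂' c hc) (h₁' (b₂ c) hc2)
            rwa [mul_assoc, mul_inv_cancel_left] at this
        inv_mem' := by
          rintro a ⟨b, hb, h, h'⟩
          refine ⟨b⁻¹, InvMemClass.inv_mem hb, fun x => ?_, fun c hc => ?_⟩
          · have h3 : b (Subgroup.inclusion le_sup_left (a⁻¹ x)) = Subgroup.inclusion le_sup_left x :=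
              Subtype.ext ((h (a⁻¹ x)).trans (congrArg (fun z : T => (z : Ω)) (MulAut.apply_inv_self T a x)))
            rw [← h3]
            exact congrArg (fun z : M => (z : Ω)) (MulAut.inv_apply_self M b _)
          · haveI : Finite (MulAut M) := finite_mulAut_of_le hMS
            have hall : ∀ n : ℕ, (c : Ω)⁻¹ * (((b ^ n) c : M) : Ω) ∈ T ⊓ Subgroup.centralizer (T : Set Ω) := by
              intro n
              induction n with
              | zero => simp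
              | succ n ih =>
                have hcn : (((b ^ n) c : M) : Ω) ∈ centralizerIn S T := by
                  refine ⟨hMS ((b ^ n) c).2, ?_⟩
                  have := mul_mem hc.2 ih.2
                  rwa [mul_inv_cancel_left] at this
                have := mul_mem ih (h' _ hcn)
                rw [mul_assoc, mul_inv_cancel_left] at this
                rwa [pow_succ', MulAut.mul_apply]
            obtain ⟨n, hn⟩ := ((isOfFinOrder_of_finite b).mem_powers_iff_mem_zpowers).mpr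
              (InvMemClass.inv_mem (Subgroup.mem_zpowers b))
            rw [← hn]
            exact hall n }
    suffices hXE : E.autGroup T ≤ X from hXE hα
    obtain ⟨-, Sy, hSy⟩ := hE.isFullyAutomized_of_isFullyNormalized (hS.to_le hTS) (isFullyNormalized_self (F := E))
    haveI := finite_autGroup (F := E) (le_refl T)
    have htop : E.autGroup T ≤ Inn T ⊔ (pResidual p (E.autGroup T)).map (E.autGroup T).subtype := by
      intro a ha
      have h1 : (⟨a, ha⟩ : E.autGroup T) ∈ (Sy : Subgroup (E.autGroup T)) ⊔ pResidual p (E.autGroup T) := by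
        rw [CfsgLib.Transfer.sylow_sup_pResidual Sy]
        exact Subgroup.mem_top _
      have h2 := Subgroup.mem_map_of_mem (E.autGroup T).subtype h1
      rw [Subgroup.map_sup] at h2
      have h3 : (Sy : Subgroup (E.autGroup T)).map (E.autGroup T).subtype ≤ Inn T := by
        rw [hSy, ← inn_eq_autInducedBy]
        exact Subgroup.map_comap_le _ _
      exact (sup_le_sup h3 le_rfl : _ ⊔ (pResidual p (E.autGroup T)).map (E.autGroup T).subtype ≤ _) h2
    refine htop.trans (sup_le ?_ ?_)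
    · rintro _ ⟨t, rfl⟩
      have htM : (t : Ω) ∈ M := Subgroup.mem_sup_left t.2
      refine ⟨MulAut.conj ⟨t, htM⟩, inn_le_autGroup hMS ⟨⟨t, htM⟩, rfl⟩, fun x => rfl, fun c hc => ?_⟩
      show (c : Ω)⁻¹ * ((t : Ω) * c * (t : Ω)⁻¹) ∈ _
      rw [Subgroup.mem_centralizer_iff.mp hc.2 t t.2, mul_inv_cancel_right, inv_mul_cancel]
      exact one_mem _
    · rw [Subgroup.map_le_iff_le_comap]
      refine (Subgroup.closure_le _).mpr fun γ hγ => ?_
      show (γ : MulAut T) ∈ X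
      have hγF : (γ : MulAut T) ∈ F.autGroup T :=
        (F.mem_autGroup_iff hTS).mpr (hidx.1 T ((E.mem_autGroup_iff le_rfl).mp γ.2))
      obtain ⟨ψ, hψ, hψe⟩ := exists_extension_of_normalizes (hF.isReceptive_of_isFullyNormalized hS hN) hγF
        centralizerIn_le_normalizerIn fun g hg hgN => by
          rw [show T.normalizerMonoidHom ⟨g, hgN⟩ = 1 from MulEquiv.ext fun x => Subtype.ext (by
            show g * (x : Ω) * g⁻¹ = x
            rw [← Subgroup.mem_centralizer_iff.mp hg.2 x x.2, mul_inv_cancel_right]), mul_one, mul_inv_cancel]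
          exact one_mem _
      have hmap : ∀ x : M, ψ x ∈ M := by
        suffices h : ∀ z ∈ M, ∀ hz : z ∈ M, ψ ⟨z, hz⟩ ∈ M from fun x => h x x.2 x.2
        have hle2 : M ≤ (M.comap ψ).map M.subtype := by
          refine sup_le (fun z hz => ⟨⟨z, Subgroup.mem_sup_left hz⟩, ?_, rfl⟩)
            (fun z hz => ⟨⟨z, Subgroup.mem_sup_right hz⟩, ?_, rfl⟩)
          · show ψ _ ∈ M
            rw [hψe ⟨z, hz⟩]
            exact Subgroup.mem_sup_left (SetLike.coe_mem _)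
          · refine Subgroup.mem_sup_right ⟨F.apply_mem hψ _, Subgroup.mem_centralizer_iff.mpr fun t ht => ?_⟩
            obtain ⟨t', ht'⟩ := (γ : MulAut T).surjective ⟨t, ht⟩
            have h5 : ψ ⟨t', Subgroup.mem_sup_left t'.2⟩ = t := by
              rw [hψe t', ht']
            rw [← h5, ← map_mul, ← map_mul]
            exact congrArg ψ (Subtype.ext (Subgroup.mem_centralizer_iff.mp hz.2 t' t'.2))
        intro z hz _
        obtain ⟨w, hw, hwz⟩ := hle2 hz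
        have hw2 : (w : Ω) = z := hwz
        have hw3 : ψ w ∈ M := hw
        subst hw2
        exact hw3
      have hr : ψ.range = M := Subgroup.eq_of_le_of_card_ge (by rintro _ ⟨x, rfl⟩; exact hmap x)
        (Nat.card_congr (MonoidHom.ofInjective (F.injective_of_mem hψ)).toEquiv).le
      set b₀ : MulAut M := F.isoOf hψ hr with hb₀
      have hb₀F : b₀ ∈ F.autGroup M := F.isoOf_mem_autGroup hψ hr
      haveI : Finite (MulAut M) := finite_mulAut_of_le hMS
      obtain ⟨k, hk⟩ := CfsgLib.PResidual.exists_pow_coprime (p := p) b₀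
      have hγc : (orderOf (γ : MulAut T)).Coprime p := by rw [Subgroup.orderOf_coe]; exact hγ
      obtain ⟨l, hl⟩ := exists_pow_eq_self_of_coprime (x := (γ : MulAut T)) (n := p ^ k)
        (Nat.Coprime.pow_left k hγc.symm)
      have hrest : ∀ (n : ℕ) (x : T), (((b₀ ^ n) (Subgroup.inclusion le_sup_left x) : M) : Ω) =
          ((((γ : MulAut T) ^ n) x : T) : Ω) := by
        intro n
        induction n with
        | zero => intro x; rfl
        | succ n ih =>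
          intro x
          rw [pow_succ', pow_succ', MulAut.mul_apply, MulAut.mul_apply]
          exact (congrArg (fun z : M => ((b₀ z : M) : Ω)) (Subtype.ext (ih x))).trans (hψe _)
      refine ⟨(b₀ ^ p ^ k) ^ l, pow_mem (pow_mem hb₀F _) _, fun x => ?_, fun c hc => ⟨?_, ?_⟩⟩
      · rw [← pow_mul, hrest, pow_mul, hl]
      · refine hT (Subgroup.subset_closure ⟨M, ⟨_, pow_mem (pow_mem hb₀F _) _⟩, c, hMS,
          Subgroup.subset_closure ?_, rfl⟩)
        show (orderOf (⟨(b₀ ^ p ^ k) ^ l, pow_mem (pow_mem hb₀F _) _⟩ : F.autGroup M)).Coprime p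
        rw [← Subgroup.orderOf_coe]
        exact Nat.Coprime.coprime_dvd_left (orderOf_pow_dvd l) hk
      · refine mul_mem ((Subgroup.centralizer (T : Set Ω)).inv_mem hc.2) (Subgroup.mem_centralizer_iff.mpr fun t ht => ?_)
        obtain ⟨t', ht'⟩ := (γ : MulAut T).surjective ⟨t, ht⟩
        set b := (b₀ ^ p ^ k) ^ l
        have hbt : ((b (Subgroup.inclusion le_sup_left t') : M) : Ω) = t := by
          rw [show b = b₀ ^ (p ^ k * l) from (pow_mul _ _ _).symm, hrest, pow_mul, hl, ht']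
        rw [← hbt, ← Subgroup.coe_mul, ← Subgroup.coe_mul, ← map_mul, ← map_mul]
        exact congrArg (fun z : M => ((b z : M) : Ω))
          (Subtype.ext (Subgroup.mem_centralizer_iff.mp hc.2 t' t'.2))

end FusionSystem

end Cfsg
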