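import Cfsg.Agent.Lib.Fusion.Systems
import Cfsg.Agent.Lib.Basic

/-!
Normal, central and strongly closed subgroups in saturated fusion systems; centric-radical subgroups;
uniqueness of extensions from centric subgroups; a simplicity criterion.
-/

set_option autoImplicit false

namespace Cfsg

/-- A group of automorphisms of a finite `p`-group stabilising a series is a `p`-group: an element of
order prime to `p` that stabilises a series is trivial. -/
theorem mulAut_eq_one_of_stabilises {X : Type*} [Group X] [Finite X] {p : ℕ} [Fact p.Prime]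
    (hX : IsPGroup p X) {n : ℕ} (C : Fin (n + 1) → Subgroup X) (h0 : C 0 = ⊥)
    (hlast : C (Fin.last n) = ⊤) {α : MulAut X} (hα : (orderOf α).Coprime p)
    (hstab : ∀ i : Fin n, ∀ x ∈ C i.succ, x⁻¹ * α x ∈ C i.castSucc) : α = 1 := by
  suffices key : ∀ i : Fin (n + 1), ∀ x ∈ C i, α x = x by
    ext x
    exact key (Fin.last n) x (hlast ▸ Subgroup.mem_top x)
  intro i
  induction i using Fin.induction with
  | zero =>
    intro x hx
    rw [h0, Subgroup.mem_bot] at hx
    simp [hx]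
  | succ j ih =>
    intro x hx
    let c := x⁻¹ * α x
    have hc : α c = c := ih c (hstab j x hx)
    have hpow : ∀ k : ℕ, (α ^ k) x = x * c ^ k := by
      intro k
      induction k with
      | zero => simp
      | succ k ihk =>
        rw [pow_succ', MulAut.mul_apply, ihk, map_mul, map_pow, hc, pow_succ', ← mul_assoc]
        simp [c]
    have h1 := hpow (orderOf α)
    rw [pow_orderOf_eq_one, MulAut.one_apply, left_eq_mul] at h1
    obtain ⟨k, hk⟩ := IsPGroup.iff_orderOf.mp hX c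
    have h2 : orderOf c ∣ orderOf α := orderOf_dvd_iff_pow_eq_one.mpr h1
    have h3 : orderOf c = 1 := by
      refine Nat.eq_one_of_dvd_coprimes (Nat.Coprime.pow_right k hα) h2 ?_
      rw [hk]
    rw [orderOf_eq_one_iff] at h3
    rw [show α x = x * c by simp [c], h3, mul_one]

/-- Hence a subgroup of such automorphisms is a `p`-group. -/
theorem isPGroup_of_stabilises {X : Type*} [Group X] [Finite X] {p : ℕ} [Fact p.Prime]
    (hX : IsPGroup p X) {n : ℕ} (C : Fin (n + 1) → Subgroup X) (h0 : C 0 = ⊥)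
    (hlast : C (Fin.last n) = ⊤) (A : Subgroup (MulAut X))
    (hA : ∀ α ∈ A, ∀ i : Fin n, ∀ x ∈ C i.succ, x⁻¹ * α x ∈ C i.castSucc) : IsPGroup p A := by
  have : Finite (MulAut X) := Finite.of_injective (fun α : MulAut X => (α : X → X)) DFunLike.coe_injective
  rintro ⟨α, hα⟩
  have hn0 : orderOf α ≠ 0 := (orderOf_pos α).ne'
  refine ⟨(orderOf α).factorization p, Subtype.ext ?_⟩
  have h1 := mulAut_eq_one_of_stabilises hX C h0 hlast (α := α ^ p ^ (orderOf α).factorization p) ?_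
    (hA _ (A.pow_mem hα _))
  · simpa using h1
  · rw [orderOf_pow' _ (pow_ne_zero _ (Fact.out : p.Prime).ne_zero),
      Nat.gcd_eq_right (Nat.ordProj_dvd _ _)]
    exact (Nat.coprime_ordCompl (Fact.out : p.Prime) hn0).symm

namespace FusionSystem

variable {Ω : Type*} [Group Ω] {S : Subgroup Ω} {F : FusionSystem S} {P Q R T : Subgroup Ω}
  {φ : P →* Ω} {p : ℕ}

theorem hom_ext {E E' : FusionSystem S} (h : ∀ P, E.Hom P = E'.Hom P) : E = E' := by
  cases E
  cases E'
  congr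
  funext P
  exact h P

theorem innerFusionSystem_le (E : FusionSystem S) : innerFusionSystem S ≤ E := by
  rintro P φ ⟨hP, g, hg, he⟩
  exact E.mem_of_apply_eq (E.conj_mem hP hg) he

theorem autGroup_innerFusionSystem (hP : P ≤ S) :
    (innerFusionSystem S).autGroup P = autInducedBy S P := by
  refine le_antisymm ?_ ((innerFusionSystem S).autInducedBy_le_autGroup hP)
  intro α hα
  obtain ⟨φ, ⟨-, g, hg, hge⟩, -, he⟩ := (innerFusionSystem S).exists_map_of_mem_autGroup hP hα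
  exact Subgroup.subset_closure ⟨g, hg, fun x => (he x).symm.trans (hge x)⟩

variable [Finite S]

theorem IsEssential.isRadical [Fact p.Prime] (hS : IsPGroup p S) (hF : F.IsSaturated p)
    (hP : F.IsEssential p P) : F.IsRadical p P := by
  have hPS := hP.lt hS hF
  have hfin := finite_autGroup (F := F) hPS.le
  have : Finite P := finite_of_le hPS.le
  refine ⟨hPS.le, le_antisymm ?_ ?_⟩
  · obtain ⟨-, -, hnorm, E, hE⟩ := hP
    have h1 : (pCore p (F.autGroup P)).map
        (QuotientGroup.mk' ((Inn P).subgroupOf (F.autGroup P))) = ⊥ := by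
      have : ((pCore p (F.autGroup P)).map
          (QuotientGroup.mk' ((Inn P).subgroupOf (F.autGroup P)))).Normal :=
        Subgroup.Normal.map inferInstance _ (QuotientGroup.mk'_surjective _)
      exact Cfsg.IsStronglyPEmbedded.eq_bot_of_normal_pGroup hE _
        ((CfsgLib.isPGroup_pCore p).map _)
    rw [Subgroup.map_eq_bot_iff, QuotientGroup.ker_mk'] at h1
    intro α hα
    obtain ⟨β, hβ, rfl⟩ := hα
    exact h1 hβ
  · intro α hα
    have hmem : α ∈ F.autGroup P := inn_le_autGroup hPS.le hα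
    refine ⟨⟨α, hmem⟩, CfsgLib.le_pCore (N := (Inn P).subgroupOf (F.autGroup P)) ?_ hα, rfl⟩
    refine IsPGroup.of_equiv ?_ (Subgroup.subgroupOfEquivOfLe (inn_le_autGroup hPS.le)).symm
    rw [inn_eq_autInducedBy]
    exact isPGroup_autInducedBy (hS.to_le hPS.le)

theorem IsSaturated.autGroup_self_eq_inn [Fact p.Prime] (hF : F.IsSaturated p) (hS : IsPGroup p S)
    (h : IsPGroup p (F.autGroup S)) : F.autGroup S = Inn S := by
  obtain ⟨-, T, hT⟩ := hF.isFullyAutomized_of_isFullyNormalized hS isFullyNormalized_self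
  have h1 : (T : Subgroup (F.autGroup S)) = ⊤ := by
    refine (T.3 (Q := ⊤) ?_ le_top).symm
    exact h.of_equiv Subgroup.topEquiv.symm
  rw [inn_eq_autInducedBy]
  refine le_antisymm (fun α hα => ?_) (autInducedBy_le_autGroup le_rfl)
  have h2 := hT.le (h1.ge (Subgroup.mem_top (⟨α, hα⟩ : F.autGroup S)))
  exact h2

/-- An element of a subgroup with a series of strongly closed subgroups it stabilises lies in every
centric radical subgroup. -/
theorem le_of_series [Fact p.Prime] (hS : IsPGroup p S) {n : ℕ}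
    (Qs : Fin (n + 1) → Subgroup Ω) (h0 : Qs 0 = ⊥) (hlast : Qs (Fin.last n) = Q) (hmono : Monotone Qs)
    (hstep : ∀ i : Fin n, F.StronglyClosed (Qs i.succ) ∧ ⁅Q, Qs i.succ⁆ ≤ Qs (Fin.castSucc i))
    (hQ : Q ≤ S) (hQn : S ≤ Subgroup.normalizer (Q : Set Ω))
    (hc : F.IsCentric P) (hr : F.IsRadical p P) : Q ≤ P := by
  have hPS : P ≤ S := hc.1
  have : Finite P := finite_of_le hPS
  have hfin := finite_autGroup (F := F) hPS
  -- every term is strongly closed
  have hsc : ∀ i, F.StronglyClosed (Qs i) := by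
    intro i
    rcases Fin.eq_zero_or_eq_succ i with rfl | ⟨j, rfl⟩
    · rw [h0]
      refine ⟨bot_le, fun R hR φ hφ x => ?_⟩
      have hx : x = 1 := Subtype.ext (Subgroup.mem_bot.mp (hR x.2))
      simp [hx]
    · exact (hstep j).1
  -- the stabiliser of the series `⊥ ≤ Qs i ∩ P ≤ P`
  let C : Fin (n + 2) → Subgroup P := Fin.snoc (fun i => (Qs i).subgroupOf P) ⊤
  let A : Subgroup (F.autGroup P) :=
    { carrier := {α | (∀ x : P, (x⁻¹ * (α : MulAut P) x : P).1 ∈ Q) ∧
        ∀ i : Fin n, ∀ x : P, (x : Ω) ∈ Qs i.succ →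
          (x⁻¹ * (α : MulAut P) x : P).1 ∈ Qs i.castSucc}
      one_mem' := ⟨fun x => by simp, fun i x hx => by simp⟩
      mul_mem' := by
        rintro a b ⟨ha, ha'⟩ ⟨hb, hb'⟩
        have key : ∀ (K : Subgroup Ω) (x : P), (x⁻¹ * (a : MulAut P) x : P).1 ∈ K →
            (x⁻¹ * (b : MulAut P) x : P).1 ∈ K →
            ((x⁻¹ * (b : MulAut P) x)⁻¹ * (a : MulAut P) (x⁻¹ * (b : MulAut P) x) : P).1 ∈ K →
            (x⁻¹ * ((a : MulAut P) * (b : MulAut P)) x : P).1 ∈ K := by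
          intro K x h1 h2 h3
          have : x⁻¹ * ((a : MulAut P) * (b : MulAut P)) x =
              (x⁻¹ * (a : MulAut P) x) * (x⁻¹ * (b : MulAut P) x) *
                ((x⁻¹ * (b : MulAut P) x)⁻¹ * (a : MulAut P) (x⁻¹ * (b : MulAut P) x)) := by
            rw [MulAut.mul_apply]
            simp [mul_assoc]
          rw [this]
          exact K.mul_mem (K.mul_mem h1 h2) h3
        refine ⟨fun x => key Q x (ha x) (hb x) (ha _), fun i x hx => ?_⟩
        exact key _ x (ha' i x hx) (hb' i x hx) (ha' i _ (hmono (Fin.castSucc_le_succ i) (hb' i x hx)))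
      inv_mem' := by
        rintro a ⟨ha, ha'⟩
        have key : ∀ (K : Subgroup Ω) (x : P),
            (((a : MulAut P)⁻¹ x)⁻¹ * (a : MulAut P) ((a : MulAut P)⁻¹ x) : P).1 ∈ K →
            (x⁻¹ * (a : MulAut P)⁻¹ x : P).1 ∈ K := by
          intro K x h
          have h' := K.inv_mem h
          simpa using h'
        refine ⟨fun x => key Q x (ha _), fun i x hx => key _ x (ha' i _ ?_)⟩
        obtain ⟨φ, hφ, -, he⟩ := F.exists_map_of_mem_autGroup hPS ((F.autGroup P).inv_mem a.2)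
        rw [← he x]
        exact (hsc i.succ).2 (Qs i.succ ⊓ P) inf_le_left _ (F.restrict_mem hφ inf_le_right)
          ⟨x, hx, x.2⟩ }
  have hAn : A.Normal := by
    refine ⟨fun a ha g => ?_⟩
    have key : ∀ (i : Fin (n + 1)) (y : P), (y : Ω) ∈ Qs i → (((g : MulAut P) y : P) : Ω) ∈ Qs i := by
      intro i y hy
      obtain ⟨φ, hφ, -, he⟩ := F.exists_map_of_mem_autGroup hPS g.2
      rw [← he y]
      exact (hsc i).2 (Qs i ⊓ P) inf_le_left _ (F.restrict_mem hφ inf_le_right) ⟨y, hy, y.2⟩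
    have key' : ∀ (i : Fin (n + 1)) (y : P), (y : Ω) ∈ Qs i → (((g : MulAut P)⁻¹ y : P) : Ω) ∈ Qs i := by
      intro i y hy
      obtain ⟨φ, hφ, -, he⟩ := F.exists_map_of_mem_autGroup hPS ((F.autGroup P).inv_mem g.2)
      rw [← he y]
      exact (hsc i).2 (Qs i ⊓ P) inf_le_left _ (F.restrict_mem hφ inf_le_right) ⟨y, hy, y.2⟩
    have hrw : ∀ x : P, x⁻¹ * ((g : MulAut P) * (a : MulAut P) * (g : MulAut P)⁻¹) x =
        (g : MulAut P) (((g : MulAut P)⁻¹ x)⁻¹ * (a : MulAut P) ((g : MulAut P)⁻¹ x)) := by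
      intro x
      simp [MulAut.mul_apply]
    refine ⟨fun x => ?_, fun i x hx => ?_⟩
    · show (x⁻¹ * ((g : MulAut P) * (a : MulAut P) * (g : MulAut P)⁻¹) x : P).1 ∈ Q
      rw [hrw, ← hlast]
      exact key _ _ (hlast ▸ ha.1 _)
    · show (x⁻¹ * ((g : MulAut P) * (a : MulAut P) * (g : MulAut P)⁻¹) x : P).1 ∈ _
      rw [hrw]
      exact key _ _ (ha.2 i _ (key' _ _ hx))
  have hAp : IsPGroup p A := by
    have hmap : IsPGroup p (A.map (F.autGroup P).subtype) := by
      refine isPGroup_of_stabilises (hS.to_le hPS) C ?_ (Fin.snoc_last _ _) _ ?_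
      · rw [show (0 : Fin (n + 2)) = Fin.castSucc 0 from rfl]
        simp [C, h0]
      · rintro _ ⟨a, ⟨ha, ha'⟩, rfl⟩ i x hx
        induction i using Fin.lastCases with
        | last =>
          simp only [C, Fin.snoc_castSucc, hlast]
          exact ha x
        | cast j =>
          rw [Fin.succ_castSucc] at hx
          simp only [C, Fin.snoc_castSucc] at hx ⊢
          exact ha' j x hx
    exact hmap.of_equiv (A.equivMapOfInjective _ Subtype.coe_injective).symm
  have hAI : ∀ α : F.autGroup P, α ∈ A → (α : MulAut P) ∈ Inn P := fun α hα =>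
    hr.2.le ⟨α, CfsgLib.le_pCore hAp hα, rfl⟩
  have hNQ : ∀ q ∈ Q, q ∈ Subgroup.normalizer (P : Set Ω) → q ∈ P := by
    intro q hq hqN
    let c : F.autGroup P := ⟨P.normalizerMonoidHom ⟨q, hqN⟩,
      autInducedBy_le_autGroup hPS (mem_autInducedBy_iff.mpr ⟨q, hQ hq, hqN, fun _ => rfl⟩)⟩
    have hc' : c ∈ A := by
      refine ⟨fun x => ?_, fun i x hx => ?_⟩
      · show (x : Ω)⁻¹ * (q * (x : Ω) * q⁻¹) ∈ Q
        have := Q.mul_mem ((Subgroup.mem_normalizer_iff''.mp (hQn (hPS x.2)) q).mp hq) (Q.inv_mem hq)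
        simpa [mul_assoc] using this
      · show (x : Ω)⁻¹ * (q * (x : Ω) * q⁻¹) ∈ Qs i.castSucc
        have h1 : q * (x : Ω) * q⁻¹ * (x : Ω)⁻¹ ∈ Qs i.castSucc :=
          (hstep i).2 (Subgroup.commutator_mem_commutator hq hx)
        have h2 := (Subgroup.mem_normalizer_iff''.mp ((hsc i.castSucc).le_normalizer (hPS x.2)) _).mp h1
        simpa [mul_assoc] using h2
    obtain ⟨u, hu⟩ := hAI c hc'
    have hz : (u : Ω)⁻¹ * q ∈ centralizerIn S P := by
      refine ⟨S.mul_mem (S.inv_mem (hPS u.2)) (hQ hq), Subgroup.mem_centralizer_iff.mpr fun y hy => ?_⟩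
      have h1 : (u : Ω) * y * (u : Ω)⁻¹ = q * y * q⁻¹ :=
        congrArg (fun f : MulAut P => ((f ⟨y, hy⟩ : P) : Ω)) hu
      calc y * ((u : Ω)⁻¹ * q) = (u : Ω)⁻¹ * ((u : Ω) * y * (u : Ω)⁻¹) * q := by group
        _ = (u : Ω)⁻¹ * q * y := by rw [h1]; group
    have := P.mul_mem u.2 (hc.centralizerIn_le_self hz)
    rwa [mul_inv_cancel_left] at this
  by_contra hne
  have hlt : P < P ⊔ Q := lt_of_le_of_ne le_sup_left fun e => hne (le_sup_right.trans e.ge)
  have hle : P ⊔ Q ≤ S := sup_le hPS hQ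
  have := finite_of_le hle
  obtain ⟨w, hw, hwP⟩ := SetLike.exists_of_lt (lt_normalizerIn (hS.to_le hle) hlt)
  have hw1 : w ∈ (↑(P ⊔ Q) : Set Ω) := hw.1
  rw [Subgroup.coe_mul_of_left_le_normalizer_right P Q (hPS.trans hQn)] at hw1
  obtain ⟨x, hx, q, hq, rfl⟩ := hw1
  have hqN : q ∈ Subgroup.normalizer (P : Set Ω) := by
    have := Subgroup.mul_mem _ (Subgroup.inv_mem _ (Subgroup.le_normalizer hx : x ∈ Subgroup.normalizer (P : Set Ω))) hw.2
    simpa [mul_assoc] using this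
  exact hwP (P.mul_mem hx (hNQ q hq hqN))

/-- Normality criterion via a series of strongly closed subgroups. -/
theorem IsSaturated.isNormal_of_series [Fact p.Prime] (hF : F.IsSaturated p) (hS : IsPGroup p S) {n : ℕ}
    (Qs : Fin (n + 1) → Subgroup Ω) (h0 : Qs 0 = ⊥) (hlast : Qs (Fin.last n) = Q) (hmono : Monotone Qs)
    (hstep : ∀ i : Fin n, F.StronglyClosed (Qs i.succ) ∧ ⁅Q, Qs i.succ⁆ ≤ Qs (Fin.castSucc i)) :
    F.IsNormal Q := by
  have hsc : F.StronglyClosed Q := by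
    cases n with
    | zero =>
      rw [← hlast, show Fin.last 0 = 0 from rfl, h0]
      refine ⟨bot_le, fun R hR φ hφ x => ?_⟩
      have hx : x = 1 := Subtype.ext (Subgroup.mem_bot.mp (hR x.2))
      simp [hx]
    | succ m =>
      rw [← hlast, ← Fin.succ_last]
      exact (hstep _).1
  refine hF.isNormal_of_invariant hS fun P hP => ?_
  rcases hP with rfl | hP
  · exact ⟨hsc.1, fun α hα => autGroup_map_subgroupOf_le hα hsc.1 le_rfl hsc⟩
  · have hQP : Q ≤ P := le_of_series hS Qs h0 hlast hmono hstep hsc.1 hsc.le_normalizer hP.1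
      (hP.isRadical hS hF)
    exact ⟨hQP, fun α hα => autGroup_map_subgroupOf_le hα hQP hP.1.1 hsc⟩

/-- The `p`-core of the automiser absorbs a normal subgroup: `Q ≤ P` for `Q` normal and `P` centric
radical. -/
theorem IsNormal.le_of_centric_radical [Fact p.Prime] (hS : IsPGroup p S) (hQ : F.IsNormal Q)
    (hc : F.IsCentric P) (hr : F.IsRadical p P) : Q ≤ P := by
  have hPS : P ≤ S := hc.1
  have hfin := finite_autGroup (F := F) hPS
  let A : Subgroup (F.autGroup P) := (autInducedBy Q P).subgroupOf (F.autGroup P)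
  have hAle : autInducedBy Q P ≤ F.autGroup P :=
    (autInducedBy_mono hQ.1).trans (autInducedBy_le_autGroup hPS)
  have hAn : A.Normal := by
    refine ⟨fun a ha g => ?_⟩
    obtain ⟨q, hq, hqN, he⟩ := mem_autInducedBy_iff.mp ha
    obtain ⟨φ, hφ, hφr, hφe⟩ := F.exists_map_of_mem_autGroup hPS g.2
    obtain ⟨ψ, hψ, hψe, hψQ⟩ := hQ.2 P φ hφ
    let q' : ↥(P ⊔ Q) := ⟨q, Subgroup.mem_sup_right hq⟩
    have hψe' : ∀ x : P, ψ ⟨x, Subgroup.mem_sup_left x.2⟩ = φ x := hψe
    refine mem_autInducedBy_iff.mpr ⟨ψ q', hψQ.le ⟨q', hq, rfl⟩,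
      apply_mem_normalizer le_sup_left hψe' hφr q' hqN, fun x => ?_⟩
    have hx : q * (((g : MulAut P)⁻¹ x : P) : Ω) * q⁻¹ ∈ P :=
      (Subgroup.mem_normalizer_iff.mp hqN _).mp (SetLike.coe_mem _)
    have h1 := apply_conj le_sup_left hψe' q' ((g : MulAut P)⁻¹ x) hx
    rw [hφe, hφe] at h1
    have h2 : ((g : MulAut P) ((g : MulAut P)⁻¹ x) : P) = x := by simp
    rw [h2] at h1
    show (((g : MulAut P) ((a : MulAut P) ((g : MulAut P)⁻¹ x)) : P) : Ω) = _
    rw [← h1]
    congr 2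
    exact Subtype.ext (he _)
  have hAp : IsPGroup p A :=
    (isPGroup_autInducedBy (hS.to_le hQ.1)).of_equiv (Subgroup.subgroupOfEquivOfLe hAle).symm
  have hNQ : ∀ q ∈ Q, q ∈ Subgroup.normalizer (P : Set Ω) → q ∈ P := by
    intro q hq hqN
    have hmem : P.normalizerMonoidHom ⟨q, hqN⟩ ∈ autInducedBy Q P :=
      mem_autInducedBy_iff.mpr ⟨q, hq, hqN, fun _ => rfl⟩
    obtain ⟨u, hu⟩ := hr.2.le ⟨⟨_, hAle hmem⟩, CfsgLib.le_pCore hAp hmem, rfl⟩
    have hz : (u : Ω)⁻¹ * q ∈ centralizerIn S P := by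
      refine ⟨S.mul_mem (S.inv_mem (hPS u.2)) (hQ.1 hq), Subgroup.mem_centralizer_iff.mpr fun y hy => ?_⟩
      have h1 : (u : Ω) * y * (u : Ω)⁻¹ = q * y * q⁻¹ :=
        congrArg (fun f : MulAut P => ((f ⟨y, hy⟩ : P) : Ω)) hu
      calc y * ((u : Ω)⁻¹ * q) = (u : Ω)⁻¹ * ((u : Ω) * y * (u : Ω)⁻¹) * q := by group
        _ = (u : Ω)⁻¹ * q * y := by rw [h1]; group
    have := P.mul_mem u.2 (hc.centralizerIn_le_self hz)
    rwa [mul_inv_cancel_left] at this
  by_contra hne
  have hlt : P < P ⊔ Q := lt_of_le_of_ne le_sup_left fun e => hne (le_sup_right.trans e.ge)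
  have hle : P ⊔ Q ≤ S := sup_le hPS hQ.1
  have := finite_of_le hle
  obtain ⟨w, hw, hwP⟩ := SetLike.exists_of_lt (lt_normalizerIn (hS.to_le hle) hlt)
  have hw1 : w ∈ (↑(P ⊔ Q) : Set Ω) := hw.1
  rw [Subgroup.coe_mul_of_left_le_normalizer_right P Q (hPS.trans hQ.le_normalizer)] at hw1
  obtain ⟨x, hx, q, hq, rfl⟩ := hw1
  have hqN : q ∈ Subgroup.normalizer (P : Set Ω) := by
    have := Subgroup.mul_mem _ (Subgroup.inv_mem _ (Subgroup.le_normalizer hx : x ∈ Subgroup.normalizer (P : Set Ω))) hw.2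
    simpa [mul_assoc] using this
  exact hwP (P.mul_mem hx (hNQ q hq hqN))

omit [Finite S] in
theorem map_subgroupOf_eq_self_of_extends {ψ : ↥(P ⊔ Q) →* Ω} (hQ : (Q.subgroupOf (P ⊔ Q)).map ψ = Q)
    (x : ↥(P ⊔ Q)) (hx : (x : Ω) ∈ Q) : ψ x ∈ Q := hQ.le ⟨x, hx, rfl⟩

/-- The simplicity criterion: no proper nontrivial strongly closed subgroup and no outer automorphism
of `S`. -/
theorem isSimple_of_autGroup_eq_inn (hF : F.IsSaturated p) (hS1 : S ≠ ⊥) (htop : F.autGroup S = Inn S)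
    (hsc : ∀ T : Subgroup Ω, F.StronglyClosed T → T = ⊥ ∨ T = S) : F.IsSimple p := by
  refine ⟨hF, hS1, fun T E hE => ?_⟩
  obtain ⟨⟨-, -, hsub, hT, -, hfr⟩, -⟩ := hE
  rcases hsc T hT with h | rfl
  · exact Or.inl h
  refine Or.inr ⟨rfl, fun P => Set.Subset.antisymm (hsub P) fun φ hφ => ?_⟩
  obtain ⟨α, hα, φ₀, hφ₀, he⟩ := hfr P (F.source_le hφ) φ hφ
  rw [htop] at hα
  obtain ⟨g, rfl⟩ := hα
  obtain ⟨χ, hχ, hχe⟩ := E.exists_comp hφ₀ (E.conj_mem (g := (g : Ω)) le_rfl g.2) (E.apply_mem hφ₀)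
  refine E.mem_of_apply_eq hχ fun x => ?_
  rw [hχe, he x (E.apply_mem hφ₀ x)]
  rfl

omit [Finite S] in
/-- Characteristic subgroups of normal subgroups are normal. -/
theorem IsNormal.of_characteristic (hQ : F.IsNormal Q) (hTQ : T ≤ Q)
    (hT : (T.subgroupOf Q).Characteristic) : F.IsNormal T := by
  refine ⟨hTQ.trans hQ.1, fun P φ hφ => ?_⟩
  obtain ⟨ψ, hψ, hψe, hψQ⟩ := hQ.2 P φ hφ
  have hle : P ⊔ T ≤ P ⊔ Q := sup_le_sup_left hTQ P
  have hQQ : ∀ x : Q, ψ ⟨x, Subgroup.mem_sup_right x.2⟩ ∈ Q := fun x => hψQ.le ⟨_, x.2, rfl⟩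
  let e : MulAut Q := MulEquiv.ofBijective
    ((ψ.comp (Subgroup.inclusion le_sup_right)).codRestrict Q hQQ)
    ⟨fun a b h => Subtype.ext (congrArg Subtype.val
      (F.injective_of_mem hψ (congrArg Subtype.val h)) :),
     fun y => by
      obtain ⟨z, hz, he⟩ := hψQ.ge y.2
      exact ⟨⟨z, hz⟩, Subtype.ext he⟩⟩
  have hfix := (Subgroup.characteristic_iff_map_eq.mp hT) e
  refine ⟨_, F.restrict_mem hψ hle, fun x => hψe x, ?_⟩
  ext y
  constructor
  · rintro ⟨x, hx, rfl⟩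
    exact hfix.le ⟨⟨x, hTQ hx⟩, hx, rfl⟩
  · intro hy
    obtain ⟨z, hz, he⟩ := hfix.ge (show (⟨y, hTQ hy⟩ : Q) ∈ T.subgroupOf Q from hy)
    exact ⟨⟨z, Subgroup.mem_sup_right hz⟩, hz, congrArg Subtype.val he⟩

end FusionSystem

end Cfsg
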