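import Cfsg.Agent.Lib.Fusion.Dichotomy

/-!
Transport of local subsystems, and the dichotomy.
-/

set_option autoImplicit false
set_option linter.unusedSectionVars false
set_option linter.style.haveILetI false

namespace Cfsg.FusionSystem.Components

open Cfsg.FusionSystem.SubCent

universe u

variable {Ω : Type u} [Group Ω] {S U U' : Subgroup Ω} {F : FusionSystem S} {p : ℕ} [Fact p.Prime] [Finite S]

theorem normalizer_iso_ext (hU : U ≤ S) {A B : Subgroup Ω} {f : Ω → Ω}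
    (h : (F.normalizerSystem U hU).IsIso A B f) :
    ∃ g, F.IsIso (A ⊔ U) (B ⊔ U) g ∧ (∀ x ∈ A, g x = f x) ∧ ∀ x ∈ U, g x ∈ U := by
  obtain ⟨φ, ⟨-, -, -, ψ, hψ, hψe, hψU⟩, hr, hφe⟩ := h
  subst hr
  have hgU : ∀ x ∈ U, funOf ψ x ∈ U := fun x hx => by
    rw [← funOf_apply ψ ⟨x, Subgroup.mem_sup_right hx⟩]
    exact hψU.le ⟨_, hx, rfl⟩
  have he : ∀ x : A, φ x = funOf ψ x := fun x =>
    (hψe x).symm.trans (funOf_apply ψ (Subgroup.inclusion le_sup_left x))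
  refine ⟨funOf ψ, sup_image (isIso_funOf hψ) le_sup_left le_sup_right (fun y => ?_)
    (image_self (isIso_funOf hψ) le_sup_right hgU), fun x hx => (he ⟨x, hx⟩).symm.trans (hφe ⟨x, hx⟩), hgU⟩
  exact ⟨fun ⟨x, hx⟩ => ⟨x, x.2, (he x).symm.trans hx⟩, fun ⟨x, hx, hxy⟩ => ⟨⟨x, hx⟩, (he _).trans hxy⟩⟩

theorem normalizer_iso_of_ext (hU : U ≤ S) {A B W : Subgroup Ω} {g : Ω → Ω}
    (h : F.IsIso (A ⊔ U) W g) (hgU : ∀ x ∈ U, g x ∈ U) (hA : A ≤ normalizerIn S U)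
    (hB : B ≤ normalizerIn S U) (hAB : ∀ y, y ∈ B ↔ ∃ x ∈ A, g x = y) :
    (F.normalizerSystem U hU).IsIso A B g := by
  obtain ⟨φ, hφ, hr, hφe⟩ := h.restrict' le_sup_left hAB
  obtain ⟨ψ, hψ, -, hψe⟩ := id h
  refine ⟨φ, ⟨hφ, hA, fun x => hB (hr.le ⟨x, rfl⟩), ψ, hψ, fun x => (hψe _).trans (hφe x).symm, ?_⟩, hr, hφe⟩
  ext y
  constructor
  · rintro ⟨x, hx, rfl⟩
    rw [hψe]
    exact hgU _ hx
  · intro hy
    obtain ⟨x, hx, rfl⟩ := (image_self h le_sup_right hgU y).mp hy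
    exact ⟨⟨x, Subgroup.mem_sup_right hx⟩, hx, hψe _⟩

/-- Transport of a map of a local subsystem. -/
theorem normalizer_iso_transport (hU : U ≤ S) (hU' : U' ≤ S) {h k : Ω → Ω}
    (hh : F.IsIso (normalizerIn S U) (normalizerIn S U') h)
    (hk : F.IsIso (normalizerIn S U') (normalizerIn S U) k)
    (hkl : ∀ x ∈ normalizerIn S U, k (h x) = x)
    (hUU' : ∀ y, y ∈ U' ↔ ∃ x ∈ U, h x = y)
    {A B A' B' : Subgroup Ω} {f : Ω → Ω} (hf : (F.normalizerSystem U hU).IsIso A B f)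
    (hA' : ∀ y, y ∈ A' ↔ ∃ x ∈ A, h x = y) (hB' : ∀ y, y ∈ B' ↔ ∃ x ∈ B, h x = y) :
    (F.normalizerSystem U' hU').IsIso A' B' fun y => h (f (k y)) := by
  obtain ⟨g, hg, hge, hgU⟩ := normalizer_iso_ext hU hf
  have hA : A ≤ normalizerIn S U := hf.le_left
  have hB : B ≤ normalizerIn S U := hf.le_right
  have hUN : U ≤ normalizerIn S U := le_normalizerIn hU
  have h1 := sup_image hh hA hUN hA' hUU'
  have h2 := sup_image hh hB hUN hB' hUU'
  obtain ⟨k₁, hk₁, hk₁l, -⟩ := h1.symm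
  have hk₁e : ∀ y ∈ A' ⊔ U', k y = k₁ y := fun y hy => by
    obtain ⟨x, hx, rfl⟩ := h1.surj hy
    rw [hk₁l x hx, hkl x (sup_le hA hUN hx)]
  have htot : F.IsIso (A' ⊔ U') (B' ⊔ U') fun y => h (g (k y)) :=
    (((hk₁.congr hk₁e)).comp hg).comp h2
  have hA'N : A' ≤ normalizerIn S U' := fun y hy => by
    obtain ⟨x, hx, rfl⟩ := (hA' y).mp hy
    exact hh.mem (hA hx)
  have hB'N : B' ≤ normalizerIn S U' := fun y hy => by
    obtain ⟨x, hx, rfl⟩ := (hB' y).mp hy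
    exact hh.mem (hB hx)
  refine (normalizer_iso_of_ext hU' htot (fun y hy => ?_) hA'N hB'N fun y => ?_).congr fun y hy => ?_
  · obtain ⟨x, hx, rfl⟩ := (hUU' y).mp hy
    rw [hkl x (hUN hx)]
    exact (hUU' _).mpr ⟨_, hgU x hx, rfl⟩
  · constructor
    · intro hy
      obtain ⟨b, hb, rfl⟩ := (hB' y).mp hy
      obtain ⟨x, hx, rfl⟩ := hf.surj hb
      exact ⟨h x, (hA' _).mpr ⟨x, hx, rfl⟩, by rw [hkl x (hA hx), hge x hx]⟩
    · rintro ⟨z, hz, rfl⟩
      obtain ⟨x, hx, rfl⟩ := (hA' z).mp hz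
      rw [hkl x (hA hx), hge x hx]
      exact (hB' _).mpr ⟨_, hf.mem hx, rfl⟩
  · obtain ⟨x, hx, rfl⟩ := (hA' y).mp hy
    rw [hkl x (hA hx), hge x hx]

/-- Being constrained is transported between conjugate local subsystems. -/
theorem isConstrained_transport (hS : IsPGroup p S) (hF : F.IsSaturated p) (hU : F.IsFullyNormalized U)
    (hU' : U' ≤ S) {h k : Ω → Ω}
    (hh : F.IsIso (normalizerIn S U) (normalizerIn S U') h)
    (hk : F.IsIso (normalizerIn S U') (normalizerIn S U) k)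
    (hkl : ∀ x ∈ normalizerIn S U, k (h x) = x) (hkr : ∀ y ∈ normalizerIn S U', h (k y) = y)
    (hUU' : ∀ y, y ∈ U' ↔ ∃ x ∈ U, h x = y)
    (hc : (F.normalizerSystem U' hU').IsConstrained p) : (F.normalizerSystem U hU.1).IsConstrained p := by
  set N := F.normalizerSystem U hU.1
  set N' := F.normalizerSystem U' hU'
  haveI := finite_normalizerIn (S := S) (P := U)
  haveI := finite_normalizerIn (S := S) (P := U')
  have hQ' := FusionSystem.isNormal_core N'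
  have hQc := hc.isCentric_core
  have hU'U : ∀ y, y ∈ U ↔ ∃ x ∈ U', k x = y := fun y =>
    ⟨fun hy => ⟨h y, (hUU' _).mpr ⟨y, hy, rfl⟩, hkl y (le_normalizerIn hU.1 hy)⟩, fun ⟨x, hx, e⟩ => by
      obtain ⟨w, hw, rfl⟩ := (hUU' x).mp hx
      rw [hkl w (le_normalizerIn hU.1 hw)] at e
      exact e ▸ hw⟩
  obtain ⟨Q, -, hQM, hQ⟩ := hk.restrict hQ'.1
  haveI := finite_of_le hQM
  have hnormal : N.IsNormal Q := by
    refine ⟨hQM, fun P φ hφ => ?_⟩
    have hf : N.IsIso P φ.range (funOf φ) := isIso_funOf hφ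
    obtain ⟨P', -, hP'N, hP'⟩ := hh.restrict hf.le_left
    obtain ⟨R', -, -, hR'⟩ := hh.restrict hf.le_right
    obtain ⟨φ', hφ', -, hφ'e⟩ := normalizer_iso_transport hU.1 hU' hh hk hkl hUU' hf hP' hR'
    obtain ⟨ψ', hψ', hψ'e, hψ'Q⟩ := hQ'.2 P' φ' hφ'
    have hf' : N'.IsIso (P' ⊔ N'.core) ψ'.range (funOf ψ') := isIso_funOf hψ'
    obtain ⟨A, hkA, -, hA⟩ := hk.restrict hf'.le_left
    obtain ⟨B, -, -, hB⟩ := hk.restrict hf'.le_right
    obtain ⟨χ, hχ, -, hχe⟩ := normalizer_iso_transport hU' hU.1 hk hh hkr hU'U hf' hA hB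
    have hPA : P ⊔ Q ≤ A := by
      refine sup_le (fun x hx => (hA x).mpr ⟨h x, Subgroup.mem_sup_left ((hP' _).mpr ⟨x, hx, rfl⟩),
        hkl x (hf.le_left hx)⟩) fun x hx => ?_
      obtain ⟨q, hq, rfl⟩ := (hQ x).mp hx
      exact (hA _).mpr ⟨q, Subgroup.mem_sup_right hq, rfl⟩
    refine ⟨χ.comp (Subgroup.inclusion hPA), N.restrict_mem hχ hPA, fun x => ?_, ?_⟩
    · have hx' : h x ∈ P' := (hP' _).mpr ⟨x, x.2, rfl⟩
      show χ _ = φ x
      rw [hχe]
      show k (funOf ψ' (h (x : Ω))) = φ x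
      rw [← funOf_apply ψ' ⟨h x, Subgroup.mem_sup_left hx'⟩, show ψ' ⟨h x, Subgroup.mem_sup_left hx'⟩ =
        φ' ⟨h x, hx'⟩ from hψ'e ⟨h x, hx'⟩, hφ'e]
      show k (h (funOf φ (k (h x)))) = φ x
      rw [hkl x (hf.le_left x.2), hkl _ (hf.le_right (hf.mem x.2)), ← funOf_apply φ x]
    · have hmap : ∀ q ∈ N'.core, funOf ψ' q ∈ N'.core := fun q hq => by
        rw [← funOf_apply ψ' ⟨q, Subgroup.mem_sup_right hq⟩]
        exact hψ'Q.le ⟨_, hq, rfl⟩
      apply le_antisymm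
      · rintro _ ⟨x, hx, rfl⟩
        obtain ⟨q, hq, e⟩ := (hQ _).mp hx
        show χ (Subgroup.inclusion hPA x) ∈ Q
        rw [hχe]
        show k (funOf ψ' (h (x : Ω))) ∈ Q
        have e' : h (x : Ω) = q := (congrArg h e).symm.trans (hkr q (hQ'.1 hq))
        rw [e']
        exact (hQ _).mpr ⟨_, hmap q hq, rfl⟩
      · intro y hy
        obtain ⟨q, hq, rfl⟩ := (hQ y).mp hy
        obtain ⟨q₀, hq₀, e⟩ := hψ'Q.ge hq
        have hkq : k q₀ ∈ Q := (hQ _).mpr ⟨q₀, hq₀, rfl⟩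
        refine ⟨⟨k q₀, Subgroup.mem_sup_right hkq⟩, hkq, ?_⟩
        show χ (Subgroup.inclusion hPA _) = k q
        rw [hχe]
        show k (funOf ψ' (h (k q₀))) = k q
        rw [hkr (q₀ : Ω) (hQ'.1 hq₀), ← funOf_apply ψ' q₀, e]
  refine ⟨hF.isSaturated_normalizerSystem hS hU (F.normalizerSystem_isNormalizerSystem U hU.1), Q, hnormal,
    hQM, fun R hR => ?_⟩
  obtain ⟨φ, hφ, rfl⟩ := hR
  have hr : φ.range = Q := by
    have := hnormal.stronglyClosed.map_eq hφ le_rfl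
    rwa [Subgroup.subgroupOf_self, ← MonoidHom.range_eq_map] at this
  rw [hr]
  rintro x ⟨hxM, hxC⟩
  have hQ'Q : ∀ y, y ∈ N'.core ↔ ∃ z ∈ Q, h z = y := fun y =>
    ⟨fun hy => ⟨k y, (hQ _).mpr ⟨y, hy, rfl⟩, hkr y (hQ'.1 hy)⟩, fun ⟨z, hz, e⟩ => by
      obtain ⟨w, hw, rfl⟩ := (hQ z).mp hz
      rw [hkr w (hQ'.1 hw)] at e
      exact e ▸ hw⟩
  have hhx := hQc.centralizerIn_le_self ⟨hh.mem hxM, hh.mem_centralizer hQM hQ'Q hxM hxC⟩
  exact (hQ x).mpr ⟨h x, hhx, hkl x hxM⟩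

/-- **The dichotomy.** -/
theorem dichotomy (hS : IsPGroup p S) (hF : F.IsSaturated p) :
    F.IsOfCharacteristicPType p ∨ F.IsOfComponentType p := by
  refine or_iff_not_imp_right.mpr fun hno U hU hUn E hE => ?_
  obtain rfl : E = F.normalizerSystem U hUn.1 := hom_ext fun P => hE P
  set M := normalizerIn S U
  haveI := finite_normalizerIn (S := S) (P := U)
  have hMp : IsPGroup p M := hS.to_le normalizerIn_le
  -- a central element of order `p`
  haveI : Group.IsNilpotent M := hMp.isNilpotent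
  have hUM : U ≤ M := le_normalizerIn hUn.1
  haveI : (U.subgroupOf M).Normal := Subgroup.normal_subgroupOf_iff_le_normalizer hUM |>.mpr fun x hx => hx.2
  obtain ⟨z, hz, hz1⟩ := (Subgroup.bot_or_exists_ne_one _).resolve_left
    (CfsgLib.inf_center_ne_bot_of_nilpotent (N := U.subgroupOf M) fun h => hU (by
      rwa [Subgroup.subgroupOf_eq_bot, disjoint_iff, inf_eq_left.mpr hUM] at h))
  obtain ⟨n, hn⟩ := hMp z
  have hord1 : orderOf z ≠ 1 := fun e => hz1 (orderOf_eq_one_iff.mp e)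
  obtain ⟨x, hxz, hxp⟩ : ∃ x ∈ Subgroup.zpowers z, orderOf x = p := by
    obtain ⟨i, -, hi⟩ := (Nat.dvd_prime_pow Fact.out).mp (orderOf_dvd_of_pow_eq_one hn)
    have hdvd : p ∣ Nat.card (Subgroup.zpowers z) := by
      rw [Nat.card_zpowers, hi]
      refine dvd_pow_self p fun e => hord1 ?_
      rw [hi, e, pow_zero]
    obtain ⟨x, hx⟩ := exists_prime_orderOf_dvd_card' p hdvd
    exact ⟨x, x.2, by rw [Subgroup.orderOf_coe]; exact hx⟩
  have hzle : Subgroup.zpowers z ≤ U.subgroupOf M ⊓ Subgroup.center M := Subgroup.zpowers_le.mpr hz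
  have hxU : (x : Ω) ∈ U := (hzle hxz).1
  set X := Subgroup.zpowers (x : Ω)
  have hXU : X ≤ U := Subgroup.zpowers_le.mpr hxU
  have hXS : X ≤ S := hXU.trans hUn.1
  have hXcard : Nat.card X = p := by rw [Nat.card_zpowers, Subgroup.orderOf_coe, hxp]
  have hMC : ∀ m ∈ M, m * (x : Ω) = x * m := fun m hm =>
    congrArg Subtype.val (Subgroup.mem_center_iff.mp (hzle hxz).2 ⟨m, hm⟩)
  have hMX : M ≤ normalizerIn S X := fun m hm => ⟨hm.1, Subgroup.centralizer_le_normalizer _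
    (Subgroup.mem_centralizer_iff.mpr fun y hy => by
      obtain ⟨i, rfl⟩ := hy
      exact ((show Commute m (x : Ω) from hMC m hm).zpow_right i).symm.eq)⟩
  -- move it to a fully normalised conjugate
  obtain ⟨X', hXX', hX'⟩ := F.exists_isFullyNormalized hXS
  obtain ⟨φ, hφ, hr, ψ, hψ, -, hψe⟩ := hF.exists_map_to_fullyNormalized hS hX' hXX'
  have hi := isIso_funOf hψ
  generalize hg : funOf ψ = g at hi
  have hgX : ∀ y ∈ X, g y ∈ X' := fun y hy => by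
    have h1 := le_normalizerIn hXS hy
    rw [← hg, ← funOf_apply ψ ⟨y, h1⟩, hψe ⟨y, hy⟩]
    exact hr.le ⟨_, rfl⟩
  generalize ψ.range = B at hi
  obtain ⟨U', hUU', -, hU'm⟩ := hi.restrict (hUM.trans hMX)
  obtain ⟨M', hMM', -, hM'm⟩ := hi.restrict hMX
  have hU'S : U' ≤ S := hUU'.le_right
  haveI := finite_normalizerIn (S := S) (P := U')
  have hM' : M' ≤ normalizerIn S U' := fun y hy => by
    obtain ⟨m, hm, rfl⟩ := (hM'm y).mp hy
    exact ⟨hMM'.le_right (hMM'.mem hm), hMM'.mem_normalizer hUM hU'm hm hm.2⟩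
  have hconj : F.IsConj U U' := hUU'.isConj
  obtain rfl : M' = normalizerIn S U' :=
    Subgroup.eq_of_le_of_card_ge hM' (hMM'.card_eq ▸ hUn.2 U' hconj)
  have hU'n : F.IsFullyNormalized U' := ⟨hU'S, fun R hR => by
    rw [← hMM'.card_eq]
    exact hUn.2 R (hconj.trans hR)⟩
  obtain ⟨X₁, hXX₁, -, hX₁⟩ := hi.restrict (hXU.trans (hUM.trans hMX))
  have hX₁X : X₁ = X' := by
    haveI := finite_of_le hX'.1
    refine Subgroup.eq_of_le_of_card_ge (fun y hy => ?_) (hXX'.card_eq.symm.trans hXX₁.card_eq).le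
    obtain ⟨w, hw, rfl⟩ := (hX₁ y).mp hy
    exact hgX w hw
  subst hX₁X
  have hX'U : X₁ ≤ U' := fun y hy => by
    obtain ⟨w, hw, rfl⟩ := (hX₁ y).mp hy
    exact (hU'm _).mpr ⟨w, hXU hw, rfl⟩
  have hNX : normalizerIn S U' ≤ centralizerIn S X₁ := fun y hy => by
    obtain ⟨m, hm, rfl⟩ := (hM'm y).mp hy
    refine ⟨hy.1, hMM'.mem_centralizer (hXU.trans hUM) hX₁ hm (Subgroup.mem_centralizer_iff.mpr fun w hw => ?_)⟩
    obtain ⟨i, rfl⟩ := hw
    exact ((show Commute m (x : Ω) from hMC m hm).zpow_right i).symm.eq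
  have hfc := hF.isFullyCentralized_of_isFullyNormalized hS hX'
  haveI := finite_of_le (centralizerIn_le (S := S) (P := X₁))
  have hCsat := hF.isSaturated_centralizerSystem hS hfc (E := F.centralizerSystem X₁ hX'.1) (fun _ => rfl)
  have hC : (F.centralizerSystem X₁ hX'.1).IsConstrained p := by
    refine (isConstrained_iff (hS.to_le centralizerIn_le) hCsat).mpr fun ⟨T, C, hTC⟩ => hno ?_
    exact ⟨X₁, hXX'.card_eq.symm.trans hXcard, hX', _, fun _ => rfl, T, C, hTC⟩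
  obtain ⟨k, hk, hkl, hkr⟩ := hMM'.symm
  exact isConstrained_transport hS hF hUn hU'S hMM' hk hkl hkr hU'm
    (isConstrained_of_element hS hF hU'n hX'U hX' hNX hC)

end Cfsg.FusionSystem.Components
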