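import Cfsg.Agent.Lib.Fusion.GroupResidual

/-!
Subsystems of `p`-power index absorb saturated subsystems over smaller subgroups.
-/

set_option autoImplicit false

namespace Cfsg

namespace FusionSystem

variable {Ω : Type*} [Group Ω] {S T U : Subgroup Ω} {F : FusionSystem S} {p : ℕ}

/-- The maps of a system with source and image inside a smaller subgroup. -/
def restrictTo (F : FusionSystem U) (hTU : T ≤ U) : FusionSystem T where
  Hom P := {φ | P ≤ T ∧ (∀ x : P, φ x ∈ T) ∧ φ ∈ F.Hom P}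
  le_of_mem h := ⟨h.1, h.2.1⟩
  injective_of_mem h := F.injective_of_mem h.2.2
  conj_mem := by
    intro P g hP hg
    exact ⟨hP, fun x => T.mul_mem (T.mul_mem hg (hP x.2)) (T.inv_mem hg), F.conj_mem (hP.trans hTU) (hTU hg)⟩
  comp_mem := by
    rintro P Q φ ψ ⟨hP, hφT, hφ⟩ ⟨hQ, hψT, hψ⟩ hh
    exact ⟨hP, fun x => hψT _, F.comp_mem hφ hψ hh⟩
  inv_mem := by
    rintro P φ ⟨hP, hφT, hφ⟩
    obtain ⟨ψ, hψ, he⟩ := F.inv_mem hφ
    refine ⟨ψ, ⟨by rintro _ ⟨x, rfl⟩; exact hφT x, ?_, hψ⟩, he⟩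
    rintro ⟨_, x, rfl⟩
    rw [he x]
    exact hP x.2

theorem IsSaturated.le_pPowerIndex [Fact p.Prime] {E : FusionSystem T} (hE : E.IsSaturated p)
    (hfin : Finite T) (hS : IsPGroup p S) (hsub : E.IsSubsystemOf F) (hTS : T ≤ S) (hTU : T ≤ U)
    (F₀ : FusionSystem U) (hidx : F₀.HasPPowerIndexIn F p) : E.IsSubsystemOf F₀ := by
  have h : E ≤ restrictTo F₀ hTU := by
    refine hE.le_of_pResidual_le (hS.to_le hTS) fun P hP => ?_
    rw [Subgroup.map_le_iff_le_comap]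
    refine (Subgroup.closure_le _).mpr fun α hα => ?_
    have hp : (orderOf (α : MulAut P)).Coprime p := by rw [Subgroup.orderOf_coe]; exact hα
    have hαF : (α : MulAut P) ∈ F.autGroup P :=
      (F.mem_autGroup_iff (hP.trans hTS)).mpr (hsub P ((E.mem_autGroup_iff hP).mp α.2))
    have hαF₀ : (α : MulAut P) ∈ F₀.autGroup P := hidx.2.2 P (hP.trans hTU)
      ⟨⟨α, hαF⟩, Subgroup.subset_closure (show Nat.Coprime _ p by rw [← Subgroup.orderOf_coe]; exact hp), rfl⟩
    exact ((restrictTo F₀ hTU).mem_autGroup_iff hP).mpr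
      ⟨hP, fun x => hP ((α : MulAut P) x).2, (F₀.mem_autGroup_iff (hP.trans hTU)).mp hαF₀⟩
  exact fun P φ hφ => (h P hφ).2.2

end FusionSystem

end Cfsg
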