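import Cfsg.Agent.Lib.Fusion.TransportComponent
import Cfsg.Agent.Lib.Fusion.Alperin

/-!
Subsystems of index prime to `p`.
-/

set_option autoImplicit false
set_option linter.unusedSectionVars false

universe u

namespace Cfsg

namespace FusionSystem

variable {Ω : Type u} [Group Ω] {S : Subgroup Ω} [Finite S] {p : ℕ} [Fact p.Prime]

/-- A subsystem with all `p`-power automorphisms on centric subgroups. -/
def IsAmple (F : FusionSystem S) (p : ℕ) (E : FusionSystem S) : Prop :=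
  E.IsSubsystemOf F ∧ ∀ P : Subgroup Ω, F.IsCentric P →
    (Subgroup.closure {α : ↥(F.autGroup P) | ∃ k : ℕ, orderOf α = p ^ k}).map (F.autGroup P).subtype ≤ E.autGroup P

/-- The intersection of the ample subsystems. -/
def ampleCore (F : FusionSystem S) (p : ℕ) : FusionSystem S where
  Hom P := {φ | φ ∈ F.Hom P ∧ ∀ E : FusionSystem S, IsAmple F p E → φ ∈ E.Hom P}
  le_of_mem h := F.le_of_mem h.1
  injective_of_mem h := F.injective_of_mem h.1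
  conj_mem hP hg := ⟨F.conj_mem hP hg, fun E _ => E.conj_mem hP hg⟩
  comp_mem := fun hφ hψ hh => ⟨F.comp_mem hφ.1 hψ.1 hh, fun E hE => E.comp_mem (hφ.2 E hE) (hψ.2 E hE) hh⟩
  inv_mem := by
    rintro P φ ⟨hφ, hall⟩
    obtain ⟨ψ, hψ, he⟩ := F.inv_mem hφ
    refine ⟨ψ, ⟨hψ, fun E hE => ?_⟩, he⟩
    obtain ⟨χ, hχ, hχe⟩ := E.inv_mem (hall E hE)
    refine E.mem_of_apply_eq hχ ?_
    rintro ⟨_, x, rfl⟩
    rw [he, hχe]

variable {F : FusionSystem S}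

theorem isAmple_ampleCore (E : FusionSystem S) (hE : IsAmple F p E) :
    (ampleCore F p).IsSubsystemOf E := fun _ _ hφ => hφ.2 E hE

theorem closure_le_ampleCore {P : Subgroup Ω} (hP : F.IsCentric P) :
    (Subgroup.closure {α : ↥(F.autGroup P) | ∃ k : ℕ, orderOf α = p ^ k}).map (F.autGroup P).subtype ≤
      (ampleCore F p).autGroup P := by
  rintro _ ⟨a, ha, rfl⟩
  refine ((ampleCore F p).mem_autGroup_iff hP.1).mpr ⟨(F.mem_autGroup_iff hP.1).mp a.2, fun E hE => ?_⟩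
  exact (E.mem_autGroup_iff hP.1).mp (hE.2 P hP ⟨a, ha, rfl⟩)

/-- The ample core is invariant under the automorphisms of `S` in `F`. -/
theorem ampleCore_invariant (hS : IsPGroup p S) (hF : F.IsSaturated p) {β : MulAut S} (hβ : β ∈ F.autGroup S)
    {P : Subgroup Ω} {φ : P →* Ω} (hφ : φ ∈ (ampleCore F p).Hom P) :
    ∃ ψ ∈ (ampleCore F p).Hom (imageAlong (S.subtype.comp β.toMonoidHom) P),
      ∀ (x : P) (hx : (x : Ω) ∈ S) (hm : ((β ⟨x, hx⟩ : S) : Ω) ∈ imageAlong (S.subtype.comp β.toMonoidHom) P),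
        ψ ⟨_, hm⟩ = ((β ⟨φ x, F.apply_mem hφ.1 x⟩ : S) : Ω) := by
  have hg : S.subtype.comp β.toMonoidHom ∈ F.Hom S := (F.mem_autGroup_iff le_rfl).mp hβ
  have hgF := IsSubnormalIn.image.isFactorSystem_of_hom hg
  obtain ⟨ψ, hψ, hψe⟩ := hgF.up hφ.1
  refine ⟨ψ, ⟨hψ, fun E hE => ?_⟩, fun x hx hm => hψe x hx hm⟩
  have hf : S.subtype.comp (β⁻¹).toMonoidHom ∈ F.Hom S :=
    (F.mem_autGroup_iff le_rfl).mp ((F.autGroup S).inv_mem hβ)
  have hfF := IsSubnormalIn.image.isFactorSystem_of_hom hf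
  obtain ⟨E', hE'⟩ := exists_isFactorSystem_bot E (S.subtype.comp (β⁻¹).toMonoidHom) hfF.injective hfF.2.2.1
  have hsub' : E'.IsSubsystemOf F := fun P' φ' hφ' => by
    obtain ⟨hP', χ, hχ, hi⟩ := (hE'.2.2.2 P' φ').mp hφ'
    exact (hfF.2.2.2 P' φ').mpr ⟨hP', χ, hE.1 _ hχ, hi⟩
  have hgood : IsAmple F p E' := by
    refine ⟨hsub', fun P' hP' => ?_⟩
    rw [Subgroup.map_le_iff_le_comap]
    refine (Subgroup.closure_le _).mpr fun a ha => ?_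
    obtain ⟨χ, hχ, -, he⟩ := F.exists_map_of_mem_autGroup hP'.1 a.2
    -- transport to the preimage
    have hpre : P' ≤ S := hP'.1
    have hres := F.restrict_mem hg hpre
    set Q := ((S.subtype.comp β.toMonoidHom).comp (Subgroup.inclusion hpre)).range with hQdef
    have hQc : F.IsCentric Q := hP'.of_isConj ⟨_, hres, rfl⟩
    let i := F.isoOf hres (rfl : _ = Q)
    have hb : MulAut.congr i (a : MulAut P') ∈ F.autGroup Q :=
      (autGroup_map_congr hres rfl).le ⟨_, a.2, rfl⟩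
    have hbE : MulAut.congr i (a : MulAut P') ∈ E.autGroup Q := hE.2 Q hQc ⟨⟨_, hb⟩, Subgroup.subset_closure (by
      obtain ⟨k, hk⟩ := ha
      exact ⟨k, by rw [← Subgroup.orderOf_coe, MulEquiv.orderOf_eq, Subgroup.orderOf_coe, hk]⟩), rfl⟩
    obtain ⟨ω, hω, hωe⟩ := hE'.up ((E.mem_autGroup_iff hQc.1).mp hbE)
    have hback : ∀ (x : Ω) (hx : x ∈ S), ((β⁻¹ ⟨((β ⟨x, hx⟩ : S) : Ω), (β ⟨x, hx⟩).2⟩ : S) : Ω) = x := fun x hx =>
      congrArg Subtype.val (MulAut.inv_apply_self S β ⟨x, hx⟩)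
    have hle : P' ≤ imageAlong (S.subtype.comp (β⁻¹).toMonoidHom) Q := fun x hx =>
      ⟨β ⟨x, hpre hx⟩, ⟨⟨x, hx⟩, rfl⟩, hback x (hpre hx)⟩
    refine (E'.mem_autGroup_iff hpre).mpr (E'.mem_of_restrict hω hle fun x hx => ?_)
    let y : Q := i ⟨x, hx⟩
    have hmy : (S.subtype.comp (β⁻¹).toMonoidHom) ⟨(y : Ω), hQc.1 y.2⟩ ∈
        imageAlong (S.subtype.comp (β⁻¹).toMonoidHom) Q := ⟨⟨(y : Ω), hQc.1 y.2⟩, y.2, rfl⟩
    have h1 : ω ⟨x, hle hx⟩ = _ :=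
      (congrArg ω (Subtype.ext (hback x (hpre hx)).symm : (⟨x, hle hx⟩ : ↥(imageAlong _ Q)) = ⟨_, hmy⟩)).trans
        (hωe y (hQc.1 y.2) hmy)
    rw [h1]
    show (((a : MulAut P') ⟨x, hx⟩ : P') : Ω) = ((β⁻¹ ⟨((MulAut.congr i (a : MulAut P') y : Q) : Ω), _⟩ : S) : Ω)
    have h2 : MulAut.congr i (a : MulAut P') y = i ((a : MulAut P') ⟨x, hx⟩) := by
      show i ((a : MulAut P') (i.symm (i ⟨x, hx⟩))) = _
      rw [MulEquiv.symm_apply_apply]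
    exact ((congrArg (fun w : S => ((β⁻¹ w : S) : Ω)) (Subtype.ext ((congrArg (fun z : Q => (z : Ω)) h2 :)) :
      (⟨((MulAut.congr i (a : MulAut P') y : Q) : Ω), hQc.1 (MulAut.congr i (a : MulAut P') y).2⟩ : S) =
        β ⟨_, hpre ((a : MulAut P') ⟨x, hx⟩).2⟩)).trans
      (congrArg Subtype.val (MulAut.inv_apply_self S β _))).symm
  obtain ⟨χ, hχ, hχe⟩ := hE'.down (hφ.2 E' hgood)
  have hPS := F.source_le hφ.1
  have hle : imageAlong (S.subtype.comp β.toMonoidHom) P ≤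
      preimageAlong (S.subtype.comp (β⁻¹).toMonoidHom) P := by
    rintro _ ⟨s, hs, rfl⟩
    refine mem_preimageAlong.mpr ⟨(β s).2, ?_⟩
    show ((β⁻¹ (β s) : S) : Ω) ∈ P
    rw [MulAut.inv_apply_self]
    exact hs
  refine E.mem_of_restrict hχ hle fun y hy => ?_
  obtain ⟨hyS, hm⟩ := mem_preimageAlong.mp (hle hy)
  let x : P := ⟨_, hm⟩
  have hxy : ((β ⟨(x : Ω), hPS x.2⟩ : S) : Ω) = y :=
    congrArg Subtype.val (MulAut.apply_inv_self S β ⟨y, hyS⟩)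
  have h1 : φ x = ((β⁻¹ ⟨χ ⟨y, hle hy⟩, E.apply_mem hχ _⟩ : S) : Ω) := hχe ⟨y, hle hy⟩ hyS hm
  have hm' : ((β ⟨(x : Ω), hPS x.2⟩ : S) : Ω) ∈ imageAlong (S.subtype.comp β.toMonoidHom) P := hxy.symm ▸ hy
  calc ψ ⟨y, hy⟩ = ψ ⟨_, hm'⟩ := congrArg ψ (Subtype.ext hxy.symm)
    _ = ((β ⟨φ x, F.apply_mem hφ.1 x⟩ : S) : Ω) := hψe x (hPS x.2) hm'
    _ = χ ⟨y, hle hy⟩ := by
      rw [show (⟨φ x, F.apply_mem hφ.1 x⟩ : S) = β⁻¹ ⟨χ ⟨y, hle hy⟩, E.apply_mem hχ _⟩ from Subtype.ext h1,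
        MulAut.apply_inv_self]

/-- Automorphisms of `S` composed with maps of the ample core. -/
def ampleExt (hS : IsPGroup p S) (hF : F.IsSaturated p) : FusionSystem S where
  Hom P := {φ | φ ∈ F.Hom P ∧ ∃ β ∈ F.autGroup S, ∃ (φ₀ : P →* Ω) (hφ₀ : φ₀ ∈ (ampleCore F p).Hom P),
    ∀ x : P, φ x = ((β ⟨φ₀ x, F.apply_mem hφ₀.1 x⟩ : S) : Ω)}
  le_of_mem h := F.le_of_mem h.1
  injective_of_mem h := F.injective_of_mem h.1
  conj_mem hP hg := ⟨F.conj_mem hP hg, 1, (F.autGroup S).one_mem, _,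
    (ampleCore F p).conj_mem hP hg, fun _ => rfl⟩
  comp_mem := by
    rintro P Q φ ψ ⟨hφ, β, hβ, φ₀, hφ₀, hφe⟩ ⟨hψ, γ, hγ, ψ₀, hψ₀, hψe⟩ hh
    refine ⟨F.comp_mem hφ hψ hh, γ * β, (F.autGroup S).mul_mem hγ hβ, ?_⟩
    obtain ⟨χ, hχ, hχe⟩ := ampleCore_invariant hS hF ((F.autGroup S).inv_mem hβ) hψ₀
    have hmem : ∀ x : P, φ₀ x ∈ imageAlong (S.subtype.comp (β⁻¹).toMonoidHom) Q := fun x =>
      ⟨⟨φ x, F.apply_mem hφ x⟩, hh x, by
        show ((β⁻¹ ⟨φ x, _⟩ : S) : Ω) = _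
        rw [show (⟨φ x, F.apply_mem hφ x⟩ : S) = β ⟨φ₀ x, F.apply_mem hφ₀.1 x⟩ from Subtype.ext (hφe x),
          MulAut.inv_apply_self]⟩
    refine ⟨_, (ampleCore F p).comp_mem hφ₀ hχ hmem, fun x => ?_⟩
    have hxS : φ x ∈ S := F.apply_mem hφ x
    have he : ((β⁻¹ ⟨φ x, hxS⟩ : S) : Ω) = φ₀ x := by
      rw [show (⟨φ x, hxS⟩ : S) = β ⟨φ₀ x, F.apply_mem hφ₀.1 x⟩ from Subtype.ext (hφe x), MulAut.inv_apply_self]
    have hm : ((β⁻¹ ⟨φ x, hxS⟩ : S) : Ω) ∈ imageAlong (S.subtype.comp (β⁻¹).toMonoidHom) Q := he.symm ▸ hmem x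
    have h1 : χ ⟨φ₀ x, hmem x⟩ = ((β⁻¹ ⟨ψ₀ ⟨φ x, hh x⟩, F.apply_mem hψ₀.1 _⟩ : S) : Ω) :=
      (congrArg χ (Subtype.ext he.symm)).trans (hχe ⟨φ x, hh x⟩ hxS hm)
    show ψ ⟨φ x, hh x⟩ = ((γ (β ⟨χ ⟨φ₀ x, hmem x⟩, _⟩) : S) : Ω)
    rw [hψe]
    exact congrArg (fun w : S => ((γ w : S) : Ω)) ((congrArg β (Subtype.ext h1 :
      (⟨χ ⟨φ₀ x, hmem x⟩, F.apply_mem hχ.1 _⟩ : S) = β⁻¹ ⟨ψ₀ ⟨φ x, hh x⟩, F.apply_mem hψ₀.1 _⟩)).trans
      (MulAut.apply_inv_self S β _)).symm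
  inv_mem := by
    rintro P φ ⟨hφ, β, hβ, φ₀, hφ₀, hφe⟩
    obtain ⟨ψ, hψ, he⟩ := F.inv_mem hφ
    refine ⟨ψ, ⟨hψ, β⁻¹, (F.autGroup S).inv_mem hβ, ?_⟩, he⟩
    obtain ⟨ρ, hρ, hρe⟩ := (ampleCore F p).inv_mem hφ₀
    obtain ⟨χ, hχ, hχe⟩ := ampleCore_invariant hS hF hβ hρ
    have hle : φ.range ≤ imageAlong (S.subtype.comp β.toMonoidHom) φ₀.range := by
      rintro _ ⟨x, rfl⟩
      exact ⟨⟨φ₀ x, F.apply_mem hφ₀.1 x⟩, ⟨x, rfl⟩, (hφe x).symm⟩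
    refine ⟨_, (ampleCore F p).restrict_mem hχ hle, ?_⟩
    rintro ⟨_, x, rfl⟩
    have hm : ((β ⟨φ₀ x, F.apply_mem hφ₀.1 x⟩ : S) : Ω) ∈ imageAlong (S.subtype.comp β.toMonoidHom) φ₀.range :=
      ⟨⟨φ₀ x, F.apply_mem hφ₀.1 x⟩, ⟨x, rfl⟩, rfl⟩
    have h1 : χ (Subgroup.inclusion hle ⟨φ x, x, rfl⟩) = ((β ⟨(x : Ω), F.source_le hφ x.2⟩ : S) : Ω) := by
      refine (congrArg χ (Subtype.ext (hφe x))).trans ((hχe ⟨φ₀ x, x, rfl⟩ _ hm).trans ?_)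
      exact congrArg (fun z : S => ((β z : S) : Ω)) (Subtype.ext (hρe x))
    rw [he]
    show (x : Ω) = ((β⁻¹ ⟨χ (Subgroup.inclusion hle ⟨φ x, x, rfl⟩), _⟩ : S) : Ω)
    rw [show (⟨χ (Subgroup.inclusion hle ⟨φ x, x, rfl⟩), _⟩ : S) = β ⟨(x : Ω), F.source_le hφ x.2⟩ from
      Subtype.ext h1, MulAut.inv_apply_self]

theorem le_ampleExt (hS : IsPGroup p S) (hF : F.IsSaturated p) : F ≤ ampleExt hS hF := by
  refine hF.le_of_autGroup_le' hS _ fun P hP hbig γ hγ => ?_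
  rcases hP with rfl | hP
  · exact ((ampleExt hS hF).mem_autGroup_iff le_rfl).mpr ⟨(F.mem_autGroup_iff le_rfl).mp hγ, γ, hγ, _,
      (ampleCore F p).id_mem le_rfl, fun _ => rfl⟩
  have hc := hP.1
  have hn := hP.2.1
  have hPS := hc.1
  haveI := finite_autGroup (F := F) hPS
  obtain ⟨-, T, hT⟩ := hF.isFullyAutomized_of_isFullyNormalized hS hn
  set K : Subgroup (F.autGroup P) := Subgroup.closure {α : ↥(F.autGroup P) | ∃ k : ℕ, orderOf α = p ^ k} with hK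
  haveI : K.Normal := by
    refine ⟨fun a ha g => ?_⟩
    induction ha using Subgroup.closure_induction with
    | mem x hx =>
      obtain ⟨k, hk⟩ := hx
      refine Subgroup.subset_closure ⟨k, ?_⟩
      rw [show g * x * g⁻¹ = MulAut.conj g x from rfl, MulEquiv.orderOf_eq, hk]
    | one => simp
    | mul x y _ _ hx hy =>
      rw [show g * (x * y) * g⁻¹ = g * x * g⁻¹ * (g * y * g⁻¹) by group]
      exact mul_mem hx hy
    | inv x _ hx =>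
      rw [show g * x⁻¹ * g⁻¹ = (g * x * g⁻¹)⁻¹ by group]
      exact InvMemClass.inv_mem hx
  have hgen := Sylow.normalizer_sup_eq_top' (N := K) T (fun t ht => Subgroup.subset_closure (by
    obtain ⟨k, hk⟩ := IsPGroup.iff_orderOf.mp T.2 ⟨t, ht⟩
    exact ⟨k, by rw [← Subgroup.orderOf_coe] at hk; exact hk⟩))
  have hKX : K ≤ ((ampleExt hS hF).autGroup P).comap (F.autGroup P).subtype := by
    intro a ha
    have h1 := closure_le_ampleCore hc ⟨a, ha, rfl⟩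
    exact ((ampleExt hS hF).mem_autGroup_iff hPS).mpr ⟨(F.mem_autGroup_iff hPS).mp a.2, 1,
      (F.autGroup S).one_mem, _, ((ampleCore F p).mem_autGroup_iff hPS).mp h1, fun _ => rfl⟩
  have hNX : Subgroup.normalizer ((T : Subgroup (F.autGroup P)) : Set (F.autGroup P)) ≤
      ((ampleExt hS hF).autGroup P).comap (F.autGroup P).subtype := by
    intro m hm
    obtain ⟨χ, hχ, hr, he⟩ := F.exists_map_of_mem_autGroup hPS m.2
    obtain ⟨ψ, hψ, hψe⟩ := (hF.isReceptive_of_isFullyNormalized hS hn).2 P χ hχ hr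
    have hle : normalizerIn S P ≤ extender S P χ := by
      intro g hg
      refine (mem_extender_iff (F.apply_mem hχ)).mpr ⟨hg.1, hg.2, ?_⟩
      let cg : F.autGroup P := ⟨P.normalizerMonoidHom ⟨g, hg.2⟩,
        autInducedBy_le_autGroup hPS (mem_autInducedBy_iff.mpr ⟨g, hg.1, hg.2, fun _ => rfl⟩)⟩
      have hcg : cg ∈ (T : Subgroup (F.autGroup P)) := by
        rw [hT]
        exact mem_autInducedBy_iff.mpr ⟨g, hg.1, hg.2, fun _ => rfl⟩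
      have h1 : m * cg * m⁻¹ ∈ (T : Subgroup (F.autGroup P)) := (Subgroup.mem_normalizer_iff.mp hm cg).mp hcg
      rw [hT] at h1
      obtain ⟨h, hh, -, hhe⟩ := mem_autInducedBy_iff.mp (Subgroup.mem_subgroupOf.mp h1)
      refine ⟨h, hh, fun x hx => ?_⟩
      have h2 := hhe ((m : MulAut P) x)
      rw [he, he, ← h2]
      show _ = (((m : MulAut P) ((cg : MulAut P) ((m : MulAut P)⁻¹ ((m : MulAut P) x))) : P) : Ω)
      rw [MulAut.inv_apply_self]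
      rfl
    haveI := finite_normalizerIn (S := S) (P := P)
    have hlt : Nat.card P < Nat.card (normalizerIn S P) := card_lt_of_lt (lt_normalizerIn hS (hP.lt hS hF))
    have hψX := hbig _ hlt (F.restrict_mem hψ hle)
    refine ((ampleExt hS hF).mem_autGroup_iff hPS).mpr
      ((ampleExt hS hF).mem_of_restrict hψX (le_normalizerIn hPS) fun x hx => ?_)
    exact (he ⟨x, hx⟩).symm.trans (hψe x hx _).symm
  exact (sup_le hNX hKX) (hgen.ge (Subgroup.mem_top ⟨γ, hγ⟩))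

/-- The criterion for index prime to `p` and its consequences. -/
theorem IsSaturated.hasPrimeToPIndexIn_of_centric (hF : F.IsSaturated p) (hS : IsPGroup p S) {E : FusionSystem S}
    (hEF : E.IsSubsystemOf F)
    (h : ∀ P : Subgroup Ω, F.IsCentric P →
      (Subgroup.closure {α : ↥(F.autGroup P) | ∃ k : ℕ, orderOf α = p ^ k}).map (F.autGroup P).subtype ≤ E.autGroup P) :
    E.HasPrimeToPIndexIn F p ∧
    (∀ (P : Subgroup Ω) (φ : P →* Ω), φ ∈ F.Hom P → ∃ α ∈ F.autGroup S, ∃ φ₀ ∈ E.Hom P,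
      ∀ (x : P) (hx : φ₀ x ∈ S), φ x = ((α ⟨φ₀ x, hx⟩ : S) : Ω)) ∧
    ∀ P : Subgroup Ω, E.IsCentric P ↔ F.IsCentric P := by
  have hfr : ∀ (P : Subgroup Ω) (φ : P →* Ω), φ ∈ F.Hom P → ∃ α ∈ F.autGroup S, ∃ φ₀ ∈ E.Hom P,
      ∀ (x : P) (hx : φ₀ x ∈ S), φ x = ((α ⟨φ₀ x, hx⟩ : S) : Ω) := by
    intro P φ hφ
    obtain ⟨-, β, hβ, φ₀, hφ₀, he⟩ := le_ampleExt hS hF P hφ
    exact ⟨β, hβ, φ₀, hφ₀.2 E ⟨hEF, h⟩, fun x _ => he x⟩
  refine ⟨⟨hEF, fun P hP => ?_⟩, hfr, fun P => ⟨fun hP => ⟨hP.1, fun Q hQ => ?_⟩, fun hP => ⟨hP.1, fun Q hQ => ?_⟩⟩⟩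
  · -- every `p`-element of an automiser lies in `E`
    rw [Subgroup.map_le_iff_le_comap]
    refine (Subgroup.closure_le _).mpr fun a ha => ?_
    obtain ⟨R, hPR, hR⟩ := F.exists_isFullyNormalized hP
    obtain ⟨φ, hφ, hr⟩ := hPR
    haveI := finite_autGroup (F := F) hR.1
    obtain ⟨-, T, hT⟩ := hF.isFullyAutomized_of_isFullyNormalized hS hR
    let i := F.isoOf hφ hr
    let b : F.autGroup R := ⟨MulAut.congr i (a : MulAut P), (autGroup_map_congr hφ hr).le ⟨_, a.2, rfl⟩⟩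
    have hbp : IsPGroup p (Subgroup.zpowers b) := by
      obtain ⟨k, hk⟩ := ha
      refine IsPGroup.of_card (n := k) ?_
      rw [Nat.card_zpowers, ← Subgroup.orderOf_coe, MulEquiv.orderOf_eq, Subgroup.orderOf_coe, hk]
    obtain ⟨T', hT'⟩ := hbp.exists_le_sylow
    obtain ⟨g, hg⟩ := MulAction.exists_smul_eq (F.autGroup R) T' T
    have hgb : g * b * g⁻¹ ∈ (T : Subgroup (F.autGroup R)) := by
      rw [← hg, Sylow.coe_subgroup_smul]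
      exact ⟨b, hT' (Subgroup.mem_zpowers b), rfl⟩
    rw [hT] at hgb
    obtain ⟨s, hs, -, hse⟩ := mem_autInducedBy_iff.mp (Subgroup.mem_subgroupOf.mp hgb)
    obtain ⟨χ, hχ, -, hχe⟩ := F.exists_map_of_mem_autGroup hR.1 g.2
    obtain ⟨φ', hφ', hφ'e⟩ := F.exists_comp hφ hχ (fun x => hr.le ⟨x, rfl⟩)
    have hφ'v : ∀ x : P, φ' x = (((g : MulAut R) (i x) : R) : Ω) := fun x => by
      rw [hφ'e, hχe]
      rfl
    obtain ⟨β, hβ, φ₀, hφ₀, he⟩ := hfr P φ' hφ'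
    obtain ⟨j, hj, -, hjl, -⟩ := E.exists_inv hφ₀ rfl
    set t : S := β⁻¹ ⟨s, hs⟩ with ht
    have hkey : ∀ x : P, conjHom φ₀.range (t : Ω) ⟨φ₀ x, x, rfl⟩ = φ₀ ((a : MulAut P) x) := fun x => by
      have h1 := hse ((g : MulAut R) (i x))
      have h2 : (((g * b * g⁻¹ : F.autGroup R) : MulAut R)) ((g : MulAut R) (i x)) =
          (g : MulAut R) (i ((a : MulAut P) x)) := by
        show (g : MulAut R) (i ((a : MulAut P) (i.symm ((g : MulAut R)⁻¹ ((g : MulAut R) (i x)))))) = _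
        rw [MulAut.inv_apply_self, MulEquiv.symm_apply_apply]
      rw [h2, ← hφ'v, ← hφ'v] at h1
      have h3 : β ⟨φ₀ ((a : MulAut P) x), E.apply_mem hφ₀ _⟩ =
          ⟨s, hs⟩ * β ⟨φ₀ x, E.apply_mem hφ₀ x⟩ * (⟨s, hs⟩ : S)⁻¹ := Subtype.ext (by
        show _ = s * ((β ⟨φ₀ x, E.apply_mem hφ₀ x⟩ : S) : Ω) * s⁻¹
        rw [← he _ _, ← he _ _, h1])
      have h4 := congrArg (β⁻¹ : MulAut S) h3
      rw [map_mul, map_mul, map_inv, MulAut.inv_apply_self, MulAut.inv_apply_self] at h4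
      exact (congrArg Subtype.val h4).symm
    have hin : ∀ y : φ₀.range, conjHom φ₀.range (t : Ω) y ∈ φ₀.range := by
      rintro ⟨_, x, rfl⟩
      exact ⟨_, (hkey x).symm⟩
    obtain ⟨c, hc, hce⟩ := E.exists_comp (E.conj_mem (E.range_le hφ₀) t.2) hj hin
    obtain ⟨d, hd, hde⟩ := E.exists_comp hφ₀ hc (fun x => ⟨x, rfl⟩)
    refine (E.mem_autGroup_iff hP).mpr (E.mem_of_apply_eq hd fun x => ?_)
    show (((a : MulAut P) x : P) : Ω) = d x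
    rw [hde, hce]
    exact ((congrArg j (Subtype.ext (hkey x))).trans (hjl _ ⟨_, rfl⟩)).symm
  · obtain ⟨φ, hφ, rfl⟩ := hQ
    obtain ⟨β, hβ, φ₀, hφ₀, he⟩ := hfr P φ hφ
    rintro c ⟨hcS, hcC⟩
    have h1 : ((β⁻¹ ⟨c, hcS⟩ : S) : Ω) ∈ φ₀.range := by
      refine hP.2 φ₀.range ⟨φ₀, hφ₀, rfl⟩ ⟨SetLike.coe_mem _, Subgroup.mem_centralizer_iff.mpr ?_⟩
      rintro _ ⟨x, rfl⟩
      have h2 : β ⟨φ₀ x, E.apply_mem hφ₀ x⟩ * ⟨c, hcS⟩ = ⟨c, hcS⟩ * β ⟨φ₀ x, E.apply_mem hφ₀ x⟩ := Subtype.ext (by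
        show ((β ⟨φ₀ x, _⟩ : S) : Ω) * c = c * ((β ⟨φ₀ x, _⟩ : S) : Ω)
        rw [← he x _]
        exact Subgroup.mem_centralizer_iff.mp hcC _ ⟨x, rfl⟩)
      have h3 := congrArg (β⁻¹ : MulAut S) h2
      rw [map_mul, map_mul, MulAut.inv_apply_self] at h3
      exact congrArg Subtype.val h3
    obtain ⟨x, hx⟩ := h1
    refine ⟨x, ?_⟩
    rw [he x (E.apply_mem hφ₀ x), show (⟨φ₀ x, E.apply_mem hφ₀ x⟩ : S) = β⁻¹ ⟨c, hcS⟩ from Subtype.ext hx,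
      MulAut.apply_inv_self]
  · obtain ⟨φ, hφ, rfl⟩ := hQ
    exact hP.2 _ ⟨φ, hEF P hφ, rfl⟩

end FusionSystem

end Cfsg
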