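import Cfsg.Agent.Lib.Fusion.Systems

/-!
The centre and the core of a fusion system; central subgroups of saturated systems.
-/

set_option autoImplicit false

namespace Cfsg

namespace FusionSystem

variable {Ω : Type*} [Group Ω] {S : Subgroup Ω} {F : FusionSystem S} {P Q R : Subgroup Ω}

theorem sSup_prop_of_le [Finite S] (prop : Subgroup Ω → Prop) (hbot : prop ⊥)
    (hsup : ∀ A B, prop A → prop B → prop (A ⊔ B)) (hle : ∀ A, prop A → A ≤ S) :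
    prop (sSup {A | prop A}) := by
  have hfin : {A : Subgroup Ω | prop A}.Finite := (finite_setOf_le S).subset hle
  suffices key : ∀ T : Set (Subgroup Ω), T.Finite → (∀ A ∈ T, prop A) → prop (sSup T) from
    key _ hfin fun _ h => h
  intro T hT
  induction T, hT using Set.Finite.induction_on with
  | empty =>
    intro _
    simpa using hbot
  | @insert A T _ _ ih =>
    intro h
    rw [sSup_insert]
    exact hsup _ _ (h A (Set.mem_insert _ _)) (ih fun B hB => h B (Set.mem_insert_of_mem _ hB))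

theorem isCentral_bot : F.IsCentral ⊥ := by
  refine ⟨bot_le, fun P φ hφ => ?_⟩
  refine ⟨_, F.restrict_mem hφ (sup_bot_eq P).le, fun x => rfl, fun x => ?_⟩
  have hx : x = 1 := Subsingleton.elim _ _
  subst hx
  simp

theorem IsCentral.le (h : F.IsCentral Q) : Q ≤ S := h.1

theorem IsCentral.sup (hQ : F.IsCentral Q) (hR : F.IsCentral R) : F.IsCentral (Q ⊔ R) := by
  refine ⟨sup_le hQ.1 hR.1, fun P φ hφ => ?_⟩
  obtain ⟨ψ, hψ, hψe, hψQ⟩ := hQ.2 P φ hφ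
  obtain ⟨χ, hχ, hχe, hχR⟩ := hR.2 _ ψ hψ
  have hle : P ⊔ (Q ⊔ R) ≤ P ⊔ Q ⊔ R := (sup_assoc P Q R).symm.le
  refine ⟨_, F.restrict_mem hχ hle, fun x => ?_, ?_⟩
  · exact (hχe ⟨x, Subgroup.mem_sup_left x.2⟩).trans (hψe x)
  · let A : Subgroup ↥(Q ⊔ R) :=
      MonoidHom.eqLocus ((χ.comp (Subgroup.inclusion hle)).comp (Subgroup.inclusion le_sup_right))
        (Q ⊔ R).subtype
    have hA : A = ⊤ := by
      rw [eq_top_iff]
      have h : ∀ (x : Ω) (hx : x ∈ Q ⊔ R), x ∈ Q ∨ x ∈ R → (⟨x, hx⟩ : ↥(Q ⊔ R)) ∈ A := by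
        intro x hx hor
        rcases hor with h | h
        · exact (hχe ⟨x, Subgroup.mem_sup_right h⟩).trans (hψQ ⟨x, h⟩)
        · exact hχR ⟨x, h⟩
      have h1 : Q.subgroupOf (Q ⊔ R) ≤ A := fun x hx => h x x.2 (Or.inl hx)
      have h2 : R.subgroupOf (Q ⊔ R) ≤ A := fun x hx => h x x.2 (Or.inr hx)
      have h3 := sup_le h1 h2
      rwa [← Subgroup.subgroupOf_sup le_sup_left le_sup_right, Subgroup.subgroupOf_self] at h3
    intro x
    exact (hA.ge (Subgroup.mem_top x) :)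

variable (F) in
theorem isCentral_center [Finite S] : F.IsCentral F.center :=
  sSup_prop_of_le F.IsCentral isCentral_bot (fun _ _ => IsCentral.sup) fun _ h => h.1

theorem isNormal_bot : F.IsNormal ⊥ := by
  refine ⟨bot_le, fun P φ hφ => ?_⟩
  refine ⟨_, F.restrict_mem hφ (sup_bot_eq P).le, fun x => rfl, ?_⟩
  rw [Subgroup.bot_subgroupOf, Subgroup.map_bot]

theorem IsNormal.sup (hQ : F.IsNormal Q) (hR : F.IsNormal R) : F.IsNormal (Q ⊔ R) := by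
  refine ⟨sup_le hQ.1 hR.1, fun P φ hφ => ?_⟩
  obtain ⟨ψ, hψ, hψe, hψQ⟩ := hQ.2 P φ hφ
  obtain ⟨χ, hχ, hχe, hχR⟩ := hR.2 _ ψ hψ
  have hle : P ⊔ (Q ⊔ R) ≤ P ⊔ Q ⊔ R := (sup_assoc P Q R).symm.le
  refine ⟨_, F.restrict_mem hχ hle, fun x => (hχe ⟨x, Subgroup.mem_sup_left x.2⟩).trans (hψe x), ?_⟩
  rw [Subgroup.subgroupOf_sup (le_sup_left.trans le_sup_right) (le_sup_right.trans le_sup_right),
    Subgroup.map_sup]
  congr 1
  · refine Eq.trans ?_ hψQ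
    ext y
    constructor
    · rintro ⟨x, hx, rfl⟩
      exact ⟨⟨x, Subgroup.mem_sup_right hx⟩, hx, (hχe ⟨x, Subgroup.mem_sup_right hx⟩).symm⟩
    · rintro ⟨x, hx, rfl⟩
      exact ⟨⟨x, Subgroup.mem_sup_right (Subgroup.mem_sup_left hx)⟩, hx, hχe x⟩
  · refine Eq.trans ?_ hχR
    ext y
    constructor
    · rintro ⟨x, hx, rfl⟩
      exact ⟨Subgroup.inclusion hle x, hx, rfl⟩
    · rintro ⟨x, hx, rfl⟩
      exact ⟨⟨x, Subgroup.mem_sup_right (Subgroup.mem_sup_right hx)⟩, hx, rfl⟩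

variable (F) in
theorem isNormal_core [Finite S] : F.IsNormal F.core :=
  sSup_prop_of_le F.IsNormal isNormal_bot (fun _ _ => IsNormal.sup) fun _ h => h.1

theorem IsCentral.isNormal (h : F.IsCentral Q) : F.IsNormal Q := by
  refine ⟨h.1, fun P φ hφ => ?_⟩
  obtain ⟨ψ, hψ, hψe, hψQ⟩ := h.2 P φ hφ
  refine ⟨ψ, hψ, hψe, ?_⟩
  ext y
  constructor
  · rintro ⟨x, hx, rfl⟩
    rw [show ψ x = (x : Ω) from hψQ ⟨x, hx⟩]
    exact hx
  · intro hy
    exact ⟨⟨y, Subgroup.mem_sup_right hy⟩, hy, hψQ ⟨y, hy⟩⟩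

theorem IsNormal.le_core (h : F.IsNormal Q) : Q ≤ F.core := le_sSup h

theorem IsCentral.le_center (h : F.IsCentral Q) : Q ≤ F.center := le_sSup h

theorem IsCentral.isConjElt_eq (h : F.IsCentral Q) {x : Ω} (hx : x ∈ Q) {y : Ω}
    (hy : F.IsConjElt x y) : y = x := by
  obtain ⟨φ, hφ, rfl⟩ := hy
  obtain ⟨ψ, hψ, hψe, hψQ⟩ := h.2 _ φ hφ
  rw [← hψe ⟨x, Subgroup.mem_zpowers x⟩]
  exact hψQ ⟨x, hx⟩

/-- A map fixes every element having no other conjugate. -/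
theorem apply_eq_self_of_isConjElt {φ : P →* Ω} (hφ : φ ∈ F.Hom P) {x : Ω} (hx : x ∈ P)
    (h : ∀ y, F.IsConjElt x y → y = x) : φ ⟨x, hx⟩ = x := by
  refine h _ ⟨_, F.restrict_mem hφ (Subgroup.zpowers_le.mpr hx), rfl⟩

theorem isCentral_of_isConjElt_eq [Finite S] {p : ℕ} [Fact p.Prime] (hF : F.IsSaturated p)
    (hQ : Q ≤ S) (h : ∀ x ∈ Q, ∀ y : Ω, F.IsConjElt x y → y = x) : F.IsCentral Q := by
  have hcen : ∀ {A : Subgroup Ω}, A ≤ S → Q ≤ centralizerIn S A := by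
    intro A hA x hx
    refine ⟨hQ hx, Subgroup.mem_centralizer_iff.mpr fun a ha => ?_⟩
    have h1 : a * x * a⁻¹ = x :=
      apply_eq_self_of_isConjElt (F.conj_mem (g := a) hQ (hA ha)) hx (h x hx)
    calc a * x = a * x * a⁻¹ * a := by group
      _ = x * a := by rw [h1]
  refine ⟨hQ, fun P φ hφ => ?_⟩
  have hPS : P ≤ S := F.source_le hφ
  obtain ⟨R, hconj, -, hR⟩ := hF φ.range (F.range_le hφ)
  obtain ⟨θ, hθ, hθr⟩ := hconj
  obtain ⟨χ, hχ, hχe⟩ := F.exists_comp hφ hθ (fun x => ⟨x, rfl⟩)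
  have hχr : χ.range = R := by
    rw [← hθr]
    ext y
    constructor
    · rintro ⟨x, rfl⟩
      exact ⟨_, (hχe x).symm⟩
    · rintro ⟨⟨_, x, rfl⟩, rfl⟩
      exact ⟨x, hχe x⟩
  obtain ⟨θ', hθ', hθ'e⟩ := hR.2 _ θ hθ hθr
  obtain ⟨χ', hχ', hχ'e⟩ := hR.2 P χ hχ hχr
  have hle₁ : P ⊔ Q ≤ extender S P χ :=
    sup_le (le_extender hPS (F.apply_mem hχ))
      ((hcen hPS).trans (centralizerIn_le_extender (F.apply_mem hχ)))
  have hle₂ : φ.range ⊔ Q ≤ extender S φ.range θ :=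
    sup_le (le_extender (F.range_le hφ) (F.apply_mem hθ))
      ((hcen (F.range_le hφ)).trans (centralizerIn_le_extender (F.apply_mem hθ)))
  obtain ⟨inv, hinv, -, hinvl, -⟩ := F.exists_inv (F.restrict_mem hθ' hle₂) rfl
  have hmem : ∀ x : ↥(P ⊔ Q),
      χ' (Subgroup.inclusion hle₁ x) ∈ (θ'.comp (Subgroup.inclusion hle₂)).range := by
    let A : Subgroup ↥(P ⊔ Q) :=
      (θ'.comp (Subgroup.inclusion hle₂)).range.comap (χ'.comp (Subgroup.inclusion hle₁))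
    have h1 : P.subgroupOf (P ⊔ Q) ≤ A := by
      intro x hx
      refine ⟨⟨φ ⟨x, hx⟩, Subgroup.mem_sup_left ⟨_, rfl⟩⟩, ?_⟩
      refine (hθ'e _ ⟨_, rfl⟩ _).trans ?_
      show θ _ = χ' ⟨x, _⟩
      rw [hχ'e x hx, hχe]
    have h2 : Q.subgroupOf (P ⊔ Q) ≤ A := by
      intro x hx
      refine ⟨⟨x, Subgroup.mem_sup_right hx⟩, ?_⟩
      refine (apply_eq_self_of_isConjElt hθ' _ (h x hx)).trans ?_
      exact (apply_eq_self_of_isConjElt hχ' _ (h x hx)).symm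
    have h3 := sup_le h1 h2
    rw [← Subgroup.subgroupOf_sup le_sup_left le_sup_right, Subgroup.subgroupOf_self] at h3
    exact fun x => h3 (Subgroup.mem_top x)
  obtain ⟨ψ, hψ, hψe⟩ := F.exists_comp (F.restrict_mem hχ' hle₁) hinv hmem
  refine ⟨ψ, hψ, fun x => ?_, fun x => apply_eq_self_of_isConjElt hψ _ (h x x.2)⟩
  rw [hψe]
  have hz : χ' (Subgroup.inclusion hle₁ (Subgroup.inclusion le_sup_left x)) =
      (θ'.comp (Subgroup.inclusion hle₂)) ⟨φ x, Subgroup.mem_sup_left ⟨x, rfl⟩⟩ := by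
    refine (hχ'e x x.2 _).trans ?_
    rw [hχe]
    exact (hθ'e _ ⟨x, rfl⟩ _).symm
  exact (congrArg inv (Subtype.ext hz : (⟨_, hmem _⟩ : ↥(θ'.comp (Subgroup.inclusion hle₂)).range) =
    ⟨_, ⟨⟨φ x, Subgroup.mem_sup_left ⟨x, rfl⟩⟩, rfl⟩⟩)).trans (hinvl _ _)

end FusionSystem

end Cfsg
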