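import Cfsg.Agent.Lib.Fusion.Hyperfocal
import Cfsg.Agent.Lib.Fusion.Factor
import Cfsg.Agent.S5134

/-!
The hyperfocal subgroup of a factor system.
-/

set_option autoImplicit false
set_option linter.unusedSectionVars false

namespace Cfsg.FusionSystem

universe u v
variable {Ω : Type u} [Group Ω] {S : Subgroup Ω} [Finite S] {F : FusionSystem S} {p : ℕ} [Fact p.Prime]
  {Ω' : Type v} [Group Ω'] {S' : Subgroup Ω'} {θ : S →* Ω'} {E : FusionSystem S'} {T : Subgroup Ω}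

theorem hyperfocalSubgroup_factor (hS : IsPGroup p S) (hF : F.IsSaturated p) (hT : F.StronglyClosed T)
    (hE : F.IsFactorSystem T θ E) :
    E.hyperfocalSubgroup p = ((F.hyperfocalSubgroup p).subgroupOf S).map θ := by
  obtain ⟨hTS, hker, hr, hhom⟩ := id hE
  -- powers of induced automorphisms
  have hpow : ∀ {P : Subgroup Ω} {P' : Subgroup Ω'} (α : MulAut P) (β : MulAut P') (hP : P ≤ S)
      (hm : ∀ x : P, θ ⟨x, hP x.2⟩ ∈ P'),
      (∀ x : P, ((β ⟨_, hm x⟩ : P') : Ω') = θ ⟨(α x : P), hP (α x).2⟩) →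
      ∀ (k : ℕ) (x : P), (((β ^ k) ⟨_, hm x⟩ : P') : Ω') = θ ⟨((α ^ k) x : P), hP ((α ^ k) x).2⟩ := by
    intro P P' α β hP hm h k
    induction k with
    | zero => intro x; simp
    | succ k ih =>
      intro x
      rw [pow_succ, pow_succ, MulAut.mul_apply, MulAut.mul_apply]
      refine Eq.trans ?_ (ih (α x))
      congr 2
      exact Subtype.ext (h x)
  refine le_antisymm ?_ ?_
  · rw [hyperfocalSubgroup_le_iff]
    intro P' hP' β hβ hβp y
    set P := preimageAlong θ P' with hPdef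
    have hPS : P ≤ S := preimageAlong_le
    obtain ⟨φ', hφ', -, hφ'e⟩ := E.exists_map_of_mem_autGroup hP' hβ
    obtain ⟨-, φ, hφ, hind⟩ := (hhom P' φ').mp hφ'
    have hm : ∀ x : P, θ ⟨x, hPS x.2⟩ ∈ P' := fun x => (mem_preimageAlong.mp x.2).2
    have hφe : ∀ x : P, θ ⟨φ x, F.apply_mem hφ x⟩ = ((β ⟨_, hm x⟩ : P') : Ω') := fun x => by
      rw [← inducedAlong_apply_mem hφ hind x (hm x), hφ'e]
    have hφr : φ.range = P := by
      haveI : Finite P := Finite.of_injective _ (Subgroup.inclusion_injective hPS)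
      refine Subgroup.eq_of_le_of_card_ge ?_
        (Nat.card_congr (MonoidHom.ofInjective (F.injective_of_mem hφ)).toEquiv).le
      rintro _ ⟨x, rfl⟩
      exact mem_preimageAlong.mpr ⟨F.apply_mem hφ x, hφe x ▸ (β ⟨_, hm x⟩).2⟩
    let α : MulAut P := F.isoOf hφ hφr
    have hα : α ∈ F.autGroup P := F.isoOf_mem_autGroup hφ hφr
    have hαe : ∀ x : P, ((β ⟨_, hm x⟩ : P') : Ω') = θ ⟨(α x : P), hPS (α x).2⟩ := fun x => by
      rw [← hφe]; rfl
    haveI : Finite P := Finite.of_injective _ (Subgroup.inclusion_injective hPS)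
    haveI : Finite (MulAut P) := Finite.of_injective (fun a : MulAut P => (a : P → P)) DFunLike.coe_injective
    obtain ⟨a, m, hpm, ham⟩ := Nat.exists_eq_pow_mul_and_not_dvd (orderOf_pos α).ne' p (Fact.out : p.Prime).ne_one
    obtain ⟨l, hl⟩ := exists_pow_eq_self_of_coprime (x := β) (n := p ^ a) (Nat.Coprime.pow_left a hβp.symm)
    have hcop : (orderOf (α ^ (p ^ a * l))).Coprime p := by
      refine Nat.Coprime.coprime_dvd_left ?_ ((Nat.Prime.coprime_iff_not_dvd Fact.out).mpr hpm).symm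
      refine orderOf_dvd_of_pow_eq_one ?_
      rw [← pow_mul, show p ^ a * l * m = p ^ a * m * l by ring, ← ham, pow_mul, pow_orderOf_eq_one, one_pow]
    obtain ⟨x, hx, hxS, hxe⟩ := exists_mem_preimageAlong (θ := θ) (P' := P') (hr ▸ hP') y
    have h1 := hpow α β hPS hm hαe (p ^ a * l) ⟨x, hx⟩
    rw [pow_mul β, hl] at h1
    have hy : y = ⟨_, hm ⟨x, hx⟩⟩ := Subtype.ext hxe.symm
    have hmem := hyperfocal_gen_mem hPS (Subgroup.pow_mem _ hα (p ^ a * l)) hcop ⟨x, hx⟩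
    refine ⟨⟨_, F.hyperfocalSubgroup_le hmem⟩, hmem, ?_⟩
    rw [hy, h1, ← map_inv, ← map_mul]
    rfl
  · rw [Subgroup.map_le_iff_le_comap]
    intro s hs
    suffices h : F.hyperfocalSubgroup p ≤ preimageAlong θ (E.hyperfocalSubgroup p) from
      (mem_preimageAlong.mp (h hs)).2
    rw [hyperfocalSubgroup_le_iff]
    intro P hP α hα hαp x
    obtain ⟨φ, hφ, hφr, hφe⟩ := F.exists_map_of_mem_autGroup hP hα
    obtain ⟨φ', hφ', hPS, hφS, hm, hind⟩ := (Cfsg.Agent.S5134.result p hS F hF T hT θ E hE).1.2 P φ hφ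
    have hsurj : ∀ y : (imageAlong θ P), ∃ x : P, θ ⟨x, hPS x.2⟩ = y := by
      rintro ⟨_, s, hs, rfl⟩
      exact ⟨⟨s, hs⟩, rfl⟩
    have hr' : φ'.range = (imageAlong θ P) := by
      refine le_antisymm ?_ fun y hy => ?_
      · rintro _ ⟨y, rfl⟩
        obtain ⟨z, hz⟩ := hsurj y
        rw [show y = ⟨_, hm z⟩ from Subtype.ext hz.symm, hind z]
        exact ⟨⟨φ z, hφS z⟩, show φ z ∈ P from hφr.le ⟨z, rfl⟩, rfl⟩
      · obtain ⟨z, hz⟩ := hsurj ⟨y, hy⟩
        obtain ⟨w, hw⟩ := hφr.ge z.2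
        exact ⟨⟨_, hm w⟩, (hind w).trans ((congrArg θ (Subtype.ext hw)).trans hz)⟩
    let β : MulAut (imageAlong θ P) := E.isoOf hφ' hr'
    have hβe : ∀ z : P, ((β ⟨_, hm z⟩ : (imageAlong θ P)) : Ω') = θ ⟨(α z : P), hPS (α z).2⟩ := fun z => by
      rw [show ((β ⟨_, hm z⟩ : (imageAlong θ P)) : Ω') = φ' ⟨_, hm z⟩ from rfl, hind]
      exact congrArg θ (Subtype.ext (hφe z))
    have hdvd : orderOf β ∣ orderOf α := by
      refine orderOf_dvd_of_pow_eq_one (MulEquiv.ext fun y => Subtype.ext ?_)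
      obtain ⟨z, hz⟩ := hsurj y
      rw [show y = ⟨_, hm z⟩ from Subtype.ext hz.symm, hpow α β hPS hm hβe]
      refine congrArg θ (Subtype.ext ?_)
      rw [pow_orderOf_eq_one]
      rfl
    have hPiS : (imageAlong θ P) ≤ S' := by
      rintro _ ⟨z, -, rfl⟩
      exact hr.le ⟨z, rfl⟩
    have hmem := hyperfocal_gen_mem hPiS (E.isoOf_mem_autGroup hφ' hr') (Nat.Coprime.coprime_dvd_left hdvd hαp)
      ⟨_, hm x⟩
    have hxS : (x : Ω)⁻¹ * ((α x : P) : Ω) ∈ S :=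
      mul_mem (InvMemClass.inv_mem (hPS x.2)) (hPS (α x).2)
    refine mem_preimageAlong.mpr ⟨hxS, ?_⟩
    rw [show (⟨_, hxS⟩ : S) = (⟨x, hPS x.2⟩ : S)⁻¹ * ⟨(α x : P), hPS (α x).2⟩ from rfl, map_mul, map_inv, ← hβe]
    exact hmem

end Cfsg.FusionSystem
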