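import Cfsg.Agent.Lib.Fusion.Transport
import Cfsg.Agent.Lib.Fusion.HyperfocalFactor
import Cfsg.Agent.Lib.Fusion.Center
import Cfsg.Agent.Lib.Fusion.Normal

/-!
Transport of components along isomorphisms.
-/

set_option autoImplicit false
set_option linter.unusedSectionVars false

namespace Cfsg

namespace FusionSystem

universe u v w

variable {Ω : Type u} [Group Ω] {Ω' : Type v} [Group Ω'] {Ω'' : Type w} [Group Ω''] {S : Subgroup Ω}
  {F : FusionSystem S} {S' : Subgroup Ω'} {F' : FusionSystem S'} {f : S →* Ω'}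
  {S'' : Subgroup Ω''} {F'' : FusionSystem S''} {T : Subgroup Ω}

theorem isFactorSystem_subtype (F : FusionSystem S) : F.IsFactorSystem ⊥ S.subtype F := by
  refine ⟨bot_le, fun s => by rw [Subgroup.coe_subtype, Subgroup.mem_bot], Subgroup.range_subtype S,
    fun P φ => ⟨fun hφ => ?_, ?_⟩⟩
  · have hPS := F.source_le hφ
    have hle : preimageAlong S.subtype P ≤ P := fun x hx => (mem_preimageAlong.mp hx).2
    exact ⟨hPS, _, F.restrict_mem hφ hle, preimageAlong_le, F.apply_mem (F.restrict_mem hφ hle),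
      fun x => hle x.2, fun x => rfl⟩
  · rintro ⟨hPS, χ, hχ, hX, hχS, hm, he⟩
    have hle : P ≤ preimageAlong S.subtype P := fun x hx => mem_preimageAlong.mpr ⟨hPS hx, hx⟩
    exact F.mem_of_restrict hχ hle fun x hx => he ⟨x, hle hx⟩

/-- Two readings of one factor system are isomorphic. -/
theorem IsFactorSystem.exists_iso (hT : F.StronglyClosed T) (h₁ : F.IsFactorSystem T f F')
    {θ : S →* Ω''} (h₂ : F.IsFactorSystem T θ F'') :
    ∃ g : S'' →* Ω', F''.IsFactorSystem ⊥ g F' ∧ ∀ (s : S) (hs : θ s ∈ S''), g ⟨θ s, hs⟩ = f s := by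
  obtain ⟨-, hk₁, hr₁, hh₁⟩ := id h₁
  obtain ⟨-, hk₂, hr₂, hh₂⟩ := id h₂
  have hmem : ∀ s, θ s ∈ S'' := fun s => hr₂.le ⟨s, rfl⟩
  let θ' : S →* S'' := θ.codRestrict S'' hmem
  have hsurj : Function.Surjective θ' := fun y => by
    obtain ⟨s, hs⟩ := hr₂.ge y.2
    exact ⟨s, Subtype.ext hs⟩
  let g : S'' →* Ω' := θ'.liftOfSurjective hsurj ⟨f, fun s hs =>
    (hk₁ s).mpr ((hk₂ s).mp (congrArg Subtype.val hs))⟩
  have hg : ∀ (s : S) (hs : θ s ∈ S''), g ⟨θ s, hs⟩ = f s := fun s hs =>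
    MonoidHom.liftOfRightInverse_comp_apply θ' _ (Function.rightInverse_surjInv hsurj) _ s
  refine ⟨g, ⟨bot_le, fun y => ?_, ?_, fun P₁ φ₁ => ⟨fun hφ₁ => ?_, ?_⟩⟩, hg⟩
  · obtain ⟨s, rfl⟩ := hsurj y
    rw [Subgroup.mem_bot, show g (θ' s) = f s from hg s (hmem s), hk₁, ← hk₂]
    rfl
  · ext y
    constructor
    · rintro ⟨z, rfl⟩
      obtain ⟨s, rfl⟩ := hsurj z
      rw [show g (θ' s) = f s from hg s (hmem s)]
      exact hr₁.le ⟨s, rfl⟩
    · intro hy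
      obtain ⟨s, rfl⟩ := hr₁.ge hy
      exact ⟨θ' s, hg s (hmem s)⟩
  · obtain ⟨hP₁, φ, hφ, hi⟩ := (hh₁ P₁ φ₁).mp hφ₁
    obtain ⟨φ₂, hi₂⟩ := exists_inducedAlong hk₂ hT hφ
    obtain ⟨hP, hφS, hm₂, he₂⟩ := hi₂
    have hle : preimageAlong g P₁ ≤ imageAlong θ (preimageAlong f P₁) := by
      intro y hy
      obtain ⟨hyS, hgy⟩ := mem_preimageAlong.mp hy
      obtain ⟨s, hs⟩ := hr₂.ge hyS
      refine ⟨s, mem_preimageAlong.mpr ⟨s.2, ?_⟩, hs⟩
      show f s ∈ P₁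
      rw [← hg s (hmem s)]
      exact (congrArg g (Subtype.ext hs : (⟨θ s, hmem s⟩ : S'') = ⟨y, hyS⟩)) ▸ hgy
    have hpre : preimageAlong θ (preimageAlong g P₁) ≤ preimageAlong f P₁ := fun x hx => by
      obtain ⟨hxS, hx'⟩ := mem_preimageAlong.mp hx
      obtain ⟨hyS, hgy⟩ := mem_preimageAlong.mp hx'
      exact mem_preimageAlong.mpr ⟨hxS, hg ⟨x, hxS⟩ hyS ▸ hgy⟩
    have hφ₂ : φ₂.comp (Subgroup.inclusion hle) ∈ F''.Hom (preimageAlong g P₁) :=
      (hh₂ _ _).mpr ⟨preimageAlong_le, _, F.restrict_mem hφ hpre, preimageAlong_le,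
        F.apply_mem (F.restrict_mem hφ hpre), fun x => (mem_preimageAlong.mp x.2).2,
        fun x => he₂ (Subgroup.inclusion hpre x)⟩
    refine ⟨hP₁, _, hφ₂, preimageAlong_le, F''.apply_mem hφ₂, fun y => (mem_preimageAlong.mp y.2).2, fun y => ?_⟩
    obtain ⟨s, hs, hse⟩ : (y : Ω'') ∈ imageAlong θ (preimageAlong f P₁) := hle y.2
    have hms : θ s ∈ imageAlong θ (preimageAlong f P₁) := ⟨s, hs, rfl⟩
    have hfs : f ⟨(s : Ω), s.2⟩ ∈ P₁ := (mem_preimageAlong.mp hs).2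
    have h1 : φ₂ (Subgroup.inclusion hle y) = θ ⟨φ ⟨s, hs⟩, F.apply_mem hφ _⟩ :=
      (congrArg φ₂ (Subtype.ext hse.symm : Subgroup.inclusion hle y = ⟨_, hms⟩)).trans (he₂ ⟨s, hs⟩)
    have h2 : g ⟨(y : Ω''), preimageAlong_le y.2⟩ = f s :=
      (congrArg g (Subtype.ext hse.symm : (⟨(y : Ω''), preimageAlong_le y.2⟩ : S'') = ⟨θ s, hmem s⟩)).trans
        (hg s (hmem s))
    refine (congrArg φ₁ (Subtype.ext h2 : _ = (⟨_, hfs⟩ : P₁))).trans ?_
    refine (inducedAlong_apply_mem hφ hi ⟨s, hs⟩ hfs).trans ?_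
    exact ((congrArg g (Subtype.ext h1 :
      (⟨_, F''.apply_mem hφ₂ y⟩ : S'') = ⟨θ ⟨φ ⟨s, hs⟩, F.apply_mem hφ _⟩, hmem _⟩)).trans (hg _ _)).symm
  · rintro ⟨hP₁, φ₂, hφ₂, hi⟩
    obtain ⟨-, φ, hφ, hi'⟩ := (hh₂ _ _).mp hφ₂
    have hpre : preimageAlong f P₁ ≤ preimageAlong θ (preimageAlong g P₁) := fun x hx => by
      obtain ⟨hxS, hx'⟩ := mem_preimageAlong.mp hx
      exact mem_preimageAlong.mpr ⟨hxS, mem_preimageAlong.mpr ⟨hmem _, (hg ⟨x, hxS⟩ (hmem _)).symm ▸ hx'⟩⟩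
    refine (hh₁ _ _).mpr ⟨hP₁, _, F.restrict_mem hφ hpre, preimageAlong_le,
      F.apply_mem (F.restrict_mem hφ hpre), fun x => (mem_preimageAlong.mp x.2).2, fun x => ?_⟩
    obtain ⟨hP, hφ₂S, hm, he⟩ := hi
    have hxθ : θ ⟨x, preimageAlong_le x.2⟩ ∈ preimageAlong g P₁ := (mem_preimageAlong.mp (hpre x.2)).2
    have h1 := inducedAlong_apply_mem hφ hi' (Subgroup.inclusion hpre x) hxθ
    have h2 : g ⟨θ ⟨x, preimageAlong_le x.2⟩, hP hxθ⟩ = f ⟨x, preimageAlong_le x.2⟩ := hg _ _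
    refine (congrArg φ₁ (Subtype.ext h2.symm : _ = (⟨_, hm ⟨_, hxθ⟩⟩ : P₁))).trans ?_
    refine (he ⟨_, hxθ⟩).trans ?_
    exact (congrArg g (Subtype.ext h1 : (⟨_, hφ₂S ⟨_, hxθ⟩⟩ : S'') = ⟨_, hmem _⟩)).trans (hg _ _)

theorem IsFactorSystem.exists_symm (h : F.IsFactorSystem ⊥ f F') :
    ∃ g : S' →* Ω, F'.IsFactorSystem ⊥ g F ∧ ∀ (s : S) (hs : f s ∈ S'), g ⟨f s, hs⟩ = s :=
  IsFactorSystem.exists_iso stronglyClosed_bot (isFactorSystem_subtype F) h

/-- Composition with a further factor system. -/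
theorem IsFactorSystem.comp (h : F.IsFactorSystem ⊥ f F') {T' : Subgroup Ω'} {θ : S' →* Ω''}
    (h' : F'.IsFactorSystem T' θ F'') :
    F.IsFactorSystem (preimageAlong f T') (θ.comp (f.codRestrict S' h.apply_mem)) F'' := by
  obtain ⟨-, hk, hr, hh⟩ := id h'
  refine ⟨preimageAlong_le, fun s => ?_, ?_, fun P'' φ'' => ⟨fun hφ'' => ?_, ?_⟩⟩
  · rw [MonoidHom.comp_apply, hk]
    constructor
    · exact fun hs => mem_preimageAlong.mpr ⟨s.2, hs⟩
    · exact fun hs => (mem_preimageAlong.mp hs).2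
  · rw [← hr]
    ext y
    constructor
    · rintro ⟨s, rfl⟩
      exact ⟨_, rfl⟩
    · rintro ⟨z, rfl⟩
      obtain ⟨s, hs⟩ := h.2.2.1.ge z.2
      exact ⟨s, congrArg θ (Subtype.ext hs)⟩
  · obtain ⟨hP'', φ', hφ', hi⟩ := (hh _ _).mp hφ''
    obtain ⟨φ, hφ, he⟩ := h.down hφ'
    have hpre : preimageAlong (θ.comp (f.codRestrict S' h.apply_mem)) P'' ≤
        preimageAlong f (preimageAlong θ P'') := fun x hx => by
      obtain ⟨hxS, hm⟩ := mem_preimageAlong.mp hx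
      exact mem_preimageAlong.mpr ⟨hxS, mem_preimageAlong.mpr ⟨h.apply_mem _, hm⟩⟩
    refine ⟨hP'', _, F.restrict_mem hφ hpre, preimageAlong_le, F.apply_mem (F.restrict_mem hφ hpre),
      fun x => (mem_preimageAlong.mp x.2).2, fun x => ?_⟩
    have hm : f ⟨x, preimageAlong_le x.2⟩ ∈ preimageAlong θ P'' := (mem_preimageAlong.mp (hpre x.2)).2
    have h1 := he (Subgroup.inclusion hpre x) (preimageAlong_le x.2) hm
    refine (inducedAlong_apply_mem hφ' hi ⟨_, hm⟩ (mem_preimageAlong.mp x.2).2).trans ?_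
    exact congrArg θ (Subtype.ext h1)
  · rintro ⟨hP'', φ, hφ, hi⟩
    obtain ⟨φ', hφ', he⟩ := h.up hφ
    have hpre : preimageAlong θ P'' ≤
        imageAlong f (preimageAlong (θ.comp (f.codRestrict S' h.apply_mem)) P'') := fun y hy => by
      obtain ⟨hyS, hm⟩ := mem_preimageAlong.mp hy
      obtain ⟨s, hs⟩ := h.2.2.1.ge hyS
      refine ⟨s, mem_preimageAlong.mpr ⟨s.2, ?_⟩, hs⟩
      show θ ⟨f s, h.apply_mem s⟩ ∈ P''
      exact (congrArg θ (Subtype.ext hs.symm : (⟨y, hyS⟩ : S') = ⟨f s, h.apply_mem s⟩)) ▸ hm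
    refine (hh _ _).mpr ⟨hP'', _, F'.restrict_mem hφ' hpre, preimageAlong_le,
      F'.apply_mem (F'.restrict_mem hφ' hpre), fun y => (mem_preimageAlong.mp y.2).2, fun y => ?_⟩
    obtain ⟨s, hs, hse⟩ : (y : Ω') ∈ imageAlong f (preimageAlong (θ.comp (f.codRestrict S' h.apply_mem)) P'') :=
      hpre y.2
    have hms : f ⟨(s : Ω), s.2⟩ ∈ imageAlong f (preimageAlong (θ.comp (f.codRestrict S' h.apply_mem)) P'') :=
      ⟨s, hs, rfl⟩
    have h1 : φ' (Subgroup.inclusion hpre y) = f ⟨φ ⟨s, hs⟩, F.apply_mem hφ _⟩ :=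
      (congrArg φ' (Subtype.ext hse.symm : Subgroup.inclusion hpre y = ⟨_, hms⟩)).trans
        (he ⟨s, hs⟩ s.2 hms)
    have h2 : θ ⟨(y : Ω'), preimageAlong_le y.2⟩ = θ ⟨f s, h.apply_mem s⟩ := congrArg θ (Subtype.ext hse.symm)
    refine (congrArg φ'' (Subtype.ext h2 : _ = (⟨_, (mem_preimageAlong.mp hs).2⟩ : P''))).trans ?_
    refine (inducedAlong_apply_mem hφ hi ⟨s, hs⟩ (mem_preimageAlong.mp hs).2).trans ?_
    exact congrArg θ (Subtype.ext h1.symm)

theorem IsFactorSystem.isSimple_of {p : ℕ} [Fact p.Prime] [Finite S] (h : F.IsFactorSystem ⊥ f F')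
    (hS : IsPGroup p S) (hFs : F.IsSaturated p) (hF' : F'.IsSimple p) : F.IsSimple p := by
  refine ⟨hFs, fun e => hF'.2.1 ?_, fun U E hE => ?_⟩
  · refine (Subgroup.eq_bot_iff_forall _).mpr fun y hy => ?_
    obtain ⟨s, rfl⟩ := h.2.2.1.ge hy
    exact (h.2.1 s).mpr (e ▸ s.2)
  obtain ⟨E', hU, hE'n, hE'⟩ := h.exists_isNormalIn hS hE
  rcases hF'.2.2 _ E' hE'n with h0 | ⟨h1, heq⟩
  · left
    refine (Subgroup.eq_bot_iff_forall _).mpr fun x hx => ?_
    have h2 : f ⟨x, hU hx⟩ ∈ imageAlong f U := ⟨⟨x, hU hx⟩, hx, rfl⟩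
    rw [h0, Subgroup.mem_bot, map_eq_one_iff f h.injective] at h2
    exact congrArg Subtype.val h2
  · right
    have hUT : U = S := le_antisymm hU fun x hx =>
      (mem_imageAlong_iff h.injective hx).mp (h1.ge (h.apply_mem ⟨x, hx⟩))
    refine ⟨hUT, fun P => Set.Subset.antisymm (hE.1.2.2.1 P) fun φ hφ => ?_⟩
    have hPS : P ≤ S := F.source_le hφ
    obtain ⟨φ', hφ', he'⟩ := h.up hφ
    rw [← heq] at hφ'
    obtain ⟨ψ, hψ, hψe⟩ := hE'.down hφ'
    have hle : P ≤ preimageAlong (f.comp (Subgroup.inclusion hU)) (imageAlong f P) := fun x hx =>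
      mem_preimageAlong.mpr ⟨hUT.ge (hPS hx), ⟨⟨x, hPS hx⟩, hx, rfl⟩⟩
    refine E.mem_of_restrict hψ hle fun x hx => ?_
    have hm : f ⟨x, hPS hx⟩ ∈ imageAlong f P := ⟨⟨x, hPS hx⟩, hx, rfl⟩
    have h3 := (hψe ⟨x, hle hx⟩ (hUT.ge (hPS hx)) hm).symm.trans (he' ⟨x, hx⟩ (hPS hx) hm)
    exact (congrArg (fun z : S => (z : Ω)) (h.injective h3)).symm

theorem IsFactorSystem.isCentral_imageAlong (h : F.IsFactorSystem ⊥ f F') {Q : Subgroup Ω}
    (hQ : F.IsCentral Q) : F'.IsCentral (imageAlong f Q) := by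
  refine ⟨?_, fun P' φ' hφ' => ?_⟩
  · rintro _ ⟨s, -, rfl⟩
    exact h.apply_mem s
  obtain ⟨φ, hφ, he⟩ := h.down hφ'
  obtain ⟨ψ, hψ, hψe, hψQ⟩ := hQ.2 _ φ hφ
  obtain ⟨ψ', hψ', hψ'e⟩ := h.up hψ
  have hle : P' ⊔ imageAlong f Q ≤ imageAlong f (preimageAlong f P' ⊔ Q) := by
    refine sup_le (fun y hy => ?_) (Subgroup.map_mono (Subgroup.comap_mono le_sup_right))
    obtain ⟨x, hx, hxP, e⟩ := h.exists_preimage (F'.source_le hφ') ⟨y, hy⟩
    exact ⟨⟨x, hx⟩, Subgroup.mem_sup_left hxP, e⟩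
  refine ⟨_, F'.restrict_mem hψ' hle, fun y => ?_, fun y => ?_⟩
  · obtain ⟨x, hx, hxP, e⟩ := h.exists_preimage (F'.source_le hφ') y
    have hm : f ⟨x, hx⟩ ∈ P' := e.symm ▸ y.2
    have hm' : f ⟨x, hx⟩ ∈ imageAlong f (preimageAlong f P' ⊔ Q) := ⟨⟨x, hx⟩, Subgroup.mem_sup_left hxP, rfl⟩
    show ψ' (Subgroup.inclusion hle (Subgroup.inclusion le_sup_left y)) = _
    rw [show y = ⟨_, hm⟩ from Subtype.ext e.symm, he ⟨x, hxP⟩ hx hm]
    refine (hψ'e ⟨x, Subgroup.mem_sup_left hxP⟩ hx hm').trans ?_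
    exact congrArg f (Subtype.ext (hψe ⟨x, hxP⟩))
  · obtain ⟨s, hs, e⟩ : (y : Ω') ∈ imageAlong f Q := y.2
    have hm' : f ⟨(s : Ω), s.2⟩ ∈ imageAlong f (preimageAlong f P' ⊔ Q) :=
      ⟨s, Subgroup.mem_sup_right hs, rfl⟩
    show ψ' (Subgroup.inclusion hle (Subgroup.inclusion le_sup_right y)) = y
    rw [show Subgroup.inclusion hle (Subgroup.inclusion le_sup_right y) = ⟨_, hm'⟩ from Subtype.ext e.symm,
      hψ'e ⟨s, Subgroup.mem_sup_right hs⟩ s.2 hm', ← e]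
    exact congrArg f (Subtype.ext (hψQ ⟨s, hs⟩))

/-- Quasisimplicity is carried along isomorphisms. -/
theorem IsFactorSystem.quasisimple {p : ℕ} [Fact p.Prime] [Finite S] (h : F.IsFactorSystem ⊥ f F')
    (hS : IsPGroup p S) (hF : F.Quasisimple p) : F'.Quasisimple p := by
  obtain ⟨hsat, hhyp, hsimp⟩ := hF
  have hsat' := h.isSaturated hS hsat
  haveI : Finite S' := h.2.2.1 ▸ Finite.of_surjective f.rangeRestrict f.rangeRestrict_surjective
  have hS'p : IsPGroup p S' := h.2.2.1 ▸ hS.of_surjective f.rangeRestrict f.rangeRestrict_surjective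
  refine ⟨hsat', ?_, fun E' hE' => ?_⟩
  · rw [hyperfocalSubgroup_factor hS hsat stronglyClosed_bot h, hhyp, Subgroup.subgroupOf_self,
      ← MonoidHom.range_eq_map, h.2.2.1]
  obtain ⟨g, hg, hge⟩ := h.exists_symm
  have hcen : preimageAlong f F'.center = F.center := by
    have hc : F.IsCentral F.center := isCentral_center F
    refine le_antisymm (fun x hx => ?_) fun x hx => ?_
    · obtain ⟨hxS, hm⟩ := mem_preimageAlong.mp hx
      refine (hg.isCentral_imageAlong (isCentral_center F')).le_center ?_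
      exact ⟨⟨_, h.apply_mem ⟨x, hxS⟩⟩, hm, hge ⟨x, hxS⟩ _⟩
    · exact mem_preimageAlong.mpr ⟨hc.le hx, (h.isCentral_imageAlong hc).le_center ⟨⟨x, hc.le hx⟩, hx, rfl⟩⟩
  have h2 := h.comp hE'
  rw [hcen] at h2
  have hsc : F.StronglyClosed F.center := (isCentral_center F).isNormal.stronglyClosed
  have hker : ∀ s : S, QuotientGroup.mk' ((F.center).subgroupOf S) s = 1 ↔ (s : Ω) ∈ F.center := fun s =>
    QuotientGroup.eq_one_iff s
  obtain ⟨E₀, hE₀⟩ : ∃ E₀ : FusionSystem (⊤ : Subgroup (S ⧸ (F.center).subgroupOf S)),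
      F.IsFactorSystem F.center (QuotientGroup.mk' ((F.center).subgroupOf S)) E₀ := by
    rw [← MonoidHom.range_eq_top.mpr (QuotientGroup.mk'_surjective ((F.center).subgroupOf S))]
    exact ⟨factorSystem F.center F _ hker hsc, (isCentral_center F).le, hker, rfl, fun P' φ' => Iff.rfl⟩
  obtain ⟨j, hj, -⟩ := IsFactorSystem.exists_iso hsc hE₀ h2
  haveI : Finite ↥(⊤ : Subgroup (S' ⧸ (F'.center).subgroupOf S')) := inferInstance
  have hE'sat : E'.IsSaturated p :=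
    (Cfsg.Agent.S5134.result p hS F hsat F.center hsc _ E' h2).isSaturated hS hsat
  exact hj.isSimple_of ((hS'p.to_quotient _).to_subgroup ⊤) hE'sat (hsimp E₀ hE₀)

theorem eq_of_isFactorSystem {E₁ E₂ : FusionSystem S'} (h₁ : F.IsFactorSystem T f E₁)
    (h₂ : F.IsFactorSystem T f E₂) : E₁ = E₂ :=
  hom_ext fun P => Set.ext fun φ => (h₁.2.2.2 P φ).trans (h₂.2.2.2 P φ).symm

/-- Subnormal subsystems are carried along isomorphisms. -/
theorem IsFactorSystem.exists_isSubnormalIn {p : ℕ} [Fact p.Prime] [Finite S]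
    (h : F.IsFactorSystem ⊥ f F') (hS : IsPGroup p S) {U : Subgroup Ω} {C : FusionSystem U}
    (hC : C.IsSubnormalIn F p) :
    ∃ (U' : Subgroup Ω') (C' : FusionSystem U') (hU : U ≤ S), U' = imageAlong f U ∧
      C'.IsSubnormalIn F' p ∧ C.IsFactorSystem ⊥ (f.comp (Subgroup.inclusion hU)) C' := by
  revert S' F' h hS
  revert f
  revert ‹Finite S›
  revert ‹Fact p.Prime›
  induction hC with
  | @refl F p =>
    intro _ _ f S' F' h _
    refine ⟨S', F', le_rfl, ?_, IsSubnormalIn.refl F' p, ?_⟩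
    · rw [imageAlong, Subgroup.subgroupOf_self, ← MonoidHom.range_eq_map, h.2.2.1]
    · rwa [show f.comp (Subgroup.inclusion le_rfl) = f from MonoidHom.ext fun _ => rfl]
  | @step U S E D F p hED hDF ih =>
    intro _ _ f S' F' h hS
    obtain ⟨D', hU, hD'n, hD'⟩ := h.exists_isNormalIn hS hDF
    haveI := finite_of_le hU
    obtain ⟨T', C', hT, hT', hC', hCC'⟩ := ih hD' (hS.to_le hU)
    refine ⟨T', C', hT.trans hU, ?_, IsSubnormalIn.step hC' hD'n, ?_⟩
    · rw [hT']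
      ext y
      constructor
      · rintro ⟨s, hs, rfl⟩
        exact ⟨Subgroup.inclusion hU s, hs, rfl⟩
      · rintro ⟨s, hs, rfl⟩
        exact ⟨⟨s, hT hs⟩, hs, rfl⟩
    · exact (show (f.comp (Subgroup.inclusion hU)).comp (Subgroup.inclusion hT) =
        f.comp (Subgroup.inclusion (hT.trans hU)) from MonoidHom.ext fun _ => rfl) ▸ hCC'

theorem IsSubnormalIn.le {p : ℕ} {U : Subgroup Ω} {C : FusionSystem U} (hC : C.IsSubnormalIn F p) :
    U ≤ S := by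
  induction hC with
  | refl => exact le_rfl
  | step _ h ih => exact ih.trans h.1.2.2.2.1.1

theorem IsSubnormalIn.isSaturated {p : ℕ} {U : Subgroup Ω} {C : FusionSystem U} (hC : C.IsSubnormalIn F p)
    (hF : F.IsSaturated p) : C.IsSaturated p := by
  induction hC with
  | refl => exact hF
  | step _ h ih => exact ih h.1.1

/-- An automorphism of the group preserving the system. -/
theorem isFactorSystem_of_morphisms (α : ↥S ≃* ↥S) (hα : F.IsMorphism F (S.subtype.comp α.toMonoidHom))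
    (hα' : F.IsMorphism F (S.subtype.comp α.symm.toMonoidHom)) :
    F.IsFactorSystem ⊥ (S.subtype.comp α.toMonoidHom) F := by
  refine ⟨bot_le, fun s => ?_, ?_, fun P' φ' => ⟨fun hφ' => ?_, ?_⟩⟩
  · rw [Subgroup.mem_bot, OneMemClass.coe_eq_one]
    exact map_eq_one_iff _ fun a b e => α.injective (Subtype.ext e)
  · rw [MonoidHom.range_comp, MonoidHom.range_eq_top.mpr α.surjective, ← MonoidHom.range_eq_map,
      Subgroup.range_subtype]
  · obtain ⟨φ, hφ, hP, hφS, hm, he⟩ := hα'.2 P' φ' hφ'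
    have hle : preimageAlong (S.subtype.comp α.toMonoidHom) P' ≤
        imageAlong (S.subtype.comp α.symm.toMonoidHom) P' := fun x hx => by
      obtain ⟨hxS, hm'⟩ := mem_preimageAlong.mp hx
      exact ⟨α ⟨x, hxS⟩, hm', congrArg Subtype.val (α.symm_apply_apply _)⟩
    refine ⟨F.source_le hφ', _, F.restrict_mem hφ hle, preimageAlong_le,
      F.apply_mem (F.restrict_mem hφ hle), fun x => (mem_preimageAlong.mp x.2).2, fun x => ?_⟩
    let y : P' := ⟨_, (mem_preimageAlong.mp x.2).2⟩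
    have h1 : φ (Subgroup.inclusion hle x) = ((α.symm ⟨φ' y, hφS y⟩ : S) : Ω) :=
      (congrArg φ (Subtype.ext (congrArg (fun z : S => (z : Ω)) (α.symm_apply_apply ⟨x, preimageAlong_le x.2⟩)).symm :
        Subgroup.inclusion hle x = ⟨_, hm y⟩)).trans (he y)
    show φ' y = _
    have h2 : (⟨φ (Subgroup.inclusion hle x), F.apply_mem (F.restrict_mem hφ hle) x⟩ : S) =
        α.symm ⟨φ' y, hφS y⟩ := Subtype.ext h1
    show φ' y = ((α ⟨φ (Subgroup.inclusion hle x), F.apply_mem (F.restrict_mem hφ hle) x⟩ : S) : Ω)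
    rw [h2, MulEquiv.apply_symm_apply]
  · rintro ⟨hP', φ, hφ, hi⟩
    obtain ⟨φ₁, hφ₁, hP, hφS, hm, he⟩ := hα.2 _ φ hφ
    have hle : P' ≤ imageAlong (S.subtype.comp α.toMonoidHom)
        (preimageAlong (S.subtype.comp α.toMonoidHom) P') := fun y hy => by
      refine ⟨α.symm ⟨y, hP' hy⟩, mem_preimageAlong.mpr ⟨(α.symm ⟨y, hP' hy⟩).2, ?_⟩,
        congrArg Subtype.val (α.apply_symm_apply _)⟩
      show ((α (α.symm ⟨y, hP' hy⟩) : S) : Ω) ∈ P'
      rwa [MulEquiv.apply_symm_apply]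
    refine F.mem_of_restrict hφ₁ hle fun y hy => ?_
    obtain ⟨s, hs, e⟩ := hle hy
    have hms : (S.subtype.comp α.toMonoidHom) ⟨(s : Ω), hP hs⟩ ∈ P' := e.symm ▸ hy
    calc φ' ⟨y, hy⟩ = φ' ⟨_, hms⟩ := congrArg φ' (Subtype.ext e.symm)
      _ = _ := inducedAlong_apply_mem hφ hi ⟨s, hs⟩ hms
      _ = φ₁ ⟨_, hm ⟨s, hs⟩⟩ := (he ⟨s, hs⟩).symm
      _ = φ₁ ⟨y, hle hy⟩ := congrArg φ₁ (Subtype.ext e)

theorem isPGroup_of_le {p : ℕ} (hS : IsPGroup p S) {U : Subgroup Ω} (h : U ≤ S) : IsPGroup p U := hS.to_le h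

/-- The layer is invariant under automorphisms of the system. -/
theorem IsLayerOf.characteristic {p : ℕ} [Fact p.Prime] [Finite S] (hS : IsPGroup p S)
    (α : ↥S ≃* ↥S) (hα : F.IsMorphism F (S.subtype.comp α.toMonoidHom))
    (hα' : F.IsMorphism F (S.subtype.comp α.symm.toMonoidHom)) {E : FusionSystem T}
    (hE : E.IsLayerOf F p) :
    imageAlong (S.subtype.comp α.toMonoidHom) T = T ∧ ∀ (P : Subgroup Ω) (φ : ↥P →* Ω), φ ∈ E.Hom P →
      ∀ φ' : ↥(imageAlong (S.subtype.comp α.toMonoidHom) P) →* Ω,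
        InducedAlong (S.subtype.comp α.toMonoidHom) φ φ' →
        φ' ∈ E.Hom (imageAlong (S.subtype.comp α.toMonoidHom) P) := by
  obtain ⟨hn, hcomp, hmin⟩ := hE
  have hTS : T ≤ S := hn.1.2.2.2.1.1
  haveI := finite_of_le hTS
  -- the layer is contained in each of its images
  have key : ∀ β : ↥S ≃* ↥S, F.IsMorphism F (S.subtype.comp β.toMonoidHom) →
      F.IsMorphism F (S.subtype.comp β.symm.toMonoidHom) →
      ∃ E' : FusionSystem (imageAlong (S.subtype.comp β.toMonoidHom) T),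
        E.IsFactorSystem ⊥ ((S.subtype.comp β.toMonoidHom).comp (Subgroup.inclusion hTS)) E' ∧
        imageAlong (S.subtype.comp β.toMonoidHom) T = T ∧ E.IsSubsystemOf E' := by
    intro β hβ hβ'
    have hf := isFactorSystem_of_morphisms β hβ hβ'
    have hf' := isFactorSystem_of_morphisms β.symm hβ' (by rwa [MulEquiv.symm_symm])
    obtain ⟨E', hTS', hE'n, hE'⟩ := hf.exists_isNormalIn hS hn
    refine ⟨E', hE', ?_⟩
    have hall : ∀ (U : Subgroup Ω) (C : FusionSystem U), C.IsComponentIn F p → C.IsSubsystemOf E' := by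
      intro U C hC P φ hφ
      have hUS := hC.1.le
      haveI := finite_of_le hUS
      obtain ⟨V, K, hUS', hV, hK, hCK⟩ := hf'.exists_isSubnormalIn hS hC.1
      have hKE := hcomp V K ⟨hK, hCK.quasisimple (hS.to_le hUS) hC.2⟩
      obtain ⟨ψ, hψ, hψe⟩ := hCK.up hφ
      obtain ⟨χ, hχ, hχe⟩ := hE'.up (hKE _ hψ)
      have hPU : P ≤ U := C.source_le hφ
      have hback : ∀ (x : Ω) (hx : x ∈ S), ((β (β.symm ⟨x, hx⟩) : S) : Ω) = x := fun x hx =>
        congrArg Subtype.val (β.apply_symm_apply _)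
      have hle : P ≤ imageAlong ((S.subtype.comp β.toMonoidHom).comp (Subgroup.inclusion hTS))
          (imageAlong ((S.subtype.comp β.symm.toMonoidHom).comp (Subgroup.inclusion hUS)) P) := fun x hx =>
        ⟨⟨_, E.source_le (hKE _ hψ) ⟨⟨x, hPU hx⟩, hx, rfl⟩⟩, ⟨⟨x, hPU hx⟩, hx, rfl⟩, hback x _⟩
      refine E'.mem_of_restrict hχ hle fun x hx => ?_
      let y : ↥(imageAlong ((S.subtype.comp β.symm.toMonoidHom).comp (Subgroup.inclusion hUS)) P) :=
        ⟨((β.symm ⟨x, hUS (hPU hx)⟩ : S) : Ω), ⟨⟨x, hPU hx⟩, hx, rfl⟩⟩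
      have hyT : (y : Ω) ∈ T := E.source_le (hKE _ hψ) y.2
      have hmy : ((S.subtype.comp β.toMonoidHom).comp (Subgroup.inclusion hTS)) ⟨y, hyT⟩ ∈
          imageAlong ((S.subtype.comp β.toMonoidHom).comp (Subgroup.inclusion hTS))
          (imageAlong ((S.subtype.comp β.symm.toMonoidHom).comp (Subgroup.inclusion hUS)) P) :=
        ⟨⟨y, hyT⟩, y.2, rfl⟩
      have h1 : χ ⟨x, hle hx⟩ = _ :=
        (congrArg χ (Subtype.ext (hback x _).symm : (⟨x, hle hx⟩ : ↥(imageAlong _ _)) = ⟨_, hmy⟩)).trans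
          (hχe y hyT hmy)
      have h2 : ψ y = ((β.symm ⟨φ ⟨x, hx⟩, hUS (C.apply_mem hφ _)⟩ : S) : Ω) :=
        hψe ⟨x, hx⟩ (hPU hx) ⟨⟨x, hPU hx⟩, hx, rfl⟩
      rw [h1]
      show _ = ((β ⟨ψ y, hTS (E.apply_mem (hKE _ hψ) y)⟩ : S) : Ω)
      rw [show (⟨ψ y, hTS (E.apply_mem (hKE _ hψ) y)⟩ : S) =
        β.symm ⟨φ ⟨x, hx⟩, hUS (C.apply_mem hφ _)⟩ from Subtype.ext h2, MulEquiv.apply_symm_apply]
    have hle := hmin _ E' hE'n hall
    haveI : Finite ↥(imageAlong (S.subtype.comp β.toMonoidHom) T) := finite_of_le hE'n.1.2.2.2.1.1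
    refine ⟨(Subgroup.eq_of_le_of_card_ge (H := T) ?_ ?_).symm, hle⟩
    · intro x hx
      exact E'.source_le (hle _ (E.id_mem le_rfl)) hx
    · rw [imageAlong, Subgroup.card_map_of_injective (f := S.subtype.comp β.toMonoidHom)
        (fun a b e => β.injective (Subtype.ext e)), Nat.card_congr (Subgroup.subgroupOfEquivOfLe hTS).toEquiv]
  refine ⟨(key α hα hα').choose_spec.2.1, fun P φ hφ φ' hi => ?_⟩
  obtain ⟨E', hE', -, hle⟩ := key α.symm hα' (by rwa [MulEquiv.symm_symm])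
  obtain ⟨ψ, hψ, hψe⟩ := hE'.down (hle P hφ)
  have hPT : P ≤ T := E.source_le hφ
  have hsub : imageAlong (S.subtype.comp α.toMonoidHom) P ≤
      preimageAlong ((S.subtype.comp α.symm.toMonoidHom).comp (Subgroup.inclusion hTS)) P := by
    rintro _ ⟨s, hs, rfl⟩
    have hT' : imageAlong (S.subtype.comp α.toMonoidHom) T = T := (key α hα hα').choose_spec.2.1
    refine mem_preimageAlong.mpr ⟨hT'.le ⟨s, hPT hs, rfl⟩, ?_⟩
    show ((α.symm ⟨((α s : S) : Ω), _⟩ : S) : Ω) ∈ P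
    rw [show (⟨((α s : S) : Ω), _⟩ : S) = α s from Subtype.ext rfl, MulEquiv.symm_apply_apply]
    exact hs
  refine E.mem_of_restrict hψ hsub fun y hy => ?_
  obtain ⟨s, hs, e⟩ : y ∈ imageAlong (S.subtype.comp α.toMonoidHom) P := hy
  have hms : (S.subtype.comp α.toMonoidHom) ⟨(s : Ω), s.2⟩ ∈ imageAlong (S.subtype.comp α.toMonoidHom) P :=
    ⟨s, hs, rfl⟩
  let w : ↥(preimageAlong ((S.subtype.comp α.symm.toMonoidHom).comp (Subgroup.inclusion hTS)) P) :=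
    ⟨y, hsub ⟨s, hs, e⟩⟩
  have hwT : (w : Ω) ∈ T := preimageAlong_le w.2
  have hback : ((α.symm ⟨y, hTS hwT⟩ : S) : Ω) = s := by
    rw [show (⟨y, hTS hwT⟩ : S) = α s from Subtype.ext e.symm, MulEquiv.symm_apply_apply]
  have hsy : ((α.symm ⟨y, hTS hwT⟩ : S) : Ω) ∈ P := by rw [hback]; exact hs
  have h1 := hψe w hwT hsy
  have h2 : φ' ⟨y, ⟨s, hs, e⟩⟩ = ((α ⟨φ ⟨s, hs⟩, hTS (E.apply_mem hφ _)⟩ : S) : Ω) := by
    obtain ⟨hP, hφS, hm, he⟩ := hi
    exact (congrArg φ' (Subtype.ext e.symm : (⟨y, ⟨s, hs, e⟩⟩ : ↥(imageAlong _ P)) = ⟨_, hms⟩)).trans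
      (he ⟨s, hs⟩)
  show φ' ⟨y, _⟩ = ψ w
  rw [h2]
  have h3 : φ ⟨s, hs⟩ = ((α.symm ⟨ψ w, hTS (E.apply_mem hψ w)⟩ : S) : Ω) :=
    (congrArg φ (Subtype.ext hback.symm)).trans h1
  rw [show (⟨φ ⟨s, hs⟩, hTS (E.apply_mem hφ _)⟩ : S) = α.symm ⟨ψ w, hTS (E.apply_mem hψ w)⟩ from
    Subtype.ext h3, MulEquiv.apply_symm_apply]

/-- Images of subnormal subsystems under maps of the system are subnormal. -/
theorem IsSubnormalIn.image {p : ℕ} [Fact p.Prime] [Finite S] (hS : IsPGroup p S) {U : Subgroup Ω}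
    {C : FusionSystem U} (hC : C.IsSubnormalIn F p) {γ : U →* Ω} (hγ : γ ∈ F.Hom U)
    {U' : Subgroup Ω} (E : FusionSystem U') (hE : C.IsFactorSystem ⊥ γ E) : E.IsSubnormalIn F p := by
  revert U'
  revert γ
  revert hS
  revert ‹Finite S›
  revert ‹Fact p.Prime›
  induction hC with
  | @refl F p =>
    intro _ _ hS γ hγ U' E hE
    have hU' : U' = U := by
      rw [← hE.2.2.1]
      exact Subgroup.eq_of_le_of_card_ge (F.range_le hγ)
        (Nat.card_congr (MonoidHom.ofInjective (F.injective_of_mem hγ)).toEquiv).le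
    subst hU'
    have : E = F := eq_of_isFactorSystem hE (isFactorSystem_of_hom hγ)
    exact this ▸ IsSubnormalIn.refl F p
  | @step U S C D F p hCD hDF ih =>
    rename_i T _
    intro _ _ hS γ hγ U' E hE
    have hTU : T ≤ U := hCD.le
    obtain ⟨⟨hDsat, -, hsub, hU, hinv, hfr⟩, -⟩ := id hDF
    haveI := finite_of_le hU.1
    haveI := finite_of_le (hTU.trans hU.1)
    obtain ⟨α, hα, φ₀, hφ₀, he⟩ := hfr T hTU γ hγ
    have hr₀ : φ₀.range ≤ U := D.range_le hφ₀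
    obtain ⟨E₁, hE₁⟩ := exists_isFactorSystem_bot C φ₀ (D.injective_of_mem hφ₀) rfl
    have hE₁sub := ih (hS.to_le hU.1) hφ₀ E₁ hE₁
    have hDα : D.IsFactorSystem ⊥ (U.subtype.comp α.toMonoidHom) D := by
      have hst := hDF.1.2.2.strongInvariance
      have hmor : ∀ β ∈ F.autGroup U, D.IsMorphism D (U.subtype.comp β.toMonoidHom) := by
        intro β hβ
        refine ⟨fun u => SetLike.coe_mem _, fun P φ hφ => ?_⟩
        obtain ⟨χ, hχ, hχe⟩ := hst P U (D.source_le hφ) le_rfl φ hφ (D.apply_mem hφ) _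
          ((F.mem_autGroup_iff hU.1).mp hβ)
        exact ⟨χ, hχ, D.source_le hφ, D.apply_mem hφ, fun x => ⟨⟨x, D.source_le hφ x.2⟩, x.2, rfl⟩,
          fun x => hχe x _⟩
      exact isFactorSystem_of_morphisms α (hmor α hα) (hmor α⁻¹ ((F.autGroup U).inv_mem hα))
    obtain ⟨V, E₂, hV, hVeq, hE₂sub, hE₂⟩ := hDα.exists_isSubnormalIn (hS.to_le hU.1) hE₁sub
    have hcomp := hE₁.comp hE₂
    have hmap : ((U.subtype.comp α.toMonoidHom).comp (Subgroup.inclusion hV)).comp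
        (φ₀.codRestrict φ₀.range hE₁.apply_mem) = γ := by
      ext x
      exact (he x (D.apply_mem hφ₀ x)).symm
    have hbot : preimageAlong φ₀ (⊥ : Subgroup Ω) = ⊥ := by
      refine (Subgroup.eq_bot_iff_forall _).mpr fun x hx => ?_
      obtain ⟨hxT, hm⟩ := mem_preimageAlong.mp hx
      rw [Subgroup.mem_bot, map_eq_one_iff φ₀ (D.injective_of_mem hφ₀)] at hm
      exact congrArg Subtype.val hm
    rw [hmap, hbot] at hcomp
    have hVU' : V = U' := hcomp.2.2.1.symm.trans hE.2.2.1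
    subst hVU'
    exact eq_of_isFactorSystem hE hcomp ▸ IsSubnormalIn.step hE₂sub hDF
where
  isFactorSystem_of_hom {Ω : Type u} [Group Ω] {S : Subgroup Ω} [Finite S] {F : FusionSystem S}
      {γ : S →* Ω} (hγ : γ ∈ F.Hom S) : F.IsFactorSystem ⊥ γ F := by
    have hr : γ.range = S := Subgroup.eq_of_le_of_card_ge (F.range_le hγ)
      (Nat.card_congr (MonoidHom.ofInjective (F.injective_of_mem hγ)).toEquiv).le
    have hmor : ∀ β : MulAut S, β ∈ F.autGroup S → F.IsMorphism F (S.subtype.comp β.toMonoidHom) := by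
      intro β hβ
      refine ⟨fun u => SetLike.coe_mem _, fun P φ hφ => ?_⟩
      have hb := (F.mem_autGroup_iff le_rfl).mp hβ
      have hbi := (F.mem_autGroup_iff le_rfl).mp ((F.autGroup S).inv_mem hβ)
      have hPS := F.source_le hφ
      have himg : imageAlong (S.subtype.comp β.toMonoidHom) P ≤ S := by
        rintro _ ⟨s, -, rfl⟩
        exact (β s).2
      have hin : ∀ y : ↥(imageAlong (S.subtype.comp β.toMonoidHom) P),
          (S.subtype.comp (β⁻¹).toMonoidHom) (Subgroup.inclusion himg y) ∈ P := by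
        rintro ⟨_, s, hs, rfl⟩
        show ((β⁻¹ ⟨((β s : S) : Ω), _⟩ : S) : Ω) ∈ P
        rw [show (⟨((β s : S) : Ω), _⟩ : S) = β s from Subtype.ext rfl, MulAut.inv_apply_self]
        exact hs
      obtain ⟨a, ha, hae⟩ := F.exists_comp (F.restrict_mem hbi himg) hφ hin
      obtain ⟨c, hc, hce⟩ := F.exists_comp ha hb (F.apply_mem ha)
      refine ⟨c, hc, hPS, F.apply_mem hφ, fun x => ⟨⟨x, hPS x.2⟩, x.2, rfl⟩, fun x => ?_⟩
      rw [hce]
      show ((β _ : S) : Ω) = ((β _ : S) : Ω)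
      congr 2
      apply Subtype.ext
      show a _ = φ x
      rw [hae]
      congr 1
      apply Subtype.ext
      show ((β⁻¹ ⟨((β ⟨x, hPS x.2⟩ : S) : Ω), _⟩ : S) : Ω) = x
      rw [show (⟨((β ⟨x, hPS x.2⟩ : S) : Ω), _⟩ : S) = β ⟨x, hPS x.2⟩ from Subtype.ext rfl,
        MulAut.inv_apply_self]
    have hβ := F.isoOf_mem_autGroup hγ hr
    have := isFactorSystem_of_morphisms (F.isoOf hγ hr) (hmor _ hβ) (hmor _ ((F.autGroup S).inv_mem hβ))
    rwa [show S.subtype.comp (F.isoOf hγ hr).toMonoidHom = γ from MonoidHom.ext fun x => rfl] at this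

/-- Images of components under maps of the system are components. -/
theorem IsComponentIn.image {p : ℕ} [Fact p.Prime] [Finite S] (hS : IsPGroup p S) {U : Subgroup Ω}
    {C : FusionSystem U} (hC : C.IsComponentIn F p) {γ : U →* Ω} (hγ : γ ∈ F.Hom U)
    {U' : Subgroup Ω} (E : FusionSystem U') (hE : C.IsFactorSystem ⊥ γ E) : E.IsComponentIn F p := by
  haveI := finite_of_le hC.1.le
  exact ⟨hC.1.image hS hγ E hE, hE.quasisimple (hS.to_le hC.1.le) hC.2⟩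

end FusionSystem

end Cfsg
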