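import Cfsg.Agent.Lib.Fusion.Series
import Cfsg.Agent.Lib.Fusion.Normal
import Cfsg.Agent.Lib.Fusion.Alperin
import Cfsg.Agent.Lib.Fusion.Saturation
import Cfsg.Agent.Lib.Fusion.Systems
import Cfsg.Agent.Lib.Fusion.Quotient

/-!
Centric subgroups with non-centric intersection with a subsystem.
-/

set_option autoImplicit false

namespace Cfsg

namespace FusionSystem

variable {Ω : Type*} [Group Ω] {S : Subgroup Ω} [Finite S] {F : FusionSystem S} {p : ℕ} [Fact p.Prime]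
  {T : Subgroup Ω}

theorem exists_outer_pCore (hS : IsPGroup p S) (hT : F.StronglyClosed T) {P : Subgroup Ω} (hP : F.IsCentric P)
    (hX : ¬ centralizerIn T (P ⊓ T) ≤ P ⊓ T) :
    ∃ x ∈ S ⊓ Subgroup.normalizer (P : Set Ω), x ∉ P ∧
      ∃ α ∈ ((pCore p ↥(F.autGroup P)).map (F.autGroup P).subtype : Subgroup (MulAut ↥P)),
        ∀ y : ↥P, ((α y : ↥P) : Ω) = x * (y : Ω) * x⁻¹ := by
  classical
  have hPS := hP.1
  haveI := finite_of_le hPS
  haveI := finite_autGroup (F := F) hPS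
  set Q := P ⊓ T with hQdef
  set X := centralizerIn T Q with hXdef
  have hnorm : P ≤ Subgroup.normalizer (X : Set Ω) := by
    intro y hy
    haveI : Finite X := finite_of_le (inf_le_left.trans hT.1 : X ≤ S)
    refine Subgroup.mem_normalizer_fintype fun z hz => ⟨hT.conj_mem_of_mem (hPS hy) hz.1, ?_⟩
    refine Subgroup.mem_centralizer_iff.mpr fun q hq => ?_
    have hq' : y⁻¹ * q * y ∈ Q :=
      ⟨P.mul_mem (P.mul_mem (P.inv_mem hy) hq.1) hy, hT.conj_mem_of_mem' (hPS hy) hq.2⟩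
    calc q * (y * z * y⁻¹) = y * (y⁻¹ * q * y * z) * y⁻¹ := by group
      _ = y * (z * (y⁻¹ * q * y)) * y⁻¹ := by rw [Subgroup.mem_centralizer_iff.mp hz.2 _ hq']
      _ = y * z * y⁻¹ * q := by group
  have hXP : ¬ X ≤ P := fun h => hX fun z hz => ⟨h hz, hz.1⟩
  have hlt : P < P ⊔ X := lt_of_le_of_ne le_sup_left fun e => hXP (le_sup_right.trans e.ge)
  have hle : P ⊔ X ≤ S := sup_le hPS (inf_le_left.trans hT.1)
  haveI := finite_of_le hle
  obtain ⟨w, hw, hwP⟩ := SetLike.exists_of_lt (lt_normalizerIn (hS.to_le hle) hlt)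
  have hw1 : w ∈ (↑(P ⊔ X) : Set Ω) := hw.1
  rw [Subgroup.coe_mul_of_left_le_normalizer_right P X hnorm] at hw1
  obtain ⟨u, hu, c, hc, rfl⟩ := hw1
  have hcN : c ∈ Subgroup.normalizer (P : Set Ω) := by
    have := Subgroup.mul_mem _ (Subgroup.inv_mem _
      (Subgroup.le_normalizer hu : u ∈ Subgroup.normalizer (P : Set Ω))) hw.2
    simpa [mul_assoc] using this
  refine ⟨c, ⟨hT.1 hc.1, hcN⟩, fun h => hwP (P.mul_mem hu h), P.normalizerMonoidHom ⟨c, hcN⟩, ?_, fun y => rfl⟩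
  -- the stabiliser of `P ≥ P ∩ T ≥ 1`
  let C : Fin 3 → Subgroup P := ![⊥, T.subgroupOf P, ⊤]
  have hinv : ∀ α ∈ F.autGroup P, ∀ i, ∀ x ∈ C i, α x ∈ C i := by
    intro α hα i y hy
    fin_cases i
    · have : y = 1 := Subgroup.mem_bot.mp hy
      subst this
      simp
    · obtain ⟨χ, hχ, -, he⟩ := F.exists_map_of_mem_autGroup hPS hα
      show ((α y : P) : Ω) ∈ T
      rw [← he]
      exact hT.apply_mem_of_mem hχ hy
    · exact Subgroup.mem_top _
  let A : Subgroup (F.autGroup P) :=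
    { carrier := {a | ∀ i : Fin 2, ∀ x ∈ C i.succ, x⁻¹ * (a : MulAut P) x ∈ C i.castSucc}
      one_mem' := fun i x _ => by simp
      mul_mem' := by
        intro a b ha hb i x hx
        have hbx : (b : MulAut P) x ∈ C i.succ := hinv _ b.2 _ x hx
        have := (C i.castSucc).mul_mem (hb i x hx) (ha i _ hbx)
        simpa [MulAut.mul_apply, mul_assoc] using this
      inv_mem' := by
        intro a ha i x hx
        have hax : (a : MulAut P)⁻¹ x ∈ C i.succ := hinv _ ((F.autGroup P).inv_mem a.2) _ x hx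
        have := (C i.castSucc).inv_mem (ha i _ hax)
        simpa using this }
  haveI hAn : A.Normal := by
    refine ⟨fun a ha b i x hx => ?_⟩
    have h1 := ha i _ (hinv _ ((F.autGroup P).inv_mem b.2) _ x hx)
    have h2 := hinv _ b.2 _ _ h1
    simpa [MulAut.mul_apply] using h2
  have hAp : IsPGroup p A := by
    have hmap : IsPGroup p (A.map (F.autGroup P).subtype) := by
      refine isPGroup_of_stabilises (hS.to_le hPS) C rfl rfl _ ?_
      rintro _ ⟨a, ha, rfl⟩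
      exact ha
    exact hmap.of_equiv (A.equivMapOfInjective _ Subtype.coe_injective).symm
  let a : F.autGroup P := ⟨P.normalizerMonoidHom ⟨c, hcN⟩,
    autInducedBy_le_autGroup hPS (mem_autInducedBy_iff.mpr ⟨c, hT.1 hc.1, hcN, fun _ => rfl⟩)⟩
  refine ⟨a, CfsgLib.le_pCore hAp ?_, rfl⟩
  intro i y hy
  fin_cases i
  · show y⁻¹ * _ ∈ (⊥ : Subgroup P)
    rw [Subgroup.mem_bot, inv_mul_eq_one]
    exact Subtype.ext (by
      show (y : Ω) = c * y * c⁻¹
      rw [← Subgroup.mem_centralizer_iff.mp hc.2 (y : Ω) ⟨y.2, hy⟩, mul_inv_cancel_right])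
  · show (y : Ω)⁻¹ * (c * y * c⁻¹) ∈ T
    simpa [mul_assoc] using T.mul_mem (hT.conj_mem_of_mem' (hPS y.2) hc.1) (T.inv_mem hc.1)

theorem exists_conj_outer_pCore (hS : IsPGroup p S) (hF : F.IsSaturated p) {E : FusionSystem T}
    (hsub : E.IsSubsystemOf F) (hT : F.StronglyClosed T) {P : Subgroup Ω} (hP : F.IsCentric P)
    (hPT : ¬ E.IsCentric (P ⊓ T)) :
    (∃ φ ∈ F.Hom P, ∃ x ∈ S ⊓ Subgroup.normalizer (φ.range : Set Ω), x ∉ φ.range ∧
      ∃ α ∈ ((pCore p ↥(F.autGroup φ.range)).map (F.autGroup φ.range).subtype : Subgroup (MulAut ↥φ.range)),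
        ∀ y : ↥φ.range, ((α y : ↥φ.range) : Ω) = x * (y : Ω) * x⁻¹) ∧ ¬ F.IsRadical p P := by
  have hQT : P ⊓ T ≤ T := inf_le_right
  obtain ⟨Q', hQ', hX⟩ : ∃ Q', E.IsConj (P ⊓ T) Q' ∧ ¬ centralizerIn T Q' ≤ Q' := by
    by_contra h
    push Not at h
    exact hPT ⟨hQT, fun Q hQ => h Q hQ⟩
  obtain ⟨m, hm, hmr⟩ := hQ'
  obtain ⟨R, hQR, hR⟩ := F.exists_isFullyNormalized (hQT.trans hT.1)
  obtain ⟨ψ₁, hψ₁, hr₁, Ψ₁, hΨ₁, -, he₁⟩ := hF.exists_map_to_fullyNormalized hS hR hQR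
  have hQ'R : F.IsConj Q' R := (IsConj.symm ⟨m, hsub _ hm, hmr⟩).trans hQR
  obtain ⟨ψ₂, hψ₂, hr₂, Ψ₂, hΨ₂, -, he₂⟩ := hF.exists_map_to_fullyNormalized hS hR hQ'R
  obtain ⟨c, hc, hcQ⟩ := SetLike.not_le_iff_exists.mp hX
  have hQ'S : Q' ≤ S := hQ'R.le_left
  have hPN : P ≤ normalizerIn S (P ⊓ T) := fun y hy => by
    refine ⟨hP.1 hy, Subgroup.mem_normalizer_iff.mpr fun z => ⟨fun hz => ?_, fun hz => ?_⟩⟩
    · exact ⟨P.mul_mem (P.mul_mem hy hz.1) (P.inv_mem hy), hT.conj_mem_of_mem (hP.1 hy) hz.2⟩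
    · have h1 : y⁻¹ * (y * z * y⁻¹) * y ∈ P ⊓ T :=
        ⟨P.mul_mem (P.mul_mem (P.inv_mem hy) hz.1) hy, hT.conj_mem_of_mem' (hP.1 hy) hz.2⟩
      simpa [mul_assoc] using h1
  have hφ := F.restrict_mem hΨ₁ hPN
  set φ := Ψ₁.comp (Subgroup.inclusion hPN) with hφdef
  have hRcomp : φ.range ⊓ T = R := by
    have hRT : R ≤ T := by
      rw [← hr₁]
      rintro _ ⟨z, rfl⟩
      exact hT.2 _ hQT ψ₁ hψ₁ z
    refine le_antisymm ?_ fun z hz => ?_
    · rintro _ ⟨⟨y, rfl⟩, hyT⟩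
      obtain ⟨i, hi, -, hil, -⟩ := F.exists_inv hφ rfl
      have h1 := hT.apply_mem_of_mem hi (x := (⟨φ y, y, rfl⟩ : φ.range)) hyT
      erw [hil y ⟨y, rfl⟩] at h1
      exact hr₁.le ⟨⟨y, y.2, h1⟩, (he₁ ⟨y, y.2, h1⟩ (hPN y.2)).symm⟩
    · obtain ⟨w, rfl⟩ := hr₁.ge hz
      exact ⟨⟨⟨w, w.2.1⟩, he₁ w (hPN w.2.1)⟩, hRT hz⟩
  have hc' : F.IsCentric φ.range := hP.of_isConj ⟨φ, hφ, rfl⟩
  have hX' : ¬ centralizerIn T (φ.range ⊓ T) ≤ φ.range ⊓ T := by
    rw [hRcomp]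
    intro hle
    have hcN : c ∈ normalizerIn S Q' :=
      ⟨hT.1 hc.1, Subgroup.centralizer_le_normalizer _ hc.2⟩
    have h1 : Ψ₂ ⟨c, hcN⟩ ∈ centralizerIn T R := by
      refine ⟨hT.apply_mem_of_mem hΨ₂ (x := ⟨c, hcN⟩) hc.1, Subgroup.mem_centralizer_iff.mpr fun z hz => ?_⟩
      obtain ⟨q, rfl⟩ := hr₂.ge hz
      have hqN : (q : Ω) ∈ normalizerIn S Q' := ⟨hQ'S q.2, Subgroup.le_normalizer q.2⟩
      rw [← he₂ q hqN, ← map_mul, ← map_mul]
      exact congrArg Ψ₂ (Subtype.ext (Subgroup.mem_centralizer_iff.mp hc.2 _ q.2))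
    obtain ⟨q, hq⟩ := hr₂.ge (hle h1)
    have hqN : (q : Ω) ∈ normalizerIn S Q' := ⟨hQ'S q.2, Subgroup.le_normalizer q.2⟩
    rw [← he₂ q hqN] at hq
    have h2 : (q : Ω) = c := congrArg Subtype.val (F.injective_of_mem hΨ₂ hq)
    exact hcQ (h2 ▸ q.2)
  obtain ⟨x, hx, hxP, α, hα, hαe⟩ := exists_outer_pCore hS hT hc' hX'
  refine ⟨⟨φ, hφ, x, hx, hxP, α, hα, hαe⟩, fun hrad => hxP ?_⟩
  -- a radical subgroup has radical conjugates
  haveI := finite_autGroup (F := F) hP.1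
  haveI := finite_autGroup (F := F) hc'.1
  have hcongr := autGroup_map_congr hφ rfl
  let e : F.autGroup P ≃* F.autGroup φ.range :=
    ((F.autGroup P).equivMapOfInjective _ (MulAut.congr (F.isoOf hφ rfl)).injective).trans
      (MulEquiv.subgroupCongr hcongr)
  obtain ⟨a, ha, rfl⟩ := hα
  haveI : ((pCore p ↥(F.autGroup φ.range)).comap e.toMonoidHom).Normal := Subgroup.normal_comap _
  have hb : e.symm a ∈ pCore p ↥(F.autGroup P) := by
    refine CfsgLib.le_pCore (N := (pCore p ↥(F.autGroup φ.range)).comap e.toMonoidHom)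
      ((CfsgLib.isPGroup_pCore p).comap_of_injective e.toMonoidHom e.injective) ?_
    refine Subgroup.mem_comap.mpr ?_
    simpa using ha
  obtain ⟨u, hu⟩ := hrad.2.le ⟨_, hb, rfl⟩
  let i := F.isoOf hφ rfl
  have hau : (a : MulAut φ.range) = MulAut.conj (i u) := by
    have h1 : (a : MulAut φ.range) = MulAut.congr i ((e.symm a : F.autGroup P) : MulAut P) := by
      conv_lhs => rw [← e.apply_symm_apply a]
      rfl
    rw [h1, show ((e.symm a : F.autGroup P) : MulAut P) = MulAut.conj u from hu.symm]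
    refine MulEquiv.ext fun y => ?_
    show i (MulAut.conj u (i.symm y)) = _
    rw [MulAut.conj_apply, MulAut.conj_apply, map_mul, map_mul, map_inv, MulEquiv.apply_symm_apply]
  have hz : ((i u : φ.range) : Ω)⁻¹ * x ∈ centralizerIn S φ.range := by
    refine ⟨S.mul_mem (S.inv_mem (hc'.1 (i u).2)) hx.1, Subgroup.mem_centralizer_iff.mpr fun y hy => ?_⟩
    have h1 : ((i u : φ.range) : Ω) * y * ((i u : φ.range) : Ω)⁻¹ = x * y * x⁻¹ := by
      have h2 := hαe ⟨y, hy⟩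
      rw [show (F.autGroup φ.range).subtype a = MulAut.conj (i u) from hau] at h2
      exact h2
    calc y * (((i u : φ.range) : Ω)⁻¹ * x) =
        ((i u : φ.range) : Ω)⁻¹ * (((i u : φ.range) : Ω) * y * ((i u : φ.range) : Ω)⁻¹) * x := by group
      _ = ((i u : φ.range) : Ω)⁻¹ * x * y := by rw [h1]; group
  have := φ.range.mul_mem (i u).2 (hc'.centralizerIn_le_self hz)
  rwa [mul_inv_cancel_left] at this

end FusionSystem

end Cfsg
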