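import Cfsg.Agent.Lib.Fusion.Criterion
import Cfsg.Agent.Lib.Fusion.Center

/-!
Control of the centre of a saturated fusion system by a positive characteristic functor: the reduction
to constrained systems.
-/

set_option autoImplicit false
set_option linter.unusedSectionVars false

universe u

namespace Cfsg.FusionSystem

variable {Ω : Type u} [Group Ω] {S : Subgroup Ω} {F : FusionSystem S} {p : ℕ} {x : Ω} {X U : Subgroup Ω}

/-- Every map fixes the point where it is defined at it. -/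
def Fixes (F : FusionSystem S) (x : Ω) : Prop :=
  ∀ (P : Subgroup Ω) (φ : P →* Ω), φ ∈ F.Hom P → ∀ h : x ∈ P, φ ⟨x, h⟩ = x

/-- Every map on an overgroup of `U` inside its normaliser, carrying `U` to itself, fixes the point. -/
def NormalizerFixes (F : FusionSystem S) (U : Subgroup Ω) (x : Ω) : Prop :=
  ∀ (P : Subgroup Ω) (φ : P →* Ω), φ ∈ F.Hom P → U ≤ P → P ≤ normalizerIn S U →
    (U.subgroupOf P).map φ = U → ∀ h : x ∈ P, φ ⟨x, h⟩ = x

theorem Fixes.normalizerFixes (h : F.Fixes x) : F.NormalizerFixes U x := fun P φ hφ _ _ _ hx => h P φ hφ hx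

theorem NormalizerFixes.mono {T : Subgroup Ω} {E : FusionSystem T} (h : F.NormalizerFixes U x)
    (hT : T ≤ S) (hE : E.IsSubsystemOf F) : E.NormalizerFixes U x := fun P φ hφ h1 h2 h3 =>
  h P φ (hE P hφ) h1 (h2.trans (inf_le_inf_right _ hT)) h3

/-- The normaliser system of `U` fixes the point when all these maps do. -/
theorem IsNormalizerSystem.fixes {E : FusionSystem (normalizerIn S U)} (hE : F.IsNormalizerSystem U E)
    (hU : U ≤ S) (h : F.NormalizerFixes U x) : E.Fixes x := by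
  intro P φ hφ hx
  rw [hE] at hφ
  obtain ⟨-, hPN, -, ψ, hψ, hψe, hψU⟩ := hφ
  have := h _ ψ hψ le_sup_right (sup_le hPN (le_normalizerIn hU)) hψU (Subgroup.mem_sup_left hx)
  rw [← hψe]
  exact this

theorem IsNormalizerSystem.normalizerFixes {E : FusionSystem (normalizerIn S U)} (hE : F.IsNormalizerSystem U E)
    (hU : U ≤ S) (h : E.Fixes x) : F.NormalizerFixes U x := by
  intro P φ hφ hUP hPN hUm hx
  refine h P φ ?_ hx
  rw [hE]
  have hle : P ⊔ U ≤ P := sup_le le_rfl hUP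
  refine ⟨hφ, hPN, fun y => ⟨F.apply_mem hφ y, ?_⟩, φ.comp (Subgroup.inclusion hle), F.restrict_mem hφ hle,
    fun y => rfl, ?_⟩
  · refine apply_mem_normalizer (P := U) (φ := φ.comp (Subgroup.inclusion hUP)) hUP (fun q => rfl) ?_ y (hPN y.2).2
    rw [range_eq_map_of_le hUP]
    exact hUm
  · ext z
    constructor
    · rintro ⟨y, hy, rfl⟩
      exact hUm.le ⟨⟨y, hUP hy⟩, hy, rfl⟩
    · intro hz
      obtain ⟨y, hy, rfl⟩ := hUm.ge hz
      exact ⟨⟨y, Subgroup.mem_sup_left y.2⟩, hy, rfl⟩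

/-- The maps extending to the point fixing it. -/
def fixSystem (F : FusionSystem S) (hxS : x ∈ S) (hxc : x ∈ Subgroup.centralizer (S : Set Ω)) : FusionSystem S where
  Hom P := F.centralizerHom (Subgroup.zpowers x) P
  le_of_mem h := ⟨F.source_le h.1, F.apply_mem h.1⟩
  injective_of_mem h := F.injective_of_mem h.1
  conj_mem := by
    intro P g hP hg
    have hQ : ∀ {s : Ω}, s ∈ S → s ∈ centralizerIn S (Subgroup.zpowers x) := fun hs =>
      ⟨hs, Subgroup.mem_centralizer_iff.mpr fun y hy => by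
        obtain ⟨k, rfl⟩ := hy
        exact ((Commute.zpow_left (Subgroup.mem_centralizer_iff.mp hxc _ hs).symm k)).eq⟩
    exact (F.centralizerSystem (Subgroup.zpowers x) (Subgroup.zpowers_le.mpr hxS)).conj_mem
      (fun y hy => hQ (hP hy)) (hQ hg)
  comp_mem := (F.centralizerSystem (Subgroup.zpowers x) (Subgroup.zpowers_le.mpr hxS)).comp_mem
  inv_mem := (F.centralizerSystem (Subgroup.zpowers x) (Subgroup.zpowers_le.mpr hxS)).inv_mem

theorem fixes_of_le_fixSystem {hxS : x ∈ S} {hxc : x ∈ Subgroup.centralizer (S : Set Ω)}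
    (h : F ≤ F.fixSystem hxS hxc) : F.Fixes x := by
  intro P φ hφ hx
  obtain ⟨-, -, -, ψ, -, hψe, hψQ⟩ := h P hφ
  rw [← hψe]
  exact hψQ ⟨x, Subgroup.mem_zpowers x⟩

theorem mem_fixSystem {hxS : x ∈ S} {hxc : x ∈ Subgroup.centralizer (S : Set Ω)} {P : Subgroup Ω}
    {φ : P →* Ω} (hφ : φ ∈ F.Hom P) (hx : x ∈ P) (h : φ ⟨x, hx⟩ = x) : φ ∈ (F.fixSystem hxS hxc).Hom P := by
  have hQP : Subgroup.zpowers x ≤ P := Subgroup.zpowers_le.mpr hx
  have hQ : ∀ {s : Ω}, s ∈ S → s ∈ centralizerIn S (Subgroup.zpowers x) := fun hs =>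
    ⟨hs, Subgroup.mem_centralizer_iff.mpr fun y hy => by
      obtain ⟨k, rfl⟩ := hy
      exact ((Commute.zpow_left (Subgroup.mem_centralizer_iff.mp hxc _ hs).symm k)).eq⟩
  refine ⟨hφ, fun y hy => hQ (F.source_le hφ hy), fun y => hQ (F.apply_mem hφ y),
    φ.comp (Subgroup.inclusion (sup_le le_rfl hQP)), F.restrict_mem hφ _, fun y => rfl, ?_⟩
  rintro ⟨_, k, rfl⟩
  show φ ⟨x ^ k, _⟩ = x ^ k
  rw [show (⟨x ^ k, hQP ⟨k, rfl⟩⟩ : P) = (⟨x, hx⟩ : P) ^ k from Subtype.ext (by simp), map_zpow, h]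

theorem Fixes.isCentral [Finite S] [Fact p.Prime] (hF : F.IsSaturated p) (h : F.Fixes x) (hxS : x ∈ S) :
    F.IsCentral (Subgroup.zpowers x) := by
  refine isCentral_of_isConjElt_eq hF (Subgroup.zpowers_le.mpr hxS) ?_
  rintro z ⟨k, rfl⟩ y ⟨φ, hφ, rfl⟩
  obtain ⟨Q', hc, -, hrec⟩ := hF (Subgroup.zpowers (x ^ k)) (Subgroup.zpowers_le.mpr (S.zpow_mem hxS k))
  have hle : ∀ {χ : Subgroup.zpowers (x ^ k) →* Ω}, χ ∈ F.Hom _ → χ.range = Q' → χ ⟨_, Subgroup.mem_zpowers _⟩ = x ^ k := by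
    intro χ hχ hr
    obtain ⟨χ', hχ', he⟩ := hrec.2 _ χ hχ hr
    have hxN : x ∈ extender S (Subgroup.zpowers (x ^ k)) χ := by
      refine centralizerIn_le_extender (F.apply_mem hχ) ⟨hxS, Subgroup.mem_centralizer_iff.mpr ?_⟩
      rintro _ ⟨i, rfl⟩
      exact ((Commute.refl x).zpow_left k |>.zpow_left i).eq
    have h1 := h _ χ' hχ' hxN
    have hkN : x ^ k ∈ extender S (Subgroup.zpowers (x ^ k)) χ := Subgroup.zpow_mem _ hxN k
    rw [← he _ (Subgroup.mem_zpowers _) hkN,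
      show (⟨x ^ k, hkN⟩ : extender S (Subgroup.zpowers (x ^ k)) χ) = (⟨x, hxN⟩ : extender S _ χ) ^ k from
        Subtype.ext (by simp), map_zpow, h1]
  obtain ⟨θ, hθ, hθr⟩ := hc
  obtain ⟨θ', hθ', hθ'r, hθ'l, -⟩ := F.exists_inv hφ rfl
  obtain ⟨χ, hχ, hχe⟩ := F.exists_comp hθ' hθ fun y => hθ'r.le ⟨y, rfl⟩
  have hθx := hle hθ hθr
  -- `φ` differs from the identity by maps onto the receptive conjugate
  have hQ' : Q' = Subgroup.zpowers (x ^ k) := by
    rw [← hθr, MonoidHom.range_eq_map, show (⊤ : Subgroup (Subgroup.zpowers (x ^ k))) =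
      Subgroup.zpowers ⟨_, Subgroup.mem_zpowers _⟩ from ?_, MonoidHom.map_zpowers, hθx]
    refine (eq_top_iff.mpr fun y _ => ?_).symm
    obtain ⟨i, hi⟩ := y.2
    exact ⟨i, Subtype.ext (by simpa using hi)⟩
  subst hQ'
  have hrange : φ.range = Subgroup.zpowers (φ ⟨_, Subgroup.mem_zpowers _⟩) := by
    rw [MonoidHom.range_eq_map, show (⊤ : Subgroup (Subgroup.zpowers (x ^ k))) =
      Subgroup.zpowers ⟨_, Subgroup.mem_zpowers _⟩ from ?_, MonoidHom.map_zpowers]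
    refine (eq_top_iff.mpr fun y _ => ?_).symm
    obtain ⟨i, hi⟩ := y.2
    exact ⟨i, Subtype.ext (by simpa using hi)⟩
  obtain ⟨ω, hω, hωe⟩ := hrec.2 φ.range θ' hθ' hθ'r
  have hxN : x ∈ extender S φ.range θ' := by
    refine centralizerIn_le_extender (F.apply_mem hθ') ⟨hxS, ?_⟩
    rw [hrange]
    refine Subgroup.mem_centralizer_iff.mpr ?_
    rintro _ ⟨i, rfl⟩
    have hcx : Commute x (φ ⟨_, Subgroup.mem_zpowers _⟩) := by
      have h2 := h _ (conjHom (Subgroup.zpowers x) (φ ⟨_, Subgroup.mem_zpowers _⟩))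
        (F.conj_mem (Subgroup.zpowers_le.mpr hxS) (F.apply_mem hφ _)) (Subgroup.mem_zpowers x)
      exact (mul_inv_eq_iff_eq_mul.mp h2).symm
    exact (hcx.zpow_right i).eq.symm
  have h1 := h _ ω hω hxN
  have hkN : x ^ k ∈ extender S φ.range θ' := Subgroup.zpow_mem _ hxN k
  have h2 : ω ⟨x ^ k, hkN⟩ = x ^ k := by
    rw [show (⟨x ^ k, hkN⟩ : extender S φ.range θ') = (⟨x, hxN⟩ : extender S φ.range θ') ^ k from
      Subtype.ext (by simp), map_zpow, h1]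
  have hmemN : φ ⟨_, Subgroup.mem_zpowers _⟩ ∈ extender S φ.range θ' :=
    le_extender (F.range_le hφ) (F.apply_mem hθ') ⟨_, rfl⟩
  have h3 : ω ⟨_, hmemN⟩ = x ^ k := (hωe _ ⟨_, rfl⟩ hmemN).trans (hθ'l _ _)
  exact congrArg Subtype.val (F.injective_of_mem hω (h3.trans h2.symm))

variable [Finite S] [Fact p.Prime]

/-- Maps on an overgroup of a fully normalised conjugate, transported back. -/
theorem IsSaturated.normalizerFixes_transfer (hF : F.IsSaturated p) (hS : IsPGroup p S) {U' : Subgroup Ω}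
    (hc : F.IsConj U U') (hU' : F.IsFullyNormalized U') (h : F.NormalizerFixes U' x)
    (hbig : ∀ (P : Subgroup Ω) (φ : P →* Ω), φ ∈ F.Hom P →
      Nat.card (normalizerIn S U) ≤ Nat.card P → ∀ h : x ∈ P, φ ⟨x, h⟩ = x) :
    F.NormalizerFixes U x := by
  intro P φ hφ hUP hPN hUm hx
  obtain ⟨β, hβ, hβr, χ, hχ, hχN, hχe⟩ := hF.exists_map_to_fullyNormalized hS hU' hc
  have hxN : x ∈ normalizerIn S U := hPN hx
  have hχx := hbig _ χ hχ le_rfl hxN
  have hφN : ∀ y : P, φ y ∈ normalizerIn S U := fun y => ⟨F.apply_mem hφ y, by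
    refine apply_mem_normalizer (P := U) (φ := φ.comp (Subgroup.inclusion hUP)) hUP (fun q => rfl) ?_ y (hPN y.2).2
    rw [range_eq_map_of_le hUP]
    exact hUm⟩
  set χP := χ.comp (Subgroup.inclusion hPN) with hχP
  have hχPmem : χP ∈ F.Hom P := F.restrict_mem hχ hPN
  obtain ⟨χ', hχ', hχ'r, hχ'l, -⟩ := F.exists_inv hχPmem rfl
  have hχ'P : ∀ y, χ' y ∈ P := fun y => hχ'r.le ⟨y, rfl⟩
  obtain ⟨γ₁, hγ₁, hγ₁e⟩ := F.exists_comp hχ' hφ hχ'P
  have hγ₁N : ∀ y, γ₁ y ∈ normalizerIn S U := fun y => by rw [hγ₁e]; exact hφN _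
  obtain ⟨γ, hγ, hγe⟩ := F.exists_comp hγ₁ hχ hγ₁N
  have hγv : ∀ (u : P) (hu : χP u ∈ χP.range), γ ⟨χP u, hu⟩ = χ ⟨φ u, hφN u⟩ := fun u hu => by
    rw [hγe]
    refine congrArg χ (Subtype.ext ?_)
    show γ₁ ⟨χP u, hu⟩ = φ u
    rw [hγ₁e]
    exact congrArg φ (Subtype.ext (hχ'l u hu))
  have hU'P : U' ≤ χP.range := by
    rw [← hβr]
    rintro _ ⟨u, rfl⟩
    exact ⟨⟨u, hUP u.2⟩, hχe u _⟩
  have hU'N : χP.range ≤ normalizerIn S U' := by
    rintro _ ⟨u, rfl⟩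
    exact hχN _
  have hγU : (U'.subgroupOf χP.range).map γ = U' := by
    apply le_antisymm
    · rintro _ ⟨⟨_, u, rfl⟩, hu, rfl⟩
      have hu' : χP u ∈ U' := hu
      obtain ⟨w, hw⟩ := hβr.ge hu'
      have huU : (u : Ω) ∈ U := by
        have e : χ ⟨(w : Ω), hPN (hUP w.2)⟩ = χ ⟨(u : Ω), hPN u.2⟩ := (hχe w _).trans hw
        have := congrArg Subtype.val (F.injective_of_mem hχ e)
        exact this ▸ w.2
      refine (congrArg (· ∈ U') (hγv u _)).mpr ?_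
      have hfu : φ u ∈ U := hUm.le ⟨u, huU, rfl⟩
      rw [hχe ⟨φ u, hfu⟩]
      exact hβr.le ⟨_, rfl⟩
    · intro z hz
      obtain ⟨w, rfl⟩ := hβr.ge hz
      obtain ⟨u, hu, e⟩ := hUm.ge w.2
      have huU : (u : Ω) ∈ U := hu
      refine ⟨⟨χP u, u, rfl⟩, ?_, ?_⟩
      · show χ ⟨(u : Ω), hPN u.2⟩ ∈ U'
        rw [hχe ⟨(u : Ω), huU⟩]
        exact hβr.le ⟨_, rfl⟩
      · refine (hγv u _).trans ?_
        rw [← hχe w (hPN (hUP w.2))]
        exact congrArg χ (Subtype.ext e)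
  have hxr : x ∈ χP.range := ⟨⟨x, hx⟩, hχx⟩
  have h1 := h _ γ hγ hU'P hU'N hγU hxr
  have h2 : γ ⟨x, hxr⟩ = χ ⟨φ ⟨x, hx⟩, hφN _⟩ :=
    (congrArg γ (Subtype.ext hχx.symm : (⟨x, hxr⟩ : χP.range) = ⟨χP ⟨x, hx⟩, ⟨x, hx⟩, rfl⟩)).trans (hγv _ _)
  rw [h2] at h1
  exact congrArg Subtype.val (F.injective_of_mem hχ (h1.trans hχx.symm))

/-- The system fixes the point when the automisers of its essential subgroups do, the larger maps given. -/
theorem IsSaturated.fixes_of_essential (hF : F.IsSaturated p) (hS : IsPGroup p S) (hxS : x ∈ S)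
    (hxc : x ∈ Subgroup.centralizer (S : Set Ω))
    (htop : ∀ φ ∈ F.Hom S, φ ⟨x, hxS⟩ = x)
    (h : ∀ R, F.IsEssential p R →
      (∀ (P : Subgroup Ω) (φ : P →* Ω), φ ∈ F.Hom P → Nat.card R < Nat.card P → ∀ h : x ∈ P, φ ⟨x, h⟩ = x) →
      ∀ hx : x ∈ R, ∀ α ∈ F.autGroup R, ((α ⟨x, hx⟩ : R) : Ω) = x) : F.Fixes x := by
  refine fixes_of_le_fixSystem (hxS := hxS) (hxc := hxc) (hF.le_of_autGroup_le' hS _ fun R hR hbig α hα => ?_)
  rcases hR with rfl | hR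
  · obtain ⟨φ, hφ, -, he⟩ := F.exists_map_of_mem_autGroup le_rfl hα
    exact (F.fixSystem hxS hxc).mem_autGroup_of_map (mem_fixSystem hφ hxS (htop φ hφ)) fun y => (he y).symm
  obtain ⟨φ, hφ, -, he⟩ := F.exists_map_of_mem_autGroup hR.1.1 hα
  have hx : x ∈ R := hR.1.centralizerIn_le_self ⟨hxS, Subgroup.centralizer_le hR.1.1 hxc⟩
  refine (F.fixSystem hxS hxc).mem_autGroup_of_map (mem_fixSystem hφ hx ?_) fun y => (he y).symm
  rw [he]
  refine h R hR (fun P φ' hφ' hlt hxP => ?_) hx α hα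
  obtain ⟨-, -, -, ψ, -, hψe, hψQ⟩ := hbig P hlt hφ'
  rw [← hψe]
  exact hψQ ⟨x, Subgroup.mem_zpowers x⟩

end Cfsg.FusionSystem
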