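import Cfsg.Agent.Lib.Fusion.Center
import Cfsg.Agent.Lib.Fusion.Saturation
import Cfsg.Agent.Lib.Fusion.Normal
import Mathlib.GroupTheory.QuotientGroup.Basic
import Mathlib.Algebra.BigOperators.Group.Finset.Basic

/-!
When `Z(S)` lies in the `p`-core of the system, the centre of the system is a direct factor of it.
-/

set_option autoImplicit false
set_option linter.unusedSectionVars false

universe u

namespace Cfsg.FusionSystem

variable {Ω : Type u} [Group Ω] {S : Subgroup Ω} {F : FusionSystem S} {p : ℕ} [Finite S] [Fact p.Prime]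

/-- Elements of a normal subgroup fixed by its automiser are central in the system. -/
theorem IsSaturated.mem_center_of_fixed (hF : F.IsSaturated p) {X : Subgroup Ω} (hX : F.IsNormal X)
    {x : X} (h : ∀ α ∈ F.autGroup X, α x = x) : (x : Ω) ∈ F.center := by
  refine (isCentral_of_isConjElt_eq hF (Q := Subgroup.zpowers (x : Ω))
    (Subgroup.zpowers_le.mpr (hX.1 x.2)) ?_).le_center (Subgroup.mem_zpowers _)
  rintro z ⟨k, rfl⟩ y ⟨φ, hφ, rfl⟩
  obtain ⟨ψ, hψ, hψe, hψX⟩ := hX.2 _ φ hφ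
  set χ := ψ.comp (Subgroup.inclusion (le_sup_right : X ≤ Subgroup.zpowers ((x : Ω) ^ k) ⊔ X)) with hχdef
  have hχ : χ ∈ F.Hom X := F.restrict_mem hψ _
  have hχr : χ.range = X := by
    apply le_antisymm
    · rintro _ ⟨w, rfl⟩
      exact hψX.le ⟨_, w.2, rfl⟩
    · intro y hy
      obtain ⟨w, hw, rfl⟩ := hψX.ge hy
      exact ⟨⟨w, hw⟩, rfl⟩
  have h1 := h _ (F.isoOf_mem_autGroup hχ hχr)
  have h2 : ((F.isoOf hχ hχr x : X) : Ω) = χ x := coe_isoOf hχ hχr x
  have hxz : χ x = (x : Ω) := h2.symm.trans (congrArg Subtype.val h1)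
  rw [← hψe ⟨_, Subgroup.mem_zpowers _⟩]
  have e : (x : Ω) ^ k = χ x ^ k := by rw [hxz]
  refine Eq.trans ?_ e.symm
  rw [← map_zpow]
  exact congrArg ψ (Subtype.ext (by simp))

/-- A transfer of `Z(S)` onto the centre of the system. -/
theorem IsSaturated.exists_center_complement (hF : F.IsSaturated p) (hS : IsPGroup p S)
    (hZ : (S ⊓ Subgroup.centralizer (S : Set Ω)) ≤ F.core) :
    ∃ K : Subgroup Ω, K ≤ (S ⊓ Subgroup.centralizer (S : Set Ω)) ∧ F.center ⊓ K = ⊥ ∧
      F.center ⊔ K = (S ⊓ Subgroup.centralizer (S : Set Ω)) := by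
  classical
  set Z := S ⊓ Subgroup.centralizer (S : Set Ω) with hZdef
  have hX : F.IsNormal F.core := isNormal_core F
  set X := F.core with hXdef
  have hCc : F.IsCentral F.center := isCentral_center F
  have hCZ : F.center ≤ Z := fun z hz => ⟨hCc.1 hz, Subgroup.mem_centralizer_iff.mpr fun s hs => by
    obtain ⟨ψ, -, hψe, hψQ⟩ := hCc.2 F.center (conjHom F.center s) (F.conj_mem hCc.1 hs)
    have h1 : s * z * s⁻¹ = z := (hψe ⟨z, hz⟩).symm.trans (hψQ ⟨z, hz⟩)
    rw [mul_inv_eq_iff_eq_mul] at h1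
    exact h1⟩
  haveI := finite_mulAut_of_le hX.1
  haveI : Finite X := finite_of_le hX.1
  obtain ⟨-, U, hU⟩ := hF.isFullyAutomized_of_isFullyNormalized hS
    (show F.IsFullyNormalized X from ⟨hX.1, fun R _ =>
      haveI := finite_normalizerIn (S := S) (P := X)
      Subgroup.card_le_of_le (le_inf normalizerIn_le (normalizerIn_le.trans hX.le_normalizer))⟩)
  -- the centre of `X`
  let A := F.autGroup X
  haveI := Fintype.ofFinite (A ⧸ (U : Subgroup A))
  let _ : CommGroup (Subgroup.center X) :=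
    { (inferInstance : Group (Subgroup.center X)) with
      mul_comm := fun a b => Subtype.ext (Subgroup.mem_center_iff.mp b.2 a) }
  have hmem : ∀ z : Z, (⟨(z : Ω), hZ z.2⟩ : X) ∈ Subgroup.center X := fun z =>
    Subgroup.mem_center_iff.mpr fun x => Subtype.ext (Subgroup.mem_centralizer_iff.mp z.2.2 x (hX.1 x.2))
  let ι : Z →* Subgroup.center X :=
    MonoidHom.mk' (fun z => ⟨⟨(z : Ω), hZ z.2⟩, hmem z⟩) fun a b => rfl
  have hmap : ∀ (a : MulAut X) (v : Subgroup.center X), a (v : X) ∈ Subgroup.center X := fun a v =>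
    (Subgroup.characteristic_iff_map_eq.mp inferInstance a).le ⟨v, v.2, rfl⟩
  let act : A → Subgroup.center X →* Subgroup.center X := fun a =>
    MonoidHom.mk' (fun v => ⟨(a : MulAut X) v, hmap _ v⟩) fun v w => Subtype.ext (map_mul _ _ _)
  have hUfix : ∀ u ∈ (U : Subgroup A), ∀ z : Z, act u (ι z) = ι z := by
    intro u hu z
    obtain ⟨g, hg, -, hge⟩ := mem_autInducedBy_iff.mp (hU.le hu)
    refine Subtype.ext (Subtype.ext ?_)
    show (((u : MulAut X) ⟨(z : Ω), hZ z.2⟩ : X) : Ω) = z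
    have h1 : g * (z : Ω) * g⁻¹ = z := by
      rw [Subgroup.mem_centralizer_iff.mp z.2.2 g hg, mul_inv_cancel_right]
    refine Eq.trans ?_ h1
    first | exact hge ⟨(z : Ω), hZ z.2⟩ | exact (hge ⟨(z : Ω), hZ z.2⟩).symm
  let τ : Z →* Subgroup.center X := MonoidHom.mk' (fun z => ∏ q : A ⧸ (U : Subgroup A), act q.out (ι z))
    fun a b => by simp only [map_mul, Finset.prod_mul_distrib]
  have hτfix : ∀ (a : A) (z : Z), act a (τ z) = τ z := by
    intro a z
    show act a (∏ q : A ⧸ (U : Subgroup A), act q.out (ι z)) = _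
    rw [map_prod]
    refine Fintype.prod_equiv (MulAction.toPerm a) _ _ fun q => ?_
    show act a (act q.out (ι z)) = act (a • q).out (ι z)
    obtain ⟨u, hu⟩ : ∃ u : (U : Subgroup A), a * q.out = (a • q).out * u := by
      have h1 : ((a • q).out : A ⧸ (U : Subgroup A)) = ((a * q.out : A) : A ⧸ (U : Subgroup A)) := by
        rw [QuotientGroup.out_eq']
        conv_lhs => rw [← QuotientGroup.out_eq' q]
        rfl
      exact ⟨⟨_, QuotientGroup.eq.mp h1⟩, (mul_inv_cancel_left _ _).symm⟩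
    have h2 : ∀ (x y : A) v, act x (act y v) = act (x * y) v := fun x y v => rfl
    rw [h2, hu, ← h2, hUfix _ u.2]
  have hτc : ∀ z, ((τ z : X) : Ω) ∈ F.center := fun z =>
    hF.mem_center_of_fixed hX fun α hα => congrArg Subtype.val (hτfix ⟨α, hα⟩ z)
  let τ' : Z →* F.center :=
    MonoidHom.mk' (fun z => ⟨((τ z : X) : Ω), hτc z⟩) fun a b => Subtype.ext (by simp [map_mul])
  let m := (U : Subgroup A).index
  have hτC : ∀ z : Z, (z : Ω) ∈ F.center → ((τ z : X) : Ω) = (z : Ω) ^ m := by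
    intro z hz
    have h1 : ∀ a : A, act a (ι z) = ι z := by
      intro a
      obtain ⟨φ, hφ, -, hφe⟩ := F.exists_map_of_mem_autGroup hX.1 a.2
      refine Subtype.ext (Subtype.ext ?_)
      show (((a : MulAut X) ⟨(z : Ω), hZ z.2⟩ : X) : Ω) = z
      rw [← hφe]
      obtain ⟨ψ, -, hψe, hψQ⟩ := hCc.2 X φ hφ
      rw [← hψe]
      exact hψQ ⟨(z : Ω), hz⟩
    show (((∏ q : A ⧸ (U : Subgroup A), act q.out (ι z) : Subgroup.center X) : X) : Ω) = _
    simp only [h1, Finset.prod_const, Finset.card_univ, ← Nat.card_eq_fintype_card]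
    rfl
  have hm : ¬ p ∣ m := U.not_dvd_index
  have hCp : IsPGroup p F.center := hS.to_le hCc.1
  refine ⟨τ'.ker.map Z.subtype, Subgroup.map_subtype_le _, ?_, le_antisymm (sup_le hCZ (Subgroup.map_subtype_le _)) ?_⟩
  · rw [Subgroup.eq_bot_iff_forall]
    rintro x ⟨hxC, k, hk, e⟩
    subst e
    have h1 : ((τ k : X) : Ω) = 1 := congrArg Subtype.val (show τ' k = 1 from hk)
    rw [hτC k hxC] at h1
    have h2 : (⟨(k : Ω), hxC⟩ : F.center) = 1 :=
      (hCp.powEquiv' hm).injective ((show (⟨(k : Ω), hxC⟩ : F.center) ^ m = 1 from Subtype.ext h1).trans (one_pow m).symm)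
    exact congrArg (fun w : F.center => (w : Ω)) h2
  · intro z hz
    obtain ⟨c, hc⟩ := (hCp.powEquiv' hm).surjective (τ' ⟨z, hz⟩)
    have hc' : c ^ m = τ' ⟨z, hz⟩ := hc
    have hk : (⟨(c : Ω), hCZ c.2⟩ : Z)⁻¹ * ⟨z, hz⟩ ∈ τ'.ker := by
      show τ' _ = 1
      have h1 : τ' ⟨(c : Ω), hCZ c.2⟩ = c ^ m := Subtype.ext ((hτC _ c.2).trans rfl)
      rw [map_mul, map_inv, h1, hc', inv_mul_cancel]
    have h2 : ((c : Ω))⁻¹ * z ∈ τ'.ker.map Z.subtype := ⟨_, hk, rfl⟩
    have := Subgroup.mul_mem_sup c.2 h2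
    rwa [mul_inv_cancel_left] at this

end Cfsg.FusionSystem
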