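import Cfsg.Agent.Lib.Fusion.CenterReduce

/-!
The induction: control of central elements by a positive characteristic functor.
-/

set_option autoImplicit false
set_option linter.unusedSectionVars false

universe u

namespace Cfsg.FusionSystem

theorem powerClosure_center_le {Ω : Type u} [Group Ω] {p n : ℕ} {S T : Subgroup Ω} (hTS : T ≤ S)
    (hZT : S ⊓ Subgroup.centralizer (S : Set Ω) ≤ T) :
    powerClosure p n (S ⊓ Subgroup.centralizer (S : Set Ω)) ≤ powerClosure p n (T ⊓ Subgroup.centralizer (T : Set Ω)) :=
  (Subgroup.closure_le _).mpr fun _ ⟨z, hz, e⟩ =>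
    Subgroup.subset_closure ⟨z, ⟨hZT hz, Subgroup.centralizer_le (SetLike.coe_subset_coe.mpr hTS) hz.2⟩, e⟩

/-- Central `p^n`-th powers fixed in the normaliser of `W(S)` are fixed by the system, if this holds for
constrained systems (`c` carries a hereditary freeness hypothesis). -/
theorem fixes_of_normalizerFixes_aux (p : ℕ) [Fact p.Prime] (n : ℕ) (c : Prop)
    (W : ∀ (Q : Type u) [Group Q], Subgroup Q)
    (hW1 : ∀ (Q : Type u) [Group Q] [Finite Q], IsPGroup p Q → Nontrivial Q → W Q ≠ ⊥)
    (hW2 : ∀ (Q R : Type u) [Group Q] [Group R] [Finite Q], IsPGroup p Q → ∀ φ : Q ≃* R,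
      (W Q).map φ.toMonoidHom = W R)
    (hcon : ∀ {Ω : Type u} [Group Ω] {S : Subgroup Ω} [Finite S] (F : FusionSystem S) (x : Ω),
      F.IsConstrained p → IsPGroup p S → (c → F.Free p) →
      x ∈ powerClosure p n (S ⊓ Subgroup.centralizer (S : Set Ω)) →
      F.NormalizerFixes (functorOn W S) x → F.Fixes x) :
    ∀ N m : ℕ, ∀ {Ω : Type u} [Group Ω] {S : Subgroup Ω} [Finite S] (F : FusionSystem S) (x : Ω),
      Nat.card S = N → F.count = m → F.IsSaturated p → IsPGroup p S → (c → F.Free p) →
      x ∈ powerClosure p n (S ⊓ Subgroup.centralizer (S : Set Ω)) →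
      F.NormalizerFixes (functorOn W S) x → F.Fixes x := by
  intro N
  induction N using Nat.strong_induction_on with
  | h N ihn =>
    intro m
    induction m using Nat.strong_induction_on with
    | h m ihm =>
      intro Ω _ S _ F x hN hm hF hS hfree hg hW
      obtain ⟨hxS, hxc⟩ := good_mem hg
      rcases eq_or_ne x 1 with rfl | hx1
      · exact fun P φ _ h => (map_one φ : φ 1 = 1)
      have hWS : functorOn W S ≤ S := Subgroup.map_subtype_le _
      have hWN : S ≤ Subgroup.normalizer (functorOn W S : Set Ω) :=
        Subgroup.le_normalizer.trans (normalizer_le_normalizer_functorOn W hW2 hS)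
      have htop : ∀ φ ∈ F.Hom S, φ ⟨x, hxS⟩ = x := fun φ hφ =>
        hW S φ hφ hWS (normalizerIn_eq_of_le_normalizer hWN).ge (map_functorOn W hW2 hS hφ) hxS
      have hsub : ∀ T : Subgroup Ω, T = S → ∀ E : FusionSystem T, E.IsSaturated p → E.IsSubsystemOf F →
          ¬ (∀ P, F.Hom P ⊆ E.Hom P) → E.Fixes x := by
        rintro T rfl E hE hEF hne
        exact ihm _ (hm ▸ count_lt hEF hne) E x hN rfl hE hS (fun h => (hfree h).mono hEF) hg (hW.mono le_rfl hEF)
      by_cases hc : F.IsCentric F.core
      · exact hcon F x ⟨hF, F.core, isNormal_core F, hc⟩ hS hfree hg hW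
      have hX := isNormal_core F
      by_cases hb : F.core = ⊥
      swap
      · set X := F.core with hXdef
        have hXs := hX.stronglyClosed
        set U := X ⊔ centralizerIn S X with hUdef
        have hUs : F.StronglyClosed U := hXs.sup_centralizerIn hF hS
        have hUn : ¬ F.IsNormal U := fun h => hc (by
          refine isCentric_of_le ?_ h.le_core hX.1
          refine ⟨hUs.1, fun R hR => ?_⟩
          obtain ⟨φ, hφ, rfl⟩ := hR
          rw [hUs.weaklyClosed.2 φ hφ]
          exact fun y hy => Subgroup.mem_sup_right ⟨hy.1, Subgroup.centralizer_le (SetLike.coe_subset_coe.mpr (le_sup_left : X ≤ U)) hy.2⟩)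
        have hNY : ∀ Y : Subgroup Ω, Y ≤ S → S ≤ Subgroup.normalizer (Y : Set Ω) → ¬ F.IsNormal Y →
            F.NormalizerFixes Y x := by
          intro Y hY hYN hYn
          have hNE := F.normalizerSystem_isNormalizerSystem Y hY
          exact hNE.normalizerFixes hY (hsub _ (normalizerIn_eq_of_le_normalizer hYN) _
            (hF.isSaturated_normalizerSystem hS (isFullyNormalized_of_le_normalizer hY hYN) hNE) hNE.subsystem
            (hNE.proper hY hYn))
        by_cases hprop : ¬ ∀ P, F.Hom P ⊆ (relSystem hX (autInducedBy S X) (autInducedBy_hK hX)).Hom P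
        · exact hF.fixes_of_noncentric_core hS hxS hxc hX htop (hNY U hUs.1 hUs.le_normalizer hUn)
            (hsub S rfl _ (hF.relSystem_isSaturated hS hX) (relSystem_le hX _ _) hprop)
        rw [not_not] at hprop
        refine hF.fixes_of_quotient hS hxS hxc hX htop hprop ?_
        obtain ⟨Ω', _, θ, E, hE, hker, hEm⟩ := hF.exists_factor hS hX
        haveI : Finite θ.range := Finite.of_surjective θ.rangeRestrict θ.rangeRestrict_surjective
        have hpr : IsPGroup p θ.range := hS.of_surjective θ.rangeRestrict θ.rangeRestrict_surjective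
        have hlt : Nat.card θ.range < N := by
          obtain ⟨z, hz, hz1⟩ := (Subgroup.bot_or_exists_ne_one X).resolve_left hb
          letI : Fintype S := Fintype.ofFinite _
          letI : Fintype θ.range := Fintype.ofFinite _
          rw [← hN]
          simp only [Nat.card_eq_fintype_card]
          refine Fintype.card_lt_of_surjective_not_injective θ.rangeRestrict θ.rangeRestrict_surjective fun hinj => hz1 ?_
          have h1 : θ.rangeRestrict ⟨z, hX.1 hz⟩ = θ.rangeRestrict 1 := by
            apply Subtype.ext
            show θ ⟨z, hX.1 hz⟩ = θ 1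
            rw [(hker _).mpr hz, map_one]
          exact congrArg Subtype.val (hinj h1)
        have hg' : θ ⟨x, hxS⟩ ∈ powerClosure p n (θ.range ⊓ Subgroup.centralizer (θ.range : Set Ω')) := by
          have hle : powerClosure p n (S ⊓ Subgroup.centralizer (S : Set Ω)) ≤
              ((powerClosure p n (θ.range ⊓ Subgroup.centralizer (θ.range : Set Ω'))).comap θ).map S.subtype := by
            refine (Subgroup.closure_le _).mpr ?_
            rintro _ ⟨z, hz, rfl⟩
            refine ⟨⟨z, hz.1⟩ ^ p ^ n, Subgroup.subset_closure ⟨θ ⟨z, hz.1⟩, ⟨⟨_, rfl⟩, ?_⟩, map_pow θ _ _⟩, by simp⟩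
            refine Subgroup.mem_centralizer_iff.mpr ?_
            rintro _ ⟨s, rfl⟩
            rw [← map_mul, ← map_mul]
            exact congrArg θ (Subtype.ext (Subgroup.mem_centralizer_iff.mp hz.2 s s.2))
          obtain ⟨s, hs, e⟩ := hle hg
          rwa [show (⟨x, hxS⟩ : S) = s from Subtype.ext e.symm]
        set V := functorOn W θ.range with hVdef
        have hVle : V ≤ θ.range := Subgroup.map_subtype_le _
        have hVn : θ.range ≤ Subgroup.normalizer (V : Set Ω') :=
          Subgroup.le_normalizer.trans (normalizer_le_normalizer_functorOn W hW2 hpr)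
        have hrne : θ.range ≠ ⊥ := fun hbot => hc (by
          have hXS : X = S := le_antisymm hX.1 fun y hy => (hker ⟨y, hy⟩).mp (by
            have : θ ⟨y, hy⟩ ∈ θ.range := ⟨_, rfl⟩
            rwa [hbot, Subgroup.mem_bot] at this)
          rw [hXS]; exact isCentric_self)
        have hVne := functorOn_ne_bot W hW1 hpr hrne
        have hW' : E.NormalizerFixes V (θ ⟨x, hxS⟩) := by
          intro P' φ' hφ' hVP hPN hVm hxP
          obtain ⟨-, φ, hφ, hind⟩ := (hEm _ _).mp hφ'
          set Y := preimageAlong θ V with hY
          have hYP : Y ≤ preimageAlong θ P' := by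
            intro y hy
            obtain ⟨hyS, h1⟩ := mem_preimageAlong.mp hy
            exact mem_preimageAlong.mpr ⟨hyS, hVP h1⟩
          have hYN : S ≤ Subgroup.normalizer (Y : Set Ω) := by
            intro s hs
            refine Subgroup.mem_normalizer_iff.mpr fun y => ?_
            have h2 := Subgroup.mem_normalizer_iff.mp (hVn ⟨⟨s, hs⟩, rfl⟩)
            constructor
            · intro hy
              obtain ⟨hyS, h3⟩ := mem_preimageAlong.mp hy
              refine mem_preimageAlong.mpr ⟨S.mul_mem (S.mul_mem hs hyS) (S.inv_mem hs), ?_⟩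
              have h4 := (h2 _).mp h3
              rw [← map_inv, ← map_mul, ← map_mul] at h4
              exact h4
            · intro hy
              obtain ⟨hyS', h3⟩ := mem_preimageAlong.mp hy
              have hyS : y ∈ S := by
                have := S.mul_mem (S.mul_mem (S.inv_mem hs) hyS') hs
                simpa [mul_assoc] using this
              refine mem_preimageAlong.mpr ⟨hyS, (h2 _).mpr ?_⟩
              rw [← map_inv, ← map_mul, ← map_mul]
              exact h3
          have hYn : ¬ F.IsNormal Y := by
            intro hn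
            refine hVne ((Subgroup.eq_bot_iff_forall _).mpr fun v hv => ?_)
            obtain ⟨s, rfl⟩ := hVle hv
            exact (hker s).mpr (hn.le_core (mem_preimageAlong.mpr ⟨s.2, hv⟩))
          haveI : Finite Y := finite_of_le preimageAlong_le
          have hYm : (Y.subgroupOf (preimageAlong θ P')).map φ = Y := by
            refine Subgroup.eq_of_le_of_card_ge ?_ (le_of_eq ?_)
            · rintro _ ⟨y, hy, rfl⟩
              obtain ⟨hyS, h1⟩ := mem_preimageAlong.mp hy
              refine mem_preimageAlong.mpr ⟨F.apply_mem hφ y, ?_⟩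
              rw [← inducedAlong_apply_mem hφ hind y (hVP h1)]
              exact hVm.le ⟨_, h1, rfl⟩
            · rw [Subgroup.card_map_of_injective (F.injective_of_mem hφ)]
              exact (Nat.card_congr (Subgroup.subgroupOfEquivOfLe hYP).toEquiv).symm
          have hxPre : x ∈ preimageAlong θ P' := mem_preimageAlong.mpr ⟨hxS, hxP⟩
          have h1 := hNY Y preimageAlong_le hYN hYn _ φ hφ hYP
            (preimageAlong_le.trans (normalizerIn_eq_of_le_normalizer hYN).ge) hYm hxPre
          rw [inducedAlong_apply_mem hφ hind ⟨x, hxPre⟩ hxP]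
          exact congrArg θ (Subtype.ext h1)
        have hEi : E.Fixes (θ ⟨x, hxS⟩) :=
          ihn _ hlt _ E _ rfl rfl hE hpr (fun h => (hfree h).factor hker hEm) hg' hW'
        intro P φ hφ hXP hxP
        obtain ⟨φ', hφ'⟩ := exists_inducedAlong hker hXs hφ
        have hle : preimageAlong θ (imageAlong θ P) ≤ P := by
          intro y hy
          obtain ⟨hyS, z, hz, hze⟩ := mem_preimageAlong.mp hy
          have h1 : (z : Ω)⁻¹ * y ∈ X :=
            (hker (z⁻¹ * ⟨y, hyS⟩)).mp (by rw [map_mul, map_inv, hze, inv_mul_cancel])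
          have := P.mul_mem hz (hXP h1)
          simpa using this
        have hφ'E : φ' ∈ E.Hom (imageAlong θ P) := by
          refine (hEm _ _).mpr ⟨by rintro _ ⟨s, -, rfl⟩; exact ⟨s, rfl⟩, ?_⟩
          obtain ⟨h1, h2, h3, h4⟩ := hφ'
          exact ⟨_, F.restrict_mem hφ hle, preimageAlong_le, F.apply_mem (F.restrict_mem hφ hle),
            fun y => (mem_preimageAlong.mp y.2).2, fun y => h4 ⟨y, hle y.2⟩⟩
        have hxI : θ ⟨x, hxS⟩ ∈ imageAlong θ P := ⟨_, hxP, rfl⟩
        have h1 := hEi _ φ' hφ'E hxI
        rw [inducedAlong_apply_mem hφ hφ' ⟨x, hxP⟩ hxI] at h1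
        refine (hker (⟨x, hxS⟩⁻¹ * ⟨φ ⟨x, hxP⟩, F.apply_mem hφ _⟩)).mp ?_
        rw [map_mul, map_inv, h1, inv_mul_cancel]
      -- the case of a trivial core
      refine hF.fixes_of_essential hS hxS hxc htop fun R hR hbig hx α hα => ?_
      have hZle : ∀ T : Subgroup Ω, T ≤ S → S ⊓ Subgroup.centralizer (S : Set Ω) ≤ normalizerIn S T := by
        intro T hT z hz
        refine ⟨hz.1, Subgroup.centralizer_le_normalizer _ ?_⟩
        exact Subgroup.centralizer_le (SetLike.coe_subset_coe.mpr hT) hz.2
      suffices key : ∀ k, ∀ U, U ≤ S → U ≠ ⊥ → Nat.card R < Nat.card (normalizerIn S U) →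
          Nat.card S - Nat.card (normalizerIn S U) = k → F.NormalizerFixes U x by
        have hRS : R ≤ S := hR.1.1
        haveI : Finite (normalizerIn S R) := finite_normalizerIn
        have hRb : R ≠ ⊥ := fun h => hx1 (Subgroup.mem_bot.mp (h ▸ hx))
        have hlt : Nat.card R < Nat.card (normalizerIn S R) :=
          card_lt_of_lt (lt_normalizerIn hS (hR.lt hS hF))
        obtain ⟨φ, hφ, hr, he⟩ := F.exists_map_of_mem_autGroup hRS hα
        have hRm : (R.subgroupOf R).map φ = R := by
          rw [Subgroup.subgroupOf_self, ← MonoidHom.range_eq_map, hr]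
        rw [← he]
        exact key _ R hRS hRb hlt rfl R φ hφ le_rfl (le_normalizerIn hRS) hRm hx
      intro k
      induction k using Nat.strong_induction_on with
      | h k ihk =>
        -- fully normalised subgroups
        have full : ∀ U, F.IsFullyNormalized U → U ≠ ⊥ → Nat.card R < Nat.card (normalizerIn S U) →
            Nat.card S - Nat.card (normalizerIn S U) ≤ k → F.NormalizerFixes U x := by
          intro U hU hUb hlt hk
          have hUS := hU.1
          have hUn : ¬ F.IsNormal U := fun h => hUb (le_bot_iff.mp (hb ▸ h.le_core))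
          have hNE := F.normalizerSystem_isNormalizerSystem U hUS
          refine hNE.normalizerFixes hUS ?_
          have hEsat := hF.isSaturated_normalizerSystem hS hU hNE
          haveI : Finite (normalizerIn S U) := finite_normalizerIn
          by_cases hTe : normalizerIn S U = S
          · exact hsub _ hTe _ hEsat hNE.subsystem (hNE.proper hUS hUn)
          set T := normalizerIn S U with hTdef
          have hTS : T ≤ S := normalizerIn_le
          have hTp : IsPGroup p T := hS.to_le hTS
          have hTb : T ≠ ⊥ := fun h => hUb (le_bot_iff.mp (h ▸ le_normalizerIn hUS))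
          have hVb := functorOn_ne_bot W hW1 hTp hTb
          have hVS : functorOn W T ≤ S := (Subgroup.map_subtype_le _).trans hTS
          haveI : Finite (normalizerIn S (functorOn W T)) := finite_normalizerIn
          haveI : Finite (normalizerIn S T) := finite_normalizerIn
          have hT1 : T < normalizerIn S T := lt_normalizerIn hS (lt_of_le_of_ne hTS hTe)
          have hT2 : normalizerIn S T ≤ normalizerIn S (functorOn W T) :=
            inf_le_inf_left _ (normalizer_le_normalizer_functorOn W hW2 hTp)
          have hc1 : Nat.card T < Nat.card (normalizerIn S (functorOn W T)) :=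
            lt_of_lt_of_le (card_lt_of_lt hT1) (Subgroup.card_le_of_le hT2)
          have hle := Nat.card_le_card_of_injective _ (Subgroup.inclusion_injective
            (normalizerIn_le (S := S) (P := functorOn W T)))
          have hWE : F.NormalizerFixes (functorOn W T) x :=
            ihk _ (by omega) _ hVS hVb (by omega) rfl
          have hg' := powerClosure_center_le (p := p) (n := n) hTS (hZle U hUS) hg
          rcases count_lt_of_lt hNE.subsystem (hNE.proper hUS hUn) hTS with h | ⟨h, h'⟩
          · exact ihn _ (hN ▸ h) _ _ x rfl rfl hEsat hTp (fun h => (hfree h).mono hNE.subsystem) hg'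
              (hWE.mono hTS hNE.subsystem)
          · exact ihm _ (hm ▸ h') _ x (h.trans hN) rfl hEsat hTp (fun h => (hfree h).mono hNE.subsystem) hg'
              (hWE.mono hTS hNE.subsystem)
        intro U hUS hUb hlt hk
        obtain ⟨U', hc', hU'⟩ := F.exists_isFullyNormalized hUS
        have hU'b : U' ≠ ⊥ := fun h => hUb (Subgroup.eq_bot_of_card_eq U (by rw [hc'.card_eq, h, Subgroup.card_bot]))
        have hle : Nat.card (normalizerIn S U) ≤ Nat.card (normalizerIn S U') := by
          obtain ⟨φ, hφ, hr⟩ := hc'
          exact hU'.2 U (IsConj.symm ⟨φ, hφ, hr⟩)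
        refine hF.normalizerFixes_transfer hS hc' hU' (full U' hU' hU'b (by omega) (by omega)) ?_
        intro P φ hφ hP hxP
        exact hbig P φ hφ (by omega) hxP

theorem IsSaturated.fixes_of_normalizerFixes {Ω : Type u} [Group Ω] {S : Subgroup Ω} [Finite S]
    {F : FusionSystem S} {p : ℕ} [Fact p.Prime] {x : Ω} (n : ℕ) (c : Prop)
    (W : ∀ (Q : Type u) [Group Q], Subgroup Q)
    (hW1 : ∀ (Q : Type u) [Group Q] [Finite Q], IsPGroup p Q → Nontrivial Q → W Q ≠ ⊥)
    (hW2 : ∀ (Q R : Type u) [Group Q] [Group R] [Finite Q], IsPGroup p Q → ∀ φ : Q ≃* R,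
      (W Q).map φ.toMonoidHom = W R)
    (hcon : ∀ {Ω : Type u} [Group Ω] {S : Subgroup Ω} [Finite S] (F : FusionSystem S) (x : Ω),
      F.IsConstrained p → IsPGroup p S → (c → F.Free p) →
      x ∈ powerClosure p n (S ⊓ Subgroup.centralizer (S : Set Ω)) →
      F.NormalizerFixes (functorOn W S) x → F.Fixes x)
    (hF : F.IsSaturated p) (hS : IsPGroup p S) (hfree : c → F.Free p)
    (hg : x ∈ powerClosure p n (S ⊓ Subgroup.centralizer (S : Set Ω)))
    (h : F.NormalizerFixes (functorOn W S) x) : F.Fixes x :=
  fixes_of_normalizerFixes_aux p n c W hW1 hW2 hcon _ _ F x rfl rfl hF hS hfree hg h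

end Cfsg.FusionSystem
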