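import Cfsg.Agent.Lib.Fusion.CenterQuad
import Cfsg.Agent.Lib.WeakClosureJ

/-!
Glauberman's theorem: the normalizer system of the Thompson subgroup controls the centre.
-/

set_option autoImplicit false
set_option linter.unusedSectionVars false

universe u

namespace Cfsg.FusionSystem

variable {p : ℕ} [Fact p.Prime]

/-- The abelian Thompson subgroup as a functor. -/
abbrev jFunctor : ∀ (Q : Type u) [Group Q], Subgroup Q := fun Q _ => thompsonSubgroupA Q

theorem thompsonSubgroupA_eq (Q : Type u) [Group Q] [Finite Q] :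
    thompsonSubgroupA Q = CfsgLib.ZJ.thompsonJ 0 (⊤ : Subgroup Q) := by
  rw [CfsgLib.ZJ.thompsonJ, CfsgLib.ZJ.goodMax_top_zero, thompsonSubgroupA]

theorem jFunctor_ne_bot (Q : Type u) [Group Q] [Finite Q] (hQ : IsPGroup p Q) (h : Nontrivial Q) :
    jFunctor Q ≠ ⊥ := by
  rw [jFunctor, thompsonSubgroupA_eq]
  exact CfsgLib.ThompsonComplement.J_ne_bot (p := p) (Or.inl rfl) (hQ.of_equiv Subgroup.topEquiv.symm) top_ne_bot

theorem jFunctor_map (Q R : Type u) [Group Q] [Group R] [Finite Q] (φ : Q ≃* R) :
    (jFunctor Q).map φ.toMonoidHom = jFunctor R := by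
  haveI : Finite R := Finite.of_equiv Q φ.toEquiv
  show (thompsonSubgroupA Q).map φ.toMonoidHom = thompsonSubgroupA R
  rw [thompsonSubgroupA_eq, thompsonSubgroupA_eq, ← CfsgLib.ZJ.thompsonJ_map 0 φ.injective,
    Subgroup.map_top_of_surjective _ φ.surjective]

theorem localCenterControl_J_one : LocalCenterControl p 1 False jFunctor := by
  intro L _ _ T z hC _ hz hzT hzN l
  obtain ⟨y, hy, hyz⟩ := exists_pow_eq_of_mem_powerClosure
    (A := (T : Subgroup L) ⊓ Subgroup.centralizer ((T : Subgroup L) : Set L))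
    (fun a ha b hb => Subgroup.mem_centralizer_iff.mp hb.2 a ha.1) hzT
  refine CfsgLib.WeakClosureJ.commute_of_normalizer_J T hz (fun m hm => ?_)
    (Or.inr (Or.inl ⟨y, hy.1, hy.2, hyz⟩)) l
  rw [CfsgLib.ZJ.thompsonJ_zero] at hm
  exact Subgroup.mem_centralizer_iff.mp hzN m hm

theorem localCenterControl_J_zero : LocalCenterControl p 0 True jFunctor := by
  intro L _ _ T z hC hfree hz _ hzN l
  refine CfsgLib.WeakClosureJ.commute_of_normalizer_J T hz (fun m hm => ?_)
    ((hfree trivial).imp_right Or.inr) l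
  rw [CfsgLib.ZJ.thompsonJ_zero] at hm
  exact Subgroup.mem_centralizer_iff.mp hzN m hm

variable {Ω : Type u} [Group Ω] {S : Subgroup Ω} [Finite S] {F : FusionSystem S}

/-- Glauberman's theorem, powers. -/
theorem IsSaturated.pow_center_control_J (hF : F.IsSaturated p) (hS : IsPGroup p S)
    {N : FusionSystem (normalizerIn S (thompsonSubgroupAOf S))}
    (hN : F.IsNormalizerSystem (thompsonSubgroupAOf S) N) :
    powerClosure p 1 (S ⊓ Subgroup.centralizer (S : Set Ω)) ⊓ N.center ≤ F.center :=
  (hF.center_control jFunctor (fun Q _ _ => jFunctor_ne_bot Q) (fun Q R _ _ _ _ => jFunctor_map Q R)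
    localCenterControl_J_one hS (fun h => h.elim) hN).1

/-- Glauberman's theorem, odd primes or no section `S₄`. -/
theorem IsSaturated.center_eq_center_J (hF : F.IsSaturated p) (hS : IsPGroup p S) (hfree : F.Free p)
    {N : FusionSystem (normalizerIn S (thompsonSubgroupAOf S))}
    (hN : F.IsNormalizerSystem (thompsonSubgroupAOf S) N) : N.center = F.center := by
  have h := hF.center_control jFunctor (fun Q _ _ => jFunctor_ne_bot Q) (fun Q R _ _ _ _ => jFunctor_map Q R)
    localCenterControl_J_zero hS (fun _ => hfree) hN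
  have hT : normalizerIn S (thompsonSubgroupAOf S) = S :=
    normalizerIn_eq_of_le_normalizer (Subgroup.le_normalizer.trans
      (normalizer_le_normalizer_functorOn jFunctor (fun Q R _ _ _ _ => jFunctor_map Q R) hS))
  haveI : Finite (normalizerIn S (thompsonSubgroupAOf S)) := finite_normalizerIn
  refine le_antisymm (fun x hx => h.1 (Subgroup.mem_inf.mpr ⟨?_, hx⟩)) h.2
  refine Subgroup.subset_closure ⟨x, ⟨hT.le ((isCentral_center N).1 hx), ?_⟩, by simp⟩
  have := mem_centralizer_of_mem_center (F := N) (S := normalizerIn S (thompsonSubgroupAOf S)) hx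
  rwa [hT] at this

end Cfsg.FusionSystem
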