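import Cfsg.Agent.Lib.Fusion.CenterFunctor

/-!
From a condition on finite groups of characteristic `p` to the constrained case of centre control, and
the conclusion for centres.
-/

set_option autoImplicit false
set_option linter.unusedSectionVars false

universe u

namespace Cfsg.FusionSystem

variable {p : ℕ} [Fact p.Prime] (W : ∀ (Q : Type u) [Group Q], Subgroup Q)

/-- The local condition in a model. -/
def LocalCenterControl (p n : ℕ) (c : Prop) (W : ∀ (Q : Type u) [Group Q], Subgroup Q) : Prop :=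
  ∀ (L : Type u) [Group L] [Finite L] (T : Sylow p L) (z : L),
    Subgroup.centralizer (pCore p L : Set L) ≤ pCore p L →
    (c → p ≠ 2 ∨ ¬ Involves (Equiv.Perm (Fin 4)) L) →
    z ∈ pCore p L →
    z ∈ powerClosure p n ((T : Subgroup L) ⊓ Subgroup.centralizer ((T : Subgroup L) : Set L)) →
    z ∈ Subgroup.centralizer
      ((Subgroup.normalizer (functorOn W (T : Subgroup L) : Set L) : Subgroup L) : Set L) →
    ∀ l : L, l * z = z * l

theorem IsConstrained.fixes_of_local {n : ℕ} {c : Prop}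
    (hW2 : ∀ (Q R : Type u) [Group Q] [Group R] [Finite Q], IsPGroup p Q → ∀ φ : Q ≃* R,
      (W Q).map φ.toMonoidHom = W R)
    (hloc : LocalCenterControl p n c W)
    {Ω : Type u} [Group Ω] {S : Subgroup Ω} [Finite S] (F : FusionSystem S) (x : Ω)
    (hF : F.IsConstrained p) (hS : IsPGroup p S) (hfree : c → F.Free p)
    (hg : x ∈ powerClosure p n (S ⊓ Subgroup.centralizer (S : Set Ω)))
    (hW : F.NormalizerFixes (functorOn W S) x) : F.Fixes x := by
  obtain ⟨hxS, hxc⟩ := good_mem hg
  obtain ⟨L, _, ι, hL⟩ := (hF.setup_core hS).exists_isModel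
  haveI := hL.1
  obtain ⟨T, hT⟩ := hL.2.2.1
  have hinj := hL.2.1.1
  have hC := hL.2.2.2
  have hmap := hL.map_core hS
  set X : Subgroup Ω := ((pCore p L).comap ι).map S.subtype with hX
  have hXS : X ≤ S := Subgroup.map_subtype_le _
  have hcomm : ∀ s : S, ι s * ι ⟨x, hxS⟩ = ι ⟨x, hxS⟩ * ι s := fun s => by
    rw [← map_mul, ← map_mul]
    exact congrArg ι (Subtype.ext (Subgroup.mem_centralizer_iff.mp hxc s s.2))
  have hzp : ι ⟨x, hxS⟩ ∈ pCore p L := by
    refine hC (Subgroup.mem_centralizer_iff.mpr fun y hy => ?_)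
    obtain ⟨s, rfl⟩ : y ∈ ι.range := hT ▸ CfsgLib.pCore_le_sylow T hy
    exact hcomm s
  have hfree' : c → p ≠ 2 ∨ ¬ Involves (Equiv.Perm (Fin 4)) L := by
    intro hc
    rcases hfree hc with h | h
    · exact Or.inl h
    · by_cases hp : p = 2
      · subst hp
        exact Or.inr fun hi => h (QdWitness.of_involves hL.2.1 hT (CfsgLib.QdTwo.involves_qd_two hi))
      · exact Or.inl hp
  have hpow : ι ⟨x, hxS⟩ ∈ powerClosure p n ((T : Subgroup L) ⊓ Subgroup.centralizer ((T : Subgroup L) : Set L)) := by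
    have hle : powerClosure p n (S ⊓ Subgroup.centralizer (S : Set Ω)) ≤
        ((powerClosure p n ((T : Subgroup L) ⊓ Subgroup.centralizer ((T : Subgroup L) : Set L))).comap ι).map S.subtype := by
      refine (Subgroup.closure_le _).mpr ?_
      rintro _ ⟨z, hz, rfl⟩
      refine ⟨⟨z, hz.1⟩ ^ p ^ n, Subgroup.subset_closure ⟨ι ⟨z, hz.1⟩, ⟨hT ▸ ⟨_, rfl⟩, ?_⟩, map_pow ι _ _⟩, by simp⟩
      rw [hT]
      refine Subgroup.mem_centralizer_iff.mpr ?_
      rintro _ ⟨s, rfl⟩
      rw [← map_mul, ← map_mul]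
      exact congrArg ι (Subtype.ext (Subgroup.mem_centralizer_iff.mp hz.2 s s.2))
    obtain ⟨s, hs, e⟩ := hle hg
    rwa [show (⟨x, hxS⟩ : S) = s from Subtype.ext e.symm]
  have hWT : functorOn W (T : Subgroup L) = ((functorOn W S).subgroupOf S).map ι := by
    suffices ∀ R : Subgroup L, R = ι.range → functorOn W R = ((functorOn W S).subgroupOf S).map ι from this _ hT
    rintro R rfl
    have h1 := hW2 S ι.range hS (MonoidHom.ofInjective hinj)
    have h2 : (functorOn W S).subgroupOf S = W S := by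
      rw [functorOn, Subgroup.subgroupOf, Subgroup.comap_map_eq_self_of_injective S.subtype_injective]
    rw [h2, functorOn, ← h1, Subgroup.map_map]
    rfl
  have hWN : S ≤ Subgroup.normalizer (functorOn W S : Set Ω) :=
    Subgroup.le_normalizer.trans (normalizer_le_normalizer_functorOn W hW2 hS)
  have hcen : ι ⟨x, hxS⟩ ∈ Subgroup.centralizer
      ((Subgroup.normalizer (functorOn W (T : Subgroup L) : Set L) : Subgroup L) : Set L) := by
    refine Subgroup.mem_centralizer_iff.mpr fun l hl => ?_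
    rw [hWT] at hl
    obtain ⟨ψ, hψ, hψι, hψW⟩ := hL.exists_map (Subgroup.map_subtype_le _ : functorOn W S ≤ S) hl
    have hxX : x ∈ X ⊔ functorOn W S := Subgroup.mem_sup_left ⟨_, hzp, rfl⟩
    have h1 := hW _ ψ hψ le_sup_right
      (le_inf (F.source_le hψ) ((F.source_le hψ).trans hWN)) hψW hxX
    have h2 := hψι ⟨x, hxX⟩ (F.apply_mem hψ _) hxS
    rw [show (⟨ψ ⟨x, hxX⟩, F.apply_mem hψ _⟩ : S) = ⟨x, hxS⟩ from Subtype.ext h1] at h2
    exact (eq_mul_inv_iff_mul_eq.mp h2).symm
  have hall := hloc L T (ι ⟨x, hxS⟩) hC hfree' hzp hpow hcen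
  intro P φ hφ hx
  obtain ⟨l, hl⟩ := (hL.2.1.2 P (F.source_le hφ) φ fun y => F.apply_mem hφ y).mp hφ
  have h1 := hl ⟨x, hx⟩
  rw [hall l, mul_inv_cancel_right] at h1
  exact congrArg Subtype.val (hinj h1)

variable {Ω : Type u} [Group Ω] {S : Subgroup Ω} [Finite S] {F : FusionSystem S} {x : Ω}

theorem fixes_of_mem_center (hx : x ∈ F.center) : F.Fixes x := by
  intro P φ hφ h
  obtain ⟨ψ, -, hψe, hψQ⟩ := (isCentral_center F).2 P φ hφ
  rw [← hψe]
  exact hψQ ⟨x, hx⟩

theorem mem_centralizer_of_mem_center (hx : x ∈ F.center) : x ∈ Subgroup.centralizer (S : Set Ω) := by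
  refine Subgroup.mem_centralizer_iff.mpr fun s hs => ?_
  have h1 : s * x * s⁻¹ = x :=
    fixes_of_mem_center hx F.center (conjHom F.center s) (F.conj_mem (isCentral_center F).1 hs) hx
  exact mul_inv_eq_iff_eq_mul.mp h1

theorem Fixes.mem_center (hF : F.IsSaturated p) (h : F.Fixes x) (hxS : x ∈ S) : x ∈ F.center :=
  (h.isCentral hF hxS).le_center (Subgroup.mem_zpowers x)

/-- Control of the centre. -/
theorem IsSaturated.center_control {n : ℕ} {c : Prop}
    (hW1 : ∀ (Q : Type u) [Group Q] [Finite Q], IsPGroup p Q → Nontrivial Q → W Q ≠ ⊥)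
    (hW2 : ∀ (Q R : Type u) [Group Q] [Group R] [Finite Q], IsPGroup p Q → ∀ φ : Q ≃* R,
      (W Q).map φ.toMonoidHom = W R)
    (hloc : LocalCenterControl p n c W) (hF : F.IsSaturated p) (hS : IsPGroup p S) (hfree : c → F.Free p)
    {N : FusionSystem (normalizerIn S (functorOn W S))} (hN : F.IsNormalizerSystem (functorOn W S) N) :
    powerClosure p n (S ⊓ Subgroup.centralizer (S : Set Ω)) ⊓ N.center ≤ F.center ∧ F.center ≤ N.center := by
  have hWS : functorOn W S ≤ S := Subgroup.map_subtype_le _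
  haveI : Finite (normalizerIn S (functorOn W S)) := finite_normalizerIn
  have hWN : S ≤ Subgroup.normalizer (functorOn W S : Set Ω) :=
    Subgroup.le_normalizer.trans (normalizer_le_normalizer_functorOn W hW2 hS)
  have hT := normalizerIn_eq_of_le_normalizer hWN
  refine ⟨fun x hx => ?_, fun x hx => ?_⟩
  · obtain ⟨hg, hxN⟩ := Subgroup.mem_inf.mp hx
    exact (hF.fixes_of_normalizerFixes n c W hW1 hW2
      (fun F' x' h1 h2 h3 h4 h5 => IsConstrained.fixes_of_local W hW2 hloc F' x' h1 h2 h3 h4 h5)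
      hS hfree hg (hN.normalizerFixes hWS (fixes_of_mem_center hxN))).mem_center hF (good_mem hg).1
  · have hxS : x ∈ S := (isCentral_center F).1 hx
    exact (hN.fixes hWS (fixes_of_mem_center hx).normalizerFixes).mem_center
      (hF.isSaturated_normalizerSystem hS (isFullyNormalized_of_le_normalizer hWS hWN) hN) (hT.ge hxS)

end Cfsg.FusionSystem
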