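import Cfsg.Agent.Lib.Fusion.CenterLocal
import Cfsg.Agent.Lib.QuadFix

/-!
Glauberman's weak closure argument: `p`-th powers of central elements are controlled by a functor
admitting quadratic elements outside the core.
-/

set_option autoImplicit false
set_option linter.unusedSectionVars false

universe u

namespace Cfsg

theorem functorOn_map {p : ℕ} {W : ∀ (Q : Type u) [Group Q], Subgroup Q}
    (hW2 : ∀ (Q R : Type u) [Group Q] [Group R] [Finite Q], IsPGroup p Q → ∀ φ : Q ≃* R,
      (W Q).map φ.toMonoidHom = W R) {G H : Type u} [Group G] [Group H] {f : G →* H} (hf : Function.Injective f)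
    {T : Subgroup G} [Finite T] (hT : IsPGroup p T) : functorOn W (T.map f) = (functorOn W T).map f := by
  have h := hW2 T (T.map f) hT (T.equivMapOfInjective f hf)
  rw [functorOn, functorOn, ← h, Subgroup.map_map, Subgroup.map_map]
  rfl

end Cfsg

namespace Cfsg.FusionSystem

variable {p : ℕ} [Fact p.Prime]

/-- The hypothesis: when `W(T)` is not normal some element of `T` outside the core acts quadratically on the
centre of the core. -/
def QuadCondition (p : ℕ) (W : ∀ (Q : Type u) [Group Q], Subgroup Q) : Prop :=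
  ∀ (L : Type u) [Group L] [Finite L] (T : Sylow p L),
    Subgroup.centralizer (pCore p L : Set L) ≤ pCore p L →
    ¬ (functorOn W (T : Subgroup L)).Normal →
    ∃ g ∈ (T : Subgroup L), g ∉ pCore p L ∧
      ∀ v ∈ pCore p L, v ∈ Subgroup.centralizer (pCore p L : Set L) →
        g * (v * g * v⁻¹ * g⁻¹) * g⁻¹ = v * g * v⁻¹ * g⁻¹

/-- The centre of the core, on which the group acts. -/
abbrev coreCenter (p : ℕ) (L : Type u) [Group L] : Subgroup L :=
  pCore p L ⊓ Subgroup.centralizer (pCore p L : Set L)

theorem central_of_quad_aux (W : ∀ (Q : Type u) [Group Q], Subgroup Q)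
    (hW2 : ∀ (Q R : Type u) [Group Q] [Group R] [Finite Q], IsPGroup p Q → ∀ φ : Q ≃* R,
      (W Q).map φ.toMonoidHom = W R)
    (hq : QuadCondition p W) :
    ∀ k : ℕ, ∀ (L : Type u) [Group L] [Finite L] (T : Sylow p L), Nat.card L = k →
      Subgroup.centralizer (pCore p L : Set L) ≤ pCore p L →
      ∀ y ∈ (T : Subgroup L) ⊓ Subgroup.centralizer ((T : Subgroup L) : Set L),
      y ^ p ∈ Subgroup.centralizer
        ((Subgroup.normalizer (functorOn W (T : Subgroup L) : Set L) : Subgroup L) : Set L) →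
      ∀ l : L, l * y ^ p = y ^ p * l := by
  intro k
  induction k using Nat.strong_induction_on with
  | h k ih =>
    intro L _ _ T hk hC y hy hyN l
    by_cases hWn : (functorOn W (T : Subgroup L)).Normal
    · exact Subgroup.mem_centralizer_iff.mp hyN l (by rw [Subgroup.normalizer_eq_top_iff.mpr hWn]; trivial)
    obtain ⟨g, hgT, hgp, hgquad⟩ := hq L T hC hWn
    have hy' : y ∈ coreCenter p L := by
      have h1 : y ∈ Subgroup.centralizer (pCore p L : Set L) :=
        Subgroup.centralizer_le (SetLike.coe_subset_coe.mpr (CfsgLib.pCore_le_sylow T)) hy.2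
      exact ⟨hC h1, h1⟩
    haveI hVn : (coreCenter p L).Normal := by
      haveI : (Subgroup.centralizer (pCore p L : Set L)).Normal := inferInstance
      exact Subgroup.normal_inf_normal _ _
    let _ : AddCommGroup (Additive (coreCenter p L)) :=
      { (inferInstance : AddGroup (Additive (coreCenter p L))) with
        add_comm := fun a b => congrArg Additive.ofMul (Subtype.ext
          ((Subgroup.mem_centralizer_iff.mp (Additive.toMul b).2.2 _ (Additive.toMul a).2.1) :
            ((Additive.toMul a : coreCenter p L) : L) * (Additive.toMul b : coreCenter p L) = _)) }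
    let _ : DistribMulAction L (Additive (coreCenter p L)) :=
      { smul := fun a v => Additive.ofMul (MulAut.conjNormal a (Additive.toMul v))
        one_smul := fun v => congrArg Additive.ofMul (by rw [map_one]; rfl)
        mul_smul := fun a b v => congrArg Additive.ofMul (by rw [map_mul]; rfl)
        smul_zero := fun a => congrArg Additive.ofMul (map_one _)
        smul_add := fun a u v => congrArg Additive.ofMul (map_mul _ _ _) }
    let M := Additive (coreCenter p L)
    have hsmul : ∀ (a : L) (v : M), (((Additive.toMul (a • v)) : coreCenter p L) : L) =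
        a * ((Additive.toMul v : coreCenter p L) : L) * a⁻¹ := fun a v => MulAut.conjNormal_apply _ _
    have hext : ∀ (v w : M), ((Additive.toMul v : coreCenter p L) : L) = ((Additive.toMul w : coreCenter p L) : L) →
        v = w := fun v w h => Additive.toMul.injective (Subtype.ext h)
    let z : M := Additive.ofMul ⟨y, hy'⟩
    have hz : ∀ t ∈ T, t • z = z := fun t ht => hext _ _ (by
      rw [hsmul]
      show t * y * t⁻¹ = y
      rw [Subgroup.mem_centralizer_iff.mp hy.2 t ht, mul_inv_cancel_right])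
    have hfix : ∀ {a : L}, a • (p • z) = p • z → a * y ^ p = y ^ p * a := by
      intro a h
      have h1 := congrArg (fun v : M => ((Additive.toMul v : coreCenter p L) : L)) h
      simp only [hsmul] at h1
      rw [mul_inv_eq_iff_eq_mul] at h1
      exact h1
    let H : Subgroup L := Subgroup.centralizer {y ^ p}
    have hH : ∀ {a : L}, a ∈ H ↔ a * y ^ p = y ^ p * a := fun {a} =>
      ⟨fun h => (Subgroup.mem_centralizer_iff.mp h _ rfl).symm,
        fun h => Subgroup.mem_centralizer_iff.mpr fun b hb => by rw [Set.mem_singleton_iff.mp hb]; exact h.symm⟩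
    let K : Subgroup L := Subgroup.closure {a | CfsgLib.QuadFix.Quad L M a ∧ ∃ j, a ^ p ^ j = 1}
    have hKH : K ≤ H := (Subgroup.closure_le _).mpr fun a ha =>
      hH.mpr (hfix (CfsgLib.QuadFix.fix_smul T hz ha.1 ha.2))
    haveI hKn : K.Normal := by
      refine ⟨fun a ha b => ?_⟩
      have hle : K ≤ K.comap (MulAut.conj b).toMonoidHom := by
        refine (Subgroup.closure_le _).mpr ?_
        rintro c ⟨hc, j, hj⟩
        refine Subgroup.subset_closure ⟨hc.conj b, j, ?_⟩
        show (b * c * b⁻¹) ^ p ^ j = 1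
        rw [conj_pow, hj, mul_one, mul_inv_cancel]
      exact hle ha
    have hgK : g ∈ K := by
      refine Subgroup.subset_closure ⟨?_, ?_⟩
      · refine AddMonoidHom.ext fun v => ?_
        rw [sq]
        show (g • (g • v - v) - (g • v - v)) = 0
        rw [sub_eq_zero]
        obtain ⟨hv1, hv2⟩ := (Additive.toMul v : coreCenter p L).2
        refine hext _ _ ?_
        rw [hsmul]
        show g * ((((Additive.toMul (g • v)) : coreCenter p L) : L) / ((Additive.toMul v : coreCenter p L) : L)) * g⁻¹ =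
          (((Additive.toMul (g • v)) : coreCenter p L) : L) / ((Additive.toMul v : coreCenter p L) : L)
        rw [hsmul]
        set w := ((Additive.toMul v : coreCenter p L) : L)
        have h1 := hgquad w hv1 hv2
        have e : g * w * g⁻¹ / w = (w * g * w⁻¹ * g⁻¹)⁻¹ * (w * (g * w * g⁻¹) * w⁻¹ * (g * w * g⁻¹)⁻¹)⁻¹⁻¹ := by
          rw [div_eq_mul_inv]
          have hcm : w * (g * w * g⁻¹) = g * w * g⁻¹ * w :=
            Subgroup.mem_centralizer_iff.mp ((hVn.conj_mem _ ⟨hv1, hv2⟩ g).2) w hv1
          rw [inv_inv, hcm, mul_inv_cancel_right, mul_inv_cancel, mul_one]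
          group
        have hcm : w * (g * w * g⁻¹) = g * w * g⁻¹ * w :=
          Subgroup.mem_centralizer_iff.mp ((hVn.conj_mem _ ⟨hv1, hv2⟩ g).2) w hv1
        rw [e, hcm, mul_inv_cancel_right, mul_inv_cancel, inv_inv, mul_one]
        calc g * (w * g * w⁻¹ * g⁻¹)⁻¹ * g⁻¹ = (g * (w * g * w⁻¹ * g⁻¹) * g⁻¹)⁻¹ := by
              simp [mul_inv_rev, mul_assoc]
          _ = _ := by rw [h1]
      · obtain ⟨j, hj⟩ := T.2 ⟨g, hgT⟩
        exact ⟨j, congrArg (fun w : (T : Subgroup L) => (w : L)) hj⟩
    -- the Frattini argument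
    obtain ⟨V, hV⟩ := ((T.2.to_le (inf_le_left : (T : Subgroup L) ⊓ K ≤ T)).of_equiv
      (Subgroup.subgroupOfEquivOfLe inf_le_right).symm).exists_le_sylow
    have hVmap : (V : Subgroup K).map K.subtype = (T : Subgroup L) ⊓ K := by
      symm
      have h1 : (T : Subgroup L) ⊓ K ≤ (V : Subgroup K).map K.subtype := fun c hc => ⟨⟨c, hc.2⟩, hV hc, rfl⟩
      obtain ⟨a, ha⟩ := exists_conj_mem_sylow T (V.2.map K.subtype)
      refine Subgroup.eq_of_le_of_card_ge h1 ?_
      refine le_trans (le_of_eq (Subgroup.card_map_of_injective (f := (MulAut.conj a : L ≃* _).toMonoidHom)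
        (MulEquiv.injective (MulAut.conj a))).symm) (Subgroup.card_le_of_le ?_)
      rintro _ ⟨c, hc, rfl⟩
      refine ⟨ha c hc, ?_⟩
      obtain ⟨d, -, rfl⟩ := hc
      exact hKn.conj_mem _ d.2 a
    have hgen := V.normalizer_sup_eq_top
    rw [hVmap] at hgen
    set Q := (T : Subgroup L) ⊓ K with hQ
    set N := Subgroup.normalizer (Q : Set L) with hNdef
    refine hH.mp (?_ : l ∈ H)
    refine (?_ : (⊤ : Subgroup L) ≤ H) (Subgroup.mem_top l)
    rw [← hgen]
    refine sup_le ?_ hKH
    have hQT : Q ≤ (T : Subgroup L) := inf_le_left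
    have hNlt : Nat.card N < k := by
      rw [← hk]
      refine lt_of_le_of_ne (Nat.card_le_card_of_injective _ N.subtype_injective) fun e => hgp ?_
      have hNtop : N = ⊤ := Subgroup.eq_top_of_card_eq N e
      haveI : Q.Normal := Subgroup.normalizer_eq_top_iff.mp hNtop
      exact CfsgLib.le_pCore (T.2.to_le hQT) ⟨hgT, hgK⟩
    have hTN : (T : Subgroup L) ≤ N := fun t ht => mem_normalizer_inf ht hKn
    let T' : Sylow p N := T.subtype hTN
    have hT'map : (T' : Subgroup N).map N.subtype = (T : Subgroup L) := Subgroup.map_subgroupOf_eq_of_le hTN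
    have hPN : pCore p L ≤ N := (CfsgLib.pCore_le_sylow T).trans hTN
    have hcoreN : (pCore p L).subgroupOf N ≤ pCore p N :=
      CfsgLib.le_pCore ((CfsgLib.isPGroup_pCore (G := L) p).of_equiv (Subgroup.subgroupOfEquivOfLe hPN).symm)
    have hCN : Subgroup.centralizer (pCore p N : Set N) ≤ pCore p N := by
      intro c hc
      refine hcoreN (show (c : L) ∈ pCore p L from hC (Subgroup.mem_centralizer_iff.mpr fun v hv => ?_))
      exact congrArg (fun w : N => (w : L)) (Subgroup.mem_centralizer_iff.mp hc ⟨v, hPN hv⟩ (hcoreN (show (⟨v, hPN hv⟩ : N) ∈ (pCore p L).subgroupOf N from hv)))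
    have hWmap : (functorOn W (T' : Subgroup N)).map N.subtype ≤ functorOn W (T : Subgroup L) ∧
        functorOn W (T : Subgroup L) ≤ (functorOn W (T' : Subgroup N)).map N.subtype := by
      suffices (functorOn W (T' : Subgroup N)).map N.subtype = functorOn W (T : Subgroup L) from ⟨this.le, this.ge⟩
      rw [← hT'map]; exact (functorOn_map hW2 N.subtype_injective T'.2).symm
    intro a ha
    refine hH.mpr ?_
    have hy1 : (⟨y, hTN hy.1⟩ : N) ∈ (T' : Subgroup N) ⊓ Subgroup.centralizer ((T' : Subgroup N) : Set N) :=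
      ⟨hy.1, Subgroup.mem_centralizer_iff.mpr fun c hc => Subtype.ext (Subgroup.mem_centralizer_iff.mp hy.2 c hc)⟩
    have hy2 : (⟨y, hTN hy.1⟩ : N) ^ p ∈ Subgroup.centralizer
        ((Subgroup.normalizer (functorOn W (T' : Subgroup N) : Set N) : Subgroup N) : Set N) := by
      refine Subgroup.mem_centralizer_iff.mpr fun c hc => Subtype.ext ?_
      show (c : L) * (((⟨y, hTN hy.1⟩ : N) ^ p : N) : L) = (((⟨y, hTN hy.1⟩ : N) ^ p : N) : L) * c
      rw [SubmonoidClass.coe_pow]
      refine Subgroup.mem_centralizer_iff.mp hyN c ?_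
      refine Subgroup.mem_normalizer_iff.mpr fun w => ⟨fun hw => ?_, fun hw => ?_⟩
      · obtain ⟨w', hw', rfl⟩ := hWmap.2 hw
        exact hWmap.1 ⟨_, (Subgroup.mem_normalizer_iff.mp hc w').mp hw', rfl⟩
      · obtain ⟨w', hw', e⟩ := hWmap.2 hw
        refine hWmap.1 ⟨_, (Subgroup.mem_normalizer_iff''.mp hc w').mp hw', ?_⟩
        show (c : L)⁻¹ * (w' : L) * c = w
        rw [show (w' : L) = c * w * (c : L)⁻¹ from e]
        group
    have h1 := congrArg (fun w : N => (w : L)) (ih _ hNlt N T' rfl hCN _ hy1 hy2 ⟨a, ha⟩)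
    simpa using h1
where
  /-- An element of `T` normalises `T ⊓ K` for `K` normal. -/
  mem_normalizer_inf {L : Type u} [Group L] {T K : Subgroup L} {t : L} (ht : t ∈ T) (hK : K.Normal) :
      t ∈ Subgroup.normalizer ((T ⊓ K : Subgroup L) : Set L) := by
    refine Subgroup.mem_normalizer_iff.mpr fun x => ⟨fun hx => ⟨T.mul_mem (T.mul_mem ht hx.1) (T.inv_mem ht), hK.conj_mem x hx.2 t⟩, fun hx => ⟨?_, ?_⟩⟩
    · have := T.mul_mem (T.mul_mem (T.inv_mem ht) hx.1) ht
      simpa [mul_assoc] using this
    · have := hK.conj_mem _ hx.2 t⁻¹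
      simpa [mul_assoc] using this

end Cfsg.FusionSystem

namespace Cfsg.FusionSystem

variable {p : ℕ} [Fact p.Prime]

/-- Elements of the subgroup generated by the `p`-th powers of a subgroup with commuting elements are `p`-th
powers. -/
theorem exists_pow_eq_of_mem_powerClosure {L : Type u} [Group L] {A : Subgroup L}
    (hA : ∀ a ∈ A, ∀ b ∈ A, Commute a b) {z : L} (hz : z ∈ powerClosure p 1 A) : ∃ y ∈ A, y ^ p = z := by
  induction hz using Subgroup.closure_induction with
  | mem x hx => obtain ⟨y, hy, rfl⟩ := hx; exact ⟨y, hy, by simp⟩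
  | one => exact ⟨1, A.one_mem, one_pow p⟩
  | mul a b _ _ ha hb =>
    obtain ⟨y, hy, rfl⟩ := ha
    obtain ⟨w, hw, rfl⟩ := hb
    exact ⟨y * w, A.mul_mem hy hw, (hA y hy w hw).mul_pow p⟩
  | inv a _ ha =>
    obtain ⟨y, hy, rfl⟩ := ha
    exact ⟨y⁻¹, A.inv_mem hy, inv_pow y p⟩

theorem localCenterControl_of_quad (W : ∀ (Q : Type u) [Group Q], Subgroup Q)
    (hW2 : ∀ (Q R : Type u) [Group Q] [Group R] [Finite Q], IsPGroup p Q → ∀ φ : Q ≃* R,
      (W Q).map φ.toMonoidHom = W R)
    (hq : QuadCondition p W) : LocalCenterControl p 1 False W := by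
  intro L _ _ T z hC _ _ hz hzN l
  obtain ⟨y, hy, rfl⟩ := exists_pow_eq_of_mem_powerClosure
    (A := (T : Subgroup L) ⊓ Subgroup.centralizer ((T : Subgroup L) : Set L))
    (fun a ha b hb => Subgroup.mem_centralizer_iff.mp hb.2 a ha.1) hz
  exact central_of_quad_aux W hW2 hq _ L T rfl hC y hy hzN l

end Cfsg.FusionSystem
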