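import Cfsg.Agent.Lib.Fusion.CenterControl
import Cfsg.Agent.Lib.Transfer
import Mathlib.Data.Nat.ChineseRemainder

/-!
A positive characteristic functor controls central elements as soon as it does so in constrained systems.
-/

set_option autoImplicit false
set_option linter.unusedSectionVars false

universe u

namespace Cfsg

/-- The subgroup of the ambient group given by a functor on the subgroup. -/
def functorOn (W : ∀ (Q : Type u) [Group Q], Subgroup Q) {Ω : Type u} [Group Ω] (S : Subgroup Ω) : Subgroup Ω :=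
  (W S).map S.subtype

namespace FusionSystem

variable {Ω : Type u} [Group Ω] {S : Subgroup Ω} {F : FusionSystem S} {p : ℕ} {x : Ω} {X : Subgroup Ω}
variable [Finite S] [Fact p.Prime]
variable (W : ∀ (Q : Type u) [Group Q], Subgroup Q)

theorem map_functorOn (hW2 : ∀ (Q R : Type u) [Group Q] [Group R] [Finite Q], IsPGroup p Q → ∀ φ : Q ≃* R,
      (W Q).map φ.toMonoidHom = W R) (hS : IsPGroup p S) {φ : S →* Ω} (hφ : φ ∈ F.Hom S) :
    ((functorOn W S).subgroupOf S).map φ = functorOn W S := by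
  let e : S ≃* S := MulEquiv.ofBijective (φ.codRestrict S (F.apply_mem hφ))
    (Finite.injective_iff_bijective.mp fun a b h => F.injective_of_mem hφ (congrArg (fun w : S => (w : Ω)) h))
  have h1 := hW2 S S hS e
  have h2 : (functorOn W S).subgroupOf S = W S := by
    rw [functorOn, Subgroup.subgroupOf, Subgroup.comap_map_eq_self_of_injective S.subtype_injective]
  rw [h2]
  conv_rhs => rw [functorOn, ← h1, Subgroup.map_map]
  rfl

theorem functorOn_ne_bot (hW1 : ∀ (Q : Type u) [Group Q] [Finite Q], IsPGroup p Q → Nontrivial Q → W Q ≠ ⊥)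
    {T : Subgroup Ω} [Finite T] (hT : IsPGroup p T) (hne : T ≠ ⊥) : functorOn W T ≠ ⊥ := by
  intro h
  haveI : Nontrivial T := (Subgroup.nontrivial_iff_ne_bot T).mpr hne
  refine hW1 T hT inferInstance ?_
  rwa [functorOn, Subgroup.map_eq_bot_iff_of_injective _ T.subtype_injective] at h

theorem normalizer_le_normalizer_functorOn (hW2 : ∀ (Q R : Type u) [Group Q] [Group R] [Finite Q], IsPGroup p Q →
      ∀ φ : Q ≃* R, (W Q).map φ.toMonoidHom = W R) {T : Subgroup Ω} [Finite T] (hT : IsPGroup p T) :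
    Subgroup.normalizer (T : Set Ω) ≤ Subgroup.normalizer (functorOn W T : Set Ω) := by
  intro g hg
  let a : MulAut T := T.normalizerMonoidHom ⟨g, hg⟩
  have h1 := hW2 T T hT a
  have ha : ∀ t : T, ((a t : T) : Ω) = g * t * g⁻¹ := fun t => rfl
  refine Subgroup.mem_normalizer_iff.mpr fun y => ⟨?_, fun hy => ?_⟩
  · rintro ⟨t, ht, rfl⟩
    exact ⟨a t, h1.le ⟨t, ht, rfl⟩, ha t⟩
  · obtain ⟨t, ht, e⟩ := hy
    obtain ⟨t', ht', e'⟩ := h1.ge ht
    refine ⟨t', ht', mul_left_cancel (a := g) (mul_right_cancel (b := g⁻¹) ?_)⟩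
    rw [← e, ← e']
    exact (ha t').symm

/-- A good central element: a `p^n`-th power in the centre. -/
theorem good_mem {n : ℕ} (hx : x ∈ powerClosure p n (S ⊓ Subgroup.centralizer (S : Set Ω))) :
    x ∈ S ∧ x ∈ Subgroup.centralizer (S : Set Ω) := by
  have hle : powerClosure p n (S ⊓ Subgroup.centralizer (S : Set Ω)) ≤ S ⊓ Subgroup.centralizer (S : Set Ω) := by
    refine (Subgroup.closure_le _).mpr ?_
    rintro _ ⟨z, hz, rfl⟩
    exact Subgroup.pow_mem _ hz _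
  exact hle hx

/-- The element fixed by the maps on `U = X C_S(X)` and by those acting on `X` as `S` does. -/
theorem IsSaturated.fixes_of_noncentric_core (hF : F.IsSaturated p) (hS : IsPGroup p S) (hxS : x ∈ S)
    (hxc : x ∈ Subgroup.centralizer (S : Set Ω)) (hX : F.IsNormal X)
    (htop : ∀ φ ∈ F.Hom S, φ ⟨x, hxS⟩ = x)
    (hU : F.NormalizerFixes (X ⊔ centralizerIn S X) x)
    (hH : (relSystem hX (autInducedBy S X) (autInducedBy_hK hX)).Fixes x) : F.Fixes x := by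
  classical
  have hXs := hX.stronglyClosed
  set U := X ⊔ centralizerIn S X with hUdef
  have hUs : F.StronglyClosed U := hXs.sup_centralizerIn hF hS
  refine hF.fixes_of_essential hS hxS hxc htop fun R hR hbig hx α hα => ?_
  have hRS : R ≤ S := hR.1.1
  obtain ⟨φ, hφ, hr, he⟩ := F.exists_map_of_mem_autGroup hRS hα
  by_cases hUR : U ≤ R
  · rw [← he]
    exact hU R φ hφ hUR (hRS.trans ((normalizerIn_eq_of_le_normalizer hUs.le_normalizer).ge))
      (hUs.map_eq hφ hUR) hx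
  haveI := finite_mulAut_of_le hRS
  haveI : Finite R := finite_of_le hRS
  have hXR : X ≤ R := hX.le_of_centric_radical hS hR.1 (hR.isRadical hS hF)
  let St : Subgroup (F.autGroup R) :=
    { carrier := {a | (a : MulAut R) ⟨x, hx⟩ = ⟨x, hx⟩}
      one_mem' := rfl
      mul_mem' := fun {a b} ha hb => by
        show (a : MulAut R) ((b : MulAut R) ⟨x, hx⟩) = _
        rw [hb, ha]
      inv_mem' := fun {a} ha => by
        show (a : MulAut R).symm ⟨x, hx⟩ = _
        exact (MulEquiv.symm_apply_eq _).mpr ha.symm }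
  suffices hSt : (⊤ : Subgroup (F.autGroup R)) ≤ St from
    congrArg Subtype.val (hSt (Subgroup.mem_top (⟨α, hα⟩ : F.autGroup R)))
  obtain ⟨-, T, hT⟩ := hF.isFullyAutomized_of_isFullyNormalized hS hR.2.1
  have hrec := hF.isReceptive_of_isFullyNormalized hS hR.2.1
  have hres : ∀ a : F.autGroup R, ∀ y : X, (((a : MulAut R) ⟨y, hXR y.2⟩ : R) : Ω) ∈ X := by
    intro a y
    obtain ⟨χ, hχ, -, hχe⟩ := F.exists_map_of_mem_autGroup hRS a.2
    rw [← hχe]
    exact hXs.apply_mem_of_mem hχ y.2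
  let C : Subgroup (F.autGroup R) :=
    { carrier := {c | ∃ x₀ : X, ∀ y : X, (((c : MulAut R) ⟨y, hXR y.2⟩ : R) : Ω) = x₀ * y * (x₀ : Ω)⁻¹}
      one_mem' := ⟨1, fun y => by simp⟩
      mul_mem' := by
        rintro a b ⟨a₀, ha⟩ ⟨b₀, hb⟩
        refine ⟨a₀ * b₀, fun y => ?_⟩
        show (((a : MulAut R) ((b : MulAut R) ⟨y, hXR y.2⟩) : R) : Ω) = _
        rw [show (b : MulAut R) ⟨y, hXR y.2⟩ = ⟨((b₀ * y * b₀⁻¹ : X) : Ω), hXR (b₀ * y * b₀⁻¹).2⟩ from
          Subtype.ext (hb y), ha]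
        simp [mul_assoc]
      inv_mem' := by
        rintro a ⟨a₀, ha⟩
        refine ⟨a₀⁻¹, fun y => ?_⟩
        have h1 := ha (a₀⁻¹ * y * a₀)
        have e : (⟨((a₀⁻¹ * y * a₀ : X) : Ω), hXR (a₀⁻¹ * y * a₀).2⟩ : R) =
            ((a⁻¹ : F.autGroup R) : MulAut R) ⟨y, hXR y.2⟩ := by
          apply (a : MulAut R).injective
          rw [show (a : MulAut R) (((a⁻¹ : F.autGroup R) : MulAut R) ⟨y, hXR y.2⟩) = ⟨y, hXR y.2⟩ from
            (a : MulAut R).apply_symm_apply _]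
          exact Subtype.ext (h1.trans (by simp [mul_assoc]))
        rw [← e]
        simp }
  haveI hCn : C.Normal := by
    refine ⟨fun c hc a => ?_⟩
    obtain ⟨x₀, h⟩ := hc
    refine ⟨⟨_, hres a x₀⟩, fun y => ?_⟩
    show (((a : MulAut R) ((c : MulAut R) (((a⁻¹ : F.autGroup R) : MulAut R) ⟨y, hXR y.2⟩)) : R) : Ω) = _
    have e1 : (c : MulAut R) (((a⁻¹ : F.autGroup R) : MulAut R) ⟨y, hXR y.2⟩) =
        ⟨x₀, hXR x₀.2⟩ * ((a⁻¹ : F.autGroup R) : MulAut R) ⟨y, hXR y.2⟩ * ⟨x₀, hXR x₀.2⟩⁻¹ :=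
      Subtype.ext (h ⟨_, hres a⁻¹ y⟩)
    rw [e1, map_mul, map_mul, map_inv]
    rw [show (a : MulAut R) (((a⁻¹ : F.autGroup R) : MulAut R) ⟨y, hXR y.2⟩) = ⟨y, hXR y.2⟩ from
      (a : MulAut R).apply_symm_apply _]
    rfl
  have hCSt : C ≤ St := by
    intro c hc
    obtain ⟨x₀, hx₀⟩ := hc
    obtain ⟨χ, hχ, -, hχe⟩ := F.exists_map_of_mem_autGroup hRS c.2
    refine Subtype.ext ?_
    rw [← hχe]
    refine hH R χ ⟨hχ, _, F.restrict_mem hχ (sup_le le_rfl hXR), fun y => rfl,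
      X.normalizerMonoidHom ⟨(x₀ : Ω), Subgroup.le_normalizer x₀.2⟩,
      mem_autInducedBy_iff.mpr ⟨x₀, hX.1 x₀.2, Subgroup.le_normalizer x₀.2, fun y => rfl⟩, fun y => ?_⟩ hx
    exact (hχe _).trans (hx₀ y)
  -- a Sylow subgroup of `C`
  obtain ⟨V, hV⟩ := ((T.2.to_le (inf_le_left : (T : Subgroup (F.autGroup R)) ⊓ C ≤ T)).of_equiv
    (Subgroup.subgroupOfEquivOfLe inf_le_right).symm).exists_le_sylow
  have hVmap : (V : Subgroup C).map C.subtype = (T : Subgroup (F.autGroup R)) ⊓ C := by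
    symm
    have h1 : (T : Subgroup (F.autGroup R)) ⊓ C ≤ (V : Subgroup C).map C.subtype :=
      fun y hy => ⟨⟨y, hy.2⟩, hV hy, rfl⟩
    obtain ⟨a, ha⟩ := exists_conj_mem_sylow T (V.2.map C.subtype)
    refine Subgroup.eq_of_le_of_card_ge h1 ?_
    refine le_trans (le_of_eq (Subgroup.card_map_of_injective (f := (MulAut.conj a : (F.autGroup R) ≃* _).toMonoidHom)
      (MulEquiv.injective (MulAut.conj a))).symm)
      (Subgroup.card_le_of_le ?_)
    rintro _ ⟨y, hy, rfl⟩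
    refine ⟨ha y hy, ?_⟩
    obtain ⟨z, -, rfl⟩ := hy
    exact hCn.conj_mem _ z.2 a
  rw [← V.normalizer_sup_eq_top, hVmap]
  refine sup_le ?_ hCSt
  intro γ hγ
  let M : Subgroup Ω := normalizerIn U R
  have hM : M ≤ normalizerIn S R := fun g hg => ⟨hUs.1 hg.1, hg.2⟩
  obtain ⟨ψ, hψ, hψe⟩ := exists_extension_of_normalizes hrec γ.2 hM (by
    intro g hg hgN
    let c : F.autGroup R := ⟨R.normalizerMonoidHom ⟨g, hgN⟩,
      autInducedBy_le_autGroup hRS (mem_autInducedBy_iff.mpr ⟨g, hUs.1 hg.1, hgN, fun _ => rfl⟩)⟩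
    have hc : c ∈ (T : Subgroup (F.autGroup R)) ⊓ C := by
      refine ⟨hT.ge (mem_autInducedBy_iff.mpr ⟨g, hUs.1 hg.1, hgN, fun _ => rfl⟩), ?_⟩
      have hv' : g ∈ (↑(X ⊔ centralizerIn S X) : Set Ω) := hg.1
      rw [sup_comm, Subgroup.coe_mul_of_left_le_normalizer_right (centralizerIn S X) X
        (fun c hc => Subgroup.centralizer_le_normalizer _ hc.2)] at hv'
      obtain ⟨d, hd, y₀, hy₀, rfl⟩ := hv'
      refine ⟨⟨y₀, hy₀⟩, fun y => ?_⟩
      show d * y₀ * (y : Ω) * (d * y₀)⁻¹ = y₀ * y * y₀⁻¹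
      have h1 := Subgroup.mem_centralizer_iff.mp hd.2 (y₀ * y * y₀⁻¹)
        (X.mul_mem (X.mul_mem hy₀ y.2) (X.inv_mem hy₀))
      calc d * y₀ * (y : Ω) * (d * y₀)⁻¹ = d * (y₀ * y * y₀⁻¹) * d⁻¹ := by group
        _ = y₀ * y * y₀⁻¹ * d * d⁻¹ := by rw [h1]
        _ = y₀ * y * y₀⁻¹ := by group
    exact hT.le ((Subgroup.mem_normalizer_iff.mp hγ c).mp hc).1)
  have hRM : R ⊔ M ≤ S := sup_le hRS (hM.trans normalizerIn_le)
  have hlt : R < R ⊔ M := by
    refine lt_of_le_of_ne le_sup_left fun e => ?_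
    have hle : R ⊔ U ≤ S := sup_le hRS hUs.1
    have hlt : R < R ⊔ U := lt_of_le_of_ne le_sup_left fun e => hUR (le_sup_right.trans e.ge)
    haveI := finite_of_le hle
    obtain ⟨w, hw, hwR⟩ := SetLike.exists_of_lt (lt_normalizerIn (hS.to_le hle) hlt)
    have hw1 : w ∈ (↑(R ⊔ U) : Set Ω) := hw.1
    rw [Subgroup.coe_mul_of_left_le_normalizer_right R U (hRS.trans hUs.le_normalizer)] at hw1
    obtain ⟨r, hr, t, ht, rfl⟩ := hw1
    have htN : t ∈ Subgroup.normalizer (R : Set Ω) := by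
      have := Subgroup.mul_mem _ (Subgroup.inv_mem _
        (Subgroup.le_normalizer hr : r ∈ Subgroup.normalizer (R : Set Ω))) hw.2
      simpa [mul_assoc] using this
    exact hwR (R.mul_mem hr (e.ge (Subgroup.mem_sup_right ⟨ht, htN⟩)))
  haveI := finite_of_le hRM
  refine Subtype.ext ?_
  rw [← hψe]
  exact hbig _ ψ hψ (card_lt_of_lt hlt) _

/-- The element fixed modulo `X`, on which every map acts as an element of `S`. -/
theorem IsSaturated.fixes_of_quotient (hF : F.IsSaturated p) (hS : IsPGroup p S) (hxS : x ∈ S)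
    (hxc : x ∈ Subgroup.centralizer (S : Set Ω)) (hX : F.IsNormal X)
    (htop : ∀ φ ∈ F.Hom S, φ ⟨x, hxS⟩ = x)
    (hprop : ∀ P, F.Hom P ⊆ (relSystem hX (autInducedBy S X) (autInducedBy_hK hX)).Hom P)
    (hmod : ∀ (P : Subgroup Ω) (φ : P →* Ω), φ ∈ F.Hom P → X ≤ P → ∀ h : x ∈ P, x⁻¹ * φ ⟨x, h⟩ ∈ X) :
    F.Fixes x := by
  classical
  refine hF.fixes_of_essential hS hxS hxc htop fun R hR _ hx α hα => ?_
  have hRS : R ≤ S := hR.1.1
  haveI := finite_mulAut_of_le hRS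
  haveI := finite_autGroup (F := F) hRS
  have hXR : X ≤ R := hX.le_of_centric_radical hS hR.1 (hR.isRadical hS hF)
  let St : Subgroup (F.autGroup R) :=
    { carrier := {a | (a : MulAut R) ⟨x, hx⟩ = ⟨x, hx⟩}
      one_mem' := rfl
      mul_mem' := fun {a b} ha hb => by
        show (a : MulAut R) ((b : MulAut R) ⟨x, hx⟩) = _
        rw [hb, ha]
      inv_mem' := fun {a} ha => by
        show (a : MulAut R).symm ⟨x, hx⟩ = _
        exact (MulEquiv.symm_apply_eq _).mpr ha.symm }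
  suffices hSt : (⊤ : Subgroup (F.autGroup R)) ≤ St from
    congrArg Subtype.val (hSt (Subgroup.mem_top (⟨α, hα⟩ : F.autGroup R)))
  obtain ⟨-, T, hT⟩ := hF.isFullyAutomized_of_isFullyNormalized hS hR.2.1
  rw [← CfsgLib.Transfer.sylow_sup_pResidual T]
  refine sup_le ?_ ?_
  · intro a ha
    obtain ⟨g, hg, -, hge⟩ := mem_autInducedBy_iff.mp (hT.le ha)
    refine Subtype.ext ?_
    have h1 : g * x * g⁻¹ = x := by rw [Subgroup.mem_centralizer_iff.mp hxc g hg, mul_inv_cancel_right]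
    refine Eq.trans ?_ h1
    first | exact hge ⟨x, hx⟩ | exact (hge ⟨x, hx⟩).symm
  rw [pResidual, Subgroup.closure_le]
  intro β hβ
  obtain ⟨φ, hφ, -, he⟩ := F.exists_map_of_mem_autGroup hRS β.2
  obtain ⟨-, ψ, -, hψe, k, hk, hke⟩ := hprop R hφ
  obtain ⟨s, hs, hsN, hse⟩ := mem_autInducedBy_iff.mp hk
  have hsX : ∀ y : X, (((β : MulAut R) ⟨y, hXR y.2⟩ : R) : Ω) = s * y * s⁻¹ := fun y => by
    rw [← he, ← hse, ← hke, ← hψe]
    rfl
  obtain ⟨m, hm⟩ := IsPGroup.iff_card.mp hS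
  have hcop : (orderOf β).Coprime (p ^ m) := Nat.Coprime.pow_right m hβ
  obtain ⟨j, hj1, hj2⟩ := Nat.chineseRemainder hcop 1 0
  have hpow : ∀ (i : ℕ) (y : X), ((((β : MulAut R) ^ i) ⟨y, hXR y.2⟩ : R) : Ω) = s ^ i * y * (s ^ i)⁻¹ := by
    intro i
    induction i with
    | zero => intro y; simp
    | succ i ih =>
      intro y
      have hmem : s ^ i * y * (s ^ i)⁻¹ ∈ X :=
        (Subgroup.mem_normalizer_iff.mp (Subgroup.pow_mem _ hsN i) _).mp y.2
      rw [pow_succ', MulAut.mul_apply,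
        show ((β : MulAut R) ^ i) ⟨y, hXR y.2⟩ = (⟨_, hXR hmem⟩ : R) from Subtype.ext (ih y),
        hsX ⟨_, hmem⟩, pow_succ']
      group
  have hfixX : ∀ y : X, (β : MulAut R) ⟨y, hXR y.2⟩ = ⟨y, hXR y.2⟩ := by
    intro y
    have hsj : s ^ j = 1 := by
      obtain ⟨c, hc⟩ := Nat.modEq_zero_iff_dvd.mp hj2
      have h1 : (⟨s, hs⟩ : S) ^ p ^ m = 1 := by rw [← hm]; exact pow_card_eq_one'
      rw [hc, pow_mul, show s ^ p ^ m = 1 from congrArg Subtype.val h1, one_pow]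
    have hb : β ^ j = β := by
      rw [← pow_mod_orderOf, show j % orderOf β = 1 % orderOf β from hj1, pow_mod_orderOf, pow_one]
    refine Subtype.ext ?_
    conv_lhs => rw [← hb]
    rw [show ((β ^ j : F.autGroup R) : MulAut R) = (β : MulAut R) ^ j from rfl, hpow, hsj]
    simp
  have ha : x⁻¹ * φ ⟨x, hx⟩ ∈ X := hmod R φ hφ hXR hx
  set a : R := ⟨_, hXR ha⟩ with haeq
  have hax : (β : MulAut R) ⟨x, hx⟩ = ⟨x, hx⟩ * a := Subtype.ext (by
    rw [← he, haeq]; simp)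
  have hpowx : ∀ i : ℕ, ((β : MulAut R) ^ i) ⟨x, hx⟩ = ⟨x, hx⟩ * a ^ i := by
    intro i
    induction i with
    | zero => simp
    | succ i ih =>
      rw [pow_succ', MulAut.mul_apply, ih, map_mul, map_pow, hax, pow_succ',
        show (β : MulAut R) a = a from hfixX ⟨_, ha⟩, mul_assoc]
  have h1 := hpowx (orderOf β)
  rw [show (β : MulAut R) ^ orderOf β = 1 from congrArg Subtype.val (pow_orderOf_eq_one β), MulAut.one_apply,
    left_eq_mul] at h1
  have h2 : a ^ p ^ m = 1 := by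
    refine Subtype.ext ?_
    have : (⟨(a : Ω), hRS a.2⟩ : S) ^ p ^ m = 1 := by rw [← hm]; exact pow_card_eq_one'
    simpa using congrArg (fun w : S => (w : Ω)) this
  have ha1 : a = 1 := orderOf_eq_one_iff.mp
    (Nat.eq_one_of_dvd_coprimes hcop (orderOf_dvd_of_pow_eq_one h1) (orderOf_dvd_of_pow_eq_one h2))
  show (β : MulAut R) ⟨x, hx⟩ = ⟨x, hx⟩
  rw [hax, ha1, mul_one]

end FusionSystem

end Cfsg
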