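import Cfsg.Agent.Lib.Fusion.Relative
import Cfsg.Prelude.Def_TwoFusion

/-!
Strongly closed direct factors of a saturated fusion system.
-/

set_option autoImplicit false
set_option linter.unusedSectionVars false

namespace Cfsg.FusionSystem

universe u
variable {Ω : Type u} [Group Ω] {S S₁ S₂ : Subgroup Ω} {F : FusionSystem S} {p : ℕ}

theorem StronglyClosed.isFullyNormalized [Finite S] (h : F.StronglyClosed S₁) :
    F.IsFullyNormalized S₁ ∧ F.IsFullyCentralized S₁ := by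
  have heq : ∀ Q, F.IsConj S₁ Q → Q = S₁ := by
    intro Q hQ
    haveI : Finite S₁ := finite_of_le h.1
    refine Subgroup.eq_of_le_of_card_ge ?_ (hQ.card_eq).le
    obtain ⟨φ, hφ, rfl⟩ := hQ
    rintro _ ⟨x, rfl⟩
    exact h.2 _ le_rfl φ hφ x
  exact ⟨⟨h.1, fun Q hQ => by rw [heq Q hQ]⟩, ⟨h.1, fun Q hQ => by rw [heq Q hQ]⟩⟩

/-- A strongly closed subgroup which together with its centralizer covers `S` carries a saturated
full subsystem. -/
theorem StronglyClosed.isSaturated_full [Finite S] [Fact p.Prime] (h₁ : F.StronglyClosed S₁)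
    (hF : F.IsSaturated p) {R : FusionSystem S₁} (hR : ∀ P, P ≤ S₁ → R.Hom P = F.Hom P)
    (hdec : ∀ s ∈ S, ∃ a ∈ S₁, a⁻¹ * s ∈ Subgroup.centralizer (S₁ : Set Ω)) : R.IsSaturated p := by
  intro P hP
  obtain ⟨Q, ⟨φ, hφ, rfl⟩, haut, hrec⟩ := hF P (hP.trans h₁.1)
  have hQ : φ.range ≤ S₁ := by
    rintro _ ⟨x, rfl⟩
    exact h₁.2 P hP φ hφ x
  refine ⟨φ.range, ⟨φ, by rw [hR P hP]; exact hφ, rfl⟩, ?_, hQ, ?_⟩
  · have hAut : R.autGroup φ.range = F.autGroup φ.range := by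
      unfold autGroup; rw [hR _ hQ]
    have hind : autInducedBy S₁ φ.range = autInducedBy S φ.range := by
      refine le_antisymm (autInducedBy_mono h₁.1) fun α hα => ?_
      obtain ⟨g, hg, hgN, he⟩ := mem_autInducedBy_iff.mp hα
      obtain ⟨a, ha, hc⟩ := hdec g hg
      have hconj : ∀ x ∈ φ.range, g * x * g⁻¹ = a * x * a⁻¹ := by
        intro x hx
        have hcx : x * (a⁻¹ * g) = a⁻¹ * g * x := hc x (hQ hx)
        calc g * x * g⁻¹ = a * (a⁻¹ * g * x) * g⁻¹ := by group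
          _ = a * (x * (a⁻¹ * g)) * g⁻¹ := by rw [hcx]
          _ = a * x * a⁻¹ := by group
      exact Subgroup.subset_closure ⟨a, ha, fun x => by rw [he, hconj _ x.2]⟩
    refine ⟨hQ, ?_⟩
    rw [hAut, hind]
    exact haut.2
  · intro P' χ hχ hr
    have hP' : P' ≤ S₁ := (R.le_of_mem hχ).1
    rw [hR P' hP'] at hχ
    obtain ⟨ψ, hψ, he⟩ := hrec.2 P' χ hχ hr
    have hle : extender S₁ P' χ ≤ extender S P' χ := Subgroup.closure_mono fun g ⟨hg, hgN, k, hk, hk'⟩ =>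
      ⟨h₁.1 hg, hgN, k, h₁.1 hk, hk'⟩
    have hEx : extender S₁ P' χ ≤ S₁ := (Subgroup.closure_le _).mpr fun g hg => hg.1
    refine ⟨ψ.comp (Subgroup.inclusion hle), ?_, fun x hx hN => he x hx (hle hN)⟩
    rw [hR _ hEx]
    exact F.restrict_mem hψ hle

variable (hprod : IsInternalDirectProduct S₁ S₂ S)

include hprod in
theorem decompose {s : Ω} (hs : s ∈ S) : ∃ a ∈ S₁, ∃ b ∈ S₂, s = a * b := by
  obtain ⟨h1, h2, hc, -, hsup⟩ := hprod
  rw [← hsup, Subgroup.sup_eq_closure] at hs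
  induction hs using Subgroup.closure_induction with
  | mem x hx =>
    rcases hx with hx | hx
    · exact ⟨x, hx, 1, S₂.one_mem, (mul_one x).symm⟩
    · exact ⟨1, S₁.one_mem, x, hx, (one_mul x).symm⟩
  | one => exact ⟨1, S₁.one_mem, 1, S₂.one_mem, (mul_one 1).symm⟩
  | mul x y _ _ hx hy =>
    obtain ⟨a, ha, b, hb, rfl⟩ := hx
    obtain ⟨a', ha', b', hb', rfl⟩ := hy
    refine ⟨a * a', S₁.mul_mem ha ha', b * b', S₂.mul_mem hb hb', ?_⟩
    rw [mul_assoc, ← mul_assoc b, ← hc a' ha' b hb]; group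
  | inv x _ hx =>
    obtain ⟨a, ha, b, hb, rfl⟩ := hx
    refine ⟨a⁻¹, S₁.inv_mem ha, b⁻¹, S₂.inv_mem hb, ?_⟩
    rw [hc a ha b hb, mul_inv_rev]

include hprod in
theorem le_centralizerIn_factor {P : Subgroup Ω} (hP : P ≤ S₁) : P ≤ centralizerIn S S₂ :=
  fun x hx => ⟨hprod.1 (hP hx), Subgroup.mem_centralizer_iff.mpr fun b hb => (hprod.2.2.1 x (hP hx) b hb).symm⟩

include hprod in
theorem swap_product : IsInternalDirectProduct S₂ S₁ S :=
  ⟨hprod.2.1, hprod.1, fun a ha b hb => (hprod.2.2.1 b hb a ha).symm, by rw [inf_comm]; exact hprod.2.2.2.1,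
    by rw [sup_comm]; exact hprod.2.2.2.2⟩

include hprod in
/-- Every automorphism of a strongly closed direct factor extends to `S`. -/
theorem exists_extend [Finite S] [Fact p.Prime] (hS : IsPGroup p S) (hF : F.IsSaturated p)
    (h₁ : F.StronglyClosed S₁) {α : MulAut S₁} (hα : α ∈ F.autGroup S₁) :
    ∃ β ∈ F.autGroup S, ∀ x : S₁, ((β (Subgroup.inclusion h₁.1 x) : S) : Ω) = ((α x : S₁) : Ω) := by
  obtain ⟨φ, hφ, hr, he⟩ := F.exists_map_of_mem_autGroup h₁.1 hα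
  obtain ⟨ψ, hψ, hψe⟩ := (hF.isReceptive_of_isFullyNormalized hS h₁.isFullyNormalized.1).2 S₁ φ hφ hr
  have hle : S ≤ extender S S₁ φ := by
    intro s hs
    obtain ⟨a, ha, b, hb, rfl⟩ := decompose hprod hs
    refine mul_mem (le_extender h₁.1 (F.apply_mem hφ) ha) (centralizerIn_le_extender (F.apply_mem hφ) ?_)
    exact ⟨hprod.2.1 hb, Subgroup.mem_centralizer_iff.mpr fun x hx => hprod.2.2.1 x hx b hb⟩
  set χ := ψ.comp (Subgroup.inclusion hle) with hχdef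
  have hχ : χ ∈ F.Hom S := F.restrict_mem hψ hle
  have hreq : χ.range = S := Subgroup.eq_of_le_of_card_ge (F.range_le hχ)
    (Nat.card_congr (MonoidHom.ofInjective (F.injective_of_mem hχ)).toEquiv).le
  refine ⟨F.isoOf hχ hreq, F.isoOf_mem_autGroup hχ hreq, fun x => ?_⟩
  rw [coe_isoOf hχ hreq, ← he x]
  exact hψe (x : Ω) x.2 _

include hprod in
/-- Every map between subgroups of the first factor extends over the second, carrying it to itself. -/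
theorem exists_extend_map [Finite S] [Fact p.Prime] (hS : IsPGroup p S) (hF : F.IsSaturated p)
    (h₂ : F.StronglyClosed S₂) {P : Subgroup Ω} (hP : P ≤ S₁) {φ : P →* Ω} (hφ : φ ∈ F.Hom P)
    (hφ₁ : ∀ x, φ x ∈ S₁) :
    ∃ ψ ∈ F.Hom (P ⊔ S₂), (∀ x : P, ψ (Subgroup.inclusion le_sup_left x) = φ x) ∧
      (S₂.subgroupOf (P ⊔ S₂)).map ψ = S₂ := by
  have hP' : φ.range ≤ S₁ := by rintro _ ⟨x, rfl⟩; exact hφ₁ x
  obtain ⟨Q, ⟨θ, hθ, hθr⟩, hQ⟩ := exists_isFullyCentralized (F := F) (hP'.trans hprod.1)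
  have hrec := hF.isReceptive_of_isFullyCentralized hS hQ
  -- extensions over the second factor, for any map onto `Q`
  have hext : ∀ (A : Subgroup Ω), A ≤ S₁ → ∀ χ ∈ F.Hom A, χ.range = Q →
      ∃ ψ ∈ F.Hom (A ⊔ S₂), (∀ x : A, ψ (Subgroup.inclusion le_sup_left x) = χ x) ∧
        (S₂.subgroupOf (A ⊔ S₂)).map ψ = S₂ := by
    intro A hA χ hχ hχr
    obtain ⟨ψ, hψ, hψe⟩ := hrec.2 A χ hχ hχr
    have hle : A ⊔ S₂ ≤ extender S A χ :=
      sup_le (le_extender (hA.trans hprod.1) (F.apply_mem hχ))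
        (le_trans (fun b hb => (⟨hprod.2.1 hb, Subgroup.mem_centralizer_iff.mpr fun x hx =>
          hprod.2.2.1 x (hA hx) b hb⟩ : b ∈ centralizerIn S A)) (centralizerIn_le_extender (F.apply_mem hχ)))
    refine ⟨ψ.comp (Subgroup.inclusion hle), F.restrict_mem hψ hle, fun x => hψe x x.2 _, ?_⟩
    exact h₂.map_eq (F.restrict_mem hψ hle) le_sup_right
  obtain ⟨χ, hχ, hχe⟩ := F.exists_comp hφ hθ (fun x => ⟨x, rfl⟩)
  have hχr : χ.range = Q := by
    rw [← hθr]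
    ext y
    constructor
    · rintro ⟨x, rfl⟩; exact ⟨⟨φ x, x, rfl⟩, (hχe x).symm⟩
    · rintro ⟨⟨_, x, rfl⟩, rfl⟩; exact ⟨x, hχe x⟩
  obtain ⟨ψ₁, hψ₁, h1e, h1m⟩ := hext P hP χ hχ hχr
  obtain ⟨ψ₂, hψ₂, h2e, h2m⟩ := hext _ hP' θ hθ hθr
  have hr1 : ψ₁.range = Q ⊔ S₂ := by rw [map_inclusion_sup ψ₁ h1m h1e, hχr]
  have hr2 : ψ₂.range = Q ⊔ S₂ := by rw [map_inclusion_sup ψ₂ h2m h2e, hθr]
  obtain ⟨ι, hι, -, hιl, -⟩ := F.exists_inv hψ₂ hr2
  obtain ⟨ψ, hψ, hψe⟩ := F.exists_comp hψ₁ hι (fun x => hr1.le ⟨x, rfl⟩)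
  refine ⟨ψ, hψ, fun x => ?_, h₂.map_eq hψ le_sup_right⟩
  have hmem : ψ₂ (Subgroup.inclusion le_sup_left ⟨φ x, x, rfl⟩) ∈ Q ⊔ S₂ := hr2.le ⟨_, rfl⟩
  have h3 := hιl (Subgroup.inclusion (le_sup_left (b := S₂)) ⟨φ x, x, rfl⟩) hmem
  rw [hψe]
  refine (congrArg ι (Subtype.ext ?_)).trans h3
  show ψ₁ (Subgroup.inclusion le_sup_left x) = ψ₂ (Subgroup.inclusion le_sup_left ⟨φ x, x, rfl⟩)
  rw [h1e, h2e, hχe]

include hprod in
/-- The subsystem of maps centralizing the second factor is saturated, and normal. -/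
theorem direct_factor_main [Finite S] [Fact p.Prime] (hS : IsPGroup p S) (hF : F.IsSaturated p)
    (h₁ : F.StronglyClosed S₁) (h₂ : F.StronglyClosed S₂) (R R' : FusionSystem S₁)
    (hR : ∀ P : Subgroup Ω, P ≤ S₁ → R.Hom P = F.Hom P)
    (hR' : ∀ P : Subgroup Ω, P ≤ S₁ → R'.Hom P = F.centralizerHom S₂ P) :
    R.IsSaturated p ∧ R'.IsSaturated p ∧ R'.IsNormalIn F p ∧ R'.IsNormalIn R p ∧ R.IsWeaklyNormalIn F p := by
  have hsub : R.IsSubsystemOf F := fun P φ hφ => by rwa [← hR P (R.le_of_mem hφ).1]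
  have hsub' : R'.IsSubsystemOf F := fun P φ hφ => by
    have := (hR' P (R'.le_of_mem hφ).1) ▸ hφ
    exact this.1
  have hsubR : R'.IsSubsystemOf R := fun P φ hφ => by
    rw [hR P (R'.le_of_mem hφ).1]; exact hsub' P hφ
  haveI : Finite S₁ := finite_of_le h₁.1
  have hRsat : R.IsSaturated p := h₁.isSaturated_full hF hR fun s hs => by
    obtain ⟨a, ha, b, hb, rfl⟩ := decompose hprod hs
    refine ⟨a, ha, Subgroup.mem_centralizer_iff.mpr fun x hx => ?_⟩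
    rw [inv_mul_cancel_left]
    exact hprod.2.2.1 x hx b hb
  have hcen : S₁ ≤ centralizerIn S S₂ := le_centralizerIn_factor hprod le_rfl
  haveI := finite_centralizerIn (S := S) (P := S₂)
  have hR'sat : R'.IsSaturated p := by
    have hCs : (F.centralizerSystem S₂ h₂.1).IsSaturated p :=
      hF.isSaturated_centralizerSystem hS h₂.isFullyNormalized.2 (fun _ => rfl)
    have h₁C : (F.centralizerSystem S₂ h₂.1).StronglyClosed S₁ :=
      ⟨hcen, fun P hP φ hφ x => h₁.2 P hP φ hφ.1 x⟩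
    refine h₁C.isSaturated_full hCs hR' fun s hs => ?_
    obtain ⟨a, ha, b, hb, rfl⟩ := decompose hprod hs.1
    refine ⟨a, ha, Subgroup.mem_centralizer_iff.mpr fun x hx => ?_⟩
    rw [inv_mul_cancel_left]
    exact hprod.2.2.1 x hx b hb
  -- invariance
  have hinv : ∀ (P : Subgroup Ω) (hPT : P ≤ S₁) (φ : P →* Ω), φ ∈ R'.Hom P → ∀ α ∈ F.autGroup S₁,
      ∃ χ ∈ R'.Hom ((P.subgroupOf S₁).map (S₁.subtype.comp α.toMonoidHom)),
        ∀ (x : P) (hφx : φ x ∈ S₁)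
          (hαx : ((α ⟨x, hPT x.2⟩ : S₁) : Ω) ∈ (P.subgroupOf S₁).map (S₁.subtype.comp α.toMonoidHom)),
          χ ⟨(α ⟨x, hPT x.2⟩ : S₁), hαx⟩ = ((α ⟨φ x, hφx⟩ : S₁) : Ω) := by
    intro P hPT φ hφ α hα
    rw [hR' P hPT] at hφ
    obtain ⟨hφF, hPC, hφC, ψ, hψ, hψe, hψfix⟩ := hφ
    set P' := (P.subgroupOf S₁).map (S₁.subtype.comp α.toMonoidHom) with hP'def
    have hP'1 : P' ≤ S₁ := by
      rintro _ ⟨x, -, rfl⟩
      exact (α x).2
    obtain ⟨β, hβ, hβe⟩ := exists_extend hprod hS hF h₁ hα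
    obtain ⟨b, hb, -, hbe⟩ := F.exists_map_of_mem_autGroup le_rfl hβ
    obtain ⟨b', hb', -, hb'e⟩ := F.exists_map_of_mem_autGroup le_rfl ((F.autGroup S).inv_mem hβ)
    have hb2 : ∀ y : S, (y : Ω) ∈ S₂ → ((β⁻¹ y : S) : Ω) ∈ S₂ := fun y hy => by
      rw [← hb'e]
      exact h₂.2 S₂ le_rfl _ (F.restrict_mem hb' h₂.1) ⟨y, hy⟩
    have hsup : P' ⊔ S₂ ≤ S := sup_le (hP'1.trans h₁.1) h₂.1
    have hPS : P ⊔ S₂ ≤ S := sup_le (hPT.trans h₁.1) h₂.1
    have hpre : ∀ y : ↥(P' ⊔ S₂), b' (Subgroup.inclusion hsup y) ∈ P ⊔ S₂ := by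
      suffices P' ⊔ S₂ ≤ ((P ⊔ S₂).subgroupOf S).map (S.subtype.comp β.toMonoidHom) by
        intro y
        obtain ⟨z, hz, hze⟩ := this y.2
        rw [hb'e, show Subgroup.inclusion hsup y = β z from Subtype.ext hze.symm, MulAut.inv_apply_self]
        exact hz
      refine sup_le ?_ fun y hy => ?_
      · rintro _ ⟨x, hx, rfl⟩
        exact ⟨Subgroup.inclusion h₁.1 x, Subgroup.mem_sup_left hx, hβe x⟩
      · refine ⟨β⁻¹ ⟨y, h₂.1 hy⟩, Subgroup.mem_sup_right (hb2 _ hy), ?_⟩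
        show ((β (β⁻¹ ⟨y, h₂.1 hy⟩) : S) : Ω) = y
        rw [MulAut.apply_inv_self]
    obtain ⟨ω₁, hω₁, hω₁e⟩ := F.exists_comp (F.restrict_mem hb' hsup) hψ hpre
    obtain ⟨ω, hω, hωe⟩ := F.exists_comp hω₁ hb (fun y => F.apply_mem hω₁ y)
    have hval : ∀ (x : P) (hαx : ((α ⟨x, hPT x.2⟩ : S₁) : Ω) ∈ P'),
        ω ⟨(α ⟨x, hPT x.2⟩ : S₁), Subgroup.mem_sup_left hαx⟩ =
          ((α ⟨φ x, h₁.2 P hPT φ hφF x⟩ : S₁) : Ω) := by
      intro x hαx
      rw [hωe, hbe]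
      refine Eq.trans ?_ (hβe ⟨φ x, h₁.2 P hPT φ hφF x⟩)
      congr 2
      refine Subtype.ext ?_
      show ω₁ _ = φ x
      rw [hω₁e, ← hψe]
      congr 1
      refine Subtype.ext ?_
      show b' _ = (x : Ω)
      have e : (⟨((α ⟨x, hPT x.2⟩ : S₁) : Ω), h₁.1 (α ⟨x, hPT x.2⟩).2⟩ : S) =
          β (Subgroup.inclusion h₁.1 ⟨x, hPT x.2⟩) := Subtype.ext (hβe _).symm
      show b' ⟨((α ⟨x, hPT x.2⟩ : S₁) : Ω), _⟩ = _
      rw [e, hb'e, MulAut.inv_apply_self]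
      rfl
    have hωF : ω.comp (Subgroup.inclusion le_sup_left) ∈ F.Hom P' := F.restrict_mem hω le_sup_left
    refine ⟨ω.comp (Subgroup.inclusion le_sup_left), ?_, fun x hφx hαx => hval x hαx⟩
    rw [hR' P' hP'1]
    refine ⟨hωF, le_centralizerIn_factor hprod hP'1, fun y => hcen (h₁.2 P' hP'1 _ hωF y), ω, hω,
      fun _ => rfl, fun y => ?_⟩
    rw [hωe, hbe]
    have e : (⟨ω₁ (Subgroup.inclusion le_sup_right y), F.apply_mem hω₁ _⟩ : S) = β⁻¹ ⟨y, h₂.1 y.2⟩ := by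
      refine Subtype.ext ?_
      show ω₁ _ = _
      rw [hω₁e]
      have h5 := hψfix ⟨_, hb2 ⟨y, h₂.1 y.2⟩ y.2⟩
      refine Eq.trans (congrArg ψ (Subtype.ext ?_)) h5
      show b' ⟨(y : Ω), _⟩ = _
      rw [hb'e]
      rfl
    rw [e, MulAut.apply_inv_self]
  have hfrat : ∀ (P : Subgroup Ω), P ≤ S₁ → ∀ (φ : P →* Ω), φ ∈ F.Hom P →
      ∃ α ∈ F.autGroup S₁, ∃ φ₀ ∈ R'.Hom P, ∀ (x : P) (hx : φ₀ x ∈ S₁), φ x = ((α ⟨φ₀ x, hx⟩ : S₁) : Ω) := by
    intro P hP φ hφ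
    obtain ⟨ψ, hψ, hψe, hψm⟩ := exists_extend_map hprod hS hF h₂ hP hφ (h₁.2 P hP φ hφ)
    set γ := ψ.comp (Subgroup.inclusion (le_sup_right (a := P) (b := S₂))) with hγdef
    have hγ : γ ∈ F.Hom S₂ := F.restrict_mem hψ le_sup_right
    have hγr : γ.range = S₂ := by
      refine le_antisymm ?_ fun y hy => ?_
      · rintro _ ⟨x, rfl⟩; exact hψm.le ⟨_, x.2, rfl⟩
      · obtain ⟨z, hz, rfl⟩ := hψm.ge hy; exact ⟨⟨z, hz⟩, rfl⟩
    obtain ⟨β, hβ, hβe⟩ :=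
      exists_extend (swap_product hprod) hS hF h₂ (F.isoOf_mem_autGroup hγ hγr)
    obtain ⟨b, hb, -, hbe⟩ := F.exists_map_of_mem_autGroup le_rfl hβ
    obtain ⟨b', hb', -, hb'e⟩ := F.exists_map_of_mem_autGroup le_rfl ((F.autGroup S).inv_mem hβ)
    set a := b.comp (Subgroup.inclusion h₁.1) with hadef
    have ha : a ∈ F.Hom S₁ := F.restrict_mem hb h₁.1
    have har : a.range = S₁ := by
      refine Subgroup.eq_of_le_of_card_ge ?_
        (Nat.card_congr (MonoidHom.ofInjective (F.injective_of_mem ha)).toEquiv).le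
      rintro _ ⟨x, rfl⟩
      exact h₁.2 S₁ le_rfl a ha x
    obtain ⟨ω, hω, hωe⟩ := F.exists_comp hψ hb' (F.apply_mem hψ)
    have hω0 : ω.comp (Subgroup.inclusion le_sup_left) ∈ F.Hom P := F.restrict_mem hω le_sup_left
    refine ⟨F.isoOf ha har, F.isoOf_mem_autGroup ha har, ω.comp (Subgroup.inclusion le_sup_left), ?_,
      fun x hx => ?_⟩
    · rw [hR' P hP]
      refine ⟨hω0, le_centralizerIn_factor hprod hP, fun x => hcen (h₁.2 P hP _ hω0 x), ω, hω,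
        fun _ => rfl, fun y => ?_⟩
      rw [hωe, hb'e]
      have e : (⟨ψ (Subgroup.inclusion le_sup_right y), F.apply_mem hψ _⟩ : S) =
          β (Subgroup.inclusion h₂.1 y) := Subtype.ext (by
        rw [hβe, coe_isoOf hγ hγr]; rfl)
      rw [e, MulAut.inv_apply_self]
      rfl
    · rw [coe_isoOf ha har]
      show φ x = b _
      rw [hbe]
      have e : Subgroup.inclusion h₁.1 ⟨(ω.comp (Subgroup.inclusion le_sup_left)) x, hx⟩ =
          β⁻¹ ⟨ψ (Subgroup.inclusion le_sup_left x), F.apply_mem hψ _⟩ := by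
        refine Subtype.ext ?_
        show ω (Subgroup.inclusion le_sup_left x) = _
        rw [hωe, hb'e]
      rw [e, MulAut.apply_inv_self]
      exact (hψe x).symm
  have hAut : R.autGroup S₁ = F.autGroup S₁ := by unfold autGroup; rw [hR _ le_rfl]
  have hRinv : R'.IsInvariantIn R := by
    refine ⟨hsubR, ⟨le_rfl, fun P _ φ hφ x => (R.le_of_mem hφ).2 x⟩, fun P hPT φ hφ α hα => ?_, fun P hP φ hφ => ?_⟩
    · exact hinv P hPT φ hφ α (hAut ▸ hα)
    · rw [hAut]; exact hfrat P hP φ (hsub P hφ)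
  refine ⟨hRsat, hR'sat, ⟨⟨hR'sat, hF, hsub', h₁, hinv, hfrat⟩, ?_⟩, ⟨⟨hR'sat, hRsat, hRinv⟩, ?_⟩,
    hRsat, hF, hsub, h₁, ?_, ?_⟩
  · -- extension condition in `F`
    intro α hα
    obtain ⟨φ, hφ, hr, he⟩ := R'.exists_map_of_mem_autGroup le_rfl hα
    rw [hR' _ le_rfl] at hφ
    obtain ⟨-, -, -, ψ, hψ, hψe, hψfix⟩ := hφ
    set M := S₁ ⊔ centralizerIn S S₁ with hM
    have hMS : M ≤ S := sup_le h₁.1 centralizerIn_le
    have hle : M ≤ S₁ ⊔ S₂ := hMS.trans hprod.2.2.2.2.ge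
    set χ := ψ.comp (Subgroup.inclusion hle) with hχdef
    have hχ : χ ∈ F.Hom M := F.restrict_mem hψ hle
    have hSM : S ≤ M := fun s hs => by
      obtain ⟨a, ha, b, hb, rfl⟩ := decompose hprod hs
      exact Subgroup.mul_mem_sup ha
        ⟨hprod.2.1 hb, Subgroup.mem_centralizer_iff.mpr fun x hx => hprod.2.2.1 x hx b hb⟩
    haveI : Finite M := finite_of_le hMS
    have hreq : χ.range = M := Subgroup.eq_of_le_of_card_ge ((F.range_le hχ).trans hSM)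
      (Nat.card_congr (MonoidHom.ofInjective (F.injective_of_mem hχ)).toEquiv).le
    refine ⟨F.isoOf hχ hreq, F.isoOf_mem_autGroup hχ hreq, fun x => ?_, fun c hc => ?_⟩
    · rw [coe_isoOf hχ hreq, ← he x, ← hψe x]; rfl
    · obtain ⟨a, ha, b, hb, hab⟩ := decompose hprod hc.1
      have haZ : a ∈ Subgroup.centralizer (S₁ : Set Ω) := by
        rw [show a = (c : Ω) * b⁻¹ by rw [hab]; group]
        exact mul_mem hc.2 (InvMemClass.inv_mem
          (Subgroup.mem_centralizer_iff.mpr fun x hx => hprod.2.2.1 x hx b hb))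
      have hval : χ c = ((α ⟨a, ha⟩ : S₁) : Ω) * b := by
        have e : Subgroup.inclusion hle c = Subgroup.inclusion le_sup_left ⟨a, ha⟩ *
            Subgroup.inclusion le_sup_right ⟨b, hb⟩ := Subtype.ext hab
        show ψ _ = _
        rw [e, map_mul, hψe, hψfix, he]
      have hcom : ∀ y ∈ S₁, y * b = b * y := fun y hy => hprod.2.2.1 y hy b hb
      have hmem : a⁻¹ * ((α ⟨a, ha⟩ : S₁) : Ω) ∈ S₁ ⊓ Subgroup.centralizer (S₁ : Set Ω) := by
        refine ⟨S₁.mul_mem (S₁.inv_mem ha) (α _).2,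
          (Subgroup.centralizer (S₁ : Set Ω)).mul_mem ((Subgroup.centralizer (S₁ : Set Ω)).inv_mem haZ) ?_⟩
        intro y hy
        obtain ⟨z, hz⟩ := α.surjective ⟨y, hy⟩
        rw [show y = ((α z : S₁) : Ω) by rw [hz], ← Subgroup.coe_mul, ← map_mul, ← Subgroup.coe_mul, ← map_mul]
        exact congrArg (fun w => ((α w : S₁) : Ω)) (Subtype.ext (haZ z z.2))
      rw [coe_isoOf hχ hreq, hval, hab, show (a * b)⁻¹ * (((α ⟨a, ha⟩ : S₁) : Ω) * b) =
        b⁻¹ * ((a⁻¹ * ((α ⟨a, ha⟩ : S₁) : Ω)) * b) by group, hcom _ hmem.1, inv_mul_cancel_left]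
      exact hmem
  · -- extension condition in `R`
    intro α hα
    obtain ⟨φ, hφ, hr, he⟩ := R'.exists_map_of_mem_autGroup le_rfl hα
    set M := S₁ ⊔ centralizerIn S₁ S₁ with hM
    have hMS : M ≤ S₁ := sup_le le_rfl centralizerIn_le
    set χ := φ.comp (Subgroup.inclusion hMS) with hχdef
    have hχ : χ ∈ R.Hom M := R.restrict_mem (hsubR _ hφ) hMS
    haveI : Finite M := finite_of_le hMS
    have hreq : χ.range = M := by
      refine Subgroup.eq_of_le_of_card_ge ?_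
        (Nat.card_congr (MonoidHom.ofInjective (R.injective_of_mem hχ)).toEquiv).le
      rintro _ ⟨x, rfl⟩
      exact Subgroup.mem_sup_left (hr.le ⟨_, rfl⟩)
    refine ⟨R.isoOf hχ hreq, R.isoOf_mem_autGroup hχ hreq, fun x => ?_, fun c hc => ?_⟩
    · rw [coe_isoOf hχ hreq, ← he x]; rfl
    · rw [coe_isoOf hχ hreq, show χ c = ((α ⟨c, hc.1⟩ : S₁) : Ω) from he ⟨c, hc.1⟩]
      refine ⟨S₁.mul_mem (S₁.inv_mem hc.1) (α _).2,
        (Subgroup.centralizer (S₁ : Set Ω)).mul_mem ((Subgroup.centralizer (S₁ : Set Ω)).inv_mem hc.2) ?_⟩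
      intro y hy
      obtain ⟨z, hz⟩ := α.surjective ⟨y, hy⟩
      rw [show y = ((α z : S₁) : Ω) by rw [hz], ← Subgroup.coe_mul, ← map_mul, ← Subgroup.coe_mul, ← map_mul]
      exact congrArg (fun w => ((α w : S₁) : Ω)) (Subtype.ext (hc.2 z z.2))
  · -- invariance of the full subsystem
    intro P hPT φ hφ α hα
    rw [hR P hPT] at hφ
    set P' := (P.subgroupOf S₁).map (S₁.subtype.comp α.toMonoidHom) with hP'def
    have hP'1 : P' ≤ S₁ := by
      rintro _ ⟨x, -, rfl⟩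
      exact (α x).2
    obtain ⟨a, ha, -, hae⟩ := F.exists_map_of_mem_autGroup h₁.1 hα
    obtain ⟨a', ha', -, ha'e⟩ := F.exists_map_of_mem_autGroup h₁.1 ((F.autGroup S₁).inv_mem hα)
    have hpre : ∀ y : P', a' (Subgroup.inclusion hP'1 y) ∈ P := by
      rintro ⟨_, x, hx, rfl⟩
      rw [ha'e]
      show ((α⁻¹ (α x) : S₁) : Ω) ∈ P
      rw [MulAut.inv_apply_self]
      exact hx
    obtain ⟨ω₁, hω₁, hω₁e⟩ := F.exists_comp (F.restrict_mem ha' hP'1) hφ hpre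
    obtain ⟨ω, hω, hωe⟩ := F.exists_comp hω₁ ha (fun y => h₁.2 P' hP'1 ω₁ hω₁ y)
    refine ⟨ω, by rw [hR P' hP'1]; exact hω, fun x hφx hαx => ?_⟩
    rw [hωe, hae]
    congr 2
    refine Subtype.ext ?_
    show ω₁ _ = φ x
    rw [hω₁e]
    congr 1
    refine Subtype.ext ?_
    show a' ⟨_, _⟩ = (x : Ω)
    rw [ha'e]
    show ((α⁻¹ (α ⟨x, hPT x.2⟩) : S₁) : Ω) = x
    rw [MulAut.inv_apply_self]
  · intro P hP φ hφ
    refine ⟨1, one_mem _, φ, by rw [hR P hP]; exact hφ, fun x hx => rfl⟩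

end Cfsg.FusionSystem
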