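import Cfsg.Agent.Lib.Fusion.Saturation

/-!
Isomorphisms of a fusion system carried by functions on the ambient group.

Working with functions makes composition and restriction of partial maps painless.
-/

set_option autoImplicit false
set_option linter.unusedSectionVars false

namespace Cfsg.FusionSystem

universe u
variable {Ω : Type u} [Group Ω] {S : Subgroup Ω} {E : FusionSystem S} {P Q R : Subgroup Ω} {f g : Ω → Ω}

/-- `f` carries `P` onto `Q` by a map of `E`. -/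
def IsIso (E : FusionSystem S) (P Q : Subgroup Ω) (f : Ω → Ω) : Prop :=
  ∃ φ ∈ E.Hom P, φ.range = Q ∧ ∀ x : P, φ x = f x

open Classical in
/-- The function underlying a homomorphism on a subgroup. -/
noncomputable def funOf (φ : P →* Ω) : Ω → Ω := fun x => if h : x ∈ P then φ ⟨x, h⟩ else 1

theorem funOf_apply (φ : P →* Ω) (x : P) : φ x = funOf φ (x : Ω) := by
  classical
  simp [funOf, x.2]

theorem isIso_funOf {φ : P →* Ω} (hφ : φ ∈ E.Hom P) : E.IsIso P φ.range (funOf φ) :=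
  ⟨φ, hφ, rfl, funOf_apply φ⟩

namespace IsIso

theorem le_left (h : E.IsIso P Q f) : P ≤ S := by
  obtain ⟨φ, hφ, -, -⟩ := h
  exact E.source_le hφ

theorem le_right (h : E.IsIso P Q f) : Q ≤ S := by
  obtain ⟨φ, hφ, hr, -⟩ := h
  exact hr ▸ E.range_le hφ

theorem mem (h : E.IsIso P Q f) {x : Ω} (hx : x ∈ P) : f x ∈ Q := by
  obtain ⟨φ, -, hr, he⟩ := h
  exact hr.le ⟨⟨x, hx⟩, he ⟨x, hx⟩⟩

theorem surj (h : E.IsIso P Q f) {y : Ω} (hy : y ∈ Q) : ∃ x ∈ P, f x = y := by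
  obtain ⟨φ, -, hr, he⟩ := h
  obtain ⟨x, rfl⟩ := hr.ge hy
  exact ⟨x, x.2, (he x).symm⟩

theorem inj (h : E.IsIso P Q f) {x y : Ω} (hx : x ∈ P) (hy : y ∈ P) (hxy : f x = f y) : x = y := by
  obtain ⟨φ, hφ, -, he⟩ := h
  have : φ ⟨x, hx⟩ = φ ⟨y, hy⟩ := by rw [he, he]; exact hxy
  exact congrArg Subtype.val (E.injective_of_mem hφ this)

theorem apply_mul (h : E.IsIso P Q f) {x y : Ω} (hx : x ∈ P) (hy : y ∈ P) : f (x * y) = f x * f y := by
  obtain ⟨φ, -, -, he⟩ := h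
  have := map_mul φ ⟨x, hx⟩ ⟨y, hy⟩
  rwa [he, he, he] at this

theorem apply_one (h : E.IsIso P Q f) : f 1 = 1 := by
  obtain ⟨φ, -, -, he⟩ := h
  have := map_one φ
  rwa [he] at this

theorem apply_inv (h : E.IsIso P Q f) {x : Ω} (hx : x ∈ P) : f x⁻¹ = (f x)⁻¹ := by
  obtain ⟨φ, -, -, he⟩ := h
  have := map_inv φ ⟨x, hx⟩
  rwa [he, he] at this

theorem apply_conj (h : E.IsIso P Q f) {x y : Ω} (hx : x ∈ P) (hy : y ∈ P) :
    f (x * y * x⁻¹) = f x * f y * (f x)⁻¹ := by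
  rw [h.apply_mul (P.mul_mem hx hy) (P.inv_mem hx), h.apply_mul hx hy, h.apply_inv hx]

theorem congr (h : E.IsIso P Q f) (he : ∀ x ∈ P, g x = f x) : E.IsIso P Q g := by
  obtain ⟨φ, hφ, hr, hfe⟩ := h
  exact ⟨φ, hφ, hr, fun x => (hfe x).trans (he x x.2).symm⟩

theorem mono {S' : Subgroup Ω} {E' : FusionSystem S'} (h : E.IsIso P Q f) (hle : E.IsSubsystemOf E') :
    E'.IsIso P Q f := by
  obtain ⟨φ, hφ, hr, he⟩ := h
  exact ⟨φ, hle P hφ, hr, he⟩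

theorem refl (E : FusionSystem S) (hP : P ≤ S) : E.IsIso P P (fun x => x) :=
  ⟨_, E.id_mem hP, P.range_subtype, fun _ => rfl⟩

theorem comp (h : E.IsIso P Q f) (h' : E.IsIso Q R g) : E.IsIso P R (fun x => g (f x)) := by
  have hm : ∀ x ∈ P, f x ∈ Q := fun x hx => h.mem hx
  obtain ⟨φ, hφ, hr, he⟩ := h
  obtain ⟨ψ, hψ, hr', he'⟩ := h'
  obtain ⟨χ, hχ, hχe⟩ := E.exists_comp hφ hψ (fun x => hr.le ⟨x, rfl⟩)
  refine ⟨χ, hχ, ?_, fun x => ?_⟩
  · subst hr hr'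
    ext y
    constructor
    · rintro ⟨x, rfl⟩
      exact ⟨_, (hχe x).symm⟩
    · rintro ⟨⟨_, x, rfl⟩, rfl⟩
      exact ⟨x, hχe x⟩
  · rw [hχe, he']
    exact congrArg g (he x)

theorem symm (h : E.IsIso P Q f) :
    ∃ g, E.IsIso Q P g ∧ (∀ x ∈ P, g (f x) = x) ∧ ∀ y ∈ Q, f (g y) = y := by
  obtain ⟨φ, hφ, hr, he⟩ := h
  obtain ⟨ψ, hψ, hψr, hl, hrt⟩ := E.exists_inv hφ hr
  refine ⟨funOf ψ, ⟨ψ, hψ, hψr, funOf_apply ψ⟩, fun x hx => ?_, fun y hy => ?_⟩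
  · have hm : φ ⟨x, hx⟩ ∈ Q := hr.le ⟨_, rfl⟩
    rw [← he ⟨x, hx⟩]
    exact (funOf_apply ψ ⟨φ ⟨x, hx⟩, hm⟩).symm.trans (hl ⟨x, hx⟩ hm)
  · have hm : ψ ⟨y, hy⟩ ∈ P := hψr.le ⟨_, rfl⟩
    have h1 := hrt ⟨y, hy⟩ hm
    rw [he] at h1
    rw [← funOf_apply ψ ⟨y, hy⟩]
    exact h1

theorem restrict (h : E.IsIso P Q f) (hR : R ≤ P) :
    ∃ R', E.IsIso R R' f ∧ R' ≤ Q ∧ ∀ y, y ∈ R' ↔ ∃ x ∈ R, f x = y := by
  have hm : ∀ x ∈ P, f x ∈ Q := fun x hx => h.mem hx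
  obtain ⟨φ, hφ, hr, he⟩ := h
  refine ⟨(φ.comp (Subgroup.inclusion hR)).range,
    ⟨_, E.restrict_mem hφ hR, rfl, fun x => he (Subgroup.inclusion hR x)⟩, ?_, fun y => ⟨?_, ?_⟩⟩
  · rintro _ ⟨x, rfl⟩
    exact hr.le ⟨_, rfl⟩
  · rintro ⟨x, rfl⟩
    exact ⟨x, x.2, (he (Subgroup.inclusion hR x)).symm⟩
  · rintro ⟨x, hx, rfl⟩
    exact ⟨⟨x, hx⟩, he _⟩

/-- Restriction onto a named image. -/
theorem restrict' (h : E.IsIso P Q f) (hR : R ≤ P) {R' : Subgroup Ω}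
    (hR' : ∀ y, y ∈ R' ↔ ∃ x ∈ R, f x = y) : E.IsIso R R' f := by
  obtain ⟨R₁, h₁, -, hm⟩ := h.restrict hR
  rwa [show R' = R₁ from Subgroup.ext fun y => (hR' y).trans (hm y).symm]

theorem isConj (h : E.IsIso P Q f) : E.IsConj P Q := by
  obtain ⟨φ, hφ, hr, -⟩ := h
  exact ⟨φ, hφ, hr⟩

theorem card_eq (h : E.IsIso P Q f) : Nat.card P = Nat.card Q := h.isConj.card_eq

theorem eq_of_le [Finite S] (h : E.IsIso P Q f) {M : Subgroup Ω} (hM : M ≤ S) (hQM : Q ≤ M)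
    (hc : Nat.card M ≤ Nat.card P) : Q = M :=
  haveI := finite_of_le hM
  Subgroup.eq_of_le_of_card_ge hQM (h.card_eq ▸ hc)

/-- The image of an element normalising a subgroup normalises its image. -/
theorem mem_normalizer (h : E.IsIso P Q f) {A A' : Subgroup Ω} (hA : A ≤ P)
    (hA' : ∀ y, y ∈ A' ↔ ∃ x ∈ A, f x = y) {x : Ω} (hx : x ∈ P)
    (hn : x ∈ Subgroup.normalizer (A : Set Ω)) : f x ∈ Subgroup.normalizer (A' : Set Ω) := by
  rw [Subgroup.mem_normalizer_iff]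
  intro y
  constructor
  · intro hy
    obtain ⟨a, ha, rfl⟩ := (hA' y).mp hy
    exact (hA' _).mpr ⟨x * a * x⁻¹, (Subgroup.mem_normalizer_iff.mp hn a).mp ha, h.apply_conj hx (hA ha)⟩
  · intro hy
    obtain ⟨a, ha, hae⟩ := (hA' _).mp hy
    have ha' : x⁻¹ * a * x ∈ A := (Subgroup.mem_normalizer_iff''.mp hn a).mp ha
    refine (hA' y).mpr ⟨_, ha', ?_⟩
    have h1 := h.apply_conj hx (hA ha')
    rw [show x * (x⁻¹ * a * x) * x⁻¹ = a by group, hae] at h1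
    exact (mul_left_cancel (mul_right_cancel h1)).symm

/-- The image of an element centralising a subgroup centralises its image. -/
theorem mem_centralizer (h : E.IsIso P Q f) {A A' : Subgroup Ω} (hA : A ≤ P)
    (hA' : ∀ y, y ∈ A' ↔ ∃ x ∈ A, f x = y) {x : Ω} (hx : x ∈ P)
    (hn : x ∈ Subgroup.centralizer (A : Set Ω)) : f x ∈ Subgroup.centralizer (A' : Set Ω) := by
  rw [Subgroup.mem_centralizer_iff]
  intro y hy
  obtain ⟨a, ha, rfl⟩ := (hA' y).mp hy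
  rw [← h.apply_mul (hA ha) hx, ← h.apply_mul hx (hA ha), Subgroup.mem_centralizer_iff.mp hn a ha]

theorem toAut (h : E.IsIso P P f) : ∃ α ∈ E.autGroup P, ∀ x : P, ((α x : P) : Ω) = f x := by
  obtain ⟨φ, hφ, hr, he⟩ := h
  exact ⟨E.isoOf hφ hr, E.isoOf_mem_autGroup hφ hr, fun x => (coe_isoOf hφ hr x).trans (he x)⟩

end IsIso

theorem isIso_of_aut (hP : P ≤ S) {α : MulAut P} (hα : α ∈ E.autGroup P) :
    ∃ f, E.IsIso P P f ∧ ∀ x : P, ((α x : P) : Ω) = f x := by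
  obtain ⟨φ, hφ, hr, he⟩ := E.exists_map_of_mem_autGroup hP hα
  exact ⟨funOf φ, ⟨φ, hφ, hr, funOf_apply φ⟩, fun x => (he x).symm.trans (funOf_apply φ x)⟩

theorem mem_hom_of_isIso {φ : P →* Ω} (h : E.IsIso P Q f) (he : ∀ x : P, φ x = f x) : φ ∈ E.Hom P := by
  obtain ⟨χ, hχ, -, hχe⟩ := h
  exact E.mem_of_apply_eq hχ fun x => (he x).trans (hχe x).symm

theorem isIso_conj (hP : P ≤ S) {s : Ω} (hs : s ∈ S) :
    E.IsIso P (P.map (MulAut.conj s).toMonoidHom) (fun x => s * x * s⁻¹) := by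
  refine ⟨conjHom P s, E.conj_mem hP hs, ?_, fun x => rfl⟩
  ext y
  constructor
  · rintro ⟨x, rfl⟩
    exact ⟨x, x.2, rfl⟩
  · rintro ⟨x, hx, rfl⟩
    exact ⟨⟨x, hx⟩, rfl⟩

theorem isIso_conj_normalizer (hP : P ≤ S) {s : Ω} (hs : s ∈ S) (hn : s ∈ Subgroup.normalizer (P : Set Ω)) :
    E.IsIso P P (fun x => s * x * s⁻¹) := by
  have e : P.map (MulAut.conj s).toMonoidHom = P := by
    ext y
    constructor
    · rintro ⟨x, hx, rfl⟩
      exact (Subgroup.mem_normalizer_iff.mp hn x).mp hx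
    · intro hy
      exact ⟨s⁻¹ * y * s, (Subgroup.mem_normalizer_iff''.mp hn y).mp hy, by
        show s * (s⁻¹ * y * s) * s⁻¹ = y
        group⟩
  have := isIso_conj (E := E) hP hs
  rwa [e] at this

/-- The extension property of a receptive subgroup. -/
theorem IsReceptive.extend (hrec : E.IsReceptive Q) (h : E.IsIso P Q f) {N : Subgroup Ω}
    (hNS : N ≤ S) (hPN : P ≤ N) (hn : N ≤ Subgroup.normalizer (P : Set Ω))
    (hN : ∀ g ∈ N, ∃ k ∈ S, ∀ x ∈ P, f (g * x * g⁻¹) = k * f x * k⁻¹) :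
    ∃ g N', E.IsIso N N' g ∧ ∀ x ∈ P, g x = f x := by
  obtain ⟨φ, hφ, hr, he⟩ := h
  obtain ⟨ψ, hψ, hψe⟩ := hrec.2 P φ hφ hr
  have hle : N ≤ extender S P φ := fun g hg => by
    obtain ⟨k, hk, hke⟩ := hN g hg
    exact (mem_extender_iff (E.apply_mem hφ)).mpr ⟨hNS hg, hn hg, k, hk, fun x hx => by
      rw [he, he]; exact hke x x.2⟩
  refine ⟨_, _, isIso_funOf (E.restrict_mem hψ hle), fun x hx => ?_⟩
  rw [← funOf_apply (ψ.comp (Subgroup.inclusion hle)) ⟨x, hPN hx⟩, ← he ⟨x, hx⟩]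
  exact hψe x hx _

end Cfsg.FusionSystem

namespace Cfsg.FusionSystem

variable {Ω : Type*} [Group Ω] {S T : Subgroup Ω} {E : FusionSystem T} {F : FusionSystem S}

/-- Automisers of a subsystem lie in those of the system. -/
theorem IsSubsystemOf.isIso_autGroup (h : E.IsSubsystemOf F) {P : Subgroup Ω} (hP : P ≤ T) {α : MulAut P}
    (hα : α ∈ E.autGroup P) : α ∈ F.autGroup P := by
  obtain ⟨φ, hφ, -, he⟩ := E.exists_map_of_mem_autGroup hP hα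
  exact F.mem_autGroup_of_map (h P hφ) fun x => (he x).symm

end Cfsg.FusionSystem
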