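import Cfsg.Agent.Lib.QdSection
import Cfsg.Agent.Lib.Fusion.Model.Local
import Cfsg.Agent.Lib.Fusion.Factor
import Cfsg.Prelude.Def_FusionReduction

/-!
Fusion systems free of `Qd(p)`: an intrinsic criterion through automisers, and its inheritance.
-/

set_option autoImplicit false
set_option linter.unusedSectionVars false

universe u

namespace Cfsg.FusionSystem

open CfsgLib.QdSection

variable {Ω : Type u} [Group Ω] {S : Subgroup Ω} {F : FusionSystem S} {p : ℕ} [Fact p.Prime]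

/-- A subgroup with a quotient on which its automiser in the system induces all of `SL₂(p)`. -/
def QdWitness (F : FusionSystem S) (p : ℕ) [Fact p.Prime] : Prop :=
  ∃ (Y : Subgroup Ω) (_ : Y ≤ S) (e : Y →* Vec p), Function.Surjective e ∧
    ∀ M : Matrix.SpecialLinearGroup (Fin 2) (ZMod p), ∃ φ ∈ F.Hom Y, ∃ h : ∀ y, φ y ∈ Y,
      ∀ y, e ⟨φ y, h y⟩ = act M (e y)

theorem QdWitness.mono {T : Subgroup Ω} {E : FusionSystem T} (hE : E.IsSubsystemOf F) (h : E.QdWitness p) :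
    F.QdWitness p := by
  obtain ⟨Y, -, e, he, hM⟩ := h
  obtain ⟨φ, hφ, -, -⟩ := hM 1
  refine ⟨Y, F.source_le (hE Y hφ), e, he, fun M => ?_⟩
  obtain ⟨φ, hφ, hh⟩ := hM M
  exact ⟨φ, hE Y hφ, hh⟩

theorem QdWitness.of_factor {Ω' : Type*} [Group Ω'] {X : Subgroup Ω} {θ : S →* Ω'} {E : FusionSystem θ.range}
    (hker : ∀ s : S, θ s = 1 ↔ (s : Ω) ∈ X)
    (hEm : ∀ P' φ', φ' ∈ E.Hom P' ↔ P' ≤ θ.range ∧ ∃ φ ∈ F.Hom (preimageAlong θ P'), InducedAlong θ φ φ')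
    (h : E.QdWitness p) : F.QdWitness p := by
  obtain ⟨Y', hY', e', he', hM⟩ := h
  let q : ↥(preimageAlong θ Y') →* Y' := (θ.comp (Subgroup.inclusion preimageAlong_le)).codRestrict Y'
    fun x => (mem_preimageAlong.mp x.2).2
  refine ⟨preimageAlong θ Y', preimageAlong_le, e'.comp q, ?_, fun M => ?_⟩
  · intro v
    obtain ⟨y, rfl⟩ := he' v
    obtain ⟨x, hx, hxS, e⟩ := exists_mem_preimageAlong hY' y
    exact ⟨⟨x, hx⟩, congrArg e' (Subtype.ext e)⟩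
  obtain ⟨φ', hφ', hin, heq⟩ := hM M
  obtain ⟨-, φ, hφ, hind⟩ := (hEm _ _).mp hφ'
  have happ : ∀ x, φ' (q x) = θ ⟨φ x, F.apply_mem hφ x⟩ := fun x =>
    inducedAlong_apply_mem hφ hind x (q x).2
  have hmem : ∀ x, φ x ∈ preimageAlong θ Y' := fun x =>
    mem_preimageAlong.mpr ⟨F.apply_mem hφ x, happ x ▸ hin (q x)⟩
  refine ⟨φ, hφ, hmem, fun x => ?_⟩
  show e' (q ⟨φ x, hmem x⟩) = act M (e' (q x))
  rw [← heq (q x)]
  exact congrArg e' (Subtype.ext (happ x).symm)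

/-- A witness in a realised system gives a section of the group. -/
theorem QdWitness.involves {G : Type*} [Group G] [Finite G] {ι : S →* G} (hS : IsPGroup p S)
    (hι : F.IsRealizedBy ι) (h : F.QdWitness p) : Cfsg.Involves (Cfsg.qd p) G := by
  obtain ⟨Y, hYS, e, he, hM⟩ := h
  obtain ⟨hinj, hiff⟩ := hι
  let c : Y →* G := ι.comp (Subgroup.inclusion hYS)
  have hc : Function.Injective c := hinj.comp (Subgroup.inclusion_injective hYS)
  let i : Y ≃* c.range := MonoidHom.ofInjective hc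
  refine involves_of_witness c.range ((hS.to_le hYS).of_equiv i) (e.comp i.symm.toMonoidHom)
    (he.comp i.symm.surjective) fun M => ?_
  obtain ⟨φ, hφ, hin, heq⟩ := hM M
  obtain ⟨g, hg⟩ := (hiff Y hYS φ (F.apply_mem hφ)).mp hφ
  have hg' : ∀ y : Y, c ⟨φ y, hin y⟩ = g * c y * g⁻¹ := hg
  haveI : Finite Y := Finite.of_injective _ hc
  have hsurj : Function.Surjective fun y : Y => (⟨φ y, hin y⟩ : Y) :=
    Finite.surjective_of_injective fun a b e =>
      F.injective_of_mem hφ (congrArg (fun w : Y => (w : Ω)) e)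
  refine ⟨g, Subgroup.mem_normalizer_iff.mpr fun x => ⟨?_, ?_⟩, ?_⟩
  · rintro ⟨y, rfl⟩
    exact ⟨_, hg' y⟩
  · rintro ⟨y, hy⟩
    obtain ⟨z, rfl⟩ := hsurj y
    rw [hg'] at hy
    rw [← mul_left_cancel (mul_right_cancel hy)]
    exact ⟨z, rfl⟩
  · rintro ⟨_, y, rfl⟩ h
    show e (i.symm ⟨g * c y * g⁻¹, h⟩) = act M (e (i.symm (i y)))
    rw [MulEquiv.symm_apply_apply, ← heq y]
    exact congrArg e (i.symm_apply_eq.mpr (Subtype.ext (hg' y).symm))

/-- A section `Qd(p)` of a group realising the system gives a witness. -/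
theorem QdWitness.of_involves {G : Type*} [Group G] [Finite G] {ι : S →* G} (hι : F.IsRealizedBy ι)
    {T : Sylow p G} (hT : (T : Subgroup G) = ι.range) (h : Cfsg.Involves (Cfsg.qd p) G) : F.QdWitness p := by
  obtain ⟨hinj, hiff⟩ := hι
  obtain ⟨Z, hZT, e, he, hM⟩ := exists_witness_of_involves T h
  let Y : Subgroup Ω := (Z.comap ι).map S.subtype
  have hYS : Y ≤ S := Subgroup.map_subtype_le _
  let c : Y →* G := ι.comp (Subgroup.inclusion hYS)
  have hcZ : ∀ y, c y ∈ Z := by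
    rintro ⟨_, s, hs, rfl⟩
    exact hs
  refine ⟨Y, hYS, e.comp (c.codRestrict Z hcZ), ?_, fun M => ?_⟩
  · intro v
    obtain ⟨⟨z, hz⟩, rfl⟩ := he v
    obtain ⟨s, rfl⟩ := hT.le (hZT hz)
    exact ⟨⟨s, s, hz, rfl⟩, rfl⟩
  obtain ⟨g, hg, hgM⟩ := hM M
  have hgZ : ∀ y, g * c y * g⁻¹ ∈ Z := fun y => (Subgroup.mem_normalizer_iff.mp hg _).mp (hcZ y)
  have hgr : ∀ y, g * c y * g⁻¹ ∈ ι.range := fun y => hT.le (hZT (hgZ y))
  let φ : Y →* Ω := S.subtype.comp ((MonoidHom.ofInjective hinj).symm.toMonoidHom.comp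
    (((MulAut.conj g).toMonoidHom.comp c).codRestrict ι.range hgr))
  have hφS : ∀ x, φ x ∈ S := fun x => SetLike.coe_mem _
  have hφι : ∀ x, ι ⟨φ x, hφS x⟩ = g * c x * g⁻¹ := fun x =>
    congrArg Subtype.val ((MonoidHom.ofInjective hinj).apply_symm_apply ⟨_, hgr x⟩)
  have hφY : ∀ x, φ x ∈ Y := fun x => ⟨⟨φ x, hφS x⟩, by
    show ι _ ∈ Z
    rw [hφι]
    exact hgZ x, rfl⟩
  refine ⟨φ, (hiff Y hYS φ hφS).mpr ⟨g, hφι⟩, hφY, fun y => ?_⟩
  show e ⟨c ⟨φ y, hφY y⟩, _⟩ = act M (e ⟨c y, hcZ y⟩)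
  rw [← hgM ⟨c y, hcZ y⟩ (hgZ y)]
  exact congrArg e (Subtype.ext (hφι y))

variable [Finite S]

/-- A witness can be placed in the local system of a fully normalized centric subgroup. -/
theorem QdWitness.exists_centric (hF : F.IsSaturated p) (hS : IsPGroup p S) (h : F.QdWitness p) :
    ∃ (R : Subgroup Ω) (hR : R ≤ S), F.IsFullyNormalized R ∧ F.IsCentric R ∧
      (F.normalizerSystem R hR).QdWitness p := by
  obtain ⟨Y₀, hY₀, e₀, he₀, hM₀⟩ := h
  obtain ⟨Y, hconj, hYfn⟩ := F.exists_isFullyNormalized hY₀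
  have hrec := hF.isReceptive_of_isFullyNormalized hS hYfn
  have hYS : Y ≤ S := hYfn.1
  set R₁ := Y ⊔ centralizerIn S Y with hR₁
  have hR₁S : R₁ ≤ S := sup_le hYS centralizerIn_le
  haveI : Finite Y := finite_of_le hYS
  haveI : Finite R₁ := finite_of_le hR₁S
  have hfc : F.IsFullyCentralized Y := hF.isFullyCentralized_of_isFullyNormalized hS hYfn
  have hR₁c : F.IsCentric R₁ := by
    refine ⟨hR₁S, ?_⟩
    rintro _ ⟨ψ, hψ, rfl⟩ z hz
    let ψY : Y →* Ω := ψ.comp (Subgroup.inclusion le_sup_left)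
    have hψY : ψY ∈ F.Hom Y := F.restrict_mem hψ _
    haveI : Finite (centralizerIn S ψY.range) := finite_centralizerIn
    let f : centralizerIn S Y → centralizerIn S ψY.range := fun c =>
      ⟨ψ ⟨c, Subgroup.mem_sup_right c.2⟩, F.apply_mem hψ _,
        apply_mem_centralizer (P := Y) (φ := ψY) le_sup_left (fun _ => rfl) rfl _ c.2.2⟩
    have hf : Function.Injective f := fun a b e => Subtype.ext (congrArg (fun w : R₁ => (w : Ω))
      (F.injective_of_mem hψ (congrArg (fun w : centralizerIn S ψY.range => (w : Ω)) e)) :)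
    have hbij := hf.bijective_of_nat_card_le (hfc.2 _ ⟨ψY, hψY, rfl⟩)
    obtain ⟨c, hc⟩ := hbij.2 ⟨z, hz.1, Subgroup.centralizer_le (by
      rintro _ ⟨y, rfl⟩
      exact ⟨_, rfl⟩) hz.2⟩
    exact ⟨_, congrArg (fun w : centralizerIn S ψY.range => (w : Ω)) hc⟩
  obtain ⟨R, hR₁R, hRfn⟩ := F.exists_isFullyNormalized hR₁S
  refine ⟨R, hRfn.1, hRfn, hR₁c.of_isConj hR₁R, ?_⟩
  obtain ⟨φ₀, hφ₀, hφ₀r⟩ := hconj
  obtain ⟨ψ, hψ, hψr⟩ := hR₁R
  -- the transported subgroup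
  let c₀ : Y₀ →* Ω := ψ.comp ((Subgroup.inclusion le_sup_left).comp
    (φ₀.codRestrict Y fun x => hφ₀r.le ⟨x, rfl⟩))
  have hc₀ : Function.Injective c₀ := fun a b e => F.injective_of_mem hφ₀
    (congrArg (fun w : R₁ => (w : Ω)) (F.injective_of_mem hψ e))
  let i : Y₀ ≃* c₀.range := MonoidHom.ofInjective hc₀
  have hYR : c₀.range ≤ R := by
    rintro _ ⟨x, rfl⟩
    exact hψr.le ⟨_, rfl⟩
  refine ⟨c₀.range, hYR.trans (le_normalizerIn hRfn.1), e₀.comp i.symm.toMonoidHom,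
    he₀.comp i.symm.surjective, fun M => ?_⟩
  obtain ⟨α, hα, hαin, hαe⟩ := hM₀ M
  -- the automorphism of `Y`
  obtain ⟨θ₀, hθ₀, -, hθ₀l, -⟩ := F.exists_inv hφ₀ rfl
  have hθ₀in : ∀ y, θ₀ y ∈ Y₀ := by
    rintro ⟨_, x, rfl⟩
    rw [show θ₀ ⟨φ₀ x, ⟨x, rfl⟩⟩ = (x : Ω) from hθ₀l x _]
    exact x.2
  have hYle : Y ≤ φ₀.range := hφ₀r.ge
  obtain ⟨β, hβ, hβe⟩ : ∃ β : Y →* Ω, β ∈ F.Hom Y ∧
      ∀ (x : Y₀) (hx : φ₀ x ∈ Y), β ⟨φ₀ x, hx⟩ = φ₀ ⟨α x, hαin x⟩ := by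
    refine ⟨_, F.restrict_mem (F.comp_mem (F.comp_mem hθ₀ hα hθ₀in) hφ₀ fun y => hαin _) hYle, fun x hx => ?_⟩
    exact congrArg φ₀ (Subtype.ext (congrArg α (Subtype.ext (hθ₀l x _))))
  have hαsurj : ∀ x : Y₀, ∃ z : Y₀, α z = (x : Ω) := by
    haveI : Finite Y₀ := finite_of_le hY₀
    intro x
    obtain ⟨z, hz⟩ := Finite.surjective_of_injective
      (f := fun z : Y₀ => (⟨α z, hαin z⟩ : Y₀))
      (fun a b e => F.injective_of_mem hα (congrArg (fun w : Y₀ => (w : Ω)) e)) x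
    exact ⟨z, congrArg (fun w : Y₀ => (w : Ω)) hz⟩
  have hβr : β.range = Y := by
    apply le_antisymm
    · rintro _ ⟨⟨y, hy⟩, rfl⟩
      obtain ⟨x, rfl⟩ := hYle hy
      rw [hβe]
      exact hφ₀r.le ⟨_, rfl⟩
    · intro y hy
      obtain ⟨x, rfl⟩ := hYle hy
      obtain ⟨z, hz⟩ := hαsurj x
      refine ⟨⟨φ₀ z, hφ₀r.le ⟨z, rfl⟩⟩, ?_⟩
      rw [hβe]
      exact congrArg φ₀ (Subtype.ext hz)
  -- extend it to `R₁`
  obtain ⟨χ, hχ, hχe⟩ := hrec.2 Y β hβ hβr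
  have hβS := F.apply_mem hβ
  have hle : R₁ ≤ extender S Y β := sup_le (le_extender hYS hβS) (centralizerIn_le_extender hβS)
  let χ₁ : R₁ →* Ω := χ.comp (Subgroup.inclusion hle)
  have hχ₁ : χ₁ ∈ F.Hom R₁ := F.restrict_mem hχ hle
  have hχY : ∀ y : Y, χ₁ ⟨y, Subgroup.mem_sup_left y.2⟩ = β y := fun y => hχe _ y.2 _
  have hχR : ∀ x, χ₁ x ∈ R₁ := by
    intro x
    have h : R₁ ≤ (R₁.comap χ₁).map R₁.subtype := by
      refine sup_le (fun y hy => ⟨⟨y, Subgroup.mem_sup_left hy⟩, ?_, rfl⟩)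
        fun y hy => ⟨⟨y, Subgroup.mem_sup_right hy⟩, ?_, rfl⟩
      · show χ₁ _ ∈ R₁
        rw [hχY ⟨y, hy⟩]
        exact Subgroup.mem_sup_left (hβr.le ⟨_, rfl⟩)
      · exact Subgroup.mem_sup_right ⟨F.apply_mem hχ₁ _,
          apply_mem_centralizer (P := Y) (φ := β) le_sup_left hχY hβr _ hy.2⟩
    obtain ⟨z, hz, e⟩ := h x.2
    obtain rfl : z = x := Subtype.ext e
    exact hz
  -- move it to `R`
  obtain ⟨θ, hθ, -, hθl, -⟩ := F.exists_inv hψ rfl
  have hθin : ∀ y, θ y ∈ R₁ := by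
    rintro ⟨_, x, rfl⟩
    rw [show θ ⟨ψ x, ⟨x, rfl⟩⟩ = (x : Ω) from hθl x _]
    exact x.2
  obtain ⟨ω, hω, hωe⟩ : ∃ ω : R →* Ω, ω ∈ F.Hom R ∧
      ∀ (x : R₁) (hx : ψ x ∈ R), ω ⟨ψ x, hx⟩ = ψ ⟨χ₁ x, hχR x⟩ := by
    refine ⟨_, F.restrict_mem (F.comp_mem (F.comp_mem hθ hχ₁ hθin) hψ fun y => hχR _) hψr.ge, fun x hx => ?_⟩
    exact congrArg ψ (Subtype.ext (congrArg χ₁ (Subtype.ext (hθl x _))))
  have hωR : ∀ y, ω y ∈ R := by
    rintro ⟨y, hy⟩
    obtain ⟨x, rfl⟩ := hψr.ge hy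
    rw [hωe]
    exact hψr.le ⟨_, rfl⟩
  have hωc : ∀ (x : Y₀), ω ⟨c₀ x, hYR ⟨x, rfl⟩⟩ = c₀ ⟨α x, hαin x⟩ := by
    intro x
    refine (hωe ⟨φ₀ x, Subgroup.mem_sup_left (hφ₀r.le ⟨x, rfl⟩)⟩ _).trans ?_
    refine congrArg ψ (Subtype.ext ?_)
    exact (hχY ⟨φ₀ x, hφ₀r.le ⟨x, rfl⟩⟩).trans (hβe x _)
  have hin : ∀ y : c₀.range, ω ⟨y, hYR y.2⟩ ∈ c₀.range := by
    rintro ⟨_, x, rfl⟩
    rw [hωc]
    exact ⟨_, rfl⟩
  have hRN : R ≤ normalizerIn S R := le_normalizerIn hRfn.1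
  haveI : Finite R := finite_of_le hRfn.1
  refine ⟨ω.comp (Subgroup.inclusion hYR), ⟨F.restrict_mem hω hYR, hYR.trans hRN, fun y => hRN (hωR _), _,
    F.restrict_mem hω (sup_le hYR le_rfl), fun _ => rfl, ?_⟩, hin, ?_⟩
  · refine Subgroup.eq_of_le_of_card_ge ?_ (le_of_eq ?_)
    · rintro _ ⟨x, hx, rfl⟩
      exact hωR _
    · rw [Subgroup.card_map_of_injective (f := ω.comp (Subgroup.inclusion (sup_le hYR le_rfl)))
        (fun a b e => Subgroup.inclusion_injective _ (F.injective_of_mem hω e))]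
      exact (Nat.card_congr (Subgroup.subgroupOfEquivOfLe le_sup_right).toEquiv).symm
  · rintro ⟨_, x, rfl⟩
    show e₀ (i.symm ⟨ω _, _⟩) = act M (e₀ (i.symm (i x)))
    rw [MulEquiv.symm_apply_apply, ← hαe x]
    exact congrArg e₀ (i.symm_apply_eq.mpr (Subtype.ext (hωc x)))

/-- A witness gives a model with a section `Qd(p)`. -/
theorem QdWitness.exists_model (hF : F.IsSaturated p) (hS : IsPGroup p S) (h : F.QdWitness p) :
    ∃ (R : Subgroup Ω) (hR : R ≤ S), F.IsFullyNormalized R ∧ F.IsCentric R ∧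
      ∃ (L : Type u) (_ : Group L) (ι : ↥(normalizerIn S R) →* L),
        (F.normalizerSystem R hR).IsModel p L ι ∧ Cfsg.Involves (Cfsg.qd p) L := by
  obtain ⟨R, hR, hfn, hc, hw⟩ := h.exists_centric hF hS
  haveI := finite_normalizerIn (S := S) (P := R)
  obtain ⟨L, _, ι, hL⟩ :=
    (hF.normalizer_setup hS hfn hc (F.normalizerSystem_isNormalizerSystem R hR)).exists_isModel
  haveI := hL.1
  exact ⟨R, hR, hfn, hc, L, _, ι, hL, hw.involves (hS.to_le normalizerIn_le) hL.2.1⟩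

theorem QdWitness.of_model {R : Subgroup Ω} {N : FusionSystem (normalizerIn S R)} {L : Type*} [Group L]
    {ι : ↥(normalizerIn S R) →* L} (hN : F.IsNormalizerSystem R N) (hL : N.IsModel p L ι)
    (h : Cfsg.Involves (Cfsg.qd p) L) : F.QdWitness p := by
  haveI := hL.1
  obtain ⟨T, hT⟩ := hL.2.2.1
  refine (QdWitness.of_involves hL.2.1 hT h).mono fun P φ hφ => ?_
  rw [hN] at hφ
  exact hφ.1

/-- Being free of `Qd(p)` in the sense of models is the absence of witnesses. -/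
theorem IsSaturated.isSectionFree_qd_iff (hF : F.IsSaturated p) (hS : IsPGroup p S) :
    F.IsSectionFree p ↥(Cfsg.qd p) ↔ ¬ F.QdWitness p := by
  constructor
  · intro h hw
    obtain ⟨R, hR, hfn, hc, L, _, ι, hL, hi⟩ := hw.exists_model hF hS
    exact h R hfn hc _ (F.normalizerSystem_isNormalizerSystem R hR) L ι hL hi
  · intro h R _ _ N hN L _ ι hL hi
    exact h (QdWitness.of_model hN hL hi)

end Cfsg.FusionSystem

namespace Cfsg.FusionSystem

variable {Ω : Type u} [Group Ω] {S : Subgroup Ω} {F : FusionSystem S} {p : ℕ} [Fact p.Prime] [Finite S]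

/-- A fully normalized centric subgroup that is the core of its normalizer system is radical. -/
theorem IsSaturated.isRadical_of_core_normalizer (hF : F.IsSaturated p) (hS : IsPGroup p S) {R : Subgroup Ω}
    (hfn : F.IsFullyNormalized R) (hc : F.IsCentric R)
    (hcore : (F.normalizerSystem R hfn.1).core = R) : F.IsRadical p R := by
  haveI := finite_normalizerIn (S := S) (P := R)
  haveI := finite_autGroup (F := F) hfn.1
  haveI : Finite R := finite_of_le hfn.1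
  obtain ⟨L, _, ι, hL⟩ :=
    (hF.normalizer_setup hS hfn hc (F.normalizerSystem_isNormalizerSystem R hfn.1)).exists_isModel
  haveI := hL.1
  have hRN : R ≤ normalizerIn S R := le_normalizerIn hfn.1
  have hmap := hL.map_core (hS.to_le normalizerIn_le)
  rw [hcore] at hmap
  obtain ⟨-, ⟨hinj, hiff⟩, -, hC⟩ := hL
  refine ⟨hfn.1, le_antisymm ?_ ?_⟩
  swap
  · intro α hα
    have hle : Inn R ≤ F.autGroup R := inn_le_autGroup hfn.1
    refine ⟨⟨α, hle hα⟩, ?_, rfl⟩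
    have hp : IsPGroup p ((Inn R).subgroupOf (F.autGroup R)) :=
      ((inn_eq_autInducedBy R).symm ▸ isPGroup_autInducedBy (hS.to_le hfn.1) : IsPGroup p (Inn R)).of_equiv
        (Subgroup.subgroupOfEquivOfLe hle).symm
    haveI : (Inn R).Normal := inferInstanceAs (MulAut.conj (G := R)).range.Normal
    exact CfsgLib.le_pCore (N := (Inn R).subgroupOf (F.autGroup R)) hp hα
  -- the conjugation action of the model on the core
  let c : R →* L := ι.comp (Subgroup.inclusion hRN)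
  have hcinj : Function.Injective c := hinj.comp (Subgroup.inclusion_injective hRN)
  have hcore' : c.range = pCore p L := by
    rw [← hmap]
    ext y
    constructor
    · rintro ⟨x, rfl⟩
      exact ⟨Subgroup.inclusion hRN x, x.2, rfl⟩
    · rintro ⟨x, hx, rfl⟩
      exact ⟨⟨x, hx⟩, rfl⟩
  haveI : c.range.Normal := hcore' ▸ inferInstance
  let i : R ≃* c.range := MonoidHom.ofInjective hcinj
  let ρ : L →* MulAut R := ((MulAut.congr i.symm).toMonoidHom).comp MulAut.conjNormal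
  have hρ : ∀ l x, c (ρ l x) = l * c x * l⁻¹ := by
    intro l x
    show c (i.symm (MulAut.conjNormal l (i x))) = _
    exact (congrArg Subtype.val (i.apply_symm_apply _) :)
  have hρA : ∀ l, ρ l ∈ F.autGroup R := by
    intro l
    let φ : R →* Ω := R.subtype.comp (ρ l).toMonoidHom
    have hφ : φ ∈ (F.normalizerSystem R hfn.1).Hom R :=
      (hiff R hRN φ fun x => hRN (ρ l x).2).mpr ⟨l, hρ l⟩
    exact F.mem_autGroup_of_map hφ.1 fun x => rfl
  let ρ' : L →* F.autGroup R := ρ.codRestrict _ hρA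
  have hsurj : Function.Surjective ρ' := by
    rintro ⟨α, hα⟩
    obtain ⟨φ, hφ, hr, he⟩ := F.exists_map_of_mem_autGroup hfn.1 hα
    have hφN : φ ∈ (F.normalizerSystem R hfn.1).Hom R := by
      refine ⟨hφ, hRN, fun x => hRN (hr.le ⟨x, rfl⟩), _, F.restrict_mem hφ (sup_le le_rfl le_rfl),
        fun _ => rfl, ?_⟩
      apply le_antisymm
      · rintro _ ⟨x, -, rfl⟩
        exact hr.le ⟨_, rfl⟩
      · intro y hy
        obtain ⟨x, rfl⟩ := hr.ge hy
        exact ⟨⟨x, Subgroup.mem_sup_left x.2⟩, x.2, rfl⟩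
    obtain ⟨l, hl⟩ := (hiff R hRN φ fun x => hRN (hr.le ⟨x, rfl⟩)).mp hφN
    refine ⟨l, Subtype.ext (MulEquiv.ext fun x => hcinj ?_)⟩
    show c (ρ l x) = c (α x)
    rw [hρ]
    show l * c x * l⁻¹ = _
    refine (hl x).symm.trans (congrArg ι (Subtype.ext (he x)))
  have hker : IsPGroup p ρ'.ker := by
    refine (CfsgLib.isPGroup_pCore (G := L) p).to_le ?_
    intro l hl
    refine hC (Subgroup.mem_centralizer_iff.mpr ?_)
    intro y hy
    obtain ⟨x, rfl⟩ := hcore'.ge hy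
    have h1 := hρ l x
    rw [show ρ l = 1 from congrArg Subtype.val hl] at h1
    exact mul_inv_eq_iff_eq_mul.mp h1.symm |>.symm
  rintro _ ⟨α, hα, rfl⟩
  obtain ⟨l, rfl⟩ := hsurj α
  haveI : ((pCore p (F.autGroup R)).comap ρ').Normal := Subgroup.normal_comap _
  have hl : l ∈ pCore p L :=
    CfsgLib.le_pCore ((CfsgLib.isPGroup_pCore p).comap_of_ker_isPGroup ρ' hker) hα
  obtain ⟨r, rfl⟩ := hcore'.ge hl
  refine ⟨r, MulEquiv.ext fun x => hcinj ?_⟩
  show c (r * x * r⁻¹) = c (ρ (c r) x)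
  rw [hρ, map_mul, map_mul, map_inv]

end Cfsg.FusionSystem

namespace Cfsg.FusionSystem

variable {Ω : Type u} [Group Ω] {S : Subgroup Ω} {F : FusionSystem S} {p : ℕ} [Fact p.Prime] [Finite S]

/-- A witness can be placed in the local system of a centric radical fully normalized subgroup. -/
theorem QdWitness.exists_radical (hF : F.IsSaturated p) (hS : IsPGroup p S) (h : F.QdWitness p) :
    ∃ (R : Subgroup Ω) (hR : R ≤ S), F.IsFullyNormalized R ∧ F.IsCentric R ∧ F.IsRadical p R ∧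
      (F.normalizerSystem R hR).QdWitness p := by
  classical
  set good : Set (Subgroup Ω) := {R | ∃ hR : R ≤ S, F.IsFullyNormalized R ∧ F.IsCentric R ∧
    (F.normalizerSystem R hR).QdWitness p} with hgood
  have hfin : good.Finite := (finite_setOf_le S).subset fun R hR => hR.1
  have hne : good.Nonempty := by
    obtain ⟨R, hR, h1, h2, h3⟩ := h.exists_centric hF hS
    exact ⟨R, hR, h1, h2, h3⟩
  obtain ⟨R, ⟨hRS, hfn, hc, hw⟩, hmax⟩ := Set.exists_max_image good (fun R => Nat.card R) hfin hne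
  refine ⟨R, hRS, hfn, hc, ?_, hw⟩
  by_contra hrad
  haveI := finite_normalizerIn (S := S) (P := R)
  set N := F.normalizerSystem R hRS with hN
  have hNn : N.IsNormal R := (F.normalizerSystem_isNormalizerSystem R hRS).isNormal hRS
  set C := N.core with hC
  have hCn : N.IsNormal C := isNormal_core N
  have hCS : C ≤ S := hCn.1.trans normalizerIn_le
  haveI : Finite C := finite_of_le hCS
  have hlt : R < C := lt_of_le_of_ne hNn.le_core fun e => hrad (hF.isRadical_of_core_normalizer hS hfn hc e.symm)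
  obtain ⟨C', hCC', hC'fn⟩ := F.exists_isFullyNormalized hCS
  obtain ⟨φ₀, hφ₀, hφ₀r, Ψ, hΨ, hΨN, hΨe⟩ := hF.exists_map_to_fullyNormalized hS hC'fn hCC'
  obtain ⟨Y, hY, e, he, hM⟩ := hw
  have hND : normalizerIn S R ≤ normalizerIn S C := fun x hx => ⟨hx.1, hCn.le_normalizer hx⟩
  have hYD : Y ≤ normalizerIn S C := hY.trans hND
  let c : Y →* Ω := Ψ.comp (Subgroup.inclusion hYD)
  have hcinj : Function.Injective c := (F.injective_of_mem hΨ).comp (Subgroup.inclusion_injective hYD)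
  let i : Y ≃* c.range := MonoidHom.ofInjective hcinj
  have hC'mem : C' ∈ good := by
    refine ⟨hC'fn.1, hC'fn, (isCentric_of_le hc hlt.le hCS).of_isConj hCC', c.range, ?_,
      e.comp i.symm.toMonoidHom, he.comp i.symm.surjective, fun M => ?_⟩
    · rintro _ ⟨y, rfl⟩
      exact hΨN _
    obtain ⟨α, hα, hαin, hαe⟩ := hM M
    obtain ⟨ψ, hψN, hψe, hψC⟩ := hCn.2 Y α hα
    have hψ : ψ ∈ F.Hom (Y ⊔ C) := hψN.1
    have hψD : ∀ x, ψ x ∈ normalizerIn S C := fun x => hND ((N.le_of_mem hψN).2 x)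
    have hCD : C ≤ normalizerIn S C := le_normalizerIn hCS
    have hYC : Y ⊔ C ≤ normalizerIn S C := sup_le hYD hCD
    let ΨR : ↥(Y ⊔ C) →* Ω := Ψ.comp (Subgroup.inclusion hYC)
    have hΨR : ΨR ∈ F.Hom (Y ⊔ C) := F.restrict_mem hΨ hYC
    obtain ⟨θ, hθ, -, hθl, -⟩ := F.exists_inv hΨR rfl
    have hθm : ∀ y, θ y ∈ Y ⊔ C := by
      rintro ⟨_, x, rfl⟩
      rw [show θ ⟨ΨR x, ⟨x, rfl⟩⟩ = (x : Ω) from hθl x _]
      exact x.2
    obtain ⟨ω, hω, hωe⟩ : ∃ ω : ΨR.range →* Ω, ω ∈ F.Hom ΨR.range ∧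
        ∀ (x : ↥(Y ⊔ C)), ω ⟨ΨR x, x, rfl⟩ = Ψ ⟨ψ x, hψD x⟩ := by
      refine ⟨_, F.comp_mem (F.comp_mem hθ hψ hθm) hΨ fun y => hψD _, fun x => ?_⟩
      exact congrArg Ψ (Subtype.ext (congrArg ψ (Subtype.ext (hθl x _))))
    have hcΨ : c.range ≤ ΨR.range := by
      rintro _ ⟨y, rfl⟩
      exact ⟨⟨y, Subgroup.mem_sup_left y.2⟩, rfl⟩
    have hC'Ψ : C' ≤ ΨR.range := by
      intro z hz
      obtain ⟨x, rfl⟩ := hφ₀r.ge hz
      exact ⟨⟨x, Subgroup.mem_sup_right x.2⟩, hΨe x _⟩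
    have hωc : ∀ y : Y, ω ⟨c y, hcΨ ⟨y, rfl⟩⟩ = c ⟨α y, hαin y⟩ := by
      intro y
      refine (hωe ⟨y, Subgroup.mem_sup_left y.2⟩).trans (congrArg Ψ (Subtype.ext ?_))
      exact hψe y
    have hin : ∀ y : c.range, ω ⟨y, hcΨ y.2⟩ ∈ c.range := by
      rintro ⟨_, y, rfl⟩
      rw [hωc]
      exact ⟨_, rfl⟩
    refine ⟨ω.comp (Subgroup.inclusion hcΨ), ⟨F.restrict_mem hω hcΨ, ?_, ?_, _,
      F.restrict_mem hω (sup_le hcΨ hC'Ψ), fun _ => rfl, ?_⟩, hin, ?_⟩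
    · rintro _ ⟨y, rfl⟩
      exact hΨN _
    · intro y
      obtain ⟨z, hz⟩ := hin y
      show ω ⟨y, hcΨ y.2⟩ ∈ _
      rw [← hz]
      exact hΨN _
    · apply le_antisymm
      · rintro _ ⟨⟨z, hz'⟩, hz, rfl⟩
        obtain ⟨x, rfl⟩ := hφ₀r.ge hz
        show ω ⟨φ₀ x, _⟩ ∈ C'
        rw [show (⟨φ₀ x, sup_le hcΨ hC'Ψ hz'⟩ : ΨR.range) = ⟨ΨR ⟨x, Subgroup.mem_sup_right x.2⟩, _, rfl⟩ from
          Subtype.ext (hΨe x _).symm, hωe]
        have hxC : ψ ⟨x, Subgroup.mem_sup_right x.2⟩ ∈ C := hψC.le ⟨_, x.2, rfl⟩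
        rw [hΨe ⟨_, hxC⟩ _]
        exact hφ₀r.le ⟨_, rfl⟩
      · intro z hz
        obtain ⟨x, rfl⟩ := hφ₀r.ge hz
        obtain ⟨w, hw', hwe⟩ := hψC.ge x.2
        have hwC : ΨR ⟨w, w.2⟩ ∈ C' := by
          show Ψ ⟨(w : Ω), _⟩ ∈ C'
          rw [hΨe ⟨w, hw'⟩ _]
          exact hφ₀r.le ⟨_, rfl⟩
        refine ⟨⟨_, Subgroup.mem_sup_right hwC⟩, hwC, ?_⟩
        show ω ⟨ΨR ⟨w, w.2⟩, _⟩ = φ₀ x
        rw [hωe, ← hΨe x (hCD x.2)]
        exact congrArg Ψ (Subtype.ext hwe)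
    · rintro ⟨_, y, rfl⟩
      show e (i.symm ⟨ω _, _⟩) = CfsgLib.QdSection.act M (e (i.symm (i y)))
      rw [MulEquiv.symm_apply_apply, ← hαe y]
      exact congrArg e (i.symm_apply_eq.mpr (Subtype.ext (hωc y)))
  have h1 := hmax C' hC'mem
  have h2 := hCC'.card_eq
  have h3 := card_lt_of_lt hlt
  omega

end Cfsg.FusionSystem
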