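import Cfsg.Prelude.Def_FusionComponents
import Cfsg.Agent.Lib.Fusion.QdFree
import Cfsg.Agent.Lib.Fusion.Series
import Cfsg.Agent.Lib.Fusion.Normal
import Cfsg.Agent.Lib.Fusion.Center

/-!
Subnormal subsystems of constrained systems.
-/

set_option autoImplicit false

universe u

namespace Cfsg

namespace FusionSystem

variable {Ω : Type u} [Group Ω] {p : ℕ} [Fact p.Prime]

theorem IsConstrained.isCentric_core {S : Subgroup Ω} {F : FusionSystem S} [Finite S]
    (hF : F.IsConstrained p) : F.IsCentric F.core := by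
  obtain ⟨-, Q, hQ, hQc⟩ := hF
  have hK := FusionSystem.isNormal_core F
  exact ⟨hK.1, fun R hR => by
    obtain ⟨φ, hφ, rfl⟩ := hR
    have hr : φ.range = F.core := by
      have := hK.stronglyClosed.map_eq hφ le_rfl
      rwa [Subgroup.subgroupOf_self, ← MonoidHom.range_eq_map] at this
    rw [hr]
    intro x hx
    refine hQ.le_core (hQc.centralizerIn_le_self ⟨hx.1, ?_⟩)
    exact Subgroup.centralizer_le hQ.le_core hx.2⟩

theorem IsConstrained.isRadical_core {S : Subgroup Ω} {F : FusionSystem S} [Finite S]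
    (hS : IsPGroup p S) (hF : F.IsConstrained p) : F.IsRadical p F.core := by
  have hK := FusionSystem.isNormal_core F
  have hfn : F.IsFullyNormalized F.core := by
    refine ⟨hK.1, fun R hR => ?_⟩
    rw [show normalizerIn S F.core = S from inf_eq_left.mpr hK.le_normalizer]
    exact Nat.card_le_card_of_injective (Subgroup.inclusion (inf_le_left : normalizerIn S R ≤ S))
      (Subgroup.inclusion_injective _)
  refine hF.1.isRadical_of_core_normalizer hS hfn hF.isCentric_core ?_
  haveI := finite_normalizerIn (S := S) (P := F.core)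
  set N := F.normalizerSystem F.core hfn.1
  have hNs := F.normalizerSystem_isNormalizerSystem F.core hfn.1
  refine le_antisymm ?_ (hNs.isNormal hfn.1).le_core
  have hC := FusionSystem.isNormal_core N
  refine IsNormal.le_core ⟨hC.1.trans normalizerIn_le, fun P φ hφ => ?_⟩
  obtain ⟨ψ, hψ, he, hm⟩ := hC.2 P φ (by rw [hNs P, ← hK.hom_eq_normalizerHom]; exact hφ)
  exact ⟨ψ, by rw [hK.hom_eq_normalizerHom, ← hNs]; exact hψ, he, hm⟩

/-- Saturated subsystems over strongly closed subgroups inherit being constrained. -/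
theorem IsConstrained.of_subsystem {S T : Subgroup Ω} {F : FusionSystem S} {E : FusionSystem T} [Finite S]
    (hS : IsPGroup p S) (hF : F.IsConstrained p) (hE : E.IsSaturated p) (hsub : E.IsSubsystemOf F)
    (hT : F.StronglyClosed T) : E.IsConstrained p := by
  have hK := FusionSystem.isNormal_core F
  have hc := hF.isCentric_core
  have hr := hF.isRadical_core hS
  haveI := finite_of_le hT.1
  haveI := finite_of_le hK.1
  haveI : Group.IsNilpotent F.core := (hS.to_le hK.1).isNilpotent
  obtain ⟨n, hn⟩ := Group.IsNilpotent.nilpotent F.core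
  have hscT : ∀ {X : Subgroup Ω}, F.StronglyClosed X → E.StronglyClosed (T ⊓ X) := fun {X} hX =>
    ⟨inf_le_left, fun P hP φ hφ y =>
      ⟨E.apply_mem hφ y, hX.2 P (hP.trans inf_le_right) φ (hsub P hφ) y⟩⟩
  let Z : ℕ → Subgroup Ω := fun i => (Subgroup.upperCentralSeries F.core i).map F.core.subtype
  have hZ : ∀ i, F.StronglyClosed (Z i) := by
    intro i
    refine (hK.of_characteristic (Subgroup.map_subtype_le _) ?_).stronglyClosed
    rw [Subgroup.subgroupOf, Subgroup.comap_map_eq_self_of_injective F.core.subtype_injective]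
    infer_instance
  have hTK : E.IsNormal (T ⊓ F.core) := by
    refine hE.isNormal_of_series (hS.to_le hT.1) (n := n) (fun i => T ⊓ Z i) ?_ ?_ ?_
      fun i => ⟨hscT (hZ _), ?_⟩
    · simp [Z]
    · simp [Z, hn, ← MonoidHom.range_eq_map]
    · intro i j hij
      exact inf_le_inf_left _ (Subgroup.map_mono (Subgroup.upperCentralSeries_mono _ hij))
    · refine Subgroup.commutator_le.mpr fun a ha b hb => ?_
      obtain ⟨y, hy, hyb⟩ := hb.2
      refine ⟨T.mul_mem (T.mul_mem (T.mul_mem ha.1 hb.1) (T.inv_mem ha.1)) (T.inv_mem hb.1), ?_⟩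
      subst hyb
      have h1 := InvMemClass.inv_mem ((Subgroup.mem_upperCentralSeries_succ_iff.mp hy) ⟨a, ha.2⟩)
      exact ⟨_, h1, by simp [commutatorElement_def, mul_assoc]⟩
  refine ⟨hE, T ⊓ F.core, hTK, inf_le_left, fun R hR => ?_⟩
  obtain ⟨φ, hφ, rfl⟩ := hR
  have hrange : φ.range = T ⊓ F.core := by
    have := (hscT hK.stronglyClosed).map_eq hφ le_rfl
    rwa [Subgroup.subgroupOf_self, ← MonoidHom.range_eq_map] at this
  rw [hrange]
  rintro x ⟨hxT, hxC⟩
  refine ⟨hxT, ?_⟩
  refine mem_of_invariant_series hS hc hr (m := 2) ![⊥, T.subgroupOf F.core, ⊤] rfl rfl ?_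
    ⟨hT.1 hxT, hK.le_normalizer (hT.1 hxT)⟩ ?_
  · intro α hα i y hy
    fin_cases i
    · have : y = 1 := Subgroup.mem_bot.mp hy
      subst this
      simp
    · obtain ⟨χ, hχ, -, he⟩ := F.exists_map_of_mem_autGroup hK.1 hα
      show ((α y : F.core) : Ω) ∈ T
      rw [← he]
      exact hT.2 _ inf_le_left _ (F.restrict_mem hχ (inf_le_right : T ⊓ F.core ≤ F.core)) ⟨y, hy, y.2⟩
    · exact Subgroup.mem_top _
  · intro i y hy h
    fin_cases i
    · show y⁻¹ * _ ∈ (⊥ : Subgroup F.core)
      rw [Subgroup.mem_bot, inv_mul_eq_one]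
      have hyT : (y : Ω) ∈ T := hy
      exact Subtype.ext (by
        show (y : Ω) = x * y * x⁻¹
        rw [← (Subgroup.mem_centralizer_iff.mp hxC (y : Ω) ⟨hyT, y.2⟩), mul_inv_cancel_right])
    · show (y : Ω)⁻¹ * (x * y * x⁻¹) ∈ T
      have hyS : (y : Ω) ∈ S := hK.1 y.2
      have h1 := (Subgroup.mem_normalizer_iff''.mp (hT.le_normalizer hyS) x).mp hxT
      simpa [mul_assoc] using T.mul_mem h1 (T.inv_mem hxT)

theorem IsConstrained.of_isSubnormalIn {T S : Subgroup Ω} {E : FusionSystem T} {F : FusionSystem S} [Finite S]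
    (hS : IsPGroup p S) (hF : F.IsConstrained p) (hE : E.IsSubnormalIn F p) : E.IsConstrained p := by
  revert hS hF
  revert ‹Finite S›
  revert ‹Fact p.Prime›
  induction hE with
  | refl => intro _ _ _ h; exact h
  | step h1 h2 ih =>
    intro _ _ hS hF
    obtain ⟨⟨hDsat, -, hsub, hU, -, -⟩, -⟩ := h2
    haveI := finite_of_le hU.1
    exact ih (hS.to_le hU.1) (hF.of_subsystem hS hDsat hsub hU)

end FusionSystem

end Cfsg
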