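import Cfsg.Agent.Lib.Fusion.Alperin
import Cfsg.Agent.Lib.Fusion.Hyperfocal
import Cfsg.Agent.S5118

/-!
The residual subsystem of a group fusion system.
-/

set_option autoImplicit false

universe u

namespace Cfsg

namespace FusionSystem

section

variable {Ω : Type*} [Group Ω] {S : Subgroup Ω} {p : ℕ} [Fact p.Prime] [Finite S]

/-- Alperin's theorem with the automisers split as residual part and Sylow part. -/
theorem IsSaturated.le_of_pResidual_le {F E : FusionSystem S} (hF : F.IsSaturated p) (hS : IsPGroup p S)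
    (h : ∀ P, P ≤ S → (pResidual p (F.autGroup P)).map (F.autGroup P).subtype ≤ E.autGroup P) : F ≤ E := by
  refine hF.le_of_autGroup_le hS E fun P hP => ?_
  have hn : F.IsFullyNormalized P := by
    rcases hP with rfl | hP
    · refine ⟨le_rfl, fun Q hQ => ?_⟩
      refine le_trans (Nat.card_le_card_of_injective (Subgroup.inclusion (inf_le_left : normalizerIn P Q ≤ P))
        (Subgroup.inclusion_injective _)) (le_of_eq ?_)
      rw [normalizerIn, inf_eq_left.mpr Subgroup.le_normalizer]
    · exact hP.2.1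
  obtain ⟨hPS, T, hT⟩ := hF.isFullyAutomized_of_isFullyNormalized hS hn
  have := finite_autGroup (F := F) hPS
  intro α hα
  have h1 : (⟨α, hα⟩ : F.autGroup P) ∈ (T : Subgroup (F.autGroup P)) ⊔ pResidual p (F.autGroup P) := by
    rw [CfsgLib.Transfer.sylow_sup_pResidual T]
    exact Subgroup.mem_top _
  have h2 : ((T : Subgroup (F.autGroup P)) ⊔ pResidual p (F.autGroup P)) ≤
      (E.autGroup P).comap (F.autGroup P).subtype := by
    refine sup_le ?_ (Subgroup.map_le_iff_le_comap.mp (h P hPS))
    rw [hT]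
    exact fun x hx => autInducedBy_le_autGroup hPS hx
  exact h2 h1

end

variable {G : Type u} [Group G] [Finite G] {p : ℕ} [Fact p.Prime]

/-- A saturated subsystem containing the residual automisers is the system of the residual group. -/
theorem eq_fusionSystemOfSubgroup_pResidual (S : Sylow p G) {T : Subgroup G}
    (hT : T = (S : Subgroup G) ⊓ pResidual p G) (E : FusionSystem T) (hE : E.IsSaturated p)
    (hsub : E.IsSubsystemOf (groupFusionSystem (S : Subgroup G)))
    (hidx : ∀ P : Subgroup G, P ≤ T → (pResidual p ((groupFusionSystem (S : Subgroup G)).autGroup P)).map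
      ((groupFusionSystem (S : Subgroup G)).autGroup P).subtype ≤ E.autGroup P) :
    ∃ h : (S : Subgroup G) ⊓ pResidual p G ≤ pResidual p G, ∀ P : Subgroup G,
      E.Hom P = (fusionSystemOfSubgroup (pResidual p G) ((S : Subgroup G) ⊓ pResidual p G) h).Hom P := by
  subst hT
  refine ⟨inf_le_right, fun P => ?_⟩
  have hTp : IsPGroup p ↥((S : Subgroup G) ⊓ pResidual p G) := S.2.to_le inf_le_left
  set D := fusionSystemOfSubgroup (pResidual p G) ((S : Subgroup G) ⊓ pResidual p G) inf_le_right
  set F := groupFusionSystem (S : Subgroup G)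
  have hDn : D.IsNormalIn F p := Cfsg.Agent.S5118.aux p S (pResidual p G)
  have hDE : D ≤ E := hDn.1.1.le_of_pResidual_le hTp fun Q hQ => by
    refine le_trans ?_ (hidx Q hQ)
    rw [Subgroup.map_le_iff_le_comap]
    refine (Subgroup.closure_le _).mpr ?_
    intro α hα
    have hαF : (α : MulAut Q) ∈ F.autGroup Q := by
      rw [F.mem_autGroup_iff (hQ.trans inf_le_left)]
      exact hDn.1.2.2.1 Q ((D.mem_autGroup_iff hQ).mp α.2)
    exact ⟨⟨α, hαF⟩, Subgroup.subset_closure (show Nat.Coprime _ p by
      rw [← Subgroup.orderOf_coe]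
      exact (Subgroup.orderOf_coe α).symm ▸ hα), rfl⟩
  have hED : E ≤ D := hE.le_of_pResidual_le hTp fun Q hQ => by
    rw [Subgroup.map_le_iff_le_comap]
    refine (Subgroup.closure_le _).mpr ?_
    intro α hα
    have hp : (orderOf (α : MulAut Q)).Coprime p := by rw [Subgroup.orderOf_coe]; exact hα
    obtain ⟨-, hmem, g, hg⟩ := hsub Q ((E.mem_autGroup_iff hQ).mp α.2)
    replace hg : ∀ x : Q, (((α : MulAut Q) x : Q) : G) = g * (x : G) * g⁻¹ := hg
    have hq : (p ^ (orderOf g).factorization p).Coprime (orderOf (α : MulAut Q)) :=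
      (Nat.Coprime.pow_right _ hp).symm
    let m : ℕ := Nat.chineseRemainder hq 0 1
    obtain ⟨hm1, hm2⟩ := (Nat.chineseRemainder hq 0 1).2
    have hα' : (α : MulAut Q) ^ m = (α : MulAut Q) := by
      conv_rhs => rw [← pow_one (α : MulAut Q)]
      exact pow_eq_pow_iff_modEq.mpr hm2
    have hcop : (orderOf (g ^ m)).Coprime p := by
      obtain ⟨t, ht⟩ := Nat.modEq_zero_iff_dvd.mp hm1
      rw [show m = p ^ (orderOf g).factorization p * t from ht, pow_mul]
      refine Nat.Coprime.coprime_dvd_left (orderOf_pow_dvd _) ?_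
      rw [orderOf_pow, Nat.gcd_eq_right (Nat.ordProj_dvd _ _)]
      exact (Nat.coprime_ordCompl Fact.out (orderOf_pos g).ne').symm
    refine (D.mem_autGroup_iff hQ).mpr ⟨hQ, fun x => hQ ((α : MulAut Q) x).2, g ^ m,
      CfsgLib.Transfer.mem_pResidual_of_coprime hcop, fun x => ?_⟩
    show (((α : MulAut Q) x : Q) : G) = _
    rw [← conj_pow_apply hg m x, hα']
  exact le_antisymm (hED P) (hDE P)

end FusionSystem

end Cfsg
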