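import Cfsg.Agent.Lib.Fusion.Invariant
import Cfsg.Agent.Lib.Fusion.Center
import Cfsg.Agent.Lib.Fusion.Normal

/-!
Normal subgroups of an invariant subsystem.
-/

set_option autoImplicit false

namespace Cfsg

namespace FusionSystem

variable {Ω : Type*} [Group Ω] {S : Subgroup Ω} {F : FusionSystem S} {T : Subgroup Ω}
  {E : FusionSystem T}

/-- The image of a subgroup of `T` under an automorphism of `T`. -/
def autImage (α : MulAut T) (X : Subgroup Ω) : Subgroup Ω :=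
  (X.subgroupOf T).map (T.subtype.comp α.toMonoidHom)

theorem mem_autImage {α : MulAut T} {X : Subgroup Ω} (hX : X ≤ T) {x : Ω} (hx : x ∈ X) :
    ((α ⟨x, hX hx⟩ : T) : Ω) ∈ autImage α X := ⟨⟨x, hX hx⟩, hx, rfl⟩

theorem autImage_le (α : MulAut T) (X : Subgroup Ω) : autImage α X ≤ T := by
  rintro _ ⟨x, -, rfl⟩
  exact (α x).2

/-- Automorphisms of `T` in `F` carry normal subgroups of `E` to normal subgroups. -/
theorem IsInvariantIn.isNormal_autImage (h : E.IsInvariantIn F) {K : Subgroup Ω} (hK : E.IsNormal K)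
    {α : MulAut T} (hα : α ∈ F.autGroup T) : E.IsNormal (autImage α K) := by
  have hT := h.2.1.1
  have hs := h.strongInvariance
  refine ⟨autImage_le α K, fun P φ hφ => ?_⟩
  have hPT : P ≤ T := E.source_le hφ
  have hb : T.subtype.comp (α⁻¹).toMonoidHom ∈ F.Hom T :=
    (F.mem_autGroup_iff hT).mp ((F.autGroup T).inv_mem hα)
  have ha : T.subtype.comp α.toMonoidHom ∈ F.Hom T := (F.mem_autGroup_iff hT).mp hα
  obtain ⟨χ, hχ, hχe⟩ := hs P T hPT le_rfl φ hφ (E.apply_mem hφ) _ hb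
  obtain ⟨ψ', hψ', hψe, hψK⟩ := hK.2 _ χ hχ
  have hRT : autImage α⁻¹ P ⊔ K ≤ T := sup_le (autImage_le _ _) hK.1
  obtain ⟨χ', hχ', hχ'e⟩ := hs (autImage α⁻¹ P ⊔ K) T hRT le_rfl ψ' hψ' (E.apply_mem hψ') _ ha
  have hinv : ∀ (x : Ω) (hx : x ∈ T), α (α⁻¹ ⟨x, hx⟩) = ⟨x, hx⟩ := fun x hx =>
    α.apply_symm_apply _
  have hle : P ⊔ autImage α K ≤ ((autImage α⁻¹ P ⊔ K).subgroupOf T).map (T.subtype.comp α.toMonoidHom) := by
    refine sup_le (fun x hx => ?_) (Subgroup.map_mono (Subgroup.comap_mono le_sup_right))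
    exact ⟨α⁻¹ ⟨x, hPT hx⟩, Subgroup.mem_sup_left (mem_autImage hPT hx),
      congrArg Subtype.val (hinv x (hPT hx))⟩
  have hmove : ∀ (y : Ω) (hy : y ∈ P ⊔ autImage α K) (z : ↥(autImage α⁻¹ P ⊔ K)),
      ((α ⟨z, hRT z.2⟩ : T) : Ω) = y →
      χ'.comp (Subgroup.inclusion hle) ⟨y, hy⟩ = ((α ⟨ψ' z, E.apply_mem hψ' z⟩ : T) : Ω) := by
    intro y hy z hz
    have hmem : ((α ⟨z, hRT z.2⟩ : T) : Ω) ∈
        ((autImage α⁻¹ P ⊔ K).subgroupOf T).map (T.subtype.comp α.toMonoidHom) :=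
      ⟨⟨z, hRT z.2⟩, z.2, rfl⟩
    exact (congrArg χ' (Subtype.ext hz.symm : Subgroup.inclusion hle ⟨y, hy⟩ = ⟨_, hmem⟩)).trans
      (hχ'e z hmem)
  refine ⟨_, E.restrict_mem hχ' hle, fun x => ?_, ?_⟩
  · let z : ↥(autImage α⁻¹ P ⊔ K) :=
      Subgroup.inclusion le_sup_left ⟨_, mem_autImage (α := α⁻¹) hPT x.2⟩
    refine (hmove x _ z (congrArg Subtype.val (hinv x (hPT x.2)))).trans ?_
    have h1 : ψ' z = ((α⁻¹ ⟨φ x, E.apply_mem hφ x⟩ : T) : Ω) :=
      (hψe _).trans (hχe x (mem_autImage hPT x.2))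
    rw [show (⟨ψ' z, E.apply_mem hψ' z⟩ : T) = α⁻¹ ⟨φ x, E.apply_mem hφ x⟩ from Subtype.ext h1,
      hinv]
  · ext y
    constructor
    · rintro ⟨⟨w, hw⟩, hwK, rfl⟩
      obtain ⟨k, hk, hkw⟩ : w ∈ autImage α K := hwK
      let z : ↥(autImage α⁻¹ P ⊔ K) := Subgroup.inclusion le_sup_right ⟨(k : Ω), hk⟩
      rw [hmove w hw z hkw]
      exact mem_autImage hK.1 (hψK.le ⟨z, hk, rfl⟩)
    · rintro ⟨k, hk, rfl⟩
      obtain ⟨z, hz, hze⟩ := hψK.ge hk
      refine ⟨⟨((α ⟨z, hRT z.2⟩ : T) : Ω), Subgroup.mem_sup_right ⟨⟨z, hRT z.2⟩, hz, rfl⟩⟩,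
        ⟨⟨z, hRT z.2⟩, hz, rfl⟩, ?_⟩
      refine (hmove _ _ z rfl).trans ?_
      show _ = ((α k : T) : Ω)
      congr 2
      exact Subtype.ext hze

/-- The largest normal subgroup of `E` is invariant under the automorphisms of `T` in `F`. -/
theorem IsInvariantIn.core_apply_mem [Finite T] (h : E.IsInvariantIn F) {α : MulAut T}
    (hα : α ∈ F.autGroup T) {x : Ω} (hx : x ∈ E.core) :
    ((α ⟨x, (isNormal_core E).1 hx⟩ : T) : Ω) ∈ E.core :=
  (h.isNormal_autImage (isNormal_core E) hα).le_core (mem_autImage _ hx)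

/-- An invariant normal subgroup of `E` is strongly closed in `F`. -/
theorem IsInvariantIn.stronglyClosed_of_isNormal (h : E.IsInvariantIn F) {X : Subgroup Ω}
    (hX : E.IsNormal X)
    (hα : ∀ α ∈ F.autGroup T, ∀ (x : Ω) (hx : x ∈ X), ((α ⟨x, hX.1 hx⟩ : T) : Ω) ∈ X) :
    F.StronglyClosed X := by
  refine ⟨hX.1.trans h.2.1.1, fun P hP φ hφ x => ?_⟩
  obtain ⟨α, ha, φ₀, hφ₀, he⟩ := h.2.2.2 P (hP.trans hX.1) φ hφ
  rw [he x (E.apply_mem hφ₀ x)]
  exact hα α ha _ (hX.stronglyClosed.2 P hP φ₀ hφ₀ x)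

/-- The largest normal subgroup of an invariant subsystem is normal. -/
theorem IsInvariantIn.isNormal_core {p : ℕ} [Fact p.Prime] [Finite S] (h : E.IsInvariantIn F)
    (hF : F.IsSaturated p) (hS : IsPGroup p S) : F.IsNormal E.core := by
  haveI := finite_of_le h.2.1.1
  have hK := FusionSystem.isNormal_core E
  have hKS : E.core ≤ S := hK.1.trans h.2.1.1
  haveI := finite_of_le hKS
  haveI : Group.IsNilpotent E.core := (hS.to_le hKS).isNilpotent
  obtain ⟨n, hn⟩ := Group.IsNilpotent.nilpotent E.core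
  let C : ℕ → Subgroup Ω := fun i => (Subgroup.upperCentralSeries E.core i).map E.core.subtype
  have hC : ∀ i, F.StronglyClosed (C i) := by
    intro i
    have hCK : C i ≤ E.core := Subgroup.map_subtype_le _
    have hchar : ((C i).subgroupOf E.core).Characteristic := by
      rw [Subgroup.subgroupOf, Subgroup.comap_map_eq_self_of_injective E.core.subtype_injective]
      infer_instance
    refine h.stronglyClosed_of_isNormal (hK.of_characteristic hCK hchar) fun α ha x hx => ?_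
    have hmem : ∀ y : E.core, ((α ⟨y, hK.1 y.2⟩ : T) : Ω) ∈ E.core := fun y => h.core_apply_mem ha y.2
    let f : E.core →* E.core :=
      ((T.subtype.comp α.toMonoidHom).comp (Subgroup.inclusion hK.1)).codRestrict E.core hmem
    have hf : Function.Injective f := fun a b hab => by
      have h1 : α ⟨a, hK.1 a.2⟩ = α ⟨b, hK.1 b.2⟩ :=
        Subtype.ext (congrArg (fun z : E.core => (z : Ω)) hab :)
      exact Subtype.ext (congrArg (fun z : T => (z : Ω)) (α.injective h1) :)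
    let e : MulAut E.core := MulEquiv.ofBijective f ⟨hf, Finite.surjective_of_injective hf⟩
    have := (Subgroup.characteristic_iff_map_eq.mp hchar) e
    exact this.le ⟨⟨x, hCK hx⟩, hx, rfl⟩
  refine hF.isNormal_of_series hS (n := n) (fun i => C i) ?_ ?_ ?_ fun i => ⟨hC _, ?_⟩
  · simp [C]
  · simp [C, hn, ← MonoidHom.range_eq_map]
  · intro i j hij
    exact Subgroup.map_mono (Subgroup.upperCentralSeries_mono _ hij)
  · refine Subgroup.commutator_le.mpr fun a ha b hb => ?_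
    obtain ⟨y, hy, rfl⟩ := hb
    have h1 := InvMemClass.inv_mem ((Subgroup.mem_upperCentralSeries_succ_iff.mp hy) ⟨a, ha⟩)
    exact ⟨_, h1, by simp [commutatorElement_def, mul_assoc]⟩

/-- The closure of the images of a normal subgroup of an invariant subsystem is normal. -/
theorem IsInvariantIn.isNormal_closure {p : ℕ} [Fact p.Prime] [Finite S] (h : E.IsInvariantIn F)
    (hF : F.IsSaturated p) (hS : IsPGroup p S) {R : Subgroup Ω} (hR : E.IsNormal R) :
    F.IsNormal (Subgroup.closure {x : Ω | ∃ φ ∈ F.Hom R, ∃ r : R, x = φ r}) := by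
  have hK := h.isNormal_core hF hS
  set Q := Subgroup.closure {x : Ω | ∃ φ ∈ F.Hom R, ∃ r : R, x = φ r} with hQ
  have hQK : Q ≤ E.core := (Subgroup.closure_le _).mpr <| by
    rintro _ ⟨φ, hφ, r, rfl⟩
    exact hK.stronglyClosed.2 R hR.le_core φ hφ r
  refine ⟨hQK.trans hK.1, fun P φ hφ => ?_⟩
  obtain ⟨ψ, hψ, hψe, hψK⟩ := hK.2 P φ hφ
  have hle : P ⊔ Q ≤ P ⊔ E.core := sup_le_sup_left hQK P
  refine ⟨_, F.restrict_mem hψ hle, fun x => hψe x, ?_⟩
  haveI := finite_of_le (hQK.trans hK.1)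
  have hto : ∀ y : Q, ψ ⟨y, Subgroup.mem_sup_right (hQK y.2)⟩ ∈ Q := by
    have : Q ≤ ((Q.comap ψ).map (P ⊔ E.core).subtype) := by
      refine (Subgroup.closure_le _).mpr ?_
      rintro _ ⟨χ, hχ, r, rfl⟩
      have hχK : ∀ r : R, χ r ∈ P ⊔ E.core := fun r =>
        Subgroup.mem_sup_right (hQK (Subgroup.subset_closure ⟨χ, hχ, r, rfl⟩))
      exact ⟨⟨χ r, hχK r⟩, Subgroup.subset_closure ⟨_, F.comp_mem hχ hψ hχK, r, rfl⟩, rfl⟩
    intro y
    obtain ⟨z, hz, hze⟩ := this y.2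
    rwa [show (⟨(y : Ω), Subgroup.mem_sup_right (hQK y.2)⟩ : ↥(P ⊔ E.core)) = z from Subtype.ext hze.symm]
  let f : Q → Q := fun y => ⟨_, hto y⟩
  have hf : Function.Bijective f := Finite.injective_iff_bijective.mp fun a b hab =>
    Subtype.ext (congrArg Subtype.val (F.injective_of_mem hψ (congrArg Subtype.val hab)) :)
  ext y
  constructor
  · rintro ⟨x, hx, rfl⟩
    exact hto ⟨x, hx⟩
  · intro hy
    obtain ⟨x, hx⟩ := hf.2 ⟨y, hy⟩
    exact ⟨⟨x, Subgroup.mem_sup_right x.2⟩, x.2, congrArg Subtype.val hx⟩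

end FusionSystem

end Cfsg
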