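import Cfsg.Agent.Lib.Fusion.CentralLift.Normal
import Cfsg.Agent.Lib.Fusion.CoreCent.Component
import Cfsg.Agent.Lib.Fusion.InvariantNormal
import Cfsg.Agent.Lib.Fusion.ConstrainedSubnormal
import Cfsg.Agent.Lib.Fusion.GroupResidual
import Cfsg.Agent.Lib.Fusion.IndexPower.Main
import Cfsg.Agent.Lib.Fusion.PPowerNormal
import Cfsg.Agent.Lib.Fusion.Transfer.Tate
import Cfsg.Agent.S5133
import Cfsg.Agent.S5134

/-!
A saturated system is constrained exactly when it has no component.
-/

set_option autoImplicit false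
set_option linter.unusedSectionVars false
set_option linter.style.haveILetI false

namespace Cfsg.FusionSystem.Components

open Cfsg.FusionSystem.SubCent

universe u

variable {Ω : Type u} [Group Ω] {S T U : Subgroup Ω} {F : FusionSystem S} {D : FusionSystem U} {p : ℕ}

theorem subnormal_basic {E : FusionSystem T} (hE : E.IsSubnormalIn F p) :
    (F.IsSaturated p → E.IsSaturated p) ∧ E.IsSubsystemOf F ∧ T ≤ S := by
  induction hE with
  | refl F p => exact ⟨id, fun P φ h => h, le_rfl⟩
  | step h1 h2 ih =>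
    obtain ⟨h1', h2', h3'⟩ := ih
    exact ⟨fun _ => h1' h2.1.1, fun P φ h => h2.1.2.2.1 P (h2' P h), h3'.trans h2.1.2.2.2.1.1⟩

theorem subnormal_trans {E : FusionSystem T} {G : FusionSystem U} (hE : E.IsSubnormalIn G p)
    (hG : G.IsSubnormalIn F p) : E.IsSubnormalIn F p := by
  induction hG with
  | refl => exact hE
  | step _ h2 ih => exact .step (ih hE) h2

/-- The maps of a system, as one set. -/
def allMaps (D : FusionSystem U) : Set (Σ P : Subgroup Ω, P →* Ω) := {x | x.2 ∈ D.Hom x.1}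

theorem allMaps_finite [Finite S] (hU : U ≤ S) (D : FusionSystem U) : (allMaps D).Finite := by
  haveI := finite_of_le hU
  refine Set.Finite.of_finite_image (f := fun x : Σ P : Subgroup Ω, P →* Ω =>
    {y : U × U | ∃ h : (y.1 : Ω) ∈ x.1, x.2 ⟨y.1, h⟩ = y.2}) (Set.toFinite _) ?_
  rintro ⟨P, φ⟩ hφ ⟨Q, ψ⟩ hψ he
  have hφ' : φ ∈ D.Hom P := hφ
  have hψ' : ψ ∈ D.Hom Q := hψ
  have he' : ∀ y : U × U, (∃ h : (y.1 : Ω) ∈ P, φ ⟨y.1, h⟩ = y.2) ↔ ∃ h : (y.1 : Ω) ∈ Q, ψ ⟨y.1, h⟩ = y.2 :=
    fun y => Set.ext_iff.mp he y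
  obtain rfl : P = Q := by
    ext x
    constructor
    · intro hx
      exact ((he' (⟨x, D.source_le hφ' hx⟩, ⟨_, D.apply_mem hφ' ⟨x, hx⟩⟩)).mp ⟨hx, rfl⟩).1
    · intro hx
      exact ((he' (⟨x, D.source_le hψ' hx⟩, ⟨_, D.apply_mem hψ' ⟨x, hx⟩⟩)).mpr ⟨hx, rfl⟩).1
  congr 1
  refine MonoidHom.ext fun x => ?_
  obtain ⟨_, h⟩ := (he' (⟨(x : Ω), D.source_le hφ' x.2⟩, ⟨φ x, D.apply_mem hφ' x⟩)).mp ⟨x.2, rfl⟩
  exact h.symm

variable [Fact p.Prime]

/-- The least member: every proper normal subsystem is constrained. -/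
theorem exists_minimal [Finite S] (hF : F.IsSaturated p) (hnc : ¬ F.IsConstrained p) :
    ∃ (U : Subgroup Ω) (D : FusionSystem U), D.IsSubnormalIn F p ∧ ¬ D.IsConstrained p ∧
      ∀ (T : Subgroup Ω) (E : FusionSystem T), E.IsNormalIn D p →
        (T = U ∧ ∀ P, D.Hom P ⊆ E.Hom P) ∨ E.IsConstrained p := by
  have hex : ∃ n : ℕ, ∃ (U : Subgroup Ω) (D : FusionSystem U), D.IsSubnormalIn F p ∧ ¬ D.IsConstrained p ∧
      (allMaps D).ncard = n := ⟨_, S, F, .refl F p, hnc, rfl⟩
  classical
  obtain ⟨U, D, hD, hDc, hDn⟩ := Nat.find_spec hex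
  refine ⟨U, D, hD, hDc, fun T E hE => ?_⟩
  by_contra hcon
  obtain ⟨h1, h2⟩ := not_or.mp hcon
  have hEs : E.IsSubnormalIn F p := subnormal_trans (.step (.refl E p) hE) hD
  have hsub := hE.1.2.2.1
  have hlt : (allMaps E).ncard < (allMaps D).ncard := by
    refine Set.ncard_lt_ncard ⟨fun x hx => hsub _ hx, fun hle => h1 ?_⟩
      (allMaps_finite (subnormal_basic hD).2.2 D)
    refine ⟨le_antisymm hE.1.2.2.2.1.1 ?_, fun P φ hφ => hle (a := ⟨P, φ⟩) hφ⟩
    exact E.source_le (hle (a := ⟨U, _⟩) (D.id_mem le_rfl))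
  exact Nat.find_min hex (hDn ▸ hlt) ⟨T, E, hEs, h2, rfl⟩

/-- A constrained subsystem of the normal part lies in the centre. -/
theorem carrier_le_center [Finite U] (hU : IsPGroup p U) (hD : D.IsSaturated p) (hcore : D.core ≤ D.center)
    {E : FusionSystem T} (hE : E.IsNormalIn D p) (hEc : E.IsConstrained p) : T ≤ D.center := by
  haveI := finite_of_le hE.1.2.2.2.1.1
  have hK : E.core ≤ D.center := ((hE.1.2.2.isNormal_core hD hU).le_core).trans hcore
  intro t ht
  refine hK (hEc.isCentric_core.centralizerIn_le_self ⟨ht, Subgroup.mem_centralizer_iff.mpr fun x hx => ?_⟩)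
  exact (Subgroup.mem_centralizer_iff.mp (D.center_le_centralizer (hK hx)) t (hE.1.2.2.2.1.1 ht)).symm

/-- In a minimal member the largest normal subgroup is central. -/
theorem core_le_center_of_minimal [Finite U] (hU : IsPGroup p U) (hD : D.IsSaturated p) (hnc : ¬ D.IsConstrained p)
    (hmin : ∀ (T : Subgroup Ω) (E : FusionSystem T), E.IsNormalIn D p →
      (T = U ∧ ∀ P, D.Hom P ⊆ E.Hom P) ∨ E.IsConstrained p) : D.core ≤ D.center := by
  have hR := FusionSystem.isNormal_core D
  have hK := CoreCent.isNormalIn_centralizerSystem hU hD hR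
  rcases hmin _ _ hK with ⟨-, hall⟩ | hc
  · refine IsCentral.le_center ⟨hR.1, fun P φ hφ => ?_⟩
    obtain ⟨-, -, -, ψ, hψ, h1, h2⟩ := hall P hφ
    exact ⟨ψ, hψ, h1, h2⟩
  · exfalso
    apply hnc
    haveI := finite_of_le (centralizerIn_le (S := U) (P := D.core))
    have hle := (hK.1.2.2.isNormal_core hD hU).le_core
    have hCR : centralizerIn U D.core ≤ D.core := fun t ht => hle (hc.isCentric_core.centralizerIn_le_self
      ⟨ht, Subgroup.centralizer_le hle ht.2⟩)
    refine ⟨hD, D.core, hR, hR.1, fun Q hQ => ?_⟩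
    obtain ⟨φ, hφ, rfl⟩ := hQ
    have hr : φ.range = D.core := by
      have := hR.stronglyClosed.map_eq hφ le_rfl
      rwa [Subgroup.subgroupOf_self, ← MonoidHom.range_eq_map] at this
    rwa [hr]

/-- In a minimal member the hyperfocal subgroup is everything. -/
theorem hyperfocal_eq_of_minimal [Finite U] (hU : IsPGroup p U) (hD : D.IsSaturated p) (hnc : ¬ D.IsConstrained p)
    (hcore : D.core ≤ D.center)
    (hmin : ∀ (T : Subgroup Ω) (E : FusionSystem T), E.IsNormalIn D p →
      (T = U ∧ ∀ P, D.Hom P ⊆ E.Hom P) ∨ E.IsConstrained p) : D.hyperfocalSubgroup p = U := by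
  obtain ⟨E, hEs, hidx⟩ := hD.exists_pPowerIndex hU (T := D.hyperfocalSubgroup p) hyperfocalSubgroup_le le_rfl
  have hEn : E.IsNormalIn D p :=
    hD.isNormalIn_of_pPowerIndex hU hEs hyperfocalSubgroup_le normal_hyperfocal hidx
  rcases hmin _ _ hEn with ⟨h, -⟩ | hc
  · exact h
  exfalso
  apply hnc
  have hHZ : D.hyperfocalSubgroup p ≤ D.center := carrier_le_center hU hD hcore hEn hc
  have hle : D ≤ innerFusionSystem U := hD.le_of_pResidual_le hU fun P hP => by
    rw [pResidual, Subgroup.map_le_iff_le_comap, Subgroup.closure_le]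
    rintro ⟨α, hα⟩ hord
    replace hord : (orderOf α).Coprime p := by rw [← Subgroup.orderOf_mk α hα]; exact hord
    have hα1 : α = 1 := by
      haveI := finite_of_le hP
      refine MulEquiv.ext fun x => ?_
      set z : P := x⁻¹ * α x
      have hz : (z : Ω) ∈ D.center := by
        simpa [z] using hHZ (hyperfocal_gen_mem hP hα hord x)
      have hfix : α z = z := by
        obtain ⟨f, hf, hfe⟩ := isIso_of_aut hP hα
        refine Subtype.ext ((hfe z).trans ?_)
        obtain ⟨φ, hφ, -, hφe⟩ := hf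
        rw [← hφe z]
        exact apply_eq_self_of_isConjElt hφ z.2 fun y hy => (isCentral_center D).isConjElt_eq hz hy
      have hpow : ∀ k : ℕ, (α ^ k) x = x * z ^ k := by
        intro k
        induction k with
        | zero => simp
        | succ k ih =>
          rw [pow_succ', MulAut.mul_apply, ih, map_mul, map_pow, hfix]
          conv_lhs => rw [show α x = x * z by simp [z]]
          rw [mul_assoc, ← pow_succ']
      have h1 := hpow (orderOf α)
      rw [pow_orderOf_eq_one] at h1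
      have h2 : z ^ orderOf α = 1 := mul_left_cancel (a := x) (h1.symm.trans (mul_one x).symm)
      obtain ⟨k, hk⟩ := hU.to_le hP z
      have hz1 : z = 1 := eq_one_of_coprime_pow hk h2 (Nat.Coprime.pow_left k hord.symm)
      show α x = x
      exact (inv_mul_eq_one.mp hz1).symm
    subst hα1
    exact Subgroup.one_mem _
  refine ⟨hD, U, ⟨le_rfl, fun P φ hφ => ?_⟩, isCentric_self⟩
  obtain ⟨hP, g, hg, hge⟩ := hle P hφ
  have hi : D.IsIso U U fun x => g * x * g⁻¹ := isIso_conj_normalizer le_rfl hg (Subgroup.le_normalizer hg)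
  obtain ⟨ψ, hψ, hr, hψe⟩ := hi
  have hsup : P ⊔ U = U := sup_eq_right.mpr hP
  refine ⟨ψ.comp (Subgroup.inclusion hsup.le), D.restrict_mem hψ hsup.le,
    fun x => (hψe _).trans (hge x).symm, ?_⟩
  ext y
  constructor
  · rintro ⟨x, hx, rfl⟩
    exact hr.le ⟨_, rfl⟩
  · intro hy
    obtain ⟨x, rfl⟩ := hr.ge hy
    exact ⟨⟨x, Subgroup.mem_sup_right x.2⟩, x.2, rfl⟩

/-- A minimal member is quasisimple. -/
theorem quasisimple_of_minimal [Finite U] (hU : IsPGroup p U) (hD : D.IsSaturated p) (hnc : ¬ D.IsConstrained p)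
    (hmin : ∀ (T : Subgroup Ω) (E : FusionSystem T), E.IsNormalIn D p →
      (T = U ∧ ∀ P, D.Hom P ⊆ E.Hom P) ∨ E.IsConstrained p) : D.Quasisimple p := by
  have hcore := core_le_center_of_minimal hU hD hnc hmin
  refine ⟨hD, hyperfocal_eq_of_minimal hU hD hnc hcore hmin, fun E hE => ?_⟩
  set Z := D.center.subgroupOf U
  set θ := QuotientGroup.mk' Z
  have hZc : D.IsCentral D.center := isCentral_center D
  have hsc : D.StronglyClosed D.center := hZc.isNormal.stronglyClosed
  have hEs : E.IsSaturated p :=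
    Cfsg.Agent.S5133.result p hU D hD E θ (Cfsg.Agent.S5134.result p hU D hD D.center hsc θ E hE)
  refine ⟨hEs, ?_, fun T' Eb hEb => ?_⟩
  · intro htop
    apply hnc
    refine ⟨hD, U, ?_, isCentric_self⟩
    have hUZ : D.center = U := by
      refine le_antisymm hZc.1 fun x hx => (hE.2.1 ⟨x, hx⟩).mp ?_
      exact Subgroup.mem_bot.mp (htop ▸ Subgroup.mem_top _)
    have hn := hZc.isNormal
    rwa [hUZ] at hn
  have c : CentralLift.Ctx p D D.center θ E Eb := ⟨hU, hD, hZc, hE, hEb⟩
  have hbar : CentralLift.bar θ (preimageAlong θ T') = T' := c.bar_pre c.Tb_closed.1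
  rcases hmin _ _ c.liftSystem_normal with ⟨hT, hall⟩ | hc
  · refine Or.inr ⟨?_, fun P => Set.Subset.antisymm (c.invariant.1 P) (c.le_of_liftSystem hall P)⟩
    rw [← hbar, hT, eq_top_iff]
    intro y _
    obtain ⟨x, rfl⟩ := QuotientGroup.mk'_surjective Z y
    exact ⟨x, x.2, rfl⟩
  · refine Or.inl ?_
    have hle := carrier_le_center hU hD hcore c.liftSystem_normal hc
    rw [← hbar, eq_bot_iff]
    rintro _ ⟨x, hx, rfl⟩
    exact Subgroup.mem_bot.mpr ((hE.2.1 x).mpr (hle hx))

/-- A component is not constrained. -/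
theorem not_isConstrained_of_quasisimple [Finite U] (hU : IsPGroup p U) (hq : D.Quasisimple p) :
    ¬ D.IsConstrained p := by
  intro hc
  have hcz := CoreCent.core_le_center hU hq
  set Z := D.center.subgroupOf U
  set θ := QuotientGroup.mk' Z
  have hker : ∀ s : U, θ s = 1 ↔ (s : Ω) ∈ D.center := fun s => QuotientGroup.eq_one_iff s
  have hsc : D.StronglyClosed D.center := (isCentral_center D).isNormal.stronglyClosed
  have hex : ∀ T : Subgroup (U ⧸ Z), θ.range = T → ∃ E : FusionSystem T, D.IsFactorSystem D.center θ E := by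
    rintro T rfl
    exact ⟨factorSystem D.center D θ hker hsc, (isCentral_center D).le, hker, rfl, fun P' φ' => Iff.rfl⟩
  obtain ⟨E, hE⟩ := hex ⊤ (QuotientGroup.range_mk' _)
  obtain ⟨-, hne, -⟩ := hq.2.2 E hE
  apply hne
  rw [eq_bot_iff]
  intro y _
  obtain ⟨x, rfl⟩ := QuotientGroup.mk'_surjective Z y
  refine Subgroup.mem_bot.mpr ((hker x).mpr (hcz (hc.isCentric_core.centralizerIn_le_self ⟨x.2,
    Subgroup.mem_centralizer_iff.mpr fun r hr => ?_⟩)))
  exact (Subgroup.mem_centralizer_iff.mp (D.center_le_centralizer (hcz hr)) x x.2).symm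

/-- **Constrained systems are those without components.** -/
theorem isConstrained_iff [Finite S] (hS : IsPGroup p S) (hF : F.IsSaturated p) :
    F.IsConstrained p ↔ ¬ ∃ (T : Subgroup Ω) (C : FusionSystem T), C.IsComponentIn F p := by
  constructor
  · rintro hc ⟨T, C, hC, hq⟩
    have hT := (subnormal_basic hC).2.2
    haveI := finite_of_le hT
    exact not_isConstrained_of_quasisimple (hS.to_le hT) hq (hc.of_isSubnormalIn hS hC)
  · intro hno
    by_contra hnc
    obtain ⟨U, D, hD, hDc, hmin⟩ := exists_minimal hF hnc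
    obtain ⟨hsat, -, hUS⟩ := subnormal_basic hD
    haveI := finite_of_le hUS
    exact hno ⟨U, D, hD, quasisimple_of_minimal (hS.to_le hUS) (hsat hF) hDc hmin⟩

end Cfsg.FusionSystem.Components
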