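import Cfsg.Agent.Lib.Fusion.ZJCriterion
import Cfsg.Agent.Lib.Fusion.QdFree
import Cfsg.Agent.Lib.ThompsonComplementJ
import Cfsg.Agent.Lib.PComplement

/-!
Thompson's nilpotency criterion for saturated fusion systems: `p` odd, or `p = 2` and no section `S₄`.
-/

set_option autoImplicit false
set_option linter.unusedSectionVars false

universe u v

namespace CfsgLib.ZJ

open Cfsg

theorem thompsonJ_map_of_finite {G : Type u} [Group G] {H : Type v} [Group H] (f : G →* H) (P : Subgroup G)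
    [Finite P] (hf : Set.InjOn f (P : Set G)) : thompsonJ 0 (P.map f) = (thompsonJ 0 P).map f := by
  have hg : Function.Injective (f.comp P.subtype) := fun x y h => Subtype.ext (hf x.2 y.2 h)
  have h1 : (⊤ : Subgroup P).map P.subtype = P := by
    rw [← MonoidHom.range_eq_map, Subgroup.range_subtype]
  conv_rhs => rw [← h1, thompsonJ_map 0 P.subtype_injective, Subgroup.map_map, ← thompsonJ_map 0 hg,
    ← Subgroup.map_map, h1]

end CfsgLib.ZJ

namespace CfsgLib.QdTwo

open CfsgLib.QdSection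
open scoped Matrix

theorem card_sl_two : Nat.card (Matrix.SpecialLinearGroup (Fin 2) (ZMod 2)) = 6 := by
  haveI : DecidableEq (Matrix (Fin 2) (Fin 2) (ZMod 2)) := inferInstance
  rw [Nat.card_eq_fintype_card]
  decide

/-- The group `Qd(2)` is the symmetric group on the four vectors of the plane. -/
theorem nonempty_qd_two : Nonempty (↥(Cfsg.qd 2) ≃* Equiv.Perm (Fin 4)) := by
  classical
  let f : Cfsg.qd 2 → (Fin 2 → ZMod 2) → (Fin 2 → ZMod 2) := fun g v i =>
    ((g : Matrix.SpecialLinearGroup (Fin 3) (ZMod 2)) : Matrix (Fin 3) (Fin 3) (ZMod 2)) i.castSucc 0 * v 0 +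
    ((g : Matrix.SpecialLinearGroup (Fin 3) (ZMod 2)) : Matrix (Fin 3) (Fin 3) (ZMod 2)) i.castSucc 1 * v 1 +
    ((g : Matrix.SpecialLinearGroup (Fin 3) (ZMod 2)) : Matrix (Fin 3) (Fin 3) (ZMod 2)) i.castSucc 2
  have hmul : ∀ g h v, f (g * h) v = f g (f h v) := by
    intro g h v
    obtain ⟨h0, h1, h2⟩ := CfsgLib.Qd.mem_qd.1 h.2
    funext i
    fin_cases i <;> simp [f, Matrix.mul_apply, Fin.sum_univ_three, h0, h1, h2] <;> ring
  have hone : ∀ v, f 1 v = v := by
    intro v; funext i; fin_cases i <;> simp [f]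
  let act : Cfsg.qd 2 →* Equiv.Perm (Fin 2 → ZMod 2) := MonoidHom.mk'
    (fun g => ⟨f g, f g⁻¹, fun v => by rw [← hmul, inv_mul_cancel, hone],
      fun v => by rw [← hmul, mul_inv_cancel, hone]⟩)
    fun g h => Equiv.ext fun v => hmul g h v
  have hinj : Function.Injective act := by
    rw [← MonoidHom.ker_eq_bot_iff, Subgroup.eq_bot_iff_forall]
    intro g hg
    have key : ∀ v i, f g v i = v i := fun v i =>
      congrFun (congrArg (fun e : Equiv.Perm (Fin 2 → ZMod 2) => e v) hg) i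
    obtain ⟨a, b, c, d, x, y, h, rfl⟩ := CfsgLib.Qd.exists_el g
    have k0 : x = 0 := by simpa [f, CfsgLib.Qd.el, CfsgLib.Qd.mat] using key ![0, 0] 0
    have k1 : y = 0 := by simpa [f, CfsgLib.Qd.el, CfsgLib.Qd.mat] using key ![0, 0] 1
    have k2 : a = 1 := by simpa [f, CfsgLib.Qd.el, CfsgLib.Qd.mat, k0] using key ![1, 0] 0
    have k3 : c = 0 := by simpa [f, CfsgLib.Qd.el, CfsgLib.Qd.mat, k1] using key ![1, 0] 1
    have k4 : b = 0 := by simpa [f, CfsgLib.Qd.el, CfsgLib.Qd.mat, k0] using key ![0, 1] 0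
    have k5 : d = 1 := by simpa [f, CfsgLib.Qd.el, CfsgLib.Qd.mat, k1] using key ![0, 1] 1
    rw [CfsgLib.Qd.el_one]
    exact CfsgLib.Qd.el_congr k2 k4 k3 k5 k0 k1
  have hcard : 24 ≤ Nat.card (Cfsg.qd 2) := by
    have hi : Function.Injective fun z : Vec 2 × Matrix.SpecialLinearGroup (Fin 2) (ZMod 2) =>
        trHom z.1 * linHom z.2 := by
      rintro ⟨v, M⟩ ⟨w, N⟩ h
      have e : ∀ i j, (((trHom v * linHom M : Cfsg.qd 2) : Matrix.SpecialLinearGroup (Fin 3) (ZMod 2)) :
          Matrix (Fin 3) (Fin 3) (ZMod 2)) i j = (((trHom w * linHom N : Cfsg.qd 2) :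
            Matrix.SpecialLinearGroup (Fin 3) (ZMod 2)) : Matrix (Fin 3) (Fin 3) (ZMod 2)) i j := fun i j =>
        congrArg (fun g : Cfsg.qd 2 => ((g : Matrix.SpecialLinearGroup (Fin 3) (ZMod 2)) :
          Matrix (Fin 3) (Fin 3) (ZMod 2)) i j) h
      have hv : ∀ (u : Vec 2) (L : Matrix.SpecialLinearGroup (Fin 2) (ZMod 2)),
          (((trHom u * linHom L : Cfsg.qd 2) : Matrix.SpecialLinearGroup (Fin 3) (ZMod 2)) :
            Matrix (Fin 3) (Fin 3) (ZMod 2)) =
            CfsgLib.Qd.mat (L.1 0 0) (L.1 0 1) (L.1 1 0) (L.1 1 1) (u.toAdd 0) (u.toAdd 1) := by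
        intro u L
        show CfsgLib.Qd.mat 1 0 0 1 (u.toAdd 0) (u.toAdd 1) *
          CfsgLib.Qd.mat (L.1 0 0) (L.1 0 1) (L.1 1 0) (L.1 1 1) 0 0 = _
        ext i j
        fin_cases i <;> fin_cases j <;> simp [CfsgLib.Qd.mat, Matrix.mul_apply, Fin.sum_univ_three]
      simp only [hv, CfsgLib.Qd.mat] at e
      refine Prod.ext (Multiplicative.toAdd.injective (funext fun i => ?_)) (Subtype.ext (Matrix.ext fun i j => ?_))
      · fin_cases i
        · simpa using e 0 2
        · simpa using e 1 2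
      · fin_cases i <;> fin_cases j
        · simpa using e 0 0
        · simpa using e 0 1
        · simpa using e 1 0
        · simpa using e 1 1
    have h1 := Nat.card_le_card_of_injective _ hi
    rw [Nat.card_prod, card_sl_two] at h1
    have h2 : Nat.card (Vec 2) = 4 := by
      show Nat.card (Fin 2 → ZMod 2) = 4
      simp [Nat.card_eq_fintype_card]
    omega
  let e : (Fin 2 → ZMod 2) ≃ Fin 4 := Fintype.equivFinOfCardEq (by simp)
  let ψ : Cfsg.qd 2 →* Equiv.Perm (Fin 4) := e.permCongrHom.toMonoidHom.comp act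
  have hψ : Function.Injective ψ := e.permCongrHom.injective.comp hinj
  refine ⟨MulEquiv.ofBijective ψ (hψ.bijective_of_nat_card_le ?_)⟩
  rw [Nat.card_perm, Nat.card_fin]
  exact le_trans (by decide) hcard

theorem involves_qd_two {G : Type u} [Group G] (h : Cfsg.Involves (Equiv.Perm (Fin 4)) G) :
    Cfsg.Involves ↥(Cfsg.qd 2) G := by
  obtain ⟨K, R, hR, ⟨e⟩⟩ := h
  obtain ⟨i⟩ := nonempty_qd_two
  exact ⟨K, R, hR, ⟨e.trans i.symm⟩⟩

theorem involves_perm_four {G : Type u} [Group G] (h : Cfsg.Involves ↥(Cfsg.qd 2) G) :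
    Cfsg.Involves (Equiv.Perm (Fin 4)) G := by
  obtain ⟨K, R, hR, ⟨e⟩⟩ := h
  obtain ⟨i⟩ := nonempty_qd_two
  exact ⟨K, R, hR, ⟨e.trans i⟩⟩

end CfsgLib.QdTwo

namespace Cfsg.FusionSystem

variable {Ω : Type u} [Group Ω] {S : Subgroup Ω} {F : FusionSystem S} {p : ℕ} {Q X : Subgroup Ω}

/-- Odd prime, or no section `Qd(2)`. -/
def Free (F : FusionSystem S) (p : ℕ) [Fact p.Prime] : Prop := p ≠ 2 ∨ ¬ F.QdWitness p

theorem Free.mono [Fact p.Prime] {T : Subgroup Ω} {E : FusionSystem T} (h : F.Free p) (hE : E.IsSubsystemOf F) :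
    E.Free p := h.imp_right fun hn hw => hn (hw.mono hE)

theorem Free.factor [Fact p.Prime] {Ω' : Type*} [Group Ω'] {θ : S →* Ω'} {E : FusionSystem θ.range} (h : F.Free p)
    (hker : ∀ s : S, θ s = 1 ↔ (s : Ω) ∈ X)
    (hEm : ∀ P' φ', φ' ∈ E.Hom P' ↔ P' ≤ θ.range ∧ ∃ φ ∈ F.Hom (preimageAlong θ P'), InducedAlong θ φ φ') :
    E.Free p := h.imp_right fun hn hw => hn (QdWitness.of_factor hker hEm hw)

theorem free_of_isSectionFree [Fact p.Prime] [Finite S] (hF : F.IsSaturated p) (hS : IsPGroup p S)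
    (h : p ≠ 2 ∨ F.IsSectionFree p (Equiv.Perm (Fin 4))) : F.Free p := by
  by_cases hp : p = 2
  · subst hp
    refine Or.inr ((hF.isSectionFree_qd_iff hS).mp fun R hfn hc N hN L _ ι hL hi => ?_)
    exact h.resolve_left (fun e => e rfl) R hfn hc N hN L ι hL (CfsgLib.QdTwo.involves_perm_four hi)
  · exact Or.inl hp

/-- The maps of `C_F(Q)` are conjugations by elements of `C_S(Q)`. -/
def CentralizerInner (F : FusionSystem S) (Q : Subgroup Ω) : Prop :=
  ∀ P φ, φ ∈ F.centralizerHom Q P → ∃ g ∈ centralizerIn S Q, ∀ x : P, φ x = g * (x : Ω) * g⁻¹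

theorem NormalizerInner.centralizerInner [Finite S] (h : F.NormalizerInner Q) (hQ : Q ≤ S) :
    F.CentralizerInner Q := by
  rintro P φ ⟨-, hP, hv, ψ, hψ, hψe, hψQ⟩
  have hQN : Q ≤ normalizerIn S Q := le_normalizerIn hQ
  haveI : Finite Q := finite_of_le hQ
  have hle : P ⊔ Q ≤ normalizerIn S Q := sup_le (hP.trans centralizerIn_le_normalizerIn) hQN
  have hmap : (Q.subgroupOf (P ⊔ Q)).map ψ = Q := by
    ext y
    constructor
    · rintro ⟨x, hx, rfl⟩
      rw [show x = Subgroup.inclusion le_sup_right ⟨(x : Ω), hx⟩ from rfl, hψQ]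
      exact hx
    · intro hy
      exact ⟨Subgroup.inclusion le_sup_right ⟨y, hy⟩, hy, hψQ _⟩
  have hval : ∀ x : ↥(P ⊔ Q), ψ x ∈ normalizerIn S Q := fun x =>
    ⟨F.apply_mem hψ x, apply_mem_normalizer (P := Q) (φ := ψ.comp (Subgroup.inclusion le_sup_right))
      le_sup_right (fun _ => rfl) (by rw [range_eq_map_of_le le_sup_right]; exact hmap) x (hle x.2).2⟩
  obtain ⟨g, hg, hge⟩ := h (P ⊔ Q) ψ ⟨hψ, hle, hval, ψ.comp (Subgroup.inclusion (sup_le le_rfl le_sup_right)),
    F.restrict_mem hψ _, fun _ => rfl, by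
      ext y
      constructor
      · rintro ⟨x, hx, rfl⟩
        exact hmap.le ⟨⟨x, Subgroup.mem_sup_right hx⟩, hx, rfl⟩
      · intro hy
        obtain ⟨x, hx, rfl⟩ := hmap.ge hy
        exact ⟨⟨x, Subgroup.mem_sup_right hx⟩, hx, rfl⟩⟩
  refine ⟨g, ⟨hg.1, Subgroup.mem_centralizer_iff.mpr fun y hy => ?_⟩, fun x => ?_⟩
  · have h1 := hge (Subgroup.inclusion le_sup_right ⟨y, hy⟩)
    rw [hψQ] at h1
    exact (mul_inv_eq_iff_eq_mul.mp h1.symm).symm
  · rw [← hψe x]
    exact hge _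

theorem CentralizerInner.mono {E : FusionSystem S} (h : F.CentralizerInner Q) (hE : E.IsSubsystemOf F) :
    E.CentralizerInner Q := by
  rintro P φ ⟨h1, h2, h3, ψ, hψ, h4, h5⟩
  exact h P φ ⟨hE P h1, h2, h3, ψ, hE _ hψ, h4, h5⟩

/-- The hypothesis of Thompson's criterion. -/
def ThompsonInner (F : FusionSystem S) : Prop :=
  F.CentralizerInner (S ⊓ Subgroup.centralizer (S : Set Ω)) ∧ F.NormalizerInner (thompsonSubgroupAOf S)

theorem ThompsonInner.mono {E : FusionSystem S} (h : F.ThompsonInner) (hE : E.IsSubsystemOf F) :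
    E.ThompsonInner := ⟨h.1.mono hE, h.2.mono hE⟩

theorem ThompsonInner.of_normalizerInner [Finite S] [Fact p.Prime] (hS : IsPGroup p S)
    (h : ∀ V, V ≤ S → V ≠ ⊥ → Subgroup.normalizer (S : Set Ω) ≤ Subgroup.normalizer (V : Set Ω) →
      F.NormalizerInner V) : F.ThompsonInner := by
  rcases eq_or_ne S ⊥ with hSb | hSb
  · have hall : ∀ P φ, φ ∈ F.Hom P → ∀ x : P, φ x = 1 * (x : Ω) * 1⁻¹ := by
      intro P φ hφ x
      have h1 := F.apply_mem hφ x
      have h2 := F.source_le hφ x.2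
      rw [hSb, Subgroup.mem_bot] at h1 h2
      rw [h1, h2]
      simp
    exact ⟨fun P φ hφ => ⟨1, one_mem _, hall P φ hφ.1⟩, fun P φ hφ => ⟨1, one_mem _, hall P φ hφ.1⟩⟩
  have hZ : Subgroup.normalizer (S : Set Ω) ≤
      Subgroup.normalizer ((S ⊓ Subgroup.centralizer (S : Set Ω) : Subgroup Ω) : Set Ω) :=
    CfsgLib.ThompsonComplement.normalizer_le_normalizer_Zc S
  refine ⟨(h _ inf_le_left ?_ hZ).centralizerInner inf_le_left, h _ ?_ ?_ ?_⟩
  · haveI : Nontrivial S := (Subgroup.nontrivial_iff_ne_bot _).mpr hSb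
    haveI := hS.center_nontrivial
    obtain ⟨⟨z, hz⟩, hz1⟩ := exists_ne (1 : Subgroup.center S)
    intro hb
    have : (z : Ω) ∈ (S ⊓ Subgroup.centralizer (S : Set Ω) : Subgroup Ω) :=
      ⟨z.2, fun y hy => congrArg Subtype.val (Subgroup.mem_center_iff.mp hz ⟨y, hy⟩)⟩
    rw [hb, Subgroup.mem_bot] at this
    exact hz1 (Subtype.ext (Subtype.ext this))
  · exact Subgroup.map_subtype_le _
  · intro hb
    have h1 := CfsgLib.ZJ.centerThompsonAOf_ne_bot hS hSb
    rw [centerThompsonAOf, hb] at h1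
    exact h1 (by simp)
  · intro g hg
    refine CfsgLib.Local.mem_normalizer_of_map_conj_eq ?_
    rw [← CfsgLib.ZJ.thompsonJ_zero_eq]
    have hmap : S.map (MulAut.conj g).toMonoidHom = S := CfsgLib.Local.map_conj_eq_of_mem_normalizer hg
    conv_rhs => rw [← hmap]
    exact (CfsgLib.ZJ.thompsonJ_map_of_finite (MulAut.conj g).toMonoidHom S
      (MulAut.conj g).injective.injOn).symm

/-! ### Models -/

/-- An element of a model normalising the image of `R` gives a map of the system. -/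
theorem IsModel.exists_map {L : Type v} [Group L] {ι : S →* L} (hL : F.IsModel p L ι) [Fact p.Prime]
    {R : Subgroup Ω} (hR : R ≤ S) {l : L} (hl : l ∈ Subgroup.normalizer ((R.subgroupOf S).map ι : Set L)) :
    ∃ ψ ∈ F.Hom (((pCore p L).comap ι).map S.subtype ⊔ R),
      (∀ (x : ↥(((pCore p L).comap ι).map S.subtype ⊔ R)) (h1 : ψ x ∈ S) (h2 : (x : Ω) ∈ S),
        ι ⟨ψ x, h1⟩ = l * ι ⟨x, h2⟩ * l⁻¹) ∧
      (R.subgroupOf (((pCore p L).comap ι).map S.subtype ⊔ R)).map ψ = R := by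
  haveI := hL.1
  obtain ⟨-, ⟨hinj, hiff⟩, ⟨T, hT⟩, -⟩ := hL
  set X := ((pCore p L).comap ι).map S.subtype with hX
  have hXS : X ≤ S := Subgroup.map_subtype_le _
  have hle : X ⊔ R ≤ S := sup_le hXS hR
  have hrng : ∀ x : ↥(X ⊔ R), l * ι ⟨x, hle x.2⟩ * l⁻¹ ∈ ι.range := by
    intro x
    have h1 : X ⊔ R ≤ ((ι.range.comap (MulAut.conj l).toMonoidHom).comap ι).map S.subtype := by
      refine sup_le ?_ fun y hy => ⟨⟨y, hR hy⟩, ?_, rfl⟩
      · rintro _ ⟨y, hy, rfl⟩
        exact ⟨y, hT.le (CfsgLib.pCore_le_sylow T ((inferInstance : (pCore p L).Normal).conj_mem _ hy l)), rfl⟩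
      · obtain ⟨w, -, hw⟩ := (Subgroup.mem_normalizer_iff.mp hl _).mp ⟨⟨y, hR hy⟩, hy, rfl⟩
        exact ⟨w, hw⟩
    obtain ⟨s, hs, e⟩ := h1 x.2
    rw [show (⟨x, hle x.2⟩ : S) = s from Subtype.ext e.symm]
    exact hs
  let ψ : ↥(X ⊔ R) →* Ω := S.subtype.comp ((MonoidHom.ofInjective hinj).symm.toMonoidHom.comp
    (((MulAut.conj l).toMonoidHom.comp (ι.comp (Subgroup.inclusion hle))).codRestrict ι.range hrng))
  have hψS : ∀ x, ψ x ∈ S := fun x => SetLike.coe_mem _
  have hψι : ∀ x, ι ⟨ψ x, hψS x⟩ = l * ι ⟨x, hle x.2⟩ * l⁻¹ := fun x =>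
    congrArg Subtype.val ((MonoidHom.ofInjective hinj).apply_symm_apply ⟨_, hrng x⟩)
  refine ⟨ψ, (hiff _ hle ψ hψS).mpr ⟨l, hψι⟩, fun x _ _ => hψι x, ?_⟩
  apply le_antisymm
  · rintro _ ⟨x, hx, rfl⟩
    obtain ⟨w, hw, e⟩ := (Subgroup.mem_normalizer_iff.mp hl _).mp ⟨⟨x, hle x.2⟩, hx, rfl⟩
    rw [← hψι] at e
    rw [show ψ x = (w : Ω) from (congrArg (fun z : S => (z : Ω)) (hinj e)).symm]
    exact hw
  · intro y hy
    obtain ⟨w, hw, e⟩ := (Subgroup.mem_normalizer_iff.mp (Subgroup.inv_mem _ hl) _).mp ⟨⟨y, hR hy⟩, hy, rfl⟩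
    refine ⟨⟨w, Subgroup.mem_sup_right hw⟩, hw, ?_⟩
    refine congrArg (fun z : S => (z : Ω)) (hinj (a₁ := ⟨ψ _, hψS _⟩) (a₂ := ⟨y, hR hy⟩) ?_)
    rw [hψι]
    show l * ι w * l⁻¹ = _
    rw [e]
    group

/-- An element of a model acting on the core as an element of the Sylow subgroup lies in it. -/
theorem IsModel.mem_range_of_conj {L : Type v} [Group L] {ι : S →* L} (hL : F.IsModel p L ι) [Fact p.Prime]
    {l : L} {g : Ω} (hg : g ∈ S)
    (h : ∀ (s : S), ι s ∈ pCore p L → ι (⟨g, hg⟩ * s * ⟨g, hg⟩⁻¹) = l * ι s * l⁻¹) : l ∈ ι.range := by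
  haveI := hL.1
  obtain ⟨-, -, ⟨T, hT⟩, hC⟩ := hL
  have hQT : pCore p L ≤ ι.range := hT ▸ CfsgLib.pCore_le_sylow T
  have h1 : (ι ⟨g, hg⟩)⁻¹ * l ∈ Subgroup.centralizer (pCore p L : Set L) := by
    refine Subgroup.mem_centralizer_iff.mpr fun y hy => ?_
    obtain ⟨s, rfl⟩ := hQT hy
    have h2 := h s hy
    rw [map_mul, map_mul, map_inv] at h2
    calc ι s * ((ι ⟨g, hg⟩)⁻¹ * l) = (ι ⟨g, hg⟩)⁻¹ * (ι ⟨g, hg⟩ * ι s * (ι ⟨g, hg⟩)⁻¹) * l := by group
      _ = (ι ⟨g, hg⟩)⁻¹ * l * ι s := by rw [h2]; group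
  have h2 := ι.range.mul_mem ⟨⟨g, hg⟩, rfl⟩ (hQT (hC h1))
  rwa [mul_inv_cancel_left] at h2

variable [Finite S] [Fact p.Prime]

/-- The constrained case. -/
theorem IsConstrained.isInner_of_thompson (hF : F.IsConstrained p) (hS : IsPGroup p S) (hfree : F.Free p)
    (h : F.ThompsonInner) : F.IsInner := by
  obtain ⟨L, _, ι, hL⟩ := (hF.setup_core hS).exists_isModel
  haveI := hL.1
  obtain ⟨T, hT⟩ := hL.2.2.1
  have hinj := hL.2.1.1
  set Z : Subgroup Ω := S ⊓ Subgroup.centralizer (S : Set Ω) with hZ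
  set J : Subgroup Ω := thompsonSubgroupAOf S with hJ
  have hJS : J ≤ S := Subgroup.map_subtype_le _
  haveI : Finite (⊤ : Subgroup S) := inferInstance
  have htop : (⊤ : Subgroup S).map ι = (T : Subgroup L) := by rw [hT, MonoidHom.range_eq_map]
  have hTZ : CfsgLib.ThompsonComplement.Zc (T : Subgroup L) = (Z.subgroupOf S).map ι := by
    rw [← htop, CfsgLib.ThompsonComplement.Zc_map _ _ hinj.injOn]
    congr 1
    ext x
    refine ⟨fun hx => ⟨x.2, fun y hy => congrArg Subtype.val (hx.2 ⟨y, hy⟩ (Subgroup.mem_top _))⟩,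
      fun hx => ⟨Subgroup.mem_top x, fun y _ => Subtype.ext (hx.2 y y.2)⟩⟩
  have hTJ : CfsgLib.ZJ.thompsonJ 0 (T : Subgroup L) = (J.subgroupOf S).map ι := by
    have h2 := CfsgLib.ZJ.thompsonJ_map_of_finite S.subtype (⊤ : Subgroup S) S.subtype_injective.injOn
    rw [← MonoidHom.range_eq_map, Subgroup.range_subtype, CfsgLib.ZJ.thompsonJ_zero_eq S] at h2
    rw [← htop, CfsgLib.ZJ.thompsonJ_map_of_finite ι _ hinj.injOn, hJ, h2, Subgroup.subgroupOf,
      Subgroup.comap_map_eq_self_of_injective S.subtype_injective]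
  set X : Subgroup Ω := ((pCore p L).comap ι).map S.subtype with hX
  have hXS : X ≤ S := Subgroup.map_subtype_le _
  have hNS : ∀ x : Ω, x ∈ S → x ∈ normalizerIn S J := by
    intro x hx
    refine ⟨hx, CfsgLib.Local.mem_normalizer_of_map_conj_eq ?_⟩
    rw [hJ, ← CfsgLib.ZJ.thompsonJ_zero_eq]
    have hmap : S.map (MulAut.conj x).toMonoidHom = S :=
      CfsgLib.Local.map_conj_eq_of_mem_normalizer (Subgroup.le_normalizer hx)
    conv_rhs => rw [← hmap]
    exact (CfsgLib.ZJ.thompsonJ_map_of_finite (MulAut.conj x).toMonoidHom S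
      (MulAut.conj x).injective.injOn).symm
  have hCS : ∀ x : Ω, x ∈ S → x ∈ centralizerIn S Z := fun x hx =>
    ⟨hx, fun z hz => (hz.2 x hx).symm⟩
  have hNle : Subgroup.normalizer (CfsgLib.ZJ.thompsonJ 0 (T : Subgroup L) : Set L) ≤ ι.range := by
    intro l hl
    rw [hTJ] at hl
    obtain ⟨ψ, hψ, hψι, hψJ⟩ := hL.exists_map hJS hl
    obtain ⟨g, hg, hge⟩ := h.2 X _ ⟨F.restrict_mem hψ le_sup_left, fun x hx => hNS x (hXS hx),
      fun x => hNS _ (F.apply_mem hψ _), ψ, hψ, fun x => rfl, hψJ⟩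
    refine hL.mem_range_of_conj hg.1 fun s hs => ?_
    have hsX : (s : Ω) ∈ X := ⟨s, hs, rfl⟩
    rw [← hψι ⟨s, Subgroup.mem_sup_left hsX⟩ (F.apply_mem hψ _) s.2]
    exact congrArg ι (Subtype.ext (hge ⟨s, hsX⟩).symm)
  have hCle : Subgroup.centralizer (CfsgLib.ThompsonComplement.Zc (T : Subgroup L) : Set L) ≤ ι.range := by
    intro l hl
    rw [hTZ] at hl
    obtain ⟨ψ, hψ, hψι, -⟩ := hL.exists_map inf_le_left (Subgroup.centralizer_le_normalizer _ hl)
    obtain ⟨g, hg, hge⟩ := h.1 X _ ⟨F.restrict_mem hψ le_sup_left, fun x hx => hCS x (hXS hx),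
      fun x => hCS _ (F.apply_mem hψ _), ψ, hψ, fun x => rfl, fun z => by
        refine congrArg (fun w : S => (w : Ω)) (hinj (a₁ := ⟨ψ _, F.apply_mem hψ _⟩) (a₂ := ⟨z, z.2.1⟩) ?_)
        rw [hψι _ _ z.2.1]
        exact mul_inv_eq_iff_eq_mul.mpr (hl _ ⟨⟨z, z.2.1⟩, z.2, rfl⟩).symm⟩
    refine hL.mem_range_of_conj hg.1 fun s hs => ?_
    have hsX : (s : Ω) ∈ X := ⟨s, hs, rfl⟩
    rw [← hψι ⟨s, Subgroup.mem_sup_left hsX⟩ (F.apply_mem hψ _) s.2]
    exact congrArg ι (Subtype.ext (hge ⟨s, hsX⟩).symm)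
  have hfree' : p ≠ 2 ∨ ¬ Involves (Equiv.Perm (Fin 4)) L := by
    rcases hfree with h | h
    · exact Or.inl h
    · by_cases hp : p = 2
      · subst hp
        exact Or.inr fun hi => h (QdWitness.of_involves hL.2.1 hT (CfsgLib.QdTwo.involves_qd_two hi))
      · exact Or.inl hp
  have hr : IsPGroup p ι.range := hT ▸ T.2
  obtain ⟨P, K, hK, hKP⟩ := CfsgLib.ThompsonComplement.hasNormalPComplement_of_crit (e := 0) (Or.inl rfl) hfree' T
    ⟨CfsgLib.hasNormalPComplement_of_isPGroup (hr.to_le hCle),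
      CfsgLib.hasNormalPComplement_of_isPGroup (hr.to_le hNle)⟩
  have hC := hL.2.2.2
  have hKb : K = ⊥ := by
    have hdis : K ⊓ (P : Subgroup L) = ⊥ := hKP.disjoint.eq_bot
    have hKC : K ≤ Subgroup.centralizer (pCore p L : Set L) := by
      intro k hk
      refine Subgroup.mem_centralizer_iff.mpr fun q hq => ?_
      have h1 : q * k * q⁻¹ * k⁻¹ ∈ K ⊓ (P : Subgroup L) := by
        refine ⟨K.mul_mem (hK.conj_mem k hk q) (K.inv_mem hk), CfsgLib.pCore_le_sylow P ?_⟩
        rw [show q * k * q⁻¹ * k⁻¹ = q * (k * q⁻¹ * k⁻¹) by group]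
        exact (pCore p L).mul_mem hq ((inferInstance : (pCore p L).Normal).conj_mem _ ((pCore p L).inv_mem hq) k)
      rw [hdis, Subgroup.mem_bot, mul_inv_eq_one, mul_inv_eq_iff_eq_mul] at h1
      exact h1
    rw [eq_bot_iff, ← hdis]
    exact le_inf le_rfl ((hKC.trans hC).trans (CfsgLib.pCore_le_sylow P))
  rw [hKb, Subgroup.isComplement'_bot_left] at hKP
  have hTtop : (T : Subgroup L) = ⊤ := (T.3 (hKP ▸ P.2) le_top).symm
  intro R φ hφ
  have hRS := F.source_le hφ
  obtain ⟨l, hl⟩ := (hL.2.1.2 R hRS φ (F.apply_mem hφ)).mp hφ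
  obtain ⟨s, rfl⟩ : l ∈ ι.range := hT ▸ hTtop.ge (Subgroup.mem_top l)
  refine ⟨hRS, s, s.2, fun x => ?_⟩
  have h1 := hl x
  rw [← map_inv, ← map_mul, ← map_mul] at h1
  exact congrArg (fun z : S => (z : Ω)) (hinj h1)

theorem IsSaturated.normalizerInner_quotient (hF : F.IsSaturated p) (hS : IsPGroup p S) (hX : X = F.core)
    (hsub : ∀ T : Subgroup Ω, T = S → ∀ E : FusionSystem T, E.IsSaturated p → E.IsSubsystemOf F →
      ¬ (∀ P, F.Hom P ⊆ E.Hom P) → E.IsInner)
    {Ω' : Type u} [Group Ω'] (θ : S →* Ω') (E : FusionSystem θ.range)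
    (hker : ∀ s : S, θ s = 1 ↔ (s : Ω) ∈ X)
    (hEm : ∀ P' φ', φ' ∈ E.Hom P' ↔ P' ≤ θ.range ∧ ∃ φ ∈ F.Hom (preimageAlong θ P'), InducedAlong θ φ φ')
    {V : Subgroup Ω'} (hVle : V ≤ θ.range) (hVn : θ.range ≤ Subgroup.normalizer (V : Set Ω'))
    (hVne : V ≠ ⊥) : E.NormalizerInner V := by
  have hXn : F.IsNormal X := hX ▸ isNormal_core F
  set Y := preimageAlong θ V with hY
  have hYS : Y ≤ S := preimageAlong_le
  have hYN : S ≤ Subgroup.normalizer (Y : Set Ω) := by
    intro x hx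
    refine Subgroup.mem_normalizer_iff.mpr fun y => ?_
    have h2 := Subgroup.mem_normalizer_iff.mp (hVn ⟨⟨x, hx⟩, rfl⟩)
    constructor
    · intro hy
      obtain ⟨hyS, h3⟩ := mem_preimageAlong.mp hy
      refine mem_preimageAlong.mpr ⟨S.mul_mem (S.mul_mem hx hyS) (S.inv_mem hx), ?_⟩
      have h4 := (h2 _).mp h3
      rw [← map_inv, ← map_mul, ← map_mul] at h4
      exact h4
    · intro hy
      obtain ⟨hyS', h3⟩ := mem_preimageAlong.mp hy
      have hyS : y ∈ S := by
        have := S.mul_mem (S.mul_mem (S.inv_mem hx) hyS') hx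
        simpa [mul_assoc] using this
      refine mem_preimageAlong.mpr ⟨hyS, (h2 _).mpr ?_⟩
      rw [← map_inv, ← map_mul, ← map_mul]
      exact h3
  have hYn : ¬ F.IsNormal Y := by
    intro hn
    refine hVne ((Subgroup.eq_bot_iff_forall _).mpr fun v hv => ?_)
    obtain ⟨s, rfl⟩ := hVle hv
    exact (hker s).mpr (hX ▸ hn.le_core (mem_preimageAlong.mpr ⟨s.2, hv⟩))
  have hfn : F.IsFullyNormalized Y := isFullyNormalized_of_le_normalizer hYS hYN
  have hNE := F.normalizerSystem_isNormalizerSystem Y hYS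
  have hi := hsub _ (normalizerIn_eq_of_le_normalizer hYN) _
    (hF.isSaturated_normalizerSystem hS hfn hNE) hNE.subsystem (hNE.proper hYS hYn)
  exact NormalizerInner.factor hker hEm hVle (hNE.normalizerInner hi)

/-- Characteristic subgroups of a local base group have inner normalisers, when every local system with a
larger base group is inner. -/
theorem IsSaturated.normalizerInner_local (hF : F.IsSaturated p) (hS : IsPGroup p S)
    (hfn : F.IsFullyNormalized X) (hTe : normalizerIn S X ≠ S) {V : Subgroup Ω}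
    (hVT : V ≤ normalizerIn S X) (hVne : V ≠ ⊥)
    (hTV : Subgroup.normalizer (normalizerIn S X : Set Ω) ≤ Subgroup.normalizer (V : Set Ω))
    (hgood : ∀ Y, F.IsFullyNormalized Y → Y ≠ ⊥ →
      Nat.card (normalizerIn S X) < Nat.card (normalizerIn S Y) → F.NormalizerInner Y) :
    (F.normalizerSystem X hfn.1).NormalizerInner V := by
  have hXS := hfn.1
  have hNE := F.normalizerSystem_isNormalizerSystem X hXS
  set T := normalizerIn S X with hTdef
  have hTS : T ≤ S := normalizerIn_le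
  haveI : Finite T := finite_of_le hTS
  have hlt : T < normalizerIn S T := lt_normalizerIn hS (lt_of_le_of_ne hTS hTe)
  have hTDN : normalizerIn S T ≤ normalizerIn S V := inf_le_inf_left _ hTV
  haveI : Finite (normalizerIn S V) := finite_of_le normalizerIn_le
  have hcard : Nat.card T < Nat.card (normalizerIn S V) := card_lt_of_lt (hlt.trans_le hTDN)
  obtain ⟨Y, hVY, hYfn⟩ := F.exists_isFullyNormalized (hVT.trans hTS)
  obtain ⟨φ₀, hφ₀, hφ₀r, Ψ, hΨ, hΨN, hΨe⟩ := hF.exists_map_to_fullyNormalized hS hYfn hVY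
  have hYne : Y ≠ ⊥ := by
    intro hY
    refine hVne ((Subgroup.eq_bot_iff_forall _).mpr fun v hv => ?_)
    have : φ₀ ⟨v, hv⟩ ∈ Y := hφ₀r ▸ ⟨_, rfl⟩
    rw [hY, Subgroup.mem_bot, ← map_one φ₀] at this
    exact congrArg Subtype.val (F.injective_of_mem hφ₀ this)
  have hYcard : Nat.card (normalizerIn S V) ≤ Nat.card (normalizerIn S Y) :=
    hYfn.2 V hVY.symm
  have hY := hgood Y hYfn hYne (lt_of_lt_of_le hcard hYcard)
  rintro P φ ⟨h1, h2, h3, ψ, hψ, hψe, hψV⟩
  have hψE : ψ ∈ F.normalizerHom X (P ⊔ V) := (hNE _).le hψ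
  obtain ⟨-, -, hψT, χ, hχ, hχe, hχX⟩ := hψE
  have hPT : P ≤ T := h2.trans normalizerIn_le
  have hXT : X ≤ T := le_normalizerIn hXS
  have hTD : T ≤ normalizerIn S V := le_trans (le_normalizerIn hTS) hTDN
  have hRT : (P ⊔ V ⊔ X : Subgroup Ω) ≤ T := sup_le (sup_le hPT hVT) hXT
  have hRD : (P ⊔ V ⊔ X : Subgroup Ω) ≤ normalizerIn S V := hRT.trans hTD
  have hχT : ∀ x : (P ⊔ V ⊔ X : Subgroup Ω), χ x ∈ T := by
    intro x
    have h : (P ⊔ V ⊔ X : Subgroup Ω) ≤ (T.comap χ).map (P ⊔ V ⊔ X).subtype := by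
      refine sup_le (fun y hy => ⟨⟨y, Subgroup.mem_sup_left hy⟩, ?_, rfl⟩)
        fun y hy => ⟨⟨y, Subgroup.mem_sup_right hy⟩, ?_, rfl⟩
      · show χ (Subgroup.inclusion le_sup_left ⟨y, hy⟩) ∈ T
        rw [hχe]
        exact hψT _
      · exact hXT (hχX.le ⟨_, hy, rfl⟩)
    obtain ⟨z, hz, e⟩ := h x.2
    obtain rfl : z = x := Subtype.ext e
    exact hz
  let ΨR : (P ⊔ V ⊔ X : Subgroup Ω) →* Ω := Ψ.comp (Subgroup.inclusion hRD)
  have hΨR : ΨR ∈ F.Hom (P ⊔ V ⊔ X : Subgroup Ω) := F.restrict_mem hΨ hRD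
  obtain ⟨θ, hθ, -, hθl, -⟩ := F.exists_inv hΨR rfl
  have hθm : ∀ y, θ y ∈ (P ⊔ V ⊔ X : Subgroup Ω) := by
    rintro ⟨_, x, rfl⟩
    rw [show θ ⟨ΨR x, ⟨x, rfl⟩⟩ = (x : Ω) from hθl x _]
    exact x.2
  obtain ⟨ω, hω, hωe⟩ : ∃ ω : ΨR.range →* Ω, ω ∈ F.Hom ΨR.range ∧
      ∀ (x : (P ⊔ V ⊔ X : Subgroup Ω)), ω ⟨ΨR x, x, rfl⟩ = Ψ ⟨χ x, hTD (hχT x)⟩ := by
    refine ⟨_, F.comp_mem (F.comp_mem hθ hχ hθm) hΨ fun y => hTD (hχT _), fun x => ?_⟩
    exact congrArg Ψ (Subtype.ext (congrArg χ (Subtype.ext (hθl x _))))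
  have hYR : Y ≤ ΨR.range := by
    intro y hy
    obtain ⟨v, rfl⟩ := hφ₀r.ge hy
    exact ⟨⟨v, Subgroup.mem_sup_left (Subgroup.mem_sup_right v.2)⟩, hΨe v _⟩
  have hφ₀m : ∀ (v : Ω) (hv : v ∈ V) (hD : v ∈ normalizerIn S V), Ψ ⟨v, hD⟩ ∈ Y := fun v hv hD => by
    rw [hΨe ⟨v, hv⟩ hD]
    exact hφ₀r.le ⟨_, rfl⟩
  have hωY : (Y.subgroupOf (ΨR.range ⊔ Y)).map
      (ω.comp (Subgroup.inclusion (sup_le le_rfl hYR))) = Y := by
    apply le_antisymm
    · rintro _ ⟨⟨y, hy'⟩, hy, rfl⟩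
      obtain ⟨v, rfl⟩ := hφ₀r.ge hy
      have hvR : (v : Ω) ∈ (P ⊔ V ⊔ X : Subgroup Ω) := Subgroup.mem_sup_left (Subgroup.mem_sup_right v.2)
      show ω ⟨φ₀ v, _⟩ ∈ Y
      rw [show (⟨φ₀ v, sup_le le_rfl hYR hy'⟩ : ΨR.range) = ⟨ΨR ⟨v, hvR⟩, _, rfl⟩ from
        Subtype.ext (hΨe v _).symm, hωe]
      refine hφ₀m _ ?_ _
      show χ (Subgroup.inclusion le_sup_left ⟨(v : Ω), Subgroup.mem_sup_right v.2⟩) ∈ V
      rw [hχe]
      exact hψV.le ⟨_, v.2, rfl⟩
    · intro y hy
      obtain ⟨v, rfl⟩ := hφ₀r.ge hy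
      obtain ⟨u, hu, e⟩ := hψV.ge v.2
      have huR : (u : Ω) ∈ (P ⊔ V ⊔ X : Subgroup Ω) := Subgroup.mem_sup_left u.2
      have huY : ΨR ⟨u, huR⟩ ∈ Y := hφ₀m _ hu _
      refine ⟨⟨_, Subgroup.mem_sup_right huY⟩, huY, ?_⟩
      show ω ⟨ΨR ⟨u, huR⟩, _⟩ = _
      rw [hωe, ← hΨe v (hTD (hVT v.2))]
      refine congrArg Ψ (Subtype.ext ?_)
      show χ (Subgroup.inclusion le_sup_left u) = _
      rw [hχe]
      exact e
  obtain ⟨t, ht, hte⟩ := hY ΨR.range ω ⟨hω, by rintro _ ⟨x, rfl⟩; exact hΨN _,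
    fun y => by obtain ⟨_, x, rfl⟩ := y; rw [hωe]; exact hΨN _,
    _, F.restrict_mem hω (sup_le le_rfl hYR), fun _ => rfl, hωY⟩
  -- `t` is in the image of `T`
  let ΨT : T →* Ω := Ψ.comp (Subgroup.inclusion hTD)
  have hΨT : ΨT ∈ F.Hom T := F.restrict_mem hΨ hTD
  let X' : Subgroup Ω := (X.subgroupOf T).map ΨT
  have hX'e : X' = (ΨT.comp (Subgroup.inclusion hXT)).range := by
    apply le_antisymm
    · rintro _ ⟨x, hx, rfl⟩
      exact ⟨⟨x, hx⟩, rfl⟩
    · rintro _ ⟨x, rfl⟩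
      exact ⟨Subgroup.inclusion hXT x, x.2, rfl⟩
  have hconjX : F.IsConj X X' := ⟨_, F.restrict_mem hΨT hXT, hX'e.symm⟩
  have hle' : ΨT.range ≤ normalizerIn S X' := by
    rintro _ ⟨x, rfl⟩
    exact mapsTo_normalizerIn (φ := ΨT.comp (Subgroup.inclusion hXT)) hΨT hXT le_rfl (fun _ => rfl)
      hX'e.symm x
  haveI : Finite (normalizerIn S X') := finite_of_le normalizerIn_le
  have heq : ΨT.range = normalizerIn S X' := by
    refine Subgroup.eq_of_le_of_card_ge hle' ?_
    rw [Nat.card_congr (MonoidHom.ofInjective (F.injective_of_mem hΨT)).toEquiv.symm]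
    exact hfn.2 X' hconjX
  have himg : ∀ (x : Ω) (hx : x ∈ X), ∃ h : χ ⟨x, Subgroup.mem_sup_right hx⟩ ∈ X,
      ΨT ⟨_, hXT h⟩ = t * ΨT ⟨x, hXT hx⟩ * t⁻¹ := by
    intro x hx
    have hxR : x ∈ (P ⊔ V ⊔ X : Subgroup Ω) := Subgroup.mem_sup_right hx
    refine ⟨hχX.le ⟨⟨x, hxR⟩, hx, rfl⟩, ?_⟩
    have := hte ⟨ΨR ⟨x, hxR⟩, _, rfl⟩
    rw [hωe] at this
    exact this
  have htX : t ∈ Subgroup.normalizer (X' : Set Ω) := by
    refine Subgroup.mem_normalizer_iff.mpr fun y => ⟨?_, fun hy => ?_⟩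
    · rintro ⟨x, hx, rfl⟩
      obtain ⟨h, e⟩ := himg x hx
      exact ⟨⟨_, hXT h⟩, h, e⟩
    · obtain ⟨x, hx, e⟩ := hy
      obtain ⟨u, hu, e'⟩ := hχX.ge hx
      obtain ⟨h, e''⟩ := himg u hu
      rw [show (⟨χ ⟨(u : Ω), Subgroup.mem_sup_right hu⟩, hXT h⟩ : T) = x from Subtype.ext e', e] at e''
      rw [mul_left_cancel (mul_right_cancel e'')]
      exact ⟨⟨u, hXT hu⟩, hu, rfl⟩
  obtain ⟨g, hg⟩ : t ∈ ΨT.range := heq ▸ ⟨ht.1, htX⟩
  refine ⟨g, ⟨g.2, hTV (Subgroup.le_normalizer g.2)⟩, fun x => ?_⟩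
  have hxR : (x : Ω) ∈ (P ⊔ V ⊔ X : Subgroup Ω) := Subgroup.mem_sup_left (Subgroup.mem_sup_left x.2)
  have h := hte ⟨ΨR ⟨x, hxR⟩, _, rfl⟩
  rw [hωe] at h
  have hxT : (x : Ω) ∈ T := hPT x.2
  have h' : ΨT ⟨χ ⟨x, hxR⟩, hχT _⟩ = t * ΨT ⟨x, hxT⟩ * t⁻¹ := h
  rw [← hg, ← map_inv, ← map_mul, ← map_mul] at h'
  have e1 := congrArg (fun z : T => (z : Ω)) (F.injective_of_mem hΨT h')
  rw [← hψe x, ← hχe]
  exact e1

/-- A system whose local systems are inner is inner. -/
theorem IsSaturated.isInner_of_local (hF : F.IsSaturated p) (hS : IsPGroup p S)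
    (key : ∀ X, F.IsFullyNormalized X → X ≠ ⊥ → F.NormalizerInner X) : F.IsInner := by
  rcases eq_or_ne S ⊥ with hSb | hSb
  · exact fun P φ hφ => ⟨F.source_le hφ, 1, S.one_mem, fun x => by
      have h1 := F.apply_mem hφ x
      have h2 := F.source_le hφ x.2
      rw [hSb, Subgroup.mem_bot] at h1 h2
      rw [h1, h2]
      simp⟩
  have haut : ∀ Q, Q ≤ S → Q ≠ ⊥ → F.IsFullyNormalized Q → IsPGroup p (F.autGroup Q) := by
    intro Q hQS hQb hQfn
    refine (isPGroup_autInducedBy hS).to_le (K := autInducedBy S Q) fun α hα => ?_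
    obtain ⟨φ, hφ, hr, he⟩ := F.exists_map_of_mem_autGroup hQS hα
    have hQN : Q ≤ normalizerIn S Q := le_normalizerIn hQS
    obtain ⟨g, hg, hge⟩ := key Q hQfn hQb Q φ ⟨hφ, hQN, fun x => hQN (hr.le ⟨x, rfl⟩), _,
      F.restrict_mem hφ (sup_le le_rfl le_rfl), fun _ => rfl, by
        apply le_antisymm
        · rintro _ ⟨x, -, rfl⟩
          exact hr.le ⟨_, rfl⟩
        · intro y hy
          obtain ⟨x, rfl⟩ := hr.ge hy
          exact ⟨⟨x, Subgroup.mem_sup_left x.2⟩, x.2, rfl⟩⟩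
    exact mem_autInducedBy_iff.mpr ⟨g, hg.1, hg.2, fun x => (he x).symm.trans (hge x)⟩
  refine hF.isInner_of_essential hS (haut S le_rfl hSb isFullyNormalized_self) fun Q hQ => ?_
  obtain ⟨R, hQR, hR⟩ := F.exists_isFullyNormalized hQ.1.1
  have hQb : Q ≠ ⊥ := by
    rintro rfl
    refine hSb (le_bot_iff.mp fun x hx => ?_)
    exact hQ.1.centralizerIn_le_self ⟨hx, Subgroup.mem_centralizer_iff.mpr fun y hy => by
      rw [Subgroup.mem_bot.mp hy, one_mul, mul_one]⟩
  have hRb : R ≠ ⊥ := fun h => hQb (Subgroup.eq_bot_of_card_eq Q (by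
    rw [hQR.card_eq, h, Subgroup.card_bot]))
  haveI := finite_autGroup (F := F) hR.1
  haveI := finite_autGroup (F := F) hQ.1.1
  obtain ⟨k, hk⟩ := IsPGroup.iff_card.mp (haut R hR.1 hRb hR)
  exact IsPGroup.of_card (hQR.card_autGroup.trans hk)

theorem isInner_of_thompson_aux (p : ℕ) [Fact p.Prime] :
    ∀ n m : ℕ, ∀ {Ω : Type u} [Group Ω] {S : Subgroup Ω} [Finite S] (F : FusionSystem S),
      Nat.card S = n → F.count = m → F.IsSaturated p → IsPGroup p S → F.Free p →
      F.ThompsonInner → F.IsInner := by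
  intro n
  induction n using Nat.strong_induction_on with
  | h n ihn =>
    intro m
    induction m using Nat.strong_induction_on with
    | h m ihm =>
      intro Ω _ S _ F hn hm hF hS hfree hW
      have hsub : ∀ T : Subgroup Ω, T = S → ∀ E : FusionSystem T, E.IsSaturated p → E.IsSubsystemOf F →
          ¬ (∀ P, F.Hom P ⊆ E.Hom P) → E.IsInner := by
        rintro T rfl E hE hEF hne
        exact ihm _ (hm ▸ count_lt hEF hne) E hn rfl hE hS (hfree.mono hEF) (hW.mono hEF)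
      by_cases hc : F.IsCentric F.core
      · exact IsConstrained.isInner_of_thompson ⟨hF, F.core, isNormal_core F, hc⟩ hS hfree hW
      by_cases hb : F.core = ⊥
      swap
      · refine hF.isInner_of_noncentric_core hS hc hsub fun Ω' _ θ E hE hker hEm => ?_
        haveI : Finite θ.range := Finite.of_surjective θ.rangeRestrict θ.rangeRestrict_surjective
        have hpr : IsPGroup p θ.range := hS.of_surjective θ.rangeRestrict θ.rangeRestrict_surjective
        refine ihn _ ?_ _ E rfl rfl hE hpr (hfree.factor hker hEm)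
          (ThompsonInner.of_normalizerInner hpr fun V hV hVne hVn =>
            hF.normalizerInner_quotient hS rfl hsub θ E hker hEm hV (Subgroup.le_normalizer.trans hVn) hVne)
        obtain ⟨x, hx, hx1⟩ := (Subgroup.bot_or_exists_ne_one F.core).resolve_left hb
        have hxS := (isNormal_core F).1 hx
        letI : Fintype S := Fintype.ofFinite _
        letI : Fintype θ.range := Fintype.ofFinite _
        rw [← hn]
        simp only [Nat.card_eq_fintype_card]
        refine Fintype.card_lt_of_surjective_not_injective θ.rangeRestrict θ.rangeRestrict_surjective fun hinj => hx1 ?_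
        have h1 : θ.rangeRestrict ⟨x, hxS⟩ = θ.rangeRestrict 1 := by
          apply Subtype.ext
          show θ ⟨x, hxS⟩ = θ 1
          rw [(hker _).mpr hx, map_one]
        exact congrArg Subtype.val (hinj h1)
      refine hF.isInner_of_local hS ?_
      suffices key : ∀ k, ∀ X, F.IsFullyNormalized X → X ≠ ⊥ → Nat.card S - Nat.card (normalizerIn S X) = k →
          F.NormalizerInner X from fun X hX hXb => key _ X hX hXb rfl
      intro k
      induction k using Nat.strong_induction_on with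
      | h k ihk =>
        intro X hfn hXb hk
        have hXS := hfn.1
        have hXn : ¬ F.IsNormal X := fun h => hXb (le_bot_iff.mp (hb ▸ h.le_core))
        have hNE := F.normalizerSystem_isNormalizerSystem X hXS
        refine hNE.normalizerInner ?_
        have hEsat := hF.isSaturated_normalizerSystem hS hfn hNE
        haveI : Finite (normalizerIn S X) := finite_of_le normalizerIn_le
        have hTp : IsPGroup p (normalizerIn S X) := hS.to_le normalizerIn_le
        by_cases hTe : normalizerIn S X = S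
        · exact hsub _ hTe _ hEsat hNE.subsystem (hNE.proper hXS hXn)
        have hT : (F.normalizerSystem X hXS).ThompsonInner := by
          refine ThompsonInner.of_normalizerInner hTp fun V hVT hVne hTV =>
            hF.normalizerInner_local hS hfn hTe hVT hVne hTV fun Y hY hYne hlt => ?_
          have := Nat.card_le_card_of_injective _ (Subgroup.inclusion_injective (normalizerIn_le (S := S) (P := Y)))
          exact ihk _ (by omega) Y hY hYne rfl
        rcases count_lt_of_lt hNE.subsystem (hNE.proper hXS hXn) normalizerIn_le with h | ⟨h, h'⟩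
        · exact ihn _ (hn ▸ h) _ _ rfl rfl hEsat hTp (hfree.mono hNE.subsystem) hT
        · exact ihm _ (hm ▸ h') _ (h.trans hn) rfl hEsat hTp (hfree.mono hNE.subsystem) hT

/-- **Thompson's criterion for fusion systems.** -/
theorem IsSaturated.isInner_of_thompson (hF : F.IsSaturated p) (hS : IsPGroup p S) (hfree : F.Free p)
    (h : F.ThompsonInner) : F.IsInner :=
  isInner_of_thompson_aux p _ _ F rfl rfl hF hS hfree h


/-- A normal subgroup with `p`-group automiser and inner quotient forces the system to be inner. -/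
theorem IsSaturated.isInner_of_normal_quotient (hF : F.IsSaturated p) (hS : IsPGroup p S) (hX : F.IsNormal X)
    (hXp : IsPGroup p (F.autGroup X)) (hSS : IsPGroup p (F.autGroup S))
    {Ω' : Type u} [Group Ω'] (θ : S →* Ω') (E : FusionSystem θ.range)
    (hker : ∀ s : S, θ s = 1 ↔ (s : Ω) ∈ X)
    (hEm : ∀ P' φ', φ' ∈ E.Hom P' ↔ P' ≤ θ.range ∧ ∃ φ ∈ F.Hom (preimageAlong θ P'), InducedAlong θ φ φ')
    (hEi : E.IsInner) : F.IsInner := by
  have hXs := hX.stronglyClosed
  have hXfn : F.IsFullyNormalized X := isFullyNormalized_of_le_normalizer hX.1 hX.le_normalizer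
  have hK : ∀ φ : X →* Ω, φ ∈ F.Hom X → φ.range = X →
      ∃ k ∈ autInducedBy S X, ∀ x : X, φ x = ((k x : X) : Ω) := by
    intro φ hφ hr
    refine ⟨F.isoOf hφ hr, ?_, fun x => (coe_isoOf hφ hr x).symm⟩
    obtain ⟨-, R, hR⟩ := hF.isFullyAutomized_of_isFullyNormalized hS hXfn
    haveI := finite_autGroup (F := F) hX.1
    have htop : (R : Subgroup (F.autGroup X)) = ⊤ := (R.3 (hXp.of_equiv Subgroup.topEquiv.symm) le_top).symm
    rw [hR] at htop
    exact htop.ge (Subgroup.mem_top (⟨_, isoOf_mem_autGroup hφ hr⟩ : F.autGroup X))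
  haveI : Finite θ.range := Finite.of_surjective θ.rangeRestrict θ.rangeRestrict_surjective
  refine hF.isInner_of_essential hS hSS fun Q hQ => ?_
  have hQS : Q ≤ S := hQ.1.1
  haveI := finite_mulAut_of_le hQS
  haveI : Finite Q := finite_of_le hQS
  have hXQ : X ≤ Q := hX.le_of_centric_radical hS hQ.1 (hQ.isRadical hS hF)
  rintro ⟨α, hα⟩
  obtain ⟨φ, hφ, hr, he⟩ := F.exists_map_of_mem_autGroup hQS hα
  -- on `X` the map is induced by `S`
  obtain ⟨ψ, hψ, hψe, hψX⟩ := hX.2 Q φ hφ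
  obtain ⟨k, hk, hke⟩ := hK (ψ.comp (Subgroup.inclusion le_sup_right)) (F.restrict_mem hψ _) (by
    rw [range_eq_map_of_le le_sup_right]; exact hψX)
  obtain ⟨s, hs, hsN, hse⟩ := mem_autInducedBy_iff.mp hk
  -- modulo `X` as well
  have hle : preimageAlong θ (imageAlong θ Q) ≤ Q := by
    intro x hx
    obtain ⟨hxS, y, hy, hye⟩ := mem_preimageAlong.mp hx
    have h1 : (y : Ω)⁻¹ * x ∈ X :=
      (hker (y⁻¹ * ⟨x, hxS⟩)).mp (by rw [map_mul, map_inv, hye, inv_mul_cancel])
    have := Q.mul_mem hy (hXQ h1)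
    simpa using this
  obtain ⟨φ', hφ'⟩ := exists_inducedAlong hker hXs hφ
  have hφ'E : φ' ∈ E.Hom (imageAlong θ Q) := by
    refine (hEm _ _).mpr ⟨by rintro _ ⟨s, -, rfl⟩; exact ⟨s, rfl⟩, ?_⟩
    obtain ⟨h1, h2, h3, h4⟩ := hφ'
    exact ⟨_, F.restrict_mem hφ hle, preimageAlong_le, F.apply_mem (F.restrict_mem hφ hle),
      fun x => (mem_preimageAlong.mp x.2).2, fun x => h4 ⟨x, hle x.2⟩⟩
  obtain ⟨-, t', ⟨t, rfl⟩, hte⟩ := hEi _ hφ'E
  have hmod : ∀ x : Q, θ ⟨((α x : Q) : Ω), hQS (α x).2⟩ = θ t * θ ⟨(x : Ω), hQS x.2⟩ * (θ t)⁻¹ := by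
    intro x
    rw [show θ t * θ ⟨(x : Ω), hQS x.2⟩ * (θ t)⁻¹ = φ' ⟨θ ⟨(x : Ω), hQS x.2⟩, ⟨_, x.2, rfl⟩⟩ from
      (hte ⟨θ ⟨(x : Ω), hQS x.2⟩, ⟨_, x.2, rfl⟩⟩).symm,
      inducedAlong_apply_mem hφ hφ' x ⟨_, x.2, rfl⟩]
    exact congrArg θ (Subtype.ext (he x).symm)
  -- so a `p`-power of it stabilises `X ≤ Q`
  obtain ⟨m, hm⟩ := IsPGroup.iff_card.mp hS
  let n := p ^ m
  have hsn : (⟨s, hs⟩ : S) ^ n = 1 := by rw [show n = Nat.card S from hm.symm]; exact pow_card_eq_one'
  have htn : t ^ n = 1 := by rw [show n = Nat.card S from hm.symm]; exact pow_card_eq_one'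
  have hαX : ∀ (i : ℕ) (x : X), (((α ^ i) ⟨x, hXQ x.2⟩ : Q) : Ω) = s ^ i * x * (s ^ i)⁻¹ := by
    intro i
    induction i with
    | zero => intro x; simp
    | succ i ih =>
      intro x
      rw [pow_succ', MulAut.mul_apply]
      have hmem : s ^ i * x * (s ^ i)⁻¹ ∈ X :=
        (Subgroup.mem_normalizer_iff.mp (Subgroup.pow_mem _ hsN i) _).mp x.2
      rw [show (α ^ i) ⟨x, hXQ x.2⟩ = (⟨_, hXQ hmem⟩ : Q) from Subtype.ext (ih x)]
      have h1 : ψ ⟨s ^ i * x * (s ^ i)⁻¹, Subgroup.mem_sup_right hmem⟩ = ((k ⟨_, hmem⟩ : X) : Ω) := hke ⟨_, hmem⟩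
      rw [hse] at h1
      have h3 : ψ ⟨s ^ i * x * (s ^ i)⁻¹, Subgroup.mem_sup_right hmem⟩ = φ ⟨_, hXQ hmem⟩ :=
        hψe ⟨_, hXQ hmem⟩
      rw [← he, ← h3, h1, pow_succ']
      group
  have hαm : ∀ (i : ℕ) (x : Q), θ ⟨(((α ^ i) x : Q) : Ω), hQS ((α ^ i) x).2⟩ =
      θ t ^ i * θ ⟨(x : Ω), hQS x.2⟩ * (θ t ^ i)⁻¹ := by
    intro i
    induction i with
    | zero => intro x; simp
    | succ i ih =>
      intro x
      simp only [pow_succ', MulAut.mul_apply]
      rw [hmod, ih]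
      group
  have hβX : ∀ x : X, (((α ^ n) ⟨x, hXQ x.2⟩ : Q) : Ω) = x := by
    intro x
    have h1 : s ^ n = 1 := congrArg Subtype.val hsn
    rw [hαX, h1]
    simp
  have hβm : ∀ x : Q, (x : Ω)⁻¹ * (((α ^ n) x : Q) : Ω) ∈ X := by
    intro x
    refine (hker (⟨(x : Ω), hQS x.2⟩⁻¹ * ⟨_, hQS ((α ^ n) x).2⟩)).mp ?_
    rw [map_mul, map_inv, hαm, ← map_pow, htn, map_one, one_mul, inv_one, mul_one, inv_mul_cancel]
  have hp := isPGroup_of_stabilises (p := p) (hS.to_le hQS) (n := 2)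
    ![⊥, X.subgroupOf Q, ⊤] rfl rfl (Subgroup.zpowers (α ^ n)) ?_
  · obtain ⟨e, he'⟩ := hp ⟨_, Subgroup.mem_zpowers _⟩
    refine ⟨m + e, Subtype.ext ?_⟩
    have h1 : (α ^ n) ^ p ^ e = 1 := congrArg Subtype.val he'
    show α ^ p ^ (m + e) = 1
    rw [pow_add, pow_mul]
    exact h1
  · intro β hβ i x hx
    let good : Subgroup (MulAut Q) :=
      { carrier := {β | (∀ x : X, ((β ⟨x, hXQ x.2⟩ : Q) : Ω) = x) ∧ ∀ x : Q, (x : Ω)⁻¹ * ((β x : Q) : Ω) ∈ X}
        one_mem' := ⟨fun x => rfl, fun x => by simp⟩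
        mul_mem' := by
          rintro a b ⟨ha, ha'⟩ ⟨hb, hb'⟩
          refine ⟨fun x => ?_, fun x => ?_⟩
          · rw [MulAut.mul_apply, show b ⟨x, hXQ x.2⟩ = (⟨x, hXQ x.2⟩ : Q) from Subtype.ext (hb x), ha]
          · rw [MulAut.mul_apply]
            have := X.mul_mem (hb' x) (ha' (b x))
            simpa [mul_assoc] using this
        inv_mem' := by
          rintro a ⟨ha, ha'⟩
          refine ⟨fun x => ?_, fun x => ?_⟩
          · have e : a⁻¹ ⟨x, hXQ x.2⟩ = (⟨x, hXQ x.2⟩ : Q) := by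
              apply a.injective
              rw [MulAut.apply_inv_self]
              exact Subtype.ext (ha x).symm
            rw [e]
          · have h1 := ha' (a⁻¹ x)
            rw [MulAut.apply_inv_self] at h1
            simpa using X.inv_mem h1 }
    have hgood : Subgroup.zpowers (α ^ n) ≤ good := Subgroup.zpowers_le.mpr ⟨hβX, hβm⟩
    obtain ⟨h1, h2⟩ := hgood hβ
    fin_cases i
    · show x⁻¹ * β x ∈ (⊥ : Subgroup Q)
      have hxX : x ∈ X.subgroupOf Q := hx
      rw [Subgroup.mem_bot, inv_mul_eq_one]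
      exact Subtype.ext (h1 ⟨x, hxX⟩).symm
    · exact h2 x


/-! ### Consequences -/

/-- A system whose proper saturated subsystems on `S` are inner is inner or constrained. -/
theorem IsSaturated.isConstrained_of_sparse (hF : F.IsSaturated p) (hS : IsPGroup p S) (hfree : F.Free p)
    (hne : ¬ F.IsInner)
    (hsub : ∀ T : Subgroup Ω, T = S → ∀ E : FusionSystem T, E.IsSaturated p → E.IsSubsystemOf F →
      ¬ (∀ P, F.Hom P ⊆ E.Hom P) → E.IsInner) : F.IsConstrained p := by
  refine ⟨hF, F.core, isNormal_core F, ?_⟩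
  by_contra hc
  by_cases hb : F.core = ⊥
  · refine hne (hF.isInner_of_thompson hS hfree (ThompsonInner.of_normalizerInner hS fun V hVS hVne hVn => ?_))
    have hN : S ≤ Subgroup.normalizer (V : Set Ω) := Subgroup.le_normalizer.trans hVn
    have hVnn : ¬ F.IsNormal V := fun h => hVne (le_bot_iff.mp (hb ▸ h.le_core))
    have hNE := F.normalizerSystem_isNormalizerSystem V hVS
    exact hNE.normalizerInner (hsub _ (normalizerIn_eq_of_le_normalizer hN) _
      (hF.isSaturated_normalizerSystem hS (isFullyNormalized_of_le_normalizer hVS hN) hNE) hNE.subsystem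
      (hNE.proper hVS hVnn))
  · refine hne (hF.isInner_of_noncentric_core hS hc hsub fun Ω' _ θ E hE hker hEm => ?_)
    haveI : Finite θ.range := Finite.of_surjective θ.rangeRestrict θ.rangeRestrict_surjective
    have hpr : IsPGroup p θ.range := hS.of_surjective θ.rangeRestrict θ.rangeRestrict_surjective
    exact hE.isInner_of_thompson hpr (hfree.factor hker hEm) (ThompsonInner.of_normalizerInner hpr
      fun V hV hVne hVn => hF.normalizerInner_quotient hS rfl hsub θ E hker hEm hV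
        (Subgroup.le_normalizer.trans hVn) hVne)

omit [Finite S] [Fact p.Prime] in
theorem characteristic_center : ((S ⊓ Subgroup.centralizer (S : Set Ω) : Subgroup Ω).subgroupOf S).Characteristic := by
  have h : (S ⊓ Subgroup.centralizer (S : Set Ω) : Subgroup Ω).subgroupOf S = Subgroup.center S := by
    ext x
    rw [Subgroup.mem_center_iff]
    exact ⟨fun hx y => Subtype.ext (hx.2 y y.2), fun hx => ⟨x.2, fun y hy => congrArg Subtype.val (hx ⟨y, hy⟩)⟩⟩
  rw [h]
  infer_instance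

omit [Fact p.Prime] in
theorem characteristic_thompson : ((thompsonSubgroupAOf S).subgroupOf S).Characteristic := by
  rw [thompsonSubgroupAOf, Subgroup.subgroupOf, Subgroup.comap_map_eq_self_of_injective S.subtype_injective,
    Subgroup.characteristic_iff_map_eq]
  intro e
  rw [thompsonSubgroupA, ← CfsgLib.ZJ.goodMax_top_zero, ← CfsgLib.ZJ.thompsonJ,
    ← CfsgLib.ZJ.thompsonJ_map 0 (f := e.toMonoidHom) e.injective, Subgroup.map_top_of_surjective _ e.surjective]

theorem isInner_of_char_aux (p : ℕ) [Fact p.Prime] :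
    ∀ n m : ℕ, ∀ {Ω : Type u} [Group Ω] {S : Subgroup Ω} [Finite S] (F : FusionSystem S),
      Nat.card S = n → F.count = m → F.IsSaturated p → IsPGroup p S → F.Free p →
      (∀ Q : Subgroup Ω, Q ≤ S → Q ≠ ⊥ → (Q.subgroupOf S).Characteristic → IsPGroup p (F.autGroup Q)) →
      F.IsInner := by
  intro n
  induction n using Nat.strong_induction_on with
  | h n ihn =>
    intro m
    induction m using Nat.strong_induction_on with
    | h m ihm =>
      intro Ω _ S _ F hn hm hF hS hfree hH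
      have hsub : ∀ T : Subgroup Ω, T = S → ∀ E : FusionSystem T, E.IsSaturated p → E.IsSubsystemOf F →
          ¬ (∀ P, F.Hom P ⊆ E.Hom P) → E.IsInner := by
        rintro T rfl E hE hEF hne
        refine ihm _ (hm ▸ count_lt hEF hne) E hn rfl hE hS (hfree.mono hEF) fun Q hQ hQb hQc => ?_
        refine (hH Q hQ hQb hQc).to_le fun α hα => ?_
        obtain ⟨φ, hφ, -, he⟩ := E.exists_map_of_mem_autGroup hQ hα
        exact F.mem_autGroup_of_map (hEF Q hφ) fun x => (he x).symm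
      rcases eq_or_ne S ⊥ with hSb | hSb
      · exact fun P φ hφ => ⟨F.source_le hφ, 1, S.one_mem, fun x => by
          have h1 := F.apply_mem hφ x
          have h2 := F.source_le hφ x.2
          rw [hSb, Subgroup.mem_bot] at h1 h2
          rw [h1, h2]
          simp⟩
      have hSS : IsPGroup p (F.autGroup S) := by
        refine hH S le_rfl hSb ?_
        rw [Subgroup.subgroupOf_self]
        infer_instance
      have hV : ∀ V : Subgroup Ω, V ≤ S → V ≠ ⊥ → (V.subgroupOf S).Characteristic →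
          F.NormalizerInner V := by
        intro V hVS hVb hVc
        have hN : S ≤ Subgroup.normalizer (V : Set Ω) := by
          haveI : (V.subgroupOf S).Normal := Subgroup.normal_of_characteristic _
          exact (Subgroup.normal_subgroupOf_iff_le_normalizer hVS).mp inferInstance
        by_cases hVn : F.IsNormal V
        · refine normalizerInner_of_isInner ?_ hVS
          obtain ⟨Ω', _, θ, E, hE, hker, hEm⟩ := hF.exists_factor hS hVn
          haveI : Finite θ.range := Finite.of_surjective θ.rangeRestrict θ.rangeRestrict_surjective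
          refine hF.isInner_of_normal_quotient hS hVn (hH V hVS hVb hVc) hSS θ E hker hEm ?_
          have hlt : Nat.card θ.range < n := by
            obtain ⟨x, hx, hx1⟩ := (Subgroup.bot_or_exists_ne_one V).resolve_left hVb
            letI : Fintype S := Fintype.ofFinite _
            letI : Fintype θ.range := Fintype.ofFinite _
            rw [← hn]
            simp only [Nat.card_eq_fintype_card]
            refine Fintype.card_lt_of_surjective_not_injective θ.rangeRestrict θ.rangeRestrict_surjective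
              fun hinj => hx1 ?_
            have h1 : θ.rangeRestrict ⟨x, hVS hx⟩ = θ.rangeRestrict 1 := by
              apply Subtype.ext
              show θ ⟨x, hVS hx⟩ = θ 1
              rw [(hker _).mpr hx, map_one]
            exact congrArg Subtype.val (hinj h1)
          refine ihn _ hlt _ E rfl rfl hE (hS.of_surjective θ.rangeRestrict θ.rangeRestrict_surjective)
            (hfree.factor hker hEm) fun Q' hQ' hQb' hQc' => ?_
          set Y := preimageAlong θ Q' with hY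
          have hYS : Y ≤ S := preimageAlong_le
          have hYsub : Y.subgroupOf S = Q'.comap θ :=
            Subgroup.comap_map_eq_self_of_injective S.subtype_injective _
          have hYb : Y ≠ ⊥ := by
            intro e
            refine hQb' ((Subgroup.eq_bot_iff_forall _).mpr fun y hy => ?_)
            obtain ⟨s, rfl⟩ := hQ' hy
            have : (s : Ω) ∈ Y := mem_preimageAlong.mpr ⟨s.2, hy⟩
            rw [e, Subgroup.mem_bot] at this
            rw [show s = 1 from Subtype.ext this, map_one]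
          have hker' : θ.rangeRestrict.ker = V.subgroupOf S := by
            ext s
            rw [MonoidHom.ker_rangeRestrict, MonoidHom.mem_ker]
            exact hker s
          have hYc : (Y.subgroupOf S).Characteristic := by
            rw [hYsub, Subgroup.characteristic_iff_le_comap]
            intro e x hx
            let f : S →* θ.range := θ.rangeRestrict.comp e.toMonoidHom
            have hle : θ.rangeRestrict.ker ≤ f.ker := by
              intro s hs
              rw [hker'] at hs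
              have h1 : e s ∈ V.subgroupOf S := (Subgroup.characteristic_iff_le_comap.mp hVc e) hs
              rw [← hker'] at h1
              exact h1
            let g : θ.range →* θ.range :=
              θ.rangeRestrict.liftOfSurjective θ.rangeRestrict_surjective ⟨f, hle⟩
            have hg : ∀ s, g (θ.rangeRestrict s) = θ.rangeRestrict (e s) := fun s =>
              MonoidHom.liftOfRightInverse_comp_apply _ _ _ ⟨f, hle⟩ s
            have hgs : Function.Surjective g := fun y => by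
              obtain ⟨s, rfl⟩ := θ.rangeRestrict_surjective y
              exact ⟨θ.rangeRestrict (e.symm s), by rw [hg, MulEquiv.apply_symm_apply]⟩
            let ge : θ.range ≃* θ.range := MulEquiv.ofBijective g ⟨Finite.injective_iff_surjective.mpr hgs, hgs⟩
            have h1 : θ.rangeRestrict x ∈ Q'.subgroupOf θ.range := hx
            have h2 : ge (θ.rangeRestrict x) ∈ Q'.subgroupOf θ.range :=
              (Subgroup.characteristic_iff_le_comap.mp hQc' ge) h1
            rw [show ge (θ.rangeRestrict x) = θ.rangeRestrict (e x) from hg x] at h2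
            exact h2
          have hp := hH Y hYS hYb hYc
          rintro ⟨β, hβ⟩
          obtain ⟨φ', hφ', -, he'⟩ := E.exists_map_of_mem_autGroup hQ' hβ
          obtain ⟨-, φ, hφ, hind⟩ := (hEm _ _).mp hφ'
          have hφY : ∀ x : Y, φ x ∈ Y := fun x => by
            refine mem_preimageAlong.mpr ⟨F.apply_mem hφ x, ?_⟩
            rw [← inducedAlong_apply_mem hφ hind x (mem_preimageAlong.mp x.2).2, he']
            exact SetLike.coe_mem _
          haveI : Finite Y := finite_of_le hYS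
          have hφr : φ.range = Y := by
            refine Subgroup.eq_of_le_of_card_ge (by rintro _ ⟨x, rfl⟩; exact hφY x) (le_of_eq ?_)
            exact Nat.card_congr (MonoidHom.ofInjective (F.injective_of_mem hφ)).toEquiv
          obtain ⟨k, hk⟩ := hp ⟨F.isoOf hφ hφr, isoOf_mem_autGroup hφ hφr⟩
          have hk' : (F.isoOf hφ hφr : MulAut Y) ^ p ^ k = 1 := congrArg Subtype.val hk
          have hiter : ∀ (i : ℕ) (x : Y) (hx : θ ⟨x, hYS x.2⟩ ∈ Q'),
              (((β ^ i) ⟨_, hx⟩ : Q') : Ω') = θ ⟨((((F.isoOf hφ hφr : MulAut Y) ^ i) x : Y) : Ω),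
                hYS (((F.isoOf hφ hφr : MulAut Y) ^ i) x).2⟩ := by
            intro i
            induction i with
            | zero => intro x hx; simp
            | succ i ih =>
              intro x hx
              simp only [pow_succ', MulAut.mul_apply]
              set z := ((F.isoOf hφ hφr : MulAut Y) ^ i) x with hz
              have hzQ : θ ⟨z, hYS z.2⟩ ∈ Q' := (mem_preimageAlong.mp z.2).2
              rw [show (β ^ i) ⟨_, hx⟩ = (⟨_, hzQ⟩ : Q') from Subtype.ext (ih x hx), ← he',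
                inducedAlong_apply_mem hφ hind z hzQ]
              exact congrArg θ (Subtype.ext (coe_isoOf hφ hφr z).symm)
          refine ⟨k, Subtype.ext (MulEquiv.ext fun y => Subtype.ext ?_)⟩
          obtain ⟨x, hx, hxS, e⟩ := exists_mem_preimageAlong hQ' y
          have hxQ : θ ⟨x, hxS⟩ ∈ Q' := e ▸ y.2
          rw [show y = (⟨_, hxQ⟩ : Q') from Subtype.ext e.symm]
          show (((β ^ p ^ k) ⟨_, hxQ⟩ : Q') : Ω') = _
          rw [hiter (p ^ k) ⟨x, hx⟩ hxQ]
          simp only [hk', MulAut.one_apply]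
          rfl
        · have hNE := F.normalizerSystem_isNormalizerSystem V hVS
          exact hNE.normalizerInner (hsub _ (normalizerIn_eq_of_le_normalizer hN) _
            (hF.isSaturated_normalizerSystem hS (isFullyNormalized_of_le_normalizer hVS hN) hNE) hNE.subsystem
            (hNE.proper hVS hVn))
      refine hF.isInner_of_thompson hS hfree ⟨(hV _ inf_le_left ?_ characteristic_center).centralizerInner inf_le_left,
        hV _ (Subgroup.map_subtype_le _) ?_ characteristic_thompson⟩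
      · haveI : Nontrivial S := (Subgroup.nontrivial_iff_ne_bot _).mpr hSb
        haveI := hS.center_nontrivial
        obtain ⟨⟨z, hz⟩, hz1⟩ := exists_ne (1 : Subgroup.center S)
        intro hb
        have : (z : Ω) ∈ (S ⊓ Subgroup.centralizer (S : Set Ω) : Subgroup Ω) :=
          ⟨z.2, fun y hy => congrArg Subtype.val (Subgroup.mem_center_iff.mp hz ⟨y, hy⟩)⟩
        rw [hb, Subgroup.mem_bot] at this
        exact hz1 (Subtype.ext (Subtype.ext this))
      · intro hb
        have h1 := CfsgLib.ZJ.centerThompsonAOf_ne_bot hS hSb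
        rw [centerThompsonAOf, hb] at h1
        exact h1 (by simp)

theorem IsSaturated.isInner_of_char (hF : F.IsSaturated p) (hS : IsPGroup p S) (hfree : F.Free p)
    (h : ∀ Q : Subgroup Ω, Q ≤ S → Q ≠ ⊥ → (Q.subgroupOf S).Characteristic → IsPGroup p (F.autGroup Q)) :
    F.IsInner :=
  isInner_of_char_aux p _ _ F rfl rfl hF hS hfree h

end Cfsg.FusionSystem
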