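import Cfsg.Agent.Lib.Fusion.ComponentExists
import Cfsg.Agent.Lib.Fusion.Model.Local
import Cfsg.Agent.Lib.CoprimeSeries
import Cfsg.Agent.Lib.Elementary
import Mathlib.GroupTheory.SemidirectProduct

/-!
Characteristic `p` type against component type.
-/

set_option autoImplicit false
set_option linter.unusedSectionVars false
set_option linter.style.haveILetI false

namespace Cfsg.FusionSystem.Components

open Cfsg.FusionSystem.SubCent
open Cfsg.FusionSystem.CoreCent (exists_iterate_pprime)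

universe u

/-- Thompson's lemma for automorphisms. -/
theorem eq_one_axb {G : Type u} [Group G] [Finite G] {p : ℕ} [Fact p.Prime] (hG : IsPGroup p G)
    {B : Subgroup (MulAut G)} (hB : IsPGroup p B) {γ : MulAut G} (hord : (orderOf γ).Coprime p)
    (hcomm : ∀ b ∈ B, γ * b = b * γ) (hfix : ∀ g : G, (∀ b ∈ B, b g = g) → γ g = g) : γ = 1 := by
  haveI : Finite (MulAut G) := Finite.of_injective (fun a : MulAut G => (a : G → G)) DFunLike.coe_injective
  let H := G ⋊[MonoidHom.id (MulAut G)] MulAut G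
  haveI : Finite H := Finite.of_injective (fun x : H => (x.left, x.right)) fun x y h =>
    SemidirectProduct.ext (congrArg Prod.fst h) (congrArg Prod.snd h)
  let inG : G →* H := SemidirectProduct.inl
  let inA : MulAut G →* H := SemidirectProduct.inr
  have hconj : ∀ (a : MulAut G) (g : G), inA a * inG g * (inA a)⁻¹ = inG (a g) := fun a g => by
    rw [← map_inv, show inG (a g) = inA a * inG g * inA a⁻¹ from SemidirectProduct.inl_aut a g]
  have hnorm : ∀ a : MulAut G, inA a ∈ Subgroup.normalizer (inG.range : Set H) := fun a =>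
    Subgroup.mem_normalizer_fintype fun y ⟨g, hg⟩ => ⟨a g, by rw [← hg, hconj]⟩
  have hx : (orderOf (inA γ)).Coprime p := by
    rw [orderOf_injective inA SemidirectProduct.inr_injective]
    exact hord
  have key := CfsgLib.Stabilizer.thompson_axb (R := inG.range) (Q := B.map inA)
    (hG.of_surjective inG.rangeRestrict inG.rangeRestrict_surjective) (hB.map inA)
    (fun y hy => by obtain ⟨a, -, rfl⟩ := hy; exact hnorm a) hx (hnorm γ)
    (fun y hy => by
      obtain ⟨b, hb, rfl⟩ := hy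
      rw [← map_mul, ← map_mul, hcomm b hb])
    (fun y hy => by
      obtain ⟨⟨g, rfl⟩, hc⟩ := hy
      have h1 : γ g = g := hfix g fun b hb => by
        have h := Subgroup.mem_centralizer_iff.mp hc (inA b) ⟨b, hb, rfl⟩
        have h2 := hconj b g
        rw [h, mul_inv_cancel_right] at h2
        exact (SemidirectProduct.inl_injective h2).symm
      have h3 := hconj γ g
      rw [h1, mul_inv_eq_iff_eq_mul] at h3
      exact h3)
  refine MulEquiv.ext fun g => ?_
  have h := key (inG g) ⟨g, rfl⟩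
  have h2 := hconj γ g
  rw [h, mul_inv_cancel_right] at h2
  exact (SemidirectProduct.inl_injective h2).symm

variable {Ω : Type u} [Group Ω] {S U : Subgroup Ω} {F : FusionSystem S} {D : FusionSystem U} {p : ℕ}
  [Fact p.Prime] [Finite S]

/-- The group is normal in an inner system. -/
theorem isNormal_self_of_le_inner (hle : F ≤ innerFusionSystem S) : F.IsNormal S := by
  refine ⟨le_rfl, fun P φ hφ => ?_⟩
  obtain ⟨hP, g, hg, hge⟩ := hle P hφ
  obtain ⟨ψ, hψ, hr, hψe⟩ := (isIso_conj_normalizer le_rfl hg (Subgroup.le_normalizer hg) :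
    F.IsIso S S fun x => g * x * g⁻¹)
  have hsup : P ⊔ S = S := sup_eq_right.mpr hP
  refine ⟨ψ.comp (Subgroup.inclusion hsup.le), F.restrict_mem hψ hsup.le,
    fun x => (hψe _).trans (hge x).symm, ?_⟩
  ext y
  constructor
  · rintro ⟨x, hx, rfl⟩
    exact hr.le ⟨_, rfl⟩
  · intro hy
    obtain ⟨x, rfl⟩ := hr.ge hy
    exact ⟨⟨x, Subgroup.mem_sup_right x.2⟩, x.2, rfl⟩

/-- A system is constrained if the centraliser of one of its normal subgroups is. -/
theorem isConstrained_of_centralizer (hS : IsPGroup p S) (hF : F.IsSaturated p) {R : Subgroup Ω}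
    (hR : F.IsNormal R) (hK : (F.centralizerSystem R hR.1).IsConstrained p) : F.IsConstrained p := by
  have hn := CoreCent.isNormalIn_centralizerSystem hS hF hR
  haveI := finite_of_le (centralizerIn_le (S := S) (P := R))
  have h1 := (hn.1.2.2.isNormal_core hF hS).le_core
  have hRc : R ≤ F.core := hR.le_core
  have hcore := FusionSystem.isNormal_core F
  refine ⟨hF, F.core, hcore, hcore.1, fun Q hQ => ?_⟩
  obtain ⟨φ, hφ, rfl⟩ := hQ
  have hr : φ.range = F.core := by
    have := hcore.stronglyClosed.map_eq hφ le_rfl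
    rwa [Subgroup.subgroupOf_self, ← MonoidHom.range_eq_map] at this
  rw [hr]
  rintro x ⟨hxS, hxC⟩
  exact h1 (hK.isCentric_core.centralizerIn_le_self
    ⟨⟨hxS, Subgroup.centralizer_le hRc hxC⟩, Subgroup.centralizer_le h1 hxC⟩)

/-- A local subsystem of a constrained system is constrained. -/
theorem isConstrained_normalizerSystem (hS : IsPGroup p S) (hF : F.IsConstrained p) (hU : F.IsFullyNormalized U) :
    (F.normalizerSystem U hU.1).IsConstrained p := by
  set M := normalizerIn S U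
  set N := F.normalizerSystem U hU.1
  have hNs : F.IsNormalizerSystem U N := F.normalizerSystem_isNormalizerSystem U hU.1
  have hNsat : N.IsSaturated p := hF.1.isSaturated_normalizerSystem hS hU hNs
  haveI := finite_normalizerIn (S := S) (P := U)
  have hMS : M ≤ S := normalizerIn_le
  have hM : IsPGroup p M := hS.to_le hMS
  have hQ := FusionSystem.isNormal_core F
  have hQc := hF.isCentric_core
  set Q := F.core
  haveI := finite_of_le hQ.1
  have hsubN : N.IsSubsystemOf F := fun P φ h => h.1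
  have hW : N.IsNormal (Q ⊓ M) := by
    haveI : Group.IsNilpotent Q := (hS.to_le hQ.1).isNilpotent
    obtain ⟨n, hn⟩ := Group.IsNilpotent.nilpotent Q
    let Y : ℕ → Subgroup Ω := fun i => (Subgroup.upperCentralSeries Q i).map Q.subtype
    have hY : ∀ i, F.StronglyClosed (Y i) := by
      intro i
      refine (hQ.of_characteristic (Subgroup.map_subtype_le _) ?_).stronglyClosed
      rw [Subgroup.subgroupOf, Subgroup.comap_map_eq_self_of_injective Q.subtype_injective]
      infer_instance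
    refine hNsat.isNormal_of_series hM (n := n) (fun i => Y i ⊓ M) ?_ ?_ ?_
      fun i => ⟨⟨inf_le_right, fun P hP φ hφ y =>
        ⟨(hY _).2 P (hP.trans inf_le_left) φ (hsubN P hφ) y, N.apply_mem hφ y⟩⟩, ?_⟩
    · simp [Y]
    · simp [Y, hn, ← MonoidHom.range_eq_map]
    · intro i j hij
      exact inf_le_inf_right _ (Subgroup.map_mono (Subgroup.upperCentralSeries_mono _ hij))
    · refine Subgroup.commutator_le.mpr fun a ha b hb => ?_
      obtain ⟨y, hy, hyb⟩ := hb.1
      refine ⟨?_, Subgroup.mul_mem _ (Subgroup.mul_mem _ (Subgroup.mul_mem _ ha.2 hb.2)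
        (Subgroup.inv_mem _ ha.2)) (Subgroup.inv_mem _ hb.2)⟩
      subst hyb
      have h1 := InvMemClass.inv_mem ((Subgroup.mem_upperCentralSeries_succ_iff.mp hy) ⟨a, ha.1⟩)
      exact ⟨_, h1, by simp [commutatorElement_def, mul_assoc]⟩
  have hR : N.IsNormal (U ⊔ (Q ⊓ M)) := (hNs.isNormal hU.1).sup hW
  set R := U ⊔ (Q ⊓ M)
  refine isConstrained_of_centralizer hM hNsat hR ?_
  have hK := CoreCent.isNormalIn_centralizerSystem hM hNsat hR
  set V := centralizerIn M R
  haveI := finite_of_le (centralizerIn_le : V ≤ M)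
  have hVp : IsPGroup p V := hM.to_le centralizerIn_le
  suffices hle : N.centralizerSystem R hR.1 ≤ innerFusionSystem V from
    ⟨hK.1.1, V, isNormal_self_of_le_inner hle, isCentric_self⟩
  refine hK.1.1.le_of_pResidual_le hVp fun P hP => ?_
  rw [pResidual, Subgroup.map_le_iff_le_comap, Subgroup.closure_le]
  rintro ⟨α, hα⟩ hord
  replace hord : (orderOf α).Coprime p := by rw [← Subgroup.orderOf_mk α hα]; exact hord
  suffices hα1 : α = 1 by
    subst hα1
    exact Subgroup.one_mem _
  obtain ⟨f, ⟨φ, hφ, hφr, hφe⟩, hfe⟩ := isIso_of_aut hP hα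
  obtain ⟨-, -, -, ψ, hψ, hψe, hψR⟩ := hφ
  have hψF : ψ ∈ F.Hom (P ⊔ R) := hsubN _ hψ
  obtain ⟨χ, hχ, hχe, hχQ⟩ := hQ.2 _ ψ hψF
  have hi := isIso_funOf (E := F) hχ
  have hgψ : ∀ x : ↥(P ⊔ R), funOf χ x = ψ x := fun x => by
    rw [← hχe x]
    exact (funOf_apply χ ⟨(x : Ω), Subgroup.mem_sup_left x.2⟩).symm
  have hfPR : ∀ x ∈ R, funOf χ x = x := fun x hx =>
    (hgψ ⟨x, Subgroup.mem_sup_right hx⟩).trans (hψR ⟨x, hx⟩)
  have hfP : ∀ x : P, funOf χ x = (α x : P) := fun x => by
    rw [hfe, ← hφe, ← hψe x]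
    exact hgψ (Subgroup.inclusion le_sup_left x)
  have hfQ : ∀ x ∈ Q, funOf χ x ∈ Q := fun x hx => by
    rw [← funOf_apply χ ⟨x, Subgroup.mem_sup_right hx⟩]
    exact hχQ.le ⟨_, hx, rfl⟩
  generalize funOf χ = g at hi hfPR hfP hfQ
  generalize χ.range = B at hi
  have hPA : P ≤ (P ⊔ R) ⊔ Q := le_sup_left.trans le_sup_left
  have hRA : R ≤ (P ⊔ R) ⊔ Q := le_sup_right.trans le_sup_left
  have hgA : F.IsIso (P ⊔ R) (P ⊔ R) g :=
    sup_image hi hPA hRA (image_self hi hPA fun x hx => hfP ⟨x, hx⟩ ▸ SetLike.coe_mem _)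
      (image_self hi hRA fun x hx => (hfPR x hx).symm ▸ hx)
  have hg : F.IsIso ((P ⊔ R) ⊔ Q) ((P ⊔ R) ⊔ Q) g :=
    sup_image hi le_sup_left le_sup_right (image_self hi le_sup_left fun x hx => hgA.mem hx)
      (image_self hi le_sup_right hfQ)
  have hpm : ¬ p ∣ orderOf α := fun hd =>
    (Fact.out : p.Prime).one_lt.ne' (Nat.eq_one_of_dvd_coprimes hord hd dvd_rfl)
  have hA : F.IsIso (P ⊔ R) (P ⊔ R) g^[orderOf α] := iterate_isIso hgA _
  have hperA : ∀ x ∈ P ⊔ R, g^[orderOf α] x = x := by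
    have hcl : P ⊔ R = Subgroup.closure ((P : Set Ω) ∪ R) := by
      rw [Subgroup.closure_union, Subgroup.closure_eq, Subgroup.closure_eq]
    intro x hx
    refine forall_closure_fixed hA (s := (P : Set Ω) ∪ R) hcl.ge (fun y hy => ?_) x (hcl.le hx)
    rcases hy with hy | hy
    · rw [← coe_pow_apply (fun x : P => (hfP x).symm) (orderOf α) ⟨y, hy⟩, pow_orderOf_eq_one]
      rfl
    · exact Function.iterate_fixed (hfPR y hy) _
  obtain ⟨j, hjA, m, hm, hper⟩ := exists_iterate_pprime hg hpm hperA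
  set b := g^[j]
  have hb : F.IsIso ((P ⊔ R) ⊔ Q) ((P ⊔ R) ⊔ Q) b := iterate_isIso hg j
  have hbR : ∀ x ∈ R, b x = x := fun x hx => (hjA x (Subgroup.mem_sup_right hx)).trans (hfPR x hx)
  have hbP : ∀ x : P, b x = (α x : P) := fun x => (hjA x (Subgroup.mem_sup_left x.2)).trans (hfP x)
  have hbQ : ∀ x ∈ Q, b x ∈ Q := by
    intro x hx
    show g^[j] x ∈ Q
    clear hjA hper hb hbR hbP
    induction j with
    | zero => exact hx
    | succ i ih => rw [Function.iterate_succ_apply']; exact hfQ _ ih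
  obtain ⟨γ, -, hγe⟩ := (isIso_self hb le_sup_right hbQ).toAut
  haveI := finite_mulAut_of_le hQ.1
  have hγm : γ ^ m = 1 := MulEquiv.ext fun x => Subtype.ext
    ((coe_pow_apply hγe m x).trans (hper x (Subgroup.mem_sup_right x.2)))
  have hmp : m.Coprime p := ((Nat.Prime.coprime_iff_not_dvd Fact.out).mpr hm).symm
  have hUS : U ≤ S := hU.1
  have hUQ : U ≤ Subgroup.normalizer (Q : Set Ω) := hUS.trans hQ.le_normalizer
  have hUR : U ≤ R := le_sup_left
  have hγ1 : γ = 1 := by
    refine eq_one_axb (hS.to_le hQ.1) (B := autInducedBy U Q) (isPGroup_autInducedBy (hS.to_le hUS))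
      (Nat.Coprime.coprime_dvd_left (orderOf_dvd_of_pow_eq_one hγm) hmp) (fun w hw => ?_) fun q hq => ?_
    · obtain ⟨u, hu, hun, hue⟩ := mem_autInducedBy_iff.mp hw
      refine MulEquiv.ext fun q => Subtype.ext ?_
      rw [MulAut.mul_apply, MulAut.mul_apply, hγe, hue, hue, hγe,
        hb.apply_conj (Subgroup.mem_sup_left (Subgroup.mem_sup_right (hUR hu))) (Subgroup.mem_sup_right q.2),
        hbR u (hUR hu)]
    · apply Subtype.ext
      rw [hγe]
      refine hbR q (Subgroup.mem_sup_right ⟨q.2, hQ.1 q.2, ?_⟩)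
      haveI := finite_of_le hUS
      refine Subgroup.mem_normalizer_fintype fun u hu => ?_
      have h1 : u * (q : Ω) * u⁻¹ = q := by
        have hw : Q.normalizerMonoidHom ⟨u, hUQ hu⟩ ∈ autInducedBy U Q := mem_autInducedBy_iff.mpr ⟨u, hu, hUQ hu, fun _ => rfl⟩
        exact congrArg Subtype.val (hq _ hw)
      rw [SetLike.mem_coe, show (q : Ω) * u * (q : Ω)⁻¹ = u by
        rw [show (q : Ω) * u = u * q by nth_rewrite 1 [← h1]; group, mul_inv_cancel_right]]
      exact hu
  -- so `α` is trivial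
  refine MulEquiv.ext fun x => Subtype.ext ?_
  rw [← hbP]
  show b x = x
  have hxA : (x : Ω) ∈ (P ⊔ R) ⊔ Q := hPA x.2
  have hxM : (x : Ω) ∈ M := centralizerIn_le (hP x.2)
  have hbx : b x ∈ M := centralizerIn_le (hP (hbP x ▸ SetLike.coe_mem _ : b x ∈ P))
  have hbq : ∀ q ∈ Q, b q = q := fun q hq => by
    have := hγe ⟨q, hq⟩
    rw [hγ1] at this
    exact this.symm
  have hz : (x : Ω)⁻¹ * b x ∈ Q := by
    refine hQc.centralizerIn_le_self ⟨S.mul_mem (S.inv_mem (hMS hxM)) (hMS hbx),
      Subgroup.mem_centralizer_iff.mpr fun q hq => ?_⟩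
    have hxq : (x : Ω) * q * (x : Ω)⁻¹ ∈ Q := (Subgroup.mem_normalizer_iff.mp (hQ.le_normalizer (hMS hxM)) q).mp hq
    have h1 := hb.apply_conj hxA (Subgroup.mem_sup_right hq)
    rw [hbq _ hxq, hbq q hq] at h1
    calc q * ((x : Ω)⁻¹ * b x) = (x : Ω)⁻¹ * ((x : Ω) * q * (x : Ω)⁻¹) * b x := by group
      _ = (x : Ω)⁻¹ * b x * q := by rw [h1]; group
  have hiter : ∀ k : ℕ, b^[k] x = x * ((x : Ω)⁻¹ * b x) ^ k := by
    intro k
    induction k with
    | zero => simp
    | succ k ih =>
      rw [Function.iterate_succ_apply', ih,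
        hb.apply_mul hxA (Subgroup.mem_sup_right (Q.pow_mem hz k)), hbq _ (Q.pow_mem hz k), pow_succ']
      simp only [mul_assoc, mul_inv_cancel_left]
  have h2 := hiter m
  rw [hper x hxA] at h2
  obtain ⟨k, hk⟩ := hS.to_le hQ.1 ⟨_, hz⟩
  have h3 : (x : Ω)⁻¹ * b x = 1 := eq_one_of_coprime_pow (congrArg Subtype.val hk)
    (mul_left_cancel (a := (x : Ω)) (h2.symm.trans (mul_one _).symm)) (Nat.Coprime.pow_left k hmp.symm)
  exact (inv_mul_eq_one.mp h3).symm

/-- A local subsystem is constrained when a centraliser of order `p` below it is. -/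
theorem isConstrained_of_element (hS : IsPGroup p S) (hF : F.IsSaturated p) (hU : F.IsFullyNormalized U)
    {X : Subgroup Ω} (hXU : X ≤ U) (hX : F.IsFullyNormalized X) (hNX : normalizerIn S U ≤ centralizerIn S X)
    (hC : (F.centralizerSystem X hX.1).IsConstrained p) : (F.normalizerSystem U hU.1).IsConstrained p := by
  set M := normalizerIn S U
  set N := F.normalizerSystem U hU.1
  have hNs : F.IsNormalizerSystem U N := F.normalizerSystem_isNormalizerSystem U hU.1
  have hNsat : N.IsSaturated p := hF.isSaturated_normalizerSystem hS hU hNs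
  haveI := finite_normalizerIn (S := S) (P := U)
  haveI := finite_of_le (centralizerIn_le (S := S) (P := X))
  have hMp : IsPGroup p M := hS.to_le normalizerIn_le
  have hUn : N.IsNormal U := hNs.isNormal hU.1
  set C := F.centralizerSystem X hX.1
  have hUC : U ≤ centralizerIn S X := (le_normalizerIn hU.1).trans hNX
  have hM : normalizerIn (centralizerIn S X) U = M :=
    le_antisymm (fun x hx => ⟨hx.1.1, hx.2⟩) fun x hx => ⟨hNX hx, hx.2⟩
  have hUfn : C.IsFullyNormalized U := by
    refine ⟨hUC, fun Q hQ => ?_⟩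
    obtain ⟨φ, hφ, hr⟩ := hQ
    rw [hM]
    haveI := finite_normalizerIn (S := S) (P := Q)
    refine le_trans (Nat.card_le_card_of_injective (Subgroup.inclusion
      (show normalizerIn (centralizerIn S X) Q ≤ normalizerIn S Q from fun x hx => ⟨hx.1.1, hx.2⟩))
      (Subgroup.inclusion_injective _)) (hU.2 Q ⟨φ, hφ.1, hr⟩)
  have hN' := isConstrained_normalizerSystem (hS.to_le centralizerIn_le) hC hUfn
  refine isConstrained_of_centralizer hMp hNsat hUn ?_
  haveI := finite_normalizerIn (S := centralizerIn S X) (P := U)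
  have hK := CoreCent.isNormalIn_centralizerSystem hMp hNsat hUn
  refine hN'.of_subsystem ((hS.to_le centralizerIn_le).to_le normalizerIn_le) hK.1.1 ?_ ?_
  · rintro P φ ⟨hφ, hP, hφv, ψ, hψ, hψe, hψU⟩
    have hPM : P ≤ M := hP.trans centralizerIn_le
    have hψF : ψ ∈ F.Hom (P ⊔ U) := hψ.1
    have hψM : ∀ x, ψ x ∈ M := hψ.2.2.1
    have hsup : P ⊔ X ≤ P ⊔ U := sup_le_sup_left hXU P
    have hfixX : ∀ x : X, ψ (Subgroup.inclusion hsup (Subgroup.inclusion le_sup_right x)) = x := fun x =>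
      hψU ⟨x, hXU x.2⟩
    have hφC : φ ∈ F.centralizerHom X P := by
      refine ⟨hφ.1, fun x hx => hNX (hPM hx), fun x => hNX (centralizerIn_le (hφv x)),
        _, F.restrict_mem hψF hsup, fun x => hψe x, hfixX⟩
    refine ⟨hφC, fun x hx => hM.ge (hPM hx), fun x => hM.ge (centralizerIn_le (hφv x)), ψ, ?_, hψe, ?_⟩
    · refine ⟨hψF, fun x hx => hNX (sup_le hPM (le_normalizerIn hU.1) hx), fun x => hNX (hψM x),
        ψ.comp (Subgroup.inclusion (sup_le le_rfl (hXU.trans le_sup_right))), F.restrict_mem hψF _, fun x => rfl,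
        fun x => hψU ⟨x, hXU x.2⟩⟩
    · ext y
      constructor
      · rintro ⟨x, hx, rfl⟩
        show ψ (Subgroup.inclusion le_sup_right ⟨(x : Ω), hx⟩) ∈ U
        rw [hψU]
        exact hx
      · intro hy
        exact ⟨⟨y, Subgroup.mem_sup_right hy⟩, hy, hψU ⟨y, hy⟩⟩
  · refine ⟨fun x hx => hM.ge (centralizerIn_le hx), fun P hP φ hφ x => ?_⟩
    obtain ⟨-, hPM, hφM, ψ, hψ, hψe, hψU⟩ := hφ
    refine ⟨hM.le (hφM x), Subgroup.mem_centralizer_iff.mpr fun y hy => ?_⟩
    obtain ⟨z, hz, rfl⟩ := hψU.ge hy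
    rw [← hψe x, ← map_mul, ← map_mul]
    exact congrArg ψ (Subtype.ext (Subgroup.mem_centralizer_iff.mp (hP x.2).2 z hz))

end Cfsg.FusionSystem.Components
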