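import Cfsg.Agent.Lib.Fusion.Transport
import Cfsg.Agent.Lib.Fusion.Induction
import Cfsg.Agent.Lib.Fusion.Hyperfocal
import Cfsg.Agent.Lib.Fusion.Normal
import Mathlib.GroupTheory.SemidirectProduct

/-!
Extremely sparse fusion systems.
-/

set_option autoImplicit false
set_option linter.unusedSectionVars false

universe u

namespace Cfsg

namespace FusionSystem

variable {Ω : Type u} [Group Ω] {S : Subgroup Ω} [Finite S] {F : FusionSystem S} {p : ℕ} [Fact p.Prime]

/-- A `p'`-group of automorphisms generates, with the inner ones, a saturated system. -/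
theorem exists_generated_system {Q : Subgroup Ω} [Finite Q] (hQ : IsPGroup p Q) (H : Subgroup (MulAut Q))
    (hH : (Nat.card H).Coprime p) :
    ∃ E : FusionSystem Q, E.IsSaturated p ∧ H ≤ E.autGroup Q ∧
      ∀ (P : Subgroup Ω) (φ : P →* Ω), φ ∈ E.Hom P → ∃ (hP : P ≤ Q), ∃ a ∈ Inn Q ⊔ H,
        ∀ x : P, φ x = ((a (Subgroup.inclusion hP x) : Q) : Ω) := by
  haveI : Finite (MulAut Q) := finite_mulAut_of_le le_rfl
  let G := Q ⋊[H.subtype] H
  haveI : Finite G := Finite.of_equiv _ SemidirectProduct.equivProd.symm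
  let ι : Q →* G := SemidirectProduct.inl
  have hιp : IsPGroup p ι.range := hQ.of_surjective ι.rangeRestrict ι.rangeRestrict_surjective
  have hidx : ¬ p ∣ ι.range.index := by
    have h1 : ι.range.index = Nat.card H := by
      rw [show ι.range = (SemidirectProduct.rightHom : G →* H).ker from SemidirectProduct.range_inl_eq_ker_rightHom,
        Subgroup.index_ker, MonoidHom.range_eq_top.mpr SemidirectProduct.rightHom_surjective, Subgroup.card_top]
    rw [h1]
    exact (Nat.Prime.coprime_iff_not_dvd Fact.out).mp hH.symm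
  let T : Sylow p G := hιp.toSylow hidx
  let e : Q ≃* ι.range := MonoidHom.ofInjective SemidirectProduct.inl_injective
  let β : ι.range →* Ω := Q.subtype.comp e.symm.toMonoidHom
  have hβr : β.range = Q := by
    rw [MonoidHom.range_comp, MonoidHom.range_eq_top.mpr e.symm.surjective, ← MonoidHom.range_eq_map,
      Subgroup.range_subtype]
  obtain ⟨E, hE⟩ := exists_isFactorSystem_bot (groupFusionSystem (T : Subgroup G)) β
    (Q.subtype_injective.comp e.symm.injective) hβr
  have hβe : ∀ s : Q, β (e s) = (s : Ω) := fun s => congrArg Subtype.val (e.symm_apply_apply s)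
  refine ⟨E, hE.isSaturated T.2 (groupFusionSystem_isSaturated T), fun a ha => ?_, fun P φ hφ => ?_⟩
  · have hval : ∀ s : Q, SemidirectProduct.inr ⟨a, ha⟩ * ι s * (SemidirectProduct.inr (⟨a, ha⟩ : H))⁻¹ = ι (a s) :=
      fun s => by
        rw [← map_inv]
        exact (SemidirectProduct.inl_aut (φ := H.subtype) ⟨a, ha⟩ s).symm
    obtain ⟨χ, hχ, hχe⟩ := hE.up (conjHom_mem_groupFusionSystem (g := (SemidirectProduct.inr ⟨a, ha⟩ : G))
      (le_refl (T : Subgroup G)) (by
        rintro _ ⟨s, rfl⟩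
        exact ⟨a s, (hval s).symm⟩))
    have hle : Q ≤ imageAlong β (T : Subgroup G) := fun x hx => ⟨e ⟨x, hx⟩, (e ⟨x, hx⟩).2, hβe ⟨x, hx⟩⟩
    refine (E.mem_autGroup_iff le_rfl).mpr (E.mem_of_restrict hχ hle fun x hx => ?_)
    have hm : β (e ⟨x, hx⟩) ∈ imageAlong β (T : Subgroup G) := ⟨e ⟨x, hx⟩, (e ⟨x, hx⟩).2, rfl⟩
    refine Eq.symm ((congrArg χ (Subtype.ext (hβe ⟨x, hx⟩).symm)).trans
      ((hχe (e ⟨x, hx⟩) (e ⟨x, hx⟩).2 hm).trans ?_))
    refine Eq.trans ?_ (hβe (a ⟨x, hx⟩))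
    exact congrArg β (Subtype.ext (hval ⟨x, hx⟩))
  · have hP : P ≤ Q := E.source_le hφ
    obtain ⟨φ', hφ', he'⟩ := hE.down hφ
    obtain ⟨-, -, g, hg⟩ := id hφ'
    refine ⟨hP, MulAut.conj g.left * (g.right : MulAut Q),
      mul_mem (Subgroup.mem_sup_left ⟨g.left, rfl⟩) (Subgroup.mem_sup_right g.right.2), fun x => ?_⟩
    have hm : β (e (Subgroup.inclusion hP x)) ∈ P := by
      rw [hβe]
      exact x.2
    have hpre : ((e (Subgroup.inclusion hP x) : ι.range) : G) ∈ preimageAlong β P :=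
      mem_preimageAlong.mpr ⟨(e (Subgroup.inclusion hP x)).2, hm⟩
    refine ((congrArg φ (Subtype.ext (hβe (Subgroup.inclusion hP x)).symm)).trans
      (he' ⟨_, hpre⟩ (e (Subgroup.inclusion hP x)).2 hm)).trans ?_
    refine Eq.trans (congrArg β (Subtype.ext ?_)) (hβe _)
    show φ' ⟨_, hpre⟩ = ι ((MulAut.conj g.left * (g.right : MulAut Q)) (Subgroup.inclusion hP x))
    rw [hg]
    show g * SemidirectProduct.inl (Subgroup.inclusion hP x) * g⁻¹ = _
    conv_lhs => rw [← SemidirectProduct.inl_left_mul_inr_right g, mul_inv_rev]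
    rw [MulAut.mul_apply, MulAut.conj_apply, map_mul, map_mul, map_inv,
      show (g.right : MulAut Q) = H.subtype g.right from rfl, SemidirectProduct.inl_aut]
    simp only [map_inv, mul_assoc]
    rfl

/-- The sparse hypothesis for one automorphism of order prime to `p`. -/
theorem sparse_step (hS : IsPGroup p S) (hsp : ∀ (T : Subgroup Ω) (E : FusionSystem T),
      E.IsSaturated p → E.IsSubsystemOf F → (T = S ∧ ∀ P : Subgroup Ω, E.Hom P = F.Hom P) ∨
        (∀ P : Subgroup Ω, E.Hom P = (innerFusionSystem T).Hom P))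
    {Q : Subgroup Ω} (hQ : Q ≤ S) {α : MulAut Q} (hα : α ∈ F.autGroup Q) (hαp : (orderOf α).Coprime p)
    (hα1 : α ≠ 1) :
    Q = S ∧ ∀ (P : Subgroup Ω) (φ : P →* Ω), φ ∈ F.Hom P → ∃ (hP : P ≤ Q), ∃ a ∈ Inn Q ⊔ Subgroup.zpowers α,
      ∀ x : P, φ x = ((a (Subgroup.inclusion hP x) : Q) : Ω) := by
  haveI := finite_of_le hQ
  have hQp := hS.to_le hQ
  obtain ⟨E, hEs, hHE, hEd⟩ := exists_generated_system hQp (Subgroup.zpowers α) (by rwa [Nat.card_zpowers])
  have hle : E.IsSubsystemOf F := by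
    intro P φ hφ
    obtain ⟨hP, a, ha, he⟩ := hEd P φ hφ
    have haF : a ∈ F.autGroup Q := (sup_le (inn_le_autGroup hQ) (Subgroup.zpowers_le.mpr hα)) ha
    exact F.mem_of_restrict ((F.mem_autGroup_iff hQ).mp haF) hP fun x hx => he ⟨x, hx⟩
  rcases hsp Q E hEs hle with ⟨hQS, hEF⟩ | hin
  · refine ⟨hQS, fun P φ hφ => hEd P φ ?_⟩
    rw [hEF P]
    exact hφ
  · exfalso
    have h1 := (isInner_of_hom_eq hin).isPGroup hQp le_rfl (P := Q)
    obtain ⟨k, hk⟩ := h1 ⟨α, hHE (Subgroup.mem_zpowers α)⟩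
    refine hα1 (orderOf_eq_one_iff.mp (Nat.eq_one_of_dvd_coprimes (hαp.pow_right k) dvd_rfl ?_))
    exact orderOf_dvd_of_pow_eq_one (congrArg Subtype.val hk)

theorem extremelySparse_structure (hS : IsPGroup p S) (hF : F.IsSaturated p)
    (hne : ¬ ∀ P : Subgroup Ω, F.Hom P = (innerFusionSystem S).Hom P) (hsp : ∀ (T : Subgroup Ω) (E : FusionSystem T),
      E.IsSaturated p → E.IsSubsystemOf F → (T = S ∧ ∀ P : Subgroup Ω, E.Hom P = F.Hom P) ∨
        (∀ P : Subgroup Ω, E.Hom P = (innerFusionSystem T).Hom P)) :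
    F.IsNormal S ∧ F.focalSubgroup = S ∧ F.hyperfocalSubgroup p = S ∧
      ∃ (q : ℕ) (β : MulAut S), q.Prime ∧ q ≠ p ∧ β ∈ F.autGroup S ∧ orderOf β = q ∧
        F.autGroup S = Inn S ⊔ Subgroup.zpowers β := by
  obtain ⟨Q, hQ, hQnp⟩ : ∃ Q, Q ≤ S ∧ ¬ IsPGroup p (F.autGroup Q) := by
    by_contra h
    push Not at h
    exact hne (hF.eq_inner_of_isPGroup hS h)
  haveI := finite_autGroup (F := F) hQ
  obtain ⟨q, hq, hqd, hqp⟩ : ∃ q, q.Prime ∧ q ∣ Nat.card (F.autGroup Q) ∧ q ≠ p := by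
    by_contra h
    push Not at h
    exact hQnp (IsPGroup.of_card (Nat.eq_prime_pow_of_unique_prime_dvd Nat.card_pos.ne' (fun hr hd => h _ hr hd)))
  haveI : Fact q.Prime := ⟨hq⟩
  obtain ⟨α, hα⟩ := exists_prime_orderOf_dvd_card' q hqd
  have hord : orderOf ((α : F.autGroup Q) : MulAut Q) = q :=
    (orderOf_injective (F.autGroup Q).subtype (F.autGroup Q).subtype_injective α).trans hα
  have hα1 : ((α : F.autGroup Q) : MulAut Q) ≠ 1 := fun h => hq.one_lt.ne' (by rw [← hord, h, orderOf_one])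
  obtain ⟨hQS, hdesc⟩ := sparse_step hS hsp hQ α.2
    (by rw [hord]; exact (Nat.coprime_primes hq Fact.out).mpr hqp) hα1
  subst hQS
  obtain ⟨β, hβ⟩ : ∃ β : MulAut Q, β = ((α : F.autGroup Q) : MulAut Q) := ⟨_, rfl⟩
  rw [← hβ] at hord hdesc hα1
  have hβF : β ∈ F.autGroup Q := hβ ▸ α.2
  have hle : Inn Q ⊔ Subgroup.zpowers β ≤ F.autGroup Q := sup_le (inn_le_autGroup le_rfl) (Subgroup.zpowers_le.mpr hβF)
  -- the commutator subgroup of `β`
  have hT : (Subgroup.closure (Set.range fun z : Q => z⁻¹ * β z)).map Q.subtype = Q := by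
    set T₀ := Subgroup.closure (Set.range fun z : Q => z⁻¹ * β z)
    have hgen : ∀ z : Q, z⁻¹ * β z ∈ T₀ := fun z => Subgroup.subset_closure ⟨z, rfl⟩
    have hinv : ∀ z ∈ T₀, β z ∈ T₀ := fun z hz => by
      have := mul_mem hz (hgen z)
      rwa [mul_inv_cancel_left] at this
    have hTle : T₀.map Q.subtype ≤ Q := Subgroup.map_subtype_le _
    haveI := finite_of_le hTle
    let ψ : T₀.map Q.subtype →* T₀.map Q.subtype :=
      MonoidHom.codRestrict ((Q.subtype.comp β.toMonoidHom).comp (Subgroup.inclusion hTle)) _ fun z => by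
        obtain ⟨w, hw, hwe⟩ := z.2
        exact ⟨β (Subgroup.inclusion hTle z), by
          rw [show Subgroup.inclusion hTle z = w from Subtype.ext hwe.symm]
          exact hinv w hw, rfl⟩
    have hψ : Function.Bijective ψ := Finite.injective_iff_bijective.mp fun a b h =>
      Subgroup.inclusion_injective hTle (β.injective (Subtype.ext (congrArg (fun z : T₀.map Q.subtype => (z : Ω)) h)))
    let γ : MulAut (T₀.map Q.subtype) := MulEquiv.ofBijective ψ hψ
    have hγv : ∀ z, ((γ z : T₀.map Q.subtype) : Ω) = ((β (Subgroup.inclusion hTle z) : Q) : Ω) := fun z => rfl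
    have hγF : γ ∈ F.autGroup (T₀.map Q.subtype) :=
      (F.mem_autGroup_iff hTle).mpr (F.mem_of_restrict ((F.mem_autGroup_iff le_rfl).mp hβF) hTle fun x hx => rfl)
    have hγq : γ ^ q = 1 := by
      have hpow : ∀ (n : ℕ) z, (((γ ^ n) z : T₀.map Q.subtype) : Ω) = (((β ^ n) (Subgroup.inclusion hTle z) : Q) : Ω) := by
        intro n
        induction n with
        | zero => intro z; rfl
        | succ n ih =>
          intro z
          rw [pow_succ', pow_succ', MulAut.mul_apply, MulAut.mul_apply, hγv]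
          exact congrArg (fun w : Q => ((β w : Q) : Ω)) (Subtype.ext (ih z))
      refine MulEquiv.ext fun z => Subtype.ext ?_
      rw [hpow, ← hord, pow_orderOf_eq_one]
      rfl
    refine (sparse_step hS hsp hTle hγF ?_ fun h => ?_).1
    · exact (Nat.Coprime.coprime_dvd_left (orderOf_dvd_of_pow_eq_one hγq) ((Nat.coprime_primes hq Fact.out).mpr hqp))
    · have hfix : ∀ z ∈ T₀, β z = z := fun z hz => by
        have h2 := congrArg (fun γ' : MulAut (T₀.map Q.subtype) => ((γ' ⟨z, z, hz, rfl⟩ : T₀.map Q.subtype) : Ω)) h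
        exact Subtype.ext h2
      refine hα1 (MulEquiv.ext fun z => ?_)
      set t := z⁻¹ * β z with ht
      have hn : ∀ n : ℕ, (β ^ n) z = z * t ^ n := by
        intro n
        induction n with
        | zero => simp
        | succ n ih =>
          rw [pow_succ', MulAut.mul_apply, ih, map_mul, map_pow, hfix t (hgen z), pow_succ',
            ← mul_assoc z t, show z * t = β z by rw [ht, mul_inv_cancel_left]]
      have h3 : t ^ q = 1 := by
        have := hn q
        rw [← hord, pow_orderOf_eq_one, MulAut.one_apply, left_eq_mul] at this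
        rw [← hord]
        exact this
      obtain ⟨k, hk⟩ := hS t
      have h4 : t = 1 := orderOf_eq_one_iff.mp (Nat.eq_one_of_dvd_coprimes
        (((Nat.coprime_primes hq Fact.out).mpr hqp).pow_right k) (orderOf_dvd_of_pow_eq_one h3)
        (orderOf_dvd_of_pow_eq_one hk))
      exact (inv_mul_eq_one.mp h4).symm
  have hhyp : F.hyperfocalSubgroup p = Q := by
    refine le_antisymm hyperfocalSubgroup_le (hT.ge.trans ?_)
    rw [MonoidHom.map_closure, Subgroup.closure_le]
    rintro _ ⟨_, ⟨z, rfl⟩, rfl⟩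
    refine Subgroup.subset_closure ⟨Q, ⟨β, hβF⟩, z, le_rfl, Subgroup.subset_closure ?_, rfl⟩
    show (orderOf (⟨β, hβF⟩ : F.autGroup Q)).Coprime p
    rw [← orderOf_injective (F.autGroup Q).subtype (F.autGroup Q).subtype_injective]
    show (orderOf β).Coprime p
    rw [hord]
    exact (Nat.coprime_primes hq Fact.out).mpr hqp
  refine ⟨⟨le_rfl, fun P φ hφ => ?_⟩, le_antisymm ?_ ?_, hhyp, q, β, hq, hqp, hβF, hord, le_antisymm (fun γ hγ => ?_) hle⟩
  · obtain ⟨hP, a, ha, he⟩ := hdesc P φ hφ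
    have hPQ : P ⊔ Q ≤ Q := sup_le hP le_rfl
    refine ⟨(Q.subtype.comp a.toMonoidHom).comp (Subgroup.inclusion hPQ),
      F.restrict_mem ((F.mem_autGroup_iff le_rfl).mp (hle ha)) hPQ, fun x => (he x).symm, ?_⟩
    ext y
    constructor
    · rintro ⟨z, -, rfl⟩
      exact SetLike.coe_mem _
    · intro hy
      refine ⟨⟨((a.symm ⟨y, hy⟩ : Q) : Ω), Subgroup.mem_sup_right (SetLike.coe_mem _)⟩,
        (Subgroup.mem_subgroupOf).mpr (SetLike.coe_mem _), ?_⟩
      exact congrArg (fun z : Q => (z : Ω)) (a.apply_symm_apply ⟨y, hy⟩)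
  · rw [focalSubgroup, Subgroup.closure_le]
    rintro _ ⟨P, φ, x, hφ, rfl⟩
    exact mul_mem (InvMemClass.inv_mem (F.source_le hφ x.2)) (F.apply_mem hφ x)
  · calc Q = F.hyperfocalSubgroup p := hhyp.symm
      _ ≤ F.focalSubgroup := hyperfocalSubgroup_le_focalSubgroup
  · obtain ⟨φ, hφ, -, he⟩ := F.exists_map_of_mem_autGroup le_rfl hγ
    obtain ⟨hP, a, ha, he'⟩ := hdesc Q φ hφ
    rwa [show γ = a from MulEquiv.ext fun x => Subtype.ext ((he x).symm.trans (he' x))]

end FusionSystem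

end Cfsg
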