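import Cfsg.Agent.Lib.Fusion.FocalFunctor
import Cfsg.Agent.Lib.Fusion.CenterJ
import Cfsg.Agent.Lib.JFactor

/-!
Factorization of a saturated system by the centralizer system of the `p`-th powers of the centre and the
normalizer system of the Thompson subgroup.
-/

set_option autoImplicit false
set_option linter.unusedSectionVars false

universe u v

namespace Cfsg.FusionSystem

variable {Ω : Type u} [Group Ω] {S : Subgroup Ω} {F : FusionSystem S} {p : ℕ} {X V : Subgroup Ω}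

/-- The `p`-th powers of the centre. -/
abbrev centerPowers (p : ℕ) (S : Subgroup Ω) : Subgroup Ω :=
  powerClosure p 1 (S ⊓ Subgroup.centralizer (S : Set Ω))

/-- Every map fixing `V` pointwise lies in `D`. -/
def FixingLe (F : FusionSystem S) (V : Subgroup Ω) (D : FusionSystem S) : Prop :=
  ∀ (P : Subgroup Ω) (φ : P →* Ω), φ ∈ F.Hom P → ∀ h : V ≤ P,
    (∀ (v : Ω) (hv : v ∈ V), φ ⟨v, h hv⟩ = v) → φ ∈ D.Hom P

/-- The maps of a subsystem which lie in `D`. -/
def interSystem {T : Subgroup Ω} (E : FusionSystem T) (D : FusionSystem S) (hTS : T ≤ S) : FusionSystem T where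
  Hom P := {φ | φ ∈ E.Hom P ∧ φ ∈ D.Hom P}
  le_of_mem h := E.le_of_mem h.1
  injective_of_mem h := E.injective_of_mem h.1
  conj_mem := fun hP hg => ⟨E.conj_mem hP hg, D.conj_mem (hP.trans hTS) (hTS hg)⟩
  comp_mem := fun hφ hψ h => ⟨E.comp_mem hφ.1 hψ.1 h, D.comp_mem hφ.2 hψ.2 h⟩
  inv_mem := fun {P φ} hφ => by
    obtain ⟨χ, hχ, -, hχl, -⟩ := E.exists_inv hφ.1 rfl
    obtain ⟨χ', hχ', -, hχ'l, -⟩ := D.exists_inv hφ.2 rfl
    refine ⟨χ, ⟨hχ, D.mem_of_apply_eq hχ' ?_⟩, fun x => hχl x _⟩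
    rintro ⟨_, x, rfl⟩
    exact (hχl x _).trans (hχ'l x _).symm

/-- The maps of a quotient with a lift in `D`. -/
def liftSystem [Finite S] {Ω' : Type u} [Group Ω'] {θ : S →* Ω'} (E : FusionSystem θ.range) (D : FusionSystem S)
    (hker : ∀ s : S, θ s = 1 ↔ (s : Ω) ∈ X) (hX : F.IsNormal X) (hDF : D.IsSubsystemOf F) :
    FusionSystem θ.range where
  Hom P' := {φ' | φ' ∈ E.Hom P' ∧ ∃ φ ∈ D.Hom (preimageAlong θ P'), InducedAlong θ φ φ'}
  le_of_mem h := E.le_of_mem h.1
  injective_of_mem h := E.injective_of_mem h.1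
  conj_mem := by
    rintro P' g hP hg
    refine ⟨E.conj_mem hP hg, ?_⟩
    obtain ⟨s, rfl⟩ := hg
    refine ⟨conjHom (preimageAlong θ P') (s : Ω), D.conj_mem preimageAlong_le s.2, preimageAlong_le,
      fun x => S.mul_mem (S.mul_mem s.2 (preimageAlong_le x.2)) (S.inv_mem s.2),
      fun x => (mem_preimageAlong.mp x.2).2, fun x => ?_⟩
    show θ s * θ ⟨x, _⟩ * (θ s)⁻¹ = θ ⟨(s : Ω) * x * (s : Ω)⁻¹, _⟩
    rw [← map_inv, ← map_mul, ← map_mul]
    rfl
  comp_mem := by
    rintro P' Q' φ' ψ' ⟨hφ', φ, hφ, hind⟩ ⟨hψ', ψ, hψ, hind'⟩ h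
    refine ⟨E.comp_mem hφ' hψ' h, ?_⟩
    obtain ⟨h1, h2, h3, h4⟩ := hind
    obtain ⟨k1, k2, k3, k4⟩ := hind'
    have hm : ∀ x, φ x ∈ preimageAlong θ Q' := fun x => mem_preimageAlong.mpr ⟨h2 x, by rw [← h4]; exact h _⟩
    refine ⟨_, D.comp_mem hφ hψ hm, h1, fun x => k2 _, h3, fun x => ?_⟩
    show ψ' ⟨φ' ⟨θ ⟨x, h1 x.2⟩, h3 x⟩, h _⟩ = θ ⟨ψ ⟨φ x, hm x⟩, _⟩
    rw [← k4 ⟨φ x, hm x⟩]
    exact congrArg ψ' (Subtype.ext (h4 x))
  inv_mem := by
    rintro P' φ' ⟨hφ', φ, hφ, hind⟩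
    obtain ⟨χ', hχ', -, hχ'l, -⟩ := E.exists_inv hφ' rfl
    refine ⟨χ', ⟨hχ', ?_⟩, fun x => hχ'l x _⟩
    obtain ⟨h1, h2, h3, h4⟩ := hind
    have hXP : X ≤ preimageAlong θ P' := fun y hy => mem_preimageAlong.mpr ⟨hX.1 hy, by
      rw [(hker _).mpr hy]; exact Subgroup.one_mem _⟩
    have hr : φ.range = preimageAlong θ φ'.range := by
      apply le_antisymm
      · rintro _ ⟨x, rfl⟩
        exact mem_preimageAlong.mpr ⟨h2 x, ⟨_, h3 x⟩, h4 x⟩
      · intro y hy
        obtain ⟨hyS, ⟨x', hx'⟩, he⟩ := mem_preimageAlong.mp hy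
        obtain ⟨s, hs⟩ := E.source_le hφ' hx'
        have hsP : (s : Ω) ∈ preimageAlong θ P' := mem_preimageAlong.mpr ⟨s.2, by
          rw [show (⟨(s : Ω), s.2⟩ : S) = s from rfl, hs]; exact hx'⟩
        have h5 : θ ⟨φ ⟨s, hsP⟩, h2 _⟩ = θ ⟨y, hyS⟩ := by
          rw [← h4 ⟨s, hsP⟩, ← he]
          exact congrArg φ' (Subtype.ext hs)
        have h6 : (φ ⟨s, hsP⟩)⁻¹ * y ∈ X :=
          (hker (⟨φ ⟨s, hsP⟩, h2 _⟩⁻¹ * ⟨y, hyS⟩)).mp (by rw [map_mul, map_inv, h5, inv_mul_cancel])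
        obtain ⟨w, -, hwe⟩ := (hX.stronglyClosed.map_eq (hDF _ hφ) hXP).ge h6
        refine ⟨⟨s, hsP⟩ * w, ?_⟩
        rw [map_mul, hwe, mul_inv_cancel_left]
    obtain ⟨χ, hχ, -, hχl, -⟩ := D.exists_inv hφ hr
    refine ⟨χ, hχ, preimageAlong_le, fun y => D.apply_mem hχ y, fun y => (mem_preimageAlong.mp y.2).2, ?_⟩
    rintro ⟨y, hy⟩
    obtain ⟨x, rfl⟩ := hr.ge hy
    have h7 : χ ⟨φ x, hy⟩ = x := hχl x hy
    rw [show (⟨θ ⟨φ x, preimageAlong_le hy⟩, (mem_preimageAlong.mp hy).2⟩ : φ'.range) =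
      ⟨φ' ⟨θ ⟨x, h1 x.2⟩, h3 x⟩, ⟨_, rfl⟩⟩ from Subtype.ext (h4 x).symm]
    exact (hχ'l _ _).trans (congrArg θ (Subtype.ext h7.symm))

variable [Finite S]

/-- Conjugation by an element of a realising group, as a map of the system. -/
theorem IsRealizedBy.exists_hom {G : Type v} [Group G] {ι : S →* G} (h : F.IsRealizedBy ι) {P : Subgroup Ω}
    (hP : P ≤ S) (g : G) (hg : ∀ x : P, g * ι ⟨x, hP x.2⟩ * g⁻¹ ∈ ι.range) :
    ∃ φ ∈ F.Hom P, ∀ (x : P) (hx : φ x ∈ S), ι ⟨φ x, hx⟩ = g * ι ⟨x, hP x.2⟩ * g⁻¹ := by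
  obtain ⟨hinj, hiff⟩ := h
  let j : ↥P →* G := (MulAut.conj g).toMonoidHom.comp (ι.comp (Subgroup.inclusion hP))
  let ψ : ↥P →* Ω :=
    S.subtype.comp ((MonoidHom.ofInjective hinj).symm.toMonoidHom.comp (j.codRestrict ι.range hg))
  have hψS : ∀ x, ψ x ∈ S := fun x => SetLike.coe_mem _
  have hψe : ∀ x, ι ⟨ψ x, hψS x⟩ = g * ι ⟨x, hP x.2⟩ * g⁻¹ := fun x =>
    congrArg Subtype.val ((MonoidHom.ofInjective hinj).apply_symm_apply (j.codRestrict ι.range hg x))
  exact ⟨ψ, (hiff P hP ψ hψS).mpr ⟨g, hψe⟩, fun x _ => hψe x⟩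

variable [Fact p.Prime]

/-- The constrained case. -/
theorem IsConstrained.le_of_factors (hF : F.IsConstrained p) (hS : IsPGroup p S) {D : FusionSystem S}
    (hV : F.FixingLe (centerPowers p S) D) (hJ : F.NormalizerLe (functorOn jFunctor S) D) : F ≤ D := by
  classical
  obtain ⟨L, _, ι, hL⟩ := (hF.setup_core hS).exists_isModel
  haveI := hL.1
  obtain ⟨T, hT⟩ := hL.2.2.1
  have hreal := hL.2.1
  have hinj := hL.2.1.1
  have hJS : functorOn jFunctor S ≤ S := Subgroup.map_subtype_le _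
  have hWN : S ≤ Subgroup.normalizer (functorOn jFunctor S : Set Ω) :=
    Subgroup.le_normalizer.trans (normalizer_le_normalizer_functorOn jFunctor (fun Q R _ _ _ _ => jFunctor_map Q R) hS)
  have hJT : CfsgLib.ZJ.thompsonJ 0 (T : Subgroup L) = ((functorOn jFunctor S).subgroupOf S).map ι := by
    rw [CfsgLib.ZJ.thompsonJ_zero]
    show functorOn jFunctor (T : Subgroup L) = _
    suffices ∀ R : Subgroup L, R = ι.range →
        functorOn jFunctor R = ((functorOn jFunctor S).subgroupOf S).map ι from this _ hT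
    rintro R rfl
    have h1 := jFunctor_map S ι.range (MonoidHom.ofInjective hinj)
    have h2 : (functorOn jFunctor S).subgroupOf S = jFunctor S := by
      rw [functorOn, Subgroup.subgroupOf, Subgroup.comap_map_eq_self_of_injective S.subtype_injective]
    rw [h2, functorOn, ← h1, Subgroup.map_map]
    rfl
  let R : L → Subgroup L → Prop := fun l P' => ∀ (P : Subgroup Ω) (φ : P →* Ω) (hP : P ≤ S)
    (hφ : ∀ x, φ x ∈ S), (P.subgroupOf S).map ι = P' →
    (∀ x : P, ι ⟨φ x, hφ x⟩ = l * ι ⟨x, hP x.2⟩ * l⁻¹) → φ ∈ D.Hom P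
  have hcl : CfsgLib.JFactor.Closed (T : Subgroup L) R := by
    intro a b P' _ ha hRa hRb P φ hP hφ hPe he
    have hin : ∀ x : P, a * ι ⟨x, hP x.2⟩ * a⁻¹ ∈ ι.range := fun x =>
      hT ▸ ha _ (hPe.le ⟨⟨x, hP x.2⟩, x.2, rfl⟩)
    obtain ⟨φ₁, hφ₁, hφ₁e⟩ := hreal.exists_hom hP a hin
    have hφ₁D : φ₁ ∈ D.Hom P := hRa P φ₁ hP (F.apply_mem hφ₁) hPe fun x => hφ₁e x _
    have hr : φ₁.range ≤ S := F.range_le hφ₁
    have himg : (φ₁.range.subgroupOf S).map ι = P'.map (MulAut.conj a).toMonoidHom := by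
      apply le_antisymm
      · rintro _ ⟨⟨_, _⟩, ⟨x, rfl⟩, rfl⟩
        refine ⟨ι ⟨x, hP x.2⟩, hPe.le ⟨⟨x, hP x.2⟩, x.2, rfl⟩, ?_⟩
        exact (hφ₁e x _).symm
      · rintro _ ⟨_, hy, rfl⟩
        obtain ⟨s, hs, rfl⟩ := hPe.ge hy
        exact ⟨⟨φ₁ ⟨s, hs⟩, F.apply_mem hφ₁ _⟩, ⟨_, rfl⟩, hφ₁e ⟨s, hs⟩ _⟩
    have hin2 : ∀ y : φ₁.range, b * ι ⟨y, hr y.2⟩ * b⁻¹ ∈ ι.range := by
      rintro ⟨_, x, rfl⟩
      refine ⟨⟨φ x, hφ x⟩, ?_⟩
      rw [he, hφ₁e x]
      group
    obtain ⟨φ₂, hφ₂, hφ₂e⟩ := hreal.exists_hom hr b hin2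
    have hφ₂D : φ₂ ∈ D.Hom φ₁.range := hRb _ φ₂ hr (F.apply_mem hφ₂) himg fun y => hφ₂e y _
    obtain ⟨χ, hχ, hχe⟩ := D.exists_comp hφ₁D hφ₂D fun x => ⟨x, rfl⟩
    refine D.mem_of_apply_eq hχ fun x => ?_
    rw [hχe]
    refine congrArg Subtype.val (hinj ?_ : (⟨φ x, hφ x⟩ : S) = ⟨φ₂ ⟨φ₁ x, ⟨x, rfl⟩⟩, F.apply_mem hφ₂ _⟩)
    rw [he, hφ₂e ⟨φ₁ x, ⟨x, rfl⟩⟩, hφ₁e x]
    group
  have hbase : ∀ (l : L) (W : Subgroup Ω) (hW : W ≤ S),
      (∀ w : W, l * ι ⟨w, hW w.2⟩ * l⁻¹ ∈ ι.range) →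
      (∀ (Q : Subgroup Ω) (ψ : Q →* Ω) (hQ : Q ≤ S), W ≤ Q → ψ ∈ F.Hom Q →
        (∀ (x : Q) (hx : ψ x ∈ S), ι ⟨ψ x, hx⟩ = l * ι ⟨x, hQ x.2⟩ * l⁻¹) → ψ ∈ D.Hom Q) →
      ∀ P', CfsgLib.JFactor.Into (T : Subgroup L) l P' → R l P' := by
    intro l W hW hlW hD P' hl P φ hP hφ hPe he
    have hin : ∀ x : ↥(P ⊔ W), l * ι ⟨x, sup_le hP hW x.2⟩ * l⁻¹ ∈ ι.range := by
      have h : P ⊔ W ≤ (ι.range.comap ((MulAut.conj l).toMonoidHom.comp ι)).map S.subtype :=
        sup_le (fun x hx => ⟨⟨x, hP hx⟩, ⟨_, he ⟨x, hx⟩⟩, rfl⟩) fun w hw => ⟨⟨w, hW hw⟩, hlW ⟨w, hw⟩, rfl⟩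
      intro x
      obtain ⟨y, hy, hyx⟩ := h x.2
      rw [show (⟨(x : Ω), sup_le hP hW x.2⟩ : S) = y from Subtype.ext hyx.symm]
      exact hy
    obtain ⟨ψ, hψ, hψe⟩ := hreal.exists_hom (sup_le hP hW) l hin
    have hψD := hD _ ψ (sup_le hP hW) le_sup_right hψ hψe
    refine D.mem_of_apply_eq (D.restrict_mem hψD le_sup_left) fun x => ?_
    exact congrArg Subtype.val (hinj ((he x).trans (hψe (Subgroup.inclusion le_sup_left x) (F.apply_mem hψ _)).symm) :
      (⟨φ x, hφ x⟩ : S) = ⟨ψ (Subgroup.inclusion le_sup_left x), F.apply_mem hψ _⟩)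
  have hall := CfsgLib.JFactor.control (p := p) _ L T R rfl hL.2.2.2 hcl
    (fun l hl P' hP' hlP => ?_) (fun l hl P' hP' hlP => ?_)
  · intro P φ hφ
    have hP := F.source_le hφ
    obtain ⟨l, hl⟩ := (hreal.2 P hP φ (F.apply_mem hφ)).mp hφ
    refine hall l ((P.subgroupOf S).map ι) ?_ ?_ P φ hP (F.apply_mem hφ) rfl hl
    · rw [hT]; exact Subgroup.map_le_range ι _
    · rintro _ ⟨s, hs, rfl⟩
      rw [hT]
      exact ⟨⟨φ ⟨s, hs⟩, F.apply_mem hφ _⟩, hl ⟨s, hs⟩⟩
  · -- the powers of the centre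
    have hVS : centerPowers p S ≤ S := fun v hv => (good_mem hv).1
    have hfix : ∀ v (hv : v ∈ centerPowers p S), l * ι ⟨v, hVS hv⟩ * l⁻¹ = ι ⟨v, hVS hv⟩ := by
      intro v hv
      obtain ⟨y, hy, rfl⟩ := exists_pow_eq_of_mem_powerClosure (A := S ⊓ Subgroup.centralizer (S : Set Ω))
        (fun a ha b hb => Subgroup.mem_centralizer_iff.mp hb.2 a ha.1) hv
      have h1 := hl (ι ⟨y, hy.1⟩) (hT ▸ ⟨_, rfl⟩) (by
        rw [hT]
        rintro _ ⟨s, rfl⟩
        rw [← map_mul, ← map_mul]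
        exact congrArg ι (Subtype.ext (Subgroup.mem_centralizer_iff.mp hy.2 s s.2)))
      rw [← map_pow] at h1
      rw [show (⟨y ^ p, hVS hv⟩ : S) = (⟨y, hy.1⟩ : S) ^ p from Subtype.ext (by simp), h1, mul_inv_cancel_right]
    refine hbase l _ hVS (fun w => ⟨⟨w, hVS w.2⟩, (hfix w w.2).symm⟩) (fun Q ψ hQ hle hψ hψe => ?_) P' hlP
    refine hV Q ψ hψ hle fun v hv => ?_
    exact congrArg Subtype.val (hinj (((hψe ⟨v, hle hv⟩ (F.apply_mem hψ _)).trans (hfix v hv))) :
      (⟨ψ ⟨v, hle hv⟩, F.apply_mem hψ _⟩ : S) = ⟨v, hVS hv⟩)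
  · -- the normaliser of the Thompson subgroup
    rw [hJT] at hl
    have hlW : ∀ w : functorOn jFunctor S, l * ι ⟨w, hJS w.2⟩ * l⁻¹ ∈
        ((functorOn jFunctor S).subgroupOf S).map ι := fun w =>
      (Subgroup.mem_normalizer_iff.mp hl _).mp ⟨⟨w, hJS w.2⟩, w.2, rfl⟩
    refine hbase l _ hJS (fun w => Subgroup.map_le_range ι _ (hlW w)) (fun Q ψ hQ hle hψ hψe => ?_) P' hlP
    refine hJ Q ψ hψ hle (le_inf hQ (hQ.trans hWN)) ?_
    haveI := finite_of_le hJS
    refine Subgroup.eq_of_le_of_card_ge ?_ (le_of_eq ?_)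
    · rintro _ ⟨y, hy, rfl⟩
      obtain ⟨w, hw, hwe⟩ := hlW ⟨y, hy⟩
      rw [show (⟨(y : Ω), hJS hy⟩ : S) = ⟨y, hQ y.2⟩ from rfl, ← hψe y (F.apply_mem hψ _)] at hwe
      rw [show ψ y = (w : Ω) from congrArg Subtype.val (hinj hwe).symm]
      exact hw
    · rw [Subgroup.card_map_of_injective (F.injective_of_mem hψ)]
      exact (Nat.card_congr (Subgroup.subgroupOfEquivOfLe hle).toEquiv).symm

/-- Automorphisms trivial modulo `X` of an essential subgroup are inner. -/
theorem IsEssential.mem_inn_of_trivial_mod (hS : IsPGroup p S) (hX : F.IsNormal X) (hF : F.IsSaturated p)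
    (hprop : ∀ P, F.Hom P ⊆ (relSystem hX (autInducedBy S X) (autInducedBy_hK hX)).Hom P)
    {R : Subgroup Ω} (hR : F.IsEssential p R) {a : MulAut R} (ha : a ∈ F.autGroup R)
    (hmod : ∀ x : R, (x : Ω)⁻¹ * ((a x : R) : Ω) ∈ X) : a ∈ Inn R := by
  have hRS : R ≤ S := hR.1.1
  haveI := finite_mulAut_of_le hRS
  haveI : Finite R := finite_of_le hRS
  haveI := finite_autGroup (F := F) hRS
  have hrad := hR.isRadical hS hF
  have hXR : X ≤ R := hX.le_of_centric_radical hS hR.1 hrad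
  have hinvX : ∀ b ∈ F.autGroup R, ∀ y : R, (y : Ω) ∈ X → ((b y : R) : Ω) ∈ X := by
    intro b hb y hy
    obtain ⟨χ, hχ, -, hχe⟩ := F.exists_map_of_mem_autGroup hRS hb
    rw [← hχe]
    exact hX.stronglyClosed.apply_mem_of_mem hχ hy
  let A : Subgroup (F.autGroup R) :=
    { carrier := {b | ∀ x : R, (x : Ω)⁻¹ * (((b : MulAut R) x : R) : Ω) ∈ X}
      one_mem' := fun x => by simp
      mul_mem' := by
        intro b c hb hc x
        have := X.mul_mem (hc x) (hb ((c : MulAut R) x))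
        simpa [MulAut.mul_apply, mul_assoc] using this
      inv_mem' := by
        intro b hb x
        have h1 := hb ((b : MulAut R)⁻¹ x)
        rw [MulAut.apply_inv_self] at h1
        simpa using X.inv_mem h1 }
  haveI hAn : A.Normal := by
    refine ⟨fun b hb c x => ?_⟩
    have h1 := hinvX _ c.2 (((c : MulAut R)⁻¹ x)⁻¹ * (b : MulAut R) ((c : MulAut R)⁻¹ x))
      (hb ((c : MulAut R)⁻¹ x))
    simpa [map_mul, map_inv, MulAut.mul_apply] using h1
  obtain ⟨m, hm⟩ := IsPGroup.iff_card.mp hS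
  have hAp : IsPGroup p A := by
    rintro ⟨b, hb⟩
    obtain ⟨φ, hφ, -, he⟩ := F.exists_map_of_mem_autGroup hRS b.2
    obtain ⟨-, ψ, -, hψe, k, hk, hke⟩ := hprop R hφ
    obtain ⟨s, hs, hsN, hse⟩ := mem_autInducedBy_iff.mp hk
    have hsX : ∀ y : X, (((b : MulAut R) ⟨y, hXR y.2⟩ : R) : Ω) = s * y * s⁻¹ := fun y => by
      rw [← he, ← hse, ← hke, ← hψe]
      rfl
    have hpow : ∀ (i : ℕ) (y : X), ((((b : MulAut R) ^ i) ⟨y, hXR y.2⟩ : R) : Ω) = s ^ i * y * (s ^ i)⁻¹ := by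
      intro i
      induction i with
      | zero => intro y; simp
      | succ i ih =>
        intro y
        have hmem : s ^ i * y * (s ^ i)⁻¹ ∈ X :=
          (Subgroup.mem_normalizer_iff.mp (Subgroup.pow_mem _ hsN i) _).mp y.2
        rw [pow_succ', MulAut.mul_apply,
          show ((b : MulAut R) ^ i) ⟨y, hXR y.2⟩ = (⟨_, hXR hmem⟩ : R) from Subtype.ext (ih y),
          hsX ⟨_, hmem⟩, pow_succ']
        group
    have hsn : s ^ p ^ m = 1 := by
      have h1 : (⟨s, hs⟩ : S) ^ p ^ m = 1 := by rw [← hm]; exact pow_card_eq_one'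
      exact congrArg Subtype.val h1
    set β : MulAut R := (b : MulAut R) ^ p ^ m with hβdef
    have hβX : ∀ y : X, ((β ⟨y, hXR y.2⟩ : R) : Ω) = y := fun y => by rw [hβdef, hpow, hsn]; simp
    have hβA : b ^ p ^ m ∈ A := A.pow_mem hb _
    have hp' := isPGroup_of_stabilises (p := p) (hS.to_le hRS) (n := 2)
      ![⊥, X.subgroupOf R, ⊤] rfl rfl (Subgroup.zpowers β) ?_
    · obtain ⟨e, he'⟩ := hp' ⟨_, Subgroup.mem_zpowers _⟩
      refine ⟨m + e, Subtype.ext (Subtype.ext ?_)⟩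
      have h1 : β ^ p ^ e = 1 := congrArg Subtype.val he'
      show (b : MulAut R) ^ p ^ (m + e) = 1
      rw [pow_add, pow_mul]
      exact h1
    · intro γ hγ i x hx
      let good : Subgroup (MulAut R) :=
        { carrier := {γ | (∀ y : X, ((γ ⟨y, hXR y.2⟩ : R) : Ω) = y) ∧ ∀ y : R, (y : Ω)⁻¹ * ((γ y : R) : Ω) ∈ X}
          one_mem' := ⟨fun y => rfl, fun y => by simp⟩
          mul_mem' := by
            rintro c d ⟨hc, hc'⟩ ⟨hd, hd'⟩
            refine ⟨fun y => ?_, fun y => ?_⟩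
            · rw [MulAut.mul_apply, show d ⟨y, hXR y.2⟩ = (⟨y, hXR y.2⟩ : R) from Subtype.ext (hd y), hc]
            · rw [MulAut.mul_apply]
              have := X.mul_mem (hd' y) (hc' (d y))
              simpa [mul_assoc] using this
          inv_mem' := by
            rintro c ⟨hc, hc'⟩
            refine ⟨fun y => ?_, fun y => ?_⟩
            · have e : c⁻¹ ⟨y, hXR y.2⟩ = (⟨y, hXR y.2⟩ : R) := by
                apply c.injective
                rw [MulAut.apply_inv_self]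
                exact Subtype.ext (hc y).symm
              rw [e]
            · have h1 := hc' (c⁻¹ y)
              rw [MulAut.apply_inv_self] at h1
              simpa using X.inv_mem h1 }
      have hgood : Subgroup.zpowers β ≤ good := Subgroup.zpowers_le.mpr ⟨hβX, hβA⟩
      obtain ⟨h1, h2⟩ := hgood hγ
      fin_cases i
      · show x⁻¹ * γ x ∈ (⊥ : Subgroup R)
        have hxX : x ∈ X.subgroupOf R := hx
        rw [Subgroup.mem_bot, inv_mul_eq_one]
        exact Subtype.ext (h1 ⟨x, hxX⟩).symm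
      · exact h2 x
  exact hrad.2.le ⟨⟨a, ha⟩, CfsgLib.le_pCore hAp (show (⟨a, ha⟩ : F.autGroup R) ∈ A from hmod), rfl⟩

theorem le_of_factors_aux (p : ℕ) [Fact p.Prime] :
    ∀ N m : ℕ, ∀ {Ω : Type u} [Group Ω] {S : Subgroup Ω} [Finite S] (F D : FusionSystem S),
      Nat.card S = N → F.count = m → F.IsSaturated p → IsPGroup p S →
      F.FixingLe (centerPowers p S) D → F.NormalizerLe (functorOn jFunctor S) D → F ≤ D := by
  intro N
  induction N using Nat.strong_induction_on with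
  | h N ihn =>
    intro m
    induction m using Nat.strong_induction_on with
    | h m ihm =>
      intro Ω _ S _ F D₀ hN hm hF hS hV₀ hJ₀
      have hW1 : ∀ (Q : Type u) [Group Q] [Finite Q], IsPGroup p Q → Nontrivial Q → jFunctor Q ≠ ⊥ :=
        fun Q _ _ => jFunctor_ne_bot Q
      have hW2 : ∀ (Q R : Type u) [Group Q] [Group R] [Finite Q], IsPGroup p Q → ∀ φ : Q ≃* R,
          (jFunctor Q).map φ.toMonoidHom = jFunctor R := fun Q R _ _ _ _ => jFunctor_map Q R
      set D := interSystem F D₀ le_rfl with hD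
      intro P₀ φ₀ hφ₀
      suffices hle : F ≤ D from (hle P₀ hφ₀).2
      clear hφ₀ φ₀ P₀
      have hV : F.FixingLe (centerPowers p S) D := fun P φ hφ h1 h2 => ⟨hφ, hV₀ P φ hφ h1 h2⟩
      have hJ : F.NormalizerLe (functorOn jFunctor S) D := fun P φ hφ h1 h2 h3 => ⟨hφ, hJ₀ P φ hφ h1 h2 h3⟩
      have hJS : functorOn jFunctor S ≤ S := Subgroup.map_subtype_le _
      have hJN : S ≤ Subgroup.normalizer (functorOn jFunctor S : Set Ω) :=
        Subgroup.le_normalizer.trans (normalizer_le_normalizer_functorOn jFunctor hW2 hS)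
      have htop : F.Hom S ⊆ D.Hom S := fun φ hφ =>
        hJ S φ hφ hJS (normalizerIn_eq_of_le_normalizer hJN).ge (map_functorOn jFunctor hW2 hS hφ)
      have hsub : ∀ T : Subgroup Ω, T = S → ∀ E : FusionSystem T, E.IsSaturated p → E.IsSubsystemOf F →
          ¬ (∀ P, F.Hom P ⊆ E.Hom P) → ∀ P, E.Hom P ⊆ D.Hom P := by
        rintro T rfl E hE hEF hne P φ hφ
        exact ihm _ (hm ▸ count_lt hEF hne) E D hN rfl hE hS (fun P φ hφ => hV P φ (hEF P hφ))
          (fun P φ hφ => hJ P φ (hEF P hφ)) P hφ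
      by_cases hc : F.IsCentric F.core
      · exact IsConstrained.le_of_factors ⟨hF, F.core, isNormal_core F, hc⟩ hS hV hJ
      have hX := isNormal_core F
      by_cases hb : F.core = ⊥
      · refine hF.le_of_climb jFunctor hW1 hW2 hS htop fun U hU hUb hrec => ?_
        have hUn : ¬ F.IsNormal U := fun h => hUb (le_bot_iff.mp (hb ▸ h.le_core))
        have hNE := F.normalizerSystem_isNormalizerSystem U hU.1
        have hEsat := hF.isSaturated_normalizerSystem hS hU hNE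
        refine hNE.normalizerLe ?_
        haveI : Finite (normalizerIn S U) := finite_normalizerIn
        by_cases hTe : normalizerIn S U = S
        · exact hsub _ hTe _ hEsat hNE.subsystem (hNE.proper hU.1 hUn)
        set T := normalizerIn S U with hTdef
        have hTS : T ≤ S := normalizerIn_le
        have hTp := hS.to_le hTS
        have hZT : S ⊓ Subgroup.centralizer (S : Set Ω) ≤ T := fun z hz => ⟨hz.1,
          Subgroup.centralizer_le_normalizer _ (Subgroup.centralizer_le (SetLike.coe_subset_coe.mpr hU.1) hz.2)⟩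
        have hVT : (F.normalizerSystem U hU.1).FixingLe (centerPowers p T)
            (interSystem (F.normalizerSystem U hU.1) D hTS) := fun P φ hφ h1 h2 =>
          ⟨hφ, hV P φ (hNE.subsystem P hφ) ((powerClosure_center_le hTS hZT).trans h1)
            fun v hv => h2 v (powerClosure_center_le hTS hZT hv)⟩
        have hJT : (F.normalizerSystem U hU.1).NormalizerLe (functorOn jFunctor T)
            (interSystem (F.normalizerSystem U hU.1) D hTS) := fun P φ hφ h1 h2 h3 =>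
          ⟨hφ, hrec hTe P φ (hNE.subsystem P hφ) h1 (h2.trans (inf_le_inf_right _ hTS)) h3⟩
        intro P φ hφ
        rcases count_lt_of_lt hNE.subsystem (hNE.proper hU.1 hUn) hTS with h | ⟨h, h'⟩
        · exact (ihn _ (hN ▸ h) _ _ _ rfl rfl hEsat hTp hVT hJT P hφ).2
        · exact (ihm _ (hm ▸ h') _ _ (h.trans hN) rfl hEsat hTp hVT hJT P hφ).2
      set X := F.core with hXdef
      have hXs := hX.stronglyClosed
      set U := X ⊔ centralizerIn S X with hUdef
      have hUs : F.StronglyClosed U := hXs.sup_centralizerIn hF hS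
      have hUn : ¬ F.IsNormal U := fun h => hc (by
        refine isCentric_of_le ?_ h.le_core hX.1
        refine ⟨hUs.1, fun R hR => ?_⟩
        obtain ⟨φ, hφ, rfl⟩ := hR
        rw [hUs.weaklyClosed.2 φ hφ]
        exact fun y hy => Subgroup.mem_sup_right ⟨hy.1, Subgroup.centralizer_le (SetLike.coe_subset_coe.mpr (le_sup_left : X ≤ U)) hy.2⟩)
      have hUE := F.normalizerSystem_isNormalizerSystem U hUs.1
      by_cases hprop : ¬ ∀ P, F.Hom P ⊆ (relSystem hX (autInducedBy S X) (autInducedBy_hK hX)).Hom P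
      · refine hF.le_of_noncentric_core hS hX ?_ (hsub S rfl _ (hF.relSystem_isSaturated hS hX) (relSystem_le hX _ _) hprop)
        exact hUE.normalizerLe (hsub _ (normalizerIn_eq_of_le_normalizer hUs.le_normalizer) _
          (hF.isSaturated_normalizerSystem hS (isFullyNormalized_of_le_normalizer hUs.1 hUs.le_normalizer) hUE)
          hUE.subsystem (hUE.proper hUs.1 hUn))
      rw [not_not] at hprop
      by_cases hVX : centerPowers p S ≤ X
      · intro P φ hφ
        obtain ⟨-, ψ, hψ, hψe, k, hk, hke⟩ := hprop P hφ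
        obtain ⟨s, hs, -, hse⟩ := mem_autInducedBy_iff.mp hk
        have hψD : ψ ∈ D.Hom (P ⊔ X) := hV _ ψ hψ (hVX.trans le_sup_right) fun v hv => by
          refine ((hke ⟨v, hVX hv⟩).trans (hse _)).trans ?_
          show s * v * s⁻¹ = v
          rw [Subgroup.mem_centralizer_iff.mp (good_mem hv).2 s hs, mul_inv_cancel_right]
        exact D.mem_of_apply_eq (D.restrict_mem hψD le_sup_left) fun y => (hψe y).symm
      obtain ⟨Ω', _, θ, E, hE, hker, hEm⟩ := hF.exists_factor hS hX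
      haveI : Finite θ.range := Finite.of_surjective θ.rangeRestrict θ.rangeRestrict_surjective
      have hpr : IsPGroup p θ.range := hS.of_surjective θ.rangeRestrict θ.rangeRestrict_surjective
      have hlt : Nat.card θ.range < N := by
        obtain ⟨z, hz, hz1⟩ := (Subgroup.bot_or_exists_ne_one X).resolve_left hb
        letI : Fintype S := Fintype.ofFinite _
        letI : Fintype θ.range := Fintype.ofFinite _
        rw [← hN]
        simp only [Nat.card_eq_fintype_card]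
        refine Fintype.card_lt_of_surjective_not_injective θ.rangeRestrict θ.rangeRestrict_surjective
          fun hinj => hz1 ?_
        have h1 : θ.rangeRestrict ⟨z, hX.1 hz⟩ = θ.rangeRestrict 1 := by
          apply Subtype.ext
          show θ ⟨z, hX.1 hz⟩ = θ 1
          rw [(hker _).mpr hz, map_one]
        exact congrArg Subtype.val (hinj h1)
      have hrne : θ.range ≠ ⊥ := fun hbot => hc (by
        have hXS : X = S := le_antisymm hX.1 fun y hy => (hker ⟨y, hy⟩).mp (by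
          have : θ ⟨y, hy⟩ ∈ θ.range := ⟨_, rfl⟩
          rwa [hbot, Subgroup.mem_bot] at this)
        rw [hXS]; exact isCentric_self)
      have hDF : D.IsSubsystemOf F := fun P φ hφ => hφ.1
      set D' := liftSystem E D hker hX hDF with hD'
      -- lifts of maps normalising a nontrivial normal subgroup of the quotient
      have hlift : ∀ V' : Subgroup Ω', V' ≤ θ.range → θ.range ≤ Subgroup.normalizer (V' : Set Ω') → V' ≠ ⊥ →
          ∀ (P' : Subgroup Ω') (φ' : P' →* Ω'), φ' ∈ E.Hom P' → V' ≤ P' → (V'.subgroupOf P').map φ' = V' →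
            φ' ∈ D'.Hom P' := by
        intro V' hVle hVn hVne P' φ' hφ' hVP hVm
        refine ⟨hφ', ?_⟩
        obtain ⟨-, φ, hφ, hind⟩ := (hEm _ _).mp hφ'
        refine ⟨φ, ?_, hind⟩
        set Y := preimageAlong θ V' with hY
        have hYN : S ≤ Subgroup.normalizer (Y : Set Ω) := by
          have key : ∀ s ∈ S, ∀ y ∈ Y, s * y * s⁻¹ ∈ Y := by
            intro s hs y hy
            obtain ⟨hyS, h3⟩ := mem_preimageAlong.mp hy
            refine mem_preimageAlong.mpr ⟨S.mul_mem (S.mul_mem hs hyS) (S.inv_mem hs), ?_⟩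
            have h4 := (Subgroup.mem_normalizer_iff.mp (hVn ⟨⟨s, hs⟩, rfl⟩) _).mp h3
            rw [← map_inv, ← map_mul, ← map_mul] at h4
            exact h4
          intro s hs
          refine Subgroup.mem_normalizer_iff.mpr fun y => ⟨key s hs y, fun hy => ?_⟩
          have := key s⁻¹ (S.inv_mem hs) _ hy
          simpa [mul_assoc] using this
        have hYn : ¬ F.IsNormal Y := by
          intro hn
          refine hVne ((Subgroup.eq_bot_iff_forall _).mpr fun v hv => ?_)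
          obtain ⟨s, rfl⟩ := hVle hv
          exact (hker s).mpr (hn.le_core (mem_preimageAlong.mpr ⟨s.2, hv⟩))
        have hNY := F.normalizerSystem_isNormalizerSystem Y preimageAlong_le
        have hYD : F.NormalizerLe Y D := hNY.normalizerLe (hsub _ (normalizerIn_eq_of_le_normalizer hYN) _
          (hF.isSaturated_normalizerSystem hS (isFullyNormalized_of_le_normalizer preimageAlong_le hYN) hNY)
          hNY.subsystem (hNY.proper preimageAlong_le hYn))
        have hYP : Y ≤ preimageAlong θ P' := by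
          intro y hy
          obtain ⟨hyS, h1⟩ := mem_preimageAlong.mp hy
          exact mem_preimageAlong.mpr ⟨hyS, hVP h1⟩
        haveI : Finite Y := finite_of_le preimageAlong_le
        refine hYD _ φ hφ hYP (preimageAlong_le.trans (normalizerIn_eq_of_le_normalizer hYN).ge) ?_
        refine Subgroup.eq_of_le_of_card_ge ?_ (le_of_eq ?_)
        · rintro _ ⟨y, hy, rfl⟩
          obtain ⟨hyS, h1⟩ := mem_preimageAlong.mp hy
          refine mem_preimageAlong.mpr ⟨F.apply_mem hφ y, ?_⟩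
          rw [← inducedAlong_apply_mem hφ hind y (hVP h1)]
          exact hVm.le ⟨_, h1, rfl⟩
        · rw [Subgroup.card_map_of_injective (F.injective_of_mem hφ)]
          exact (Nat.card_congr (Subgroup.subgroupOfEquivOfLe hYP).toEquiv).symm
      have hV'r : centerPowers p θ.range ≤ θ.range := fun v hv => (good_mem hv).1
      have hV'ne : centerPowers p θ.range ≠ ⊥ := by
        intro hbot
        refine hVX fun v hv => ?_
        obtain ⟨y, hy, rfl⟩ := exists_pow_eq_of_mem_powerClosure (A := S ⊓ Subgroup.centralizer (S : Set Ω))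
          (fun a ha b hb => Subgroup.mem_centralizer_iff.mp hb.2 a ha.1) hv
        have h1 : θ ⟨y, hy.1⟩ ^ p ∈ centerPowers p θ.range :=
          Subgroup.subset_closure ⟨θ ⟨y, hy.1⟩, ⟨⟨_, rfl⟩, Subgroup.mem_centralizer_iff.mpr (by
            rintro _ ⟨s, rfl⟩
            rw [← map_mul, ← map_mul]
            exact congrArg θ (Subtype.ext (Subgroup.mem_centralizer_iff.mp hy.2 s s.2)))⟩, by simp⟩
        rw [hbot, Subgroup.mem_bot, ← map_pow, hker] at h1
        exact h1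
      have hV'n : θ.range ≤ Subgroup.normalizer (centerPowers p θ.range : Set Ω') := fun g hg => by
        refine Subgroup.centralizer_le_normalizer _ (Subgroup.mem_centralizer_iff.mpr fun v hv => ?_)
        exact (Subgroup.mem_centralizer_iff.mp (good_mem hv).2 g hg).symm
      have hEV : E.FixingLe (centerPowers p θ.range) D' := by
        intro P' φ' hφ' hVP hfix
        refine hlift _ hV'r hV'n hV'ne P' φ' hφ' hVP ?_
        haveI := finite_of_le hV'r
        refine Subgroup.eq_of_le_of_card_ge ?_ (le_of_eq ?_)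
        · rintro _ ⟨⟨v, hvP⟩, hv, rfl⟩
          rw [hfix v hv]
          exact hv
        · rw [Subgroup.card_map_of_injective (E.injective_of_mem hφ')]
          exact (Nat.card_congr (Subgroup.subgroupOfEquivOfLe hVP).toEquiv).symm
      have hEJ : E.NormalizerLe (functorOn jFunctor θ.range) D' := fun P' φ' hφ' hJP _ hJm =>
        hlift _ (Subgroup.map_subtype_le _)
          (Subgroup.le_normalizer.trans (normalizer_le_normalizer_functorOn jFunctor hW2 hpr))
          (functorOn_ne_bot jFunctor hW1 hpr hrne) P' φ' hφ' hJP hJm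
      have hED : E ≤ D' := ihn _ hlt _ E D' rfl rfl hE hpr hEV hEJ
      refine hF.le_of_autGroup_le' hS D fun R hR _ α hα => ?_
      by_cases hRe : R = S
      · subst hRe
        obtain ⟨φ, hφ, -, he⟩ := F.exists_map_of_mem_autGroup le_rfl hα
        exact D.mem_autGroup_of_map (htop hφ) fun y => (he y).symm
      replace hR : F.IsEssential p R := hR.resolve_left hRe
      have hRS : R ≤ S := hR.1.1
      have hXR : X ≤ R := hX.le_of_centric_radical hS hR.1 (hR.isRadical hS hF)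
      obtain ⟨φ, hφ, hr, he⟩ := F.exists_map_of_mem_autGroup hRS hα
      obtain ⟨φ', hφ'⟩ := exists_inducedAlong hker hXs hφ
      have hle : preimageAlong θ (imageAlong θ R) ≤ R := by
        intro y hy
        obtain ⟨hyS, z, hz, hze⟩ := mem_preimageAlong.mp hy
        have h1 : (z : Ω)⁻¹ * y ∈ X :=
          (hker (z⁻¹ * ⟨y, hyS⟩)).mp (by rw [map_mul, map_inv, hze, inv_mul_cancel])
        have := R.mul_mem hz (hXR h1)
        simpa using this
      have hge : R ≤ preimageAlong θ (imageAlong θ R) := fun y hy =>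
        mem_preimageAlong.mpr ⟨hRS hy, ⟨_, hy, rfl⟩⟩
      have hφ'E : φ' ∈ E.Hom (imageAlong θ R) := by
        refine (hEm _ _).mpr ⟨by rintro _ ⟨s, -, rfl⟩; exact ⟨s, rfl⟩, ?_⟩
        obtain ⟨h1, h2, h3, h4⟩ := hφ'
        exact ⟨_, F.restrict_mem hφ hle, preimageAlong_le, F.apply_mem (F.restrict_mem hφ hle),
          fun y => (mem_preimageAlong.mp y.2).2, fun y => h4 ⟨y, hle y.2⟩⟩
      obtain ⟨-, γ₀, hγ₀, hind⟩ := hED _ hφ'E
      set γ := γ₀.comp (Subgroup.inclusion hge) with hγdef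
      have hγ : γ ∈ D.Hom R := D.restrict_mem hγ₀ hge
      have hγθ : ∀ x : R, θ ⟨γ x, D.apply_mem hγ x⟩ = θ ⟨φ x, F.apply_mem hφ x⟩ := by
        intro x
        have hxI : θ ⟨(x : Ω), hRS x.2⟩ ∈ imageAlong θ R := ⟨_, x.2, rfl⟩
        have h1 := inducedAlong_apply_mem hφ hφ' x hxI
        have h2 := inducedAlong_apply_mem (hDF _ hγ₀) hind ⟨x, hge x.2⟩ hxI
        exact h2.symm.trans h1
      have hγX : ∀ x : R, (φ x)⁻¹ * γ x ∈ X := fun x => by
        refine (hker (⟨φ x, F.apply_mem hφ x⟩⁻¹ * ⟨γ x, D.apply_mem hγ x⟩)).mp ?_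
        rw [map_mul, map_inv, hγθ, inv_mul_cancel]
      haveI : Finite R := finite_of_le hRS
      have hγr : γ.range = R := by
        refine Subgroup.eq_of_le_of_card_ge ?_ (le_of_eq ?_)
        · rintro _ ⟨x, rfl⟩
          have := R.mul_mem (hr.le ⟨x, rfl⟩) (hXR (hγX x))
          rwa [mul_inv_cancel_left] at this
        · exact (Nat.card_congr (MonoidHom.ofInjective (D.injective_of_mem hγ)).toEquiv)
      set g := D.isoOf hγ hγr with hg
      have hgD : g ∈ D.autGroup R := isoOf_mem_autGroup hγ hγr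
      have hgF : g ∈ F.autGroup R :=
        F.mem_autGroup_of_map (hDF _ hγ) fun y => coe_isoOf hγ hγr y
      have h1 : g⁻¹ * α ∈ Inn R := by
        refine hR.mem_inn_of_trivial_mod hS hX hF hprop ((F.autGroup R).mul_mem ((F.autGroup R).inv_mem hgF) hα) fun x => ?_
        set y : R := (g⁻¹ * α) x with hy
        have hgy : g y = α x := by rw [hy, MulAut.mul_apply, MulAut.apply_inv_self]
        have h2 : ((g (x⁻¹ * y) : R) : Ω) ∈ X := by
          rw [map_mul, map_inv, hgy, Subgroup.coe_mul, Subgroup.coe_inv, coe_isoOf hγ hγr x, ← he x]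
          have := X.inv_mem (hγX x)
          simpa using this
        obtain ⟨w, hw, hwe⟩ := (hXs.map_eq (hDF _ hγ) hXR).ge h2
        rw [show γ w = ((g w : R) : Ω) from (coe_isoOf hγ hγr w).symm] at hwe
        rw [show y = x * w by rw [show w = x⁻¹ * y from g.injective (Subtype.ext hwe), mul_inv_cancel_left]]
        simpa [Subgroup.mem_subgroupOf] using hw
      have h2 : g⁻¹ * α ∈ D.autGroup R := by
        rw [inn_eq_autInducedBy] at h1
        obtain ⟨s, hs, hsN, hse⟩ := mem_autInducedBy_iff.mp h1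
        exact autInducedBy_le_autGroup hRS (mem_autInducedBy_iff.mpr ⟨s, hRS hs, hsN, hse⟩)
      have := (D.autGroup R).mul_mem hgD h2
      rwa [mul_inv_cancel_left] at this

end Cfsg.FusionSystem
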