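import Cfsg.Prelude.Def_FusionFitting
import Cfsg.Agent.Lib.Fusion.ComponentExists
import Cfsg.Agent.S5136

/-!
Constrained systems through the generalized Fitting subsystem.
-/

set_option autoImplicit false
set_option linter.unusedSectionVars false
set_option linter.style.haveILetI false

namespace Cfsg.FusionSystem.Components

open Cfsg.FusionSystem.SubCent

universe u

variable {Ω : Type u} [Group Ω] {S T U : Subgroup Ω} {F : FusionSystem S} {p : ℕ} [Fact p.Prime] [Finite S]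

/-- No component lies in the largest normal subgroup. -/
theorem component_not_le_core (hS : IsPGroup p S) (hF : F.IsSaturated p) {C : FusionSystem U}
    (hC : C.IsComponentIn F p) : ¬ U ≤ F.core := by
  intro hle
  obtain ⟨hsub, hq⟩ := hC
  have hUS : U ≤ S := (subnormal_basic hsub).2.2
  haveI := finite_of_le hUS
  have hcent := CoreCent.component_centralizes hsub hS hF hq
  have hbot : C.hyperfocalSubgroup p = ⊥ := by
    rw [eq_bot_iff, hyperfocalSubgroup_le_iff]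
    intro P hP α hα _ x
    obtain ⟨f, ⟨φ, hφ, hr, hφe⟩, hfe⟩ := isIso_of_aut hP hα
    obtain ⟨-, -, -, ψ, -, hψe, hψR⟩ := hcent P hφ
    have h1 : φ x = x := by
      rw [← hψe x]
      exact hψR ⟨x, hle (hP x.2)⟩
    rw [Subgroup.mem_bot, inv_mul_eq_one]
    rw [hfe, ← hφe, h1]
  have hU : U = ⊥ := hq.2.1.symm.trans hbot
  refine not_isConstrained_of_quasisimple (hS.to_le hUS) hq ⟨hq.1, ⊥, FusionSystem.isNormal_bot, bot_le, ?_⟩
  intro Q hQ x hx
  have : x ∈ (⊥ : Subgroup Ω) := hU.le hx.1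
  rw [Subgroup.mem_bot] at this
  subst this
  exact Q.one_mem

theorem fitting_iff (hS : IsPGroup p S) (hF : F.IsSaturated p) :
    F.IsConstrained p ↔ (innerFusionSystem F.core).IsGeneralizedFittingOf F p := by
  have hR := FusionSystem.isNormal_core F
  haveI := finite_of_le hR.1
  rw [isConstrained_iff hS hF]
  constructor
  · intro hno
    refine ⟨⊥, innerFusionSystem ⊥, ⟨CoreCent.isNormalIn_inner hS hF FusionSystem.isNormal_bot,
      fun U C hC => absurd ⟨U, C, hC⟩ hno, fun R D hD _ P φ hφ => ?_⟩, ?_⟩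
    · obtain ⟨hP, g, hg, hge⟩ := hφ
      refine D.mem_of_apply_eq (D.id_mem (hP.trans bot_le)) fun x => ?_
      rw [hge, Subgroup.mem_bot.mp hg]
      simp
    obtain ⟨D₀, hD₀⟩ := Cfsg.Agent.S5136.result p (hS.to_le hR.1) (IsPGroup.of_bot (p := p) (G := Ω))
      (innerFusionSystem F.core) (innerFusionSystem (⊥ : Subgroup Ω))
    let θ : ↥(F.core.prod (⊥ : Subgroup Ω)) →* Ω :=
      (MonoidHom.fst Ω Ω).comp (F.core.prod (⊥ : Subgroup Ω)).subtype
    refine ⟨D₀, hD₀, ⊥, θ, bot_le, bot_inf_eq _, bot_inf_eq _, fun x hx => rfl, fun y hy => ?_,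
      bot_le, fun s => ?_, ?_, fun P' φ' => ⟨?_, ?_⟩⟩
    · have := (Subgroup.mem_prod.mp hy).2
      rw [Subgroup.mem_bot] at this
      exact this.symm
    · rw [Subgroup.mem_bot]
      refine ⟨fun h => Prod.ext h (Subgroup.mem_bot.mp (Subgroup.mem_prod.mp s.2).2), fun h => ?_⟩
      show (s : Ω × Ω).1 = 1
      rw [h]
      rfl
    · ext y
      constructor
      · rintro ⟨s, rfl⟩
        exact (Subgroup.mem_prod.mp s.2).1
      · exact fun hy => ⟨⟨(y, 1), Subgroup.mem_prod.mpr ⟨hy, Subgroup.one_mem _⟩⟩, rfl⟩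
    · rintro ⟨hP', g, hg, hge⟩
      have hgm : ((g, 1) : Ω × Ω) ∈ F.core.prod (⊥ : Subgroup Ω) := Subgroup.mem_prod.mpr ⟨hg, Subgroup.one_mem _⟩
      refine ⟨hP', _, D₀.conj_mem preimageAlong_le hgm, preimageAlong_le,
        D₀.apply_mem (D₀.conj_mem preimageAlong_le hgm), fun x => (mem_preimageAlong.mp x.2).2, fun x => ?_⟩
      rw [hge]
      rfl
    · rintro ⟨hP', φ, hφ, hind⟩
      obtain ⟨-, φ₁, ⟨-, g, hg, hge⟩, φ₂, -, he⟩ := (hD₀ _ φ).mp hφ
      refine ⟨hP', g, hg, fun y => ?_⟩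
      have hm : ((y : Ω), (1 : Ω)) ∈ F.core.prod (⊥ : Subgroup Ω) :=
        Subgroup.mem_prod.mpr ⟨hP' y.2, Subgroup.one_mem _⟩
      have hx : ((y : Ω), (1 : Ω)) ∈ preimageAlong θ P' := mem_preimageAlong.mpr ⟨hm, y.2⟩
      obtain ⟨hP, hφS, hP'', he'⟩ := hind
      refine (he' ⟨_, hx⟩).trans ?_
      show (φ ⟨_, hx⟩).1 = _
      rw [he ⟨_, hx⟩ ⟨_, hx, rfl⟩ ⟨_, hx, rfl⟩]
      exact hge _
  · rintro ⟨T, E, ⟨-, hall, -⟩, D₀, -, Z, θ, -, -, -, -, hθ, hfac⟩ ⟨U, C, hC⟩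
    have hUT : U ≤ T := E.source_le (hall U C hC U (C.id_mem le_rfl))
    refine component_not_le_core hS hF hC fun y hy => ?_
    have hm : ((1 : Ω), y) ∈ F.core.prod T := Subgroup.mem_prod.mpr ⟨Subgroup.one_mem _, hUT hy⟩
    rw [← hθ y hm]
    exact hfac.2.2.1.le ⟨_, rfl⟩

end Cfsg.FusionSystem.Components
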