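import Cfsg.Agent.Lib.Fusion.NormalFunctor
import Cfsg.Agent.Lib.Fusion.Transfer.Center
import Mathlib.GroupTheory.Focal

/-!
A functor controlling transfer in the local groups controls transfer in the system.
-/

set_option autoImplicit false
set_option linter.unusedSectionVars false

universe u v

namespace Cfsg.FusionSystem

open scoped commutatorElement

variable {Ω : Type u} [Group Ω] {S : Subgroup Ω} {F : FusionSystem S} {p : ℕ} {X K : Subgroup Ω}

/-- The maps of the system moving each point inside a given coset of `K`. -/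
def focalSystem (F : FusionSystem S) (K : Subgroup Ω) (hK : ∀ a ∈ S, ∀ b ∈ S, a * b * a⁻¹ * b⁻¹ ∈ K) :
    FusionSystem S where
  Hom P := {φ | φ ∈ F.Hom P ∧ ∀ x : P, (x : Ω)⁻¹ * φ x ∈ K}
  le_of_mem h := F.le_of_mem h.1
  injective_of_mem h := F.injective_of_mem h.1
  conj_mem := fun {P g} hP hg => ⟨F.conj_mem hP hg, fun x => by
    have := hK _ (S.inv_mem (hP x.2)) _ hg
    show (x : Ω)⁻¹ * (g * x * g⁻¹) ∈ K
    simpa [mul_assoc] using this⟩
  comp_mem := fun {P Q φ ψ} hφ hψ h => ⟨F.comp_mem hφ.1 hψ.1 h, fun x => by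
    have := K.mul_mem (hφ.2 x) (hψ.2 ⟨φ x, h x⟩)
    simpa [mul_assoc] using this⟩
  inv_mem := fun {P φ} hφ => by
    obtain ⟨χ, hχ, hχr, hχl, -⟩ := F.exists_inv hφ.1 rfl
    refine ⟨χ, ⟨hχ, ?_⟩, fun x => hχl x _⟩
    rintro ⟨_, x, rfl⟩
    refine (congrArg (fun w : Ω => (φ x)⁻¹ * w ∈ K) (hχl x _)).mpr ?_
    have := K.inv_mem (hφ.2 x)
    simpa [mul_assoc] using this

variable [Finite S] [Fact p.Prime]

theorem focal_le_of_le_focalSystem {hK : ∀ a ∈ S, ∀ b ∈ S, a * b * a⁻¹ * b⁻¹ ∈ K}
    (h : F ≤ F.focalSystem K hK) : F.focalSubgroup ≤ K := by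
  rw [FusionSystem.focalSubgroup, Subgroup.closure_le]
  rintro _ ⟨P, φ, x, hφ, rfl⟩
  exact (h P hφ).2 x

omit [Fact p.Prime] in
theorem Cocycle.transfer_eq_pow_on (C : F.Cocycle) {A : Type v} [CommGroup A] (π : S →* A) (B : Subgroup S)
    (hπ : ∀ y : C.Y, ∀ g ∈ B, g • y = y → π (C.η g y) = π g) {g : S} (hg : g ∈ B) :
    C.transfer π g = π g ^ Fintype.card C.Y := by
  classical
  let r : C.Y → C.Y := fun y => (Quotient.mk (MulAction.orbitRel B C.Y) y).out
  have hr : ∀ (b : B) (y : C.Y), r ((b : S) • y) = r y := fun b y => by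
    show (Quotient.mk (MulAction.orbitRel B C.Y) (b • y)).out = _
    rw [Quotient.sound (s := MulAction.orbitRel B C.Y) (show b • y ∈ MulAction.orbit B y from ⟨b, rfl⟩)]
  have hry : ∀ y, ∃ b : B, (b : S) • r y = y := fun y => by
    have h : r y ∈ MulAction.orbit B y := Quotient.mk_out (s := MulAction.orbitRel B C.Y) y
    obtain ⟨b, hb⟩ := h
    exact ⟨b⁻¹, by rw [← hb]; exact inv_smul_smul b y⟩
  choose gy hgy using hry
  let w : C.Y → A := fun y => π (gy y) / π (C.η (gy y) (r y))
  have hw : ∀ y, π (C.η g y) = π g * (w y / w (g • y)) := by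
    intro y
    have hrg : r (g • y) = r y := hr ⟨g, hg⟩ y
    set σ : S := (g * gy y)⁻¹ * gy (g • y) with hσdef
    have e1 : (gy (g • y) : S) • r y = g • y := by rw [← hrg]; exact hgy _
    have hσ : σ • r y = r y := by
      rw [hσdef, mul_smul, e1, mul_inv_rev, mul_smul, inv_smul_smul, inv_smul_eq_iff, hgy]
    have hσB : σ ∈ B := B.mul_mem (B.inv_mem (B.mul_mem hg (gy y).2)) (gy (g • y)).2
    have e2 : (gy (g • y) : S) = g * gy y * σ := (mul_inv_cancel_left (g * gy y) _).symm
    have h1 := hπ (r y) σ hσB hσ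
    show _ = π g * (π (gy y) / π (C.η (gy y) (r y)) / (π (gy (g • y)) / π (C.η (gy (g • y)) (r (g • y)))))
    rw [hrg, e2, C.η_mul, hσ, C.η_mul, hgy]
    simp only [map_mul, h1]
    apply Additive.ofMul.injective
    simp only [ofMul_mul, ofMul_div]
    abel
  rw [C.transfer_apply, Finset.prod_congr rfl fun y _ => hw y, Finset.prod_mul_distrib, Finset.prod_const,
    Finset.prod_div_distrib, C.prod_smul g w, div_self', mul_one, Finset.card_univ]

/-- When all maps act on a normal subgroup as `S` does, it meets the focal subgroup inside `[S, S]`. -/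
theorem IsSaturated.focal_inf_le_commutator (hF : F.IsSaturated p) (hS : IsPGroup p S) (hX : F.IsNormal X)
    (hprop : ∀ P, F.Hom P ⊆ (relSystem hX (autInducedBy S X) (autInducedBy_hK hX)).Hom P) :
    F.focalSubgroup ⊓ X ≤ (commutator S).map S.subtype := by
  obtain ⟨C, hd⟩ := hF.exists_cocycle hS
  let π := Abelianization.of (G := S)
  let τ := C.transfer π
  have hker : F.focalSubgroup ≤ τ.ker.map S.subtype := by
    rw [FusionSystem.focalSubgroup, Subgroup.closure_le]
    rintro _ ⟨P, φ, x, hφ, rfl⟩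
    refine ⟨⟨x, F.source_le hφ x.2⟩⁻¹ * ⟨φ x, F.apply_mem hφ x⟩, ?_, rfl⟩
    show τ _ = 1
    rw [map_mul, map_inv, C.transfer_map _ hφ x, inv_mul_cancel]
  rintro z ⟨hzf, hzX⟩
  obtain ⟨z', hz', e⟩ := hker hzf
  have hπ : ∀ y : C.Y, ∀ g ∈ X.subgroupOf S, g • y = y → π (C.η g y) = π g := by
    intro y g hg hgy
    obtain ⟨P, φ, hφ, hdy⟩ := C.diag y
    obtain ⟨h, he⟩ := hdy g hgy
    obtain ⟨χ, hχ, hχr, hχl, -⟩ := F.exists_inv hφ rfl
    have hgr : (g : Ω) ∈ φ.range := ⟨_, he⟩
    have h1 : χ ⟨(g : Ω), hgr⟩ = ((C.η g y : S) : Ω) := by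
      rw [show (⟨(g : Ω), hgr⟩ : φ.range) = ⟨φ ⟨_, h⟩, _, rfl⟩ from Subtype.ext he.symm]
      exact hχl _ _
    obtain ⟨-, ψ, -, hψe, k, hk, hke⟩ := hprop _ hχ
    obtain ⟨s, hs, -, hse⟩ := mem_autInducedBy_iff.mp hk
    have h2 : ((C.η g y : S) : Ω) = s * (g : Ω) * s⁻¹ := by
      rw [← h1, ← hψe ⟨(g : Ω), hgr⟩]
      exact (hke ⟨g, hg⟩).trans (hse _)
    rw [show C.η g y = ⟨s, hs⟩ * g * (⟨s, hs⟩ : S)⁻¹ from Subtype.ext h2]
    simp [mul_comm]
  have h1 : τ z' = 1 := hz'
  rw [show τ z' = π z' ^ Fintype.card C.Y from C.transfer_eq_pow_on π _ hπ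
    (show (z' : Ω) ∈ X from (show (z' : Ω) = z from e) ▸ hzX)] at h1
  have hA : IsPGroup p (Abelianization S) := hS.of_surjective π QuotientGroup.mk_surjective
  have h2 : π z' = 1 := by
    refine (hA.powEquiv hd.symm).injective ?_
    exact h1.trans (one_pow _).symm
  exact ⟨z', (QuotientGroup.eq_one_iff z').mp h2, e⟩

/-- The local transfer condition. -/
def LocalTransfer (p : ℕ) (W : ∀ (Q : Type u) [Group Q], Subgroup Q) : Prop :=
  ∀ (L : Type u) [Group L] [Finite L] (T : Sylow p L), Subgroup.centralizer (pCore p L : Set L) ≤ pCore p L →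
    pCore p L ⊓ commutator L ≤
      (commutator ↥(Subgroup.normalizer (functorOn W (T : Subgroup L) : Set L))).map
        (Subgroup.normalizer (functorOn W (T : Subgroup L) : Set L)).subtype

/-- In the constrained case the core meets the focal subgroup as the local condition says. -/
theorem IsConstrained.core_inf_focal_le (W : ∀ (Q : Type u) [Group Q], Subgroup Q)
    (hW2 : ∀ (Q R : Type u) [Group Q] [Group R] [Finite Q], IsPGroup p Q → ∀ φ : Q ≃* R,
      (W Q).map φ.toMonoidHom = W R)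
    (hloc : LocalTransfer p W) (hF : F.IsConstrained p) (hS : IsPGroup p S)
    (hK : ∀ a ∈ S, ∀ b ∈ S, a * b * a⁻¹ * b⁻¹ ∈ K)
    (h : F.NormalizerLe (functorOn W S) (F.focalSystem K hK)) : F.core ⊓ F.focalSubgroup ≤ K := by
  classical
  obtain ⟨L, _, ι, hL⟩ := (hF.setup_core hS).exists_isModel
  haveI := hL.1
  obtain ⟨T, hT⟩ := hL.2.2.1
  obtain ⟨hinj, hiff⟩ := hL.2.1
  have hmap := hL.map_core hS
  have hWS : functorOn W S ≤ S := Subgroup.map_subtype_le _
  have hWN : S ≤ Subgroup.normalizer (functorOn W S : Set Ω) :=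
    Subgroup.le_normalizer.trans (normalizer_le_normalizer_functorOn W hW2 hS)
  have hWT : functorOn W (T : Subgroup L) = ((functorOn W S).subgroupOf S).map ι := by
    suffices ∀ R : Subgroup L, R = ι.range → functorOn W R = ((functorOn W S).subgroupOf S).map ι from this _ hT
    rintro R rfl
    have h1 := hW2 S ι.range hS (MonoidHom.ofInjective hinj)
    have h2 : (functorOn W S).subgroupOf S = W S := by
      rw [functorOn, Subgroup.subgroupOf, Subgroup.comap_map_eq_self_of_injective S.subtype_injective]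
    rw [h2, functorOn, ← h1, Subgroup.map_map]
    rfl
  set N := Subgroup.normalizer (functorOn W (T : Subgroup L) : Set L) with hNdef
  have hTN : (T : Subgroup L) ≤ N :=
    Subgroup.le_normalizer.trans (normalizer_le_normalizer_functorOn W hW2 T.2)
  let T' : Sylow p N := T.subtype hTN
  -- the focal subgroup goes into the derived group of the model
  have hfoc : F.focalSubgroup ≤ ((commutator L).comap ι).map S.subtype := by
    rw [FusionSystem.focalSubgroup, Subgroup.closure_le]
    rintro _ ⟨P, φ, x, hφ, rfl⟩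
    obtain ⟨g, hg⟩ := (hiff P (F.source_le hφ) φ (F.apply_mem hφ)).mp hφ
    refine ⟨⟨x, F.source_le hφ x.2⟩⁻¹ * ⟨φ x, F.apply_mem hφ x⟩, ?_, rfl⟩
    show ι _ ∈ commutator L
    rw [map_mul, map_inv, hg x, commutator_def]
    have := Subgroup.commutator_mem_commutator (Subgroup.mem_top (ι ⟨x, F.source_le hφ x.2⟩)⁻¹) (Subgroup.mem_top g)
    rw [commutatorElement_def, inv_inv] at this
    simpa [mul_assoc] using this
  rintro z ⟨hzX, hzf⟩
  obtain ⟨z', hz', e⟩ := hfoc hzf
  have e' : (z' : Ω) = z := e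
  subst e'
  have hzc : ι z' ∈ pCore p L := hmap.le ⟨z', hzX, rfl⟩
  obtain ⟨n, hn, hne⟩ := hloc L T hL.2.2.2 ⟨hzc, hz'⟩
  have hnT : n ∈ (T' : Subgroup N) := by
    show (n : L) ∈ (T : Subgroup L)
    rw [show (n : L) = ι z' from hne, hT]
    exact ⟨z', rfl⟩
  have hfocal : n ∈ (T' : Subgroup N).focalSubgroup := by
    rw [← Subgroup.commutator_inf_eq_focalSubgroup]
    exact ⟨hn, hnT⟩
  have hgen : (T' : Subgroup N).focalSubgroup ≤ (((K.comap S.subtype).map ι).comap N.subtype) := by
    rw [Subgroup.focalSubgroup_def, Subgroup.closure_le]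
    rintro _ ⟨hm, x, hx, g, rfl⟩
    have hxT : ((x : L))⁻¹ ∈ (T : Subgroup L) := (T : Subgroup L).inv_mem hx
    obtain ⟨s, hs⟩ : ((x : L))⁻¹ ∈ ι.range := hT ▸ hxT
    obtain ⟨t, ht⟩ : (g : L) * (x : L)⁻¹ * (g : L)⁻¹ ∈ ι.range := by
      rw [← hT]
      have h1 := (T : Subgroup L).mul_mem hxT
        (show ((⁅x, g⁆ : N) : L) ∈ (T : Subgroup L) from hm)
      rw [commutatorElement_def] at h1
      simpa [mul_assoc] using h1
    -- the map of the system
    let P : Subgroup Ω := Subgroup.zpowers (s : Ω) ⊔ functorOn W S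
    have hPS : P ≤ S := sup_le (Subgroup.zpowers_le.mpr s.2) hWS
    let j : ↥P →* L := (MulAut.conj (g : L)).toMonoidHom.comp (ι.comp (Subgroup.inclusion hPS))
    have hW' : ∀ (w : Ω) (hw : w ∈ functorOn W S),
        (g : L) * ι ⟨w, hWS hw⟩ * (g : L)⁻¹ ∈ ((functorOn W S).subgroupOf S).map ι := by
      intro w hw
      have h1 := (Subgroup.mem_normalizer_iff.mp g.2 (ι ⟨w, hWS hw⟩)).mp (hWT.ge ⟨_, hw, rfl⟩)
      exact hWT.le h1
    have hj : ∀ y, j y ∈ ι.range := by
      have hP : P ≤ (ι.range.comap ((MulAut.conj (g : L)).toMonoidHom.comp ι)).map S.subtype := by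
        refine sup_le (Subgroup.zpowers_le.mpr ⟨s, ⟨t, ?_⟩, rfl⟩) fun w hw => ⟨⟨w, hWS hw⟩, ?_, rfl⟩
        · show ι t = (g : L) * ι s * (g : L)⁻¹
          rw [ht, hs]
        · exact Subgroup.map_le_range ι _ (hW' w hw)
      intro y
      obtain ⟨w, hw, hwy⟩ := hP y.2
      show (g : L) * ι ⟨y, _⟩ * (g : L)⁻¹ ∈ ι.range
      rw [show (⟨(y : Ω), hPS y.2⟩ : S) = w from Subtype.ext hwy.symm]
      exact hw
    let φ : ↥P →* Ω :=
      S.subtype.comp ((MonoidHom.ofInjective hinj).symm.toMonoidHom.comp (j.codRestrict ι.range hj))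
    have hφS : ∀ y, φ y ∈ S := fun y => SetLike.coe_mem _
    have hφe : ∀ y, ι ⟨φ y, hφS y⟩ = (g : L) * ι ⟨y, hPS y.2⟩ * (g : L)⁻¹ := fun y =>
      congrArg Subtype.val ((MonoidHom.ofInjective hinj).apply_symm_apply (j.codRestrict ι.range hj y))
    have hφ : φ ∈ F.Hom P := (hiff _ hPS φ hφS).mpr ⟨g, hφe⟩
    have hφW : ((functorOn W S).subgroupOf P).map φ = functorOn W S := by
      haveI := finite_of_le hWS
      refine Subgroup.eq_of_le_of_card_ge ?_ ?_
      · rintro _ ⟨y, hy, rfl⟩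
        obtain ⟨w, hw, hwe⟩ := hW' y hy
        rw [show (⟨(y : Ω), hWS hy⟩ : S) = ⟨y, hPS y.2⟩ from rfl, ← hφe] at hwe
        rw [show φ y = (w : Ω) from congrArg Subtype.val (hinj hwe).symm]
        exact hw
      · rw [Subgroup.card_map_of_injective (F.injective_of_mem hφ),
          Nat.card_congr (Subgroup.subgroupOfEquivOfLe (le_sup_right : functorOn W S ≤ P)).toEquiv]
    have hsP : (s : Ω) ∈ P := Subgroup.mem_sup_left (Subgroup.mem_zpowers _)
    have h1 := (h P φ hφ le_sup_right (hPS.trans (normalizerIn_eq_of_le_normalizer hWN).ge) hφW).2 ⟨s, hsP⟩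
    refine ⟨s⁻¹ * ⟨φ ⟨s, hsP⟩, hφS _⟩, h1, ?_⟩
    rw [map_mul, map_inv, hφe]
    show (ι s)⁻¹ * ((g : L) * ι s * (g : L)⁻¹) = ((⁅x, g⁆ : N) : L)
    rw [hs, commutatorElement_def]
    simp [mul_assoc]
  obtain ⟨w, hw, hwe⟩ := hgen hfocal
  have hwz : w = z' := hinj (hwe.trans hne)
  exact hwz ▸ hw

/-- A functor controlling transfer locally controls it in the system. -/
theorem focal_le_functorOn_aux (p : ℕ) [Fact p.Prime]
    (W : ∀ (Q : Type u) [Group Q], Subgroup Q)
    (hW1 : ∀ (Q : Type u) [Group Q] [Finite Q], IsPGroup p Q → Nontrivial Q → W Q ≠ ⊥)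
    (hW2 : ∀ (Q R : Type u) [Group Q] [Group R] [Finite Q], IsPGroup p Q → ∀ φ : Q ≃* R,
      (W Q).map φ.toMonoidHom = W R)
    (hloc : LocalTransfer p W) :
    ∀ N m : ℕ, ∀ {Ω : Type u} [Group Ω] {S : Subgroup Ω} [Finite S] (F : FusionSystem S) (K : Subgroup Ω)
      (hK : ∀ a ∈ S, ∀ b ∈ S, a * b * a⁻¹ * b⁻¹ ∈ K),
      Nat.card S = N → F.count = m → F.IsSaturated p → IsPGroup p S →
      F.NormalizerLe (functorOn W S) (F.focalSystem K hK) → F.focalSubgroup ≤ K := by
  intro N
  induction N using Nat.strong_induction_on with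
  | h N ihn =>
    intro m
    induction m using Nat.strong_induction_on with
    | h m ihm =>
      intro Ω _ S _ F K₁ hK₁ hN hm hF hS hW₁
      -- we may assume that `K` lies in the focal subgroup
      set K := K₁ ⊓ F.focalSubgroup with hKdef
      have hgenf : ∀ (P : Subgroup Ω) (φ : P →* Ω), φ ∈ F.Hom P → ∀ x : P, (x : Ω)⁻¹ * φ x ∈ F.focalSubgroup :=
        fun P φ hφ x => Subgroup.subset_closure ⟨P, φ, x, hφ, rfl⟩
      have hK : ∀ a ∈ S, ∀ b ∈ S, a * b * a⁻¹ * b⁻¹ ∈ K := fun a ha b hb => ⟨hK₁ a ha b hb, by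
        have := hgenf _ _ (F.conj_mem (P := S) le_rfl hb) ⟨a⁻¹, S.inv_mem ha⟩
        change (a⁻¹)⁻¹ * (b * a⁻¹ * b⁻¹) ∈ _ at this
        simpa [mul_assoc] using this⟩
      refine le_trans ?_ (inf_le_left : K ≤ K₁)
      have hW : F.NormalizerLe (functorOn W S) (F.focalSystem K hK) := fun P φ hφ h1 h2 h3 =>
        ⟨hφ, fun x => ⟨(hW₁ P φ hφ h1 h2 h3).2 x, hgenf P φ hφ x⟩⟩
      have hWS : functorOn W S ≤ S := Subgroup.map_subtype_le _
      have hWN : S ≤ Subgroup.normalizer (functorOn W S : Set Ω) :=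
        Subgroup.le_normalizer.trans (normalizer_le_normalizer_functorOn W hW2 hS)
      set D := F.focalSystem K hK with hD
      have htop : F.Hom S ⊆ D.Hom S := fun φ hφ =>
        hW S φ hφ hWS (normalizerIn_eq_of_le_normalizer hWN).ge (map_functorOn W hW2 hS hφ)
      have hfocD : ∀ {T : Subgroup Ω} (E : FusionSystem T), E.IsSubsystemOf F → E.focalSubgroup ≤ K →
          ∀ P, E.Hom P ⊆ D.Hom P := fun E hEF h P φ hφ =>
        ⟨hEF P hφ, fun x => h (Subgroup.subset_closure ⟨P, φ, x, hφ, rfl⟩)⟩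
      have hsub : ∀ T : Subgroup Ω, T = S → ∀ E : FusionSystem T, E.IsSaturated p → E.IsSubsystemOf F →
          ¬ (∀ P, F.Hom P ⊆ E.Hom P) → ∀ P, E.Hom P ⊆ D.Hom P := by
        rintro T rfl E hE hEF hne
        refine hfocD E hEF (ihm _ (hm ▸ count_lt hEF hne) E K hK hN rfl hE hS fun P φ hφ h1 h2 h3 => ⟨hφ, ?_⟩)
        exact (hW P φ (hEF P hφ) h1 h2 h3).2
      have hX := isNormal_core F
      by_cases hb : F.core = ⊥
      · refine focal_le_of_le_focalSystem (hK := hK) (hF.le_of_climb W hW1 hW2 hS htop fun U hU hUb hrec => ?_)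
        have hUn : ¬ F.IsNormal U := fun h => hUb (le_bot_iff.mp (hb ▸ h.le_core))
        have hNE := F.normalizerSystem_isNormalizerSystem U hU.1
        have hEsat := hF.isSaturated_normalizerSystem hS hU hNE
        refine hNE.normalizerLe ?_
        haveI : Finite (normalizerIn S U) := finite_normalizerIn
        by_cases hTe : normalizerIn S U = S
        · exact hsub _ hTe _ hEsat hNE.subsystem (hNE.proper hU.1 hUn)
        set T := normalizerIn S U with hTdef
        have hTS : T ≤ S := normalizerIn_le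
        have hTp := hS.to_le hTS
        have hKT : ∀ a ∈ T, ∀ b ∈ T, a * b * a⁻¹ * b⁻¹ ∈ K := fun a ha b hb => hK a (hTS ha) b (hTS hb)
        have hWT : (F.normalizerSystem U hU.1).NormalizerLe (functorOn W T)
            ((F.normalizerSystem U hU.1).focalSystem K hKT) := fun P φ hφ h1 h2 h3 =>
          ⟨hφ, (hrec hTe P φ (hNE.subsystem P hφ) h1
            (h2.trans (inf_le_inf_right _ hTS)) h3).2⟩
        refine hfocD _ hNE.subsystem ?_
        rcases count_lt_of_lt hNE.subsystem (hNE.proper hU.1 hUn) hTS with h | ⟨h, h'⟩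
        · exact ihn _ (hN ▸ h) _ _ K hKT rfl rfl hEsat hTp hWT
        · exact ihm _ (hm ▸ h') _ K hKT (h.trans hN) rfl hEsat hTp hWT
      set X := F.core with hXdef
      have hXs := hX.stronglyClosed
      by_cases hXe : X = S
      · refine focal_le_of_le_focalSystem (hK := hK) fun P φ hφ => ?_
        obtain ⟨ψ, hψ, hψe, -⟩ := hX.2 P φ hφ
        have hle : P ⊔ X = S := by rw [hXe]; exact sup_eq_right.mpr (F.source_le hφ)
        have hψD : ψ ∈ D.Hom (P ⊔ X) := by
          suffices ∀ R : Subgroup Ω, R = S → ∀ χ ∈ F.Hom R, χ ∈ D.Hom R from this _ hle ψ hψ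
          rintro R rfl χ hχ
          exact htop hχ
        exact D.mem_of_apply_eq (D.restrict_mem hψD le_sup_left) fun y => (hψe y).symm
      -- modulo the core
      have hmodX : ∀ z ∈ F.focalSubgroup, ∃ k ∈ K, k⁻¹ * z ∈ X := by
        obtain ⟨Ω', _, θ, E, hE, hker, hEm⟩ := hF.exists_factor hS hX
        haveI : Finite θ.range := Finite.of_surjective θ.rangeRestrict θ.rangeRestrict_surjective
        have hpr : IsPGroup p θ.range := hS.of_surjective θ.rangeRestrict θ.rangeRestrict_surjective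
        have hlt : Nat.card θ.range < N := by
          obtain ⟨z, hz, hz1⟩ := (Subgroup.bot_or_exists_ne_one X).resolve_left hb
          letI : Fintype S := Fintype.ofFinite _
          letI : Fintype θ.range := Fintype.ofFinite _
          rw [← hN]
          simp only [Nat.card_eq_fintype_card]
          refine Fintype.card_lt_of_surjective_not_injective θ.rangeRestrict θ.rangeRestrict_surjective
            fun hinj => hz1 ?_
          have h1 : θ.rangeRestrict ⟨z, hX.1 hz⟩ = θ.rangeRestrict 1 := by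
            apply Subtype.ext
            show θ ⟨z, hX.1 hz⟩ = θ 1
            rw [(hker _).mpr hz, map_one]
          exact congrArg Subtype.val (hinj h1)
        have hrne : θ.range ≠ ⊥ := fun hbot => hXe (le_antisymm hX.1 fun y hy => (hker ⟨y, hy⟩).mp (by
            have : θ ⟨y, hy⟩ ∈ θ.range := ⟨_, rfl⟩
            rwa [hbot, Subgroup.mem_bot] at this))
        have hK' : ∀ a ∈ θ.range, ∀ b ∈ θ.range, a * b * a⁻¹ * b⁻¹ ∈ imageAlong θ K := by
          rintro _ ⟨a, rfl⟩ _ ⟨b, rfl⟩
          refine ⟨a * b * a⁻¹ * b⁻¹, hK a a.2 b b.2, ?_⟩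
          simp [map_mul, map_inv]
        set V := functorOn W θ.range with hVdef
        have hVle : V ≤ θ.range := Subgroup.map_subtype_le _
        have hVn : θ.range ≤ Subgroup.normalizer (V : Set Ω') :=
          Subgroup.le_normalizer.trans (normalizer_le_normalizer_functorOn W hW2 hpr)
        set Y := preimageAlong θ V with hY
        have hYN : S ≤ Subgroup.normalizer (Y : Set Ω) := by
          have key : ∀ s ∈ S, ∀ y ∈ Y, s * y * s⁻¹ ∈ Y := by
            intro s hs y hy
            obtain ⟨hyS, h3⟩ := mem_preimageAlong.mp hy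
            refine mem_preimageAlong.mpr ⟨S.mul_mem (S.mul_mem hs hyS) (S.inv_mem hs), ?_⟩
            have h4 := (Subgroup.mem_normalizer_iff.mp (hVn ⟨⟨s, hs⟩, rfl⟩) _).mp h3
            rw [← map_inv, ← map_mul, ← map_mul] at h4
            exact h4
          intro s hs
          refine Subgroup.mem_normalizer_iff.mpr fun y => ⟨key s hs y, fun hy => ?_⟩
          have := key s⁻¹ (S.inv_mem hs) _ hy
          simpa [mul_assoc] using this
        have hYn : ¬ F.IsNormal Y := by
          intro hn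
          refine functorOn_ne_bot W hW1 hpr hrne ((Subgroup.eq_bot_iff_forall _).mpr fun v hv => ?_)
          obtain ⟨s, rfl⟩ := hVle hv
          exact (hker s).mpr (hn.le_core (mem_preimageAlong.mpr ⟨s.2, hv⟩))
        have hNY := F.normalizerSystem_isNormalizerSystem Y preimageAlong_le
        have hYD : F.NormalizerLe Y D := hNY.normalizerLe (hsub _ (normalizerIn_eq_of_le_normalizer hYN) _
          (hF.isSaturated_normalizerSystem hS (isFullyNormalized_of_le_normalizer preimageAlong_le hYN) hNY)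
          hNY.subsystem (hNY.proper preimageAlong_le hYn))
        have hEW : E.NormalizerLe V (E.focalSystem (imageAlong θ K) hK') := by
          intro P' φ' hφ' hVP hPN hVm
          refine ⟨hφ', fun x' => ?_⟩
          obtain ⟨-, φ, hφ, hind⟩ := (hEm _ _).mp hφ'
          have hYP : Y ≤ preimageAlong θ P' := by
            intro y hy
            obtain ⟨hyS, h1⟩ := mem_preimageAlong.mp hy
            exact mem_preimageAlong.mpr ⟨hyS, hVP h1⟩
          haveI : Finite Y := finite_of_le preimageAlong_le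
          have hYm : (Y.subgroupOf (preimageAlong θ P')).map φ = Y := by
            refine Subgroup.eq_of_le_of_card_ge ?_ (le_of_eq ?_)
            · rintro _ ⟨y, hy, rfl⟩
              obtain ⟨hyS, h1⟩ := mem_preimageAlong.mp hy
              refine mem_preimageAlong.mpr ⟨F.apply_mem hφ y, ?_⟩
              rw [← inducedAlong_apply_mem hφ hind y (hVP h1)]
              exact hVm.le ⟨_, h1, rfl⟩
            · rw [Subgroup.card_map_of_injective (F.injective_of_mem hφ)]
              exact (Nat.card_congr (Subgroup.subgroupOfEquivOfLe hYP).toEquiv).symm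
          obtain ⟨x, hxe⟩ := E.source_le hφ' x'.2
          have hxP : (x : Ω) ∈ preimageAlong θ P' := mem_preimageAlong.mpr ⟨x.2, by
            rw [show (⟨(x : Ω), x.2⟩ : S) = x from rfl, hxe]; exact x'.2⟩
          have h1 := (hYD _ φ hφ hYP (preimageAlong_le.trans (normalizerIn_eq_of_le_normalizer hYN).ge) hYm).2
            ⟨x, hxP⟩
          refine ⟨x⁻¹ * ⟨φ ⟨x, hxP⟩, F.apply_mem hφ _⟩, h1, ?_⟩
          have hx' : θ x ∈ P' := hxe ▸ x'.2
          rw [map_mul, map_inv, hxe, ← inducedAlong_apply_mem hφ hind ⟨x, hxP⟩ hx']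
          exact congrArg (fun w : P' => (x' : Ω')⁻¹ * φ' w) (Subtype.ext hxe)
        have hEf := ihn _ hlt _ E (imageAlong θ K) hK' rfl rfl hE hpr hEW
        have hXS := hX.1
        let good : Subgroup Ω := ((imageAlong θ K).comap θ).map S.subtype
        have hfg : F.focalSubgroup ≤ good := by
          rw [FusionSystem.focalSubgroup, Subgroup.closure_le]
          rintro _ ⟨P, φ, x, hφ, rfl⟩
          obtain ⟨ψ, hψ, hψe, -⟩ := hX.2 P φ hφ
          obtain ⟨ψ', hψ'⟩ := exists_inducedAlong hker hXs hψ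
          have hle : preimageAlong θ (imageAlong θ (P ⊔ X)) ≤ P ⊔ X := by
            intro y hy
            obtain ⟨hyS, z, hz, hze⟩ := mem_preimageAlong.mp hy
            have h1 : (z : Ω)⁻¹ * y ∈ X :=
              (hker (z⁻¹ * ⟨y, hyS⟩)).mp (by rw [map_mul, map_inv, hze, inv_mul_cancel])
            have := (P ⊔ X).mul_mem hz (Subgroup.mem_sup_right h1)
            simpa using this
          have hψ'E : ψ' ∈ E.Hom (imageAlong θ (P ⊔ X)) := by
            refine (hEm _ _).mpr ⟨by rintro _ ⟨s, -, rfl⟩; exact ⟨s, rfl⟩, ?_⟩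
            obtain ⟨h1, h2, h3, h4⟩ := hψ'
            exact ⟨_, F.restrict_mem hψ hle, preimageAlong_le, F.apply_mem (F.restrict_mem hψ hle),
              fun y => (mem_preimageAlong.mp y.2).2, fun y => h4 ⟨y, hle y.2⟩⟩
          have hxI : θ ⟨(x : Ω), F.source_le hφ x.2⟩ ∈ imageAlong θ (P ⊔ X) := ⟨_, Subgroup.mem_sup_left x.2, rfl⟩
          refine ⟨⟨x, F.source_le hφ x.2⟩⁻¹ * ⟨φ x, F.apply_mem hφ x⟩, ?_, rfl⟩
          show θ _ ∈ imageAlong θ K
          have h1 := hEf (Subgroup.subset_closure ⟨_, ψ', ⟨_, hxI⟩, hψ'E, rfl⟩)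
          rw [inducedAlong_apply_mem hψ hψ' ⟨x, Subgroup.mem_sup_left x.2⟩ hxI] at h1
          rw [map_mul, map_inv, show (⟨φ x, F.apply_mem hφ x⟩ : S) = ⟨ψ ⟨(x : Ω), Subgroup.mem_sup_left x.2⟩, F.apply_mem hψ _⟩ from
            Subtype.ext (hψe x).symm]
          exact h1
        intro z hz
        obtain ⟨s, ⟨k, hk, hke⟩, rfl⟩ := hfg hz
        refine ⟨k, hk, (hker (k⁻¹ * s)).mp ?_⟩
        rw [map_mul, map_inv, hke, inv_mul_cancel]
      suffices hXK : X ⊓ F.focalSubgroup ≤ K by
        intro z hz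
        obtain ⟨k, hk, hkz⟩ := hmodX z hz
        have := K.mul_mem hk (hXK ⟨hkz, F.focalSubgroup.mul_mem (F.focalSubgroup.inv_mem hk.2) hz⟩)
        rwa [mul_inv_cancel_left] at this
      by_cases hc : F.IsCentric X
      · exact IsConstrained.core_inf_focal_le W hW2 hloc ⟨hF, X, hX, hc⟩ hS hK hW
      set U := X ⊔ centralizerIn S X with hUdef
      have hUs : F.StronglyClosed U := hXs.sup_centralizerIn hF hS
      have hUn : ¬ F.IsNormal U := fun h => hc (by
        refine isCentric_of_le ?_ h.le_core hX.1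
        refine ⟨hUs.1, fun R hR => ?_⟩
        obtain ⟨φ, hφ, rfl⟩ := hR
        rw [hUs.weaklyClosed.2 φ hφ]
        exact fun y hy => Subgroup.mem_sup_right ⟨hy.1, Subgroup.centralizer_le (SetLike.coe_subset_coe.mpr (le_sup_left : X ≤ U)) hy.2⟩)
      have hUE := F.normalizerSystem_isNormalizerSystem U hUs.1
      by_cases hprop : ¬ ∀ P, F.Hom P ⊆ (relSystem hX (autInducedBy S X) (autInducedBy_hK hX)).Hom P
      · refine inf_le_right.trans (focal_le_of_le_focalSystem (hK := hK) (hF.le_of_noncentric_core hS hX ?_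
          (hsub S rfl _ (hF.relSystem_isSaturated hS hX) (relSystem_le hX _ _) hprop)))
        exact hUE.normalizerLe (hsub _ (normalizerIn_eq_of_le_normalizer hUs.le_normalizer) _
          (hF.isSaturated_normalizerSystem hS (isFullyNormalized_of_le_normalizer hUs.1 hUs.le_normalizer) hUE)
          hUE.subsystem (hUE.proper hUs.1 hUn))
      rw [not_not] at hprop
      rw [inf_comm]
      refine (hF.focal_inf_le_commutator hS hX hprop).trans ?_
      rw [Subgroup.map_le_iff_le_comap, commutator_def, Subgroup.commutator_le]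
      intro a _ b _
      exact hK a a.2 b b.2

end Cfsg.FusionSystem
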