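import Cfsg.Agent.Lib.Fusion.GLTwoSylow
import Cfsg.Agent.Lib.UnitaryOrder
import Cfsg.Agent.Lib.QuasiDihedral
import Cfsg.Agent.Lib.Wreathed

/-!
Sylow 2-subgroups of `GU(2,q)` for odd `q`, with explicit generators.
-/

set_option autoImplicit false
set_option linter.unusedSectionVars false

namespace CfsgLib.GUTwoSylow

open Matrix

variable {F : Type*} [Field F] [Fintype F] {q : ℕ}

local notation "G2" => GL (Fin 2) F
local notation "M2" => Matrix (Fin 2) (Fin 2) F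

/-- Column orthonormality gives a unitary matrix. -/
theorem mem_GU2 (hF : Fintype.card F = q ^ 2) {g : G2}
    (h00 : g.1 0 0 * g.1 0 0 ^ q + g.1 1 0 * g.1 1 0 ^ q = 1)
    (h01 : g.1 0 0 * g.1 0 1 ^ q + g.1 1 0 * g.1 1 1 ^ q = 0)
    (h11 : g.1 0 1 * g.1 0 1 ^ q + g.1 1 1 * g.1 1 1 ^ q = 1) : g ∈ Cfsg.GU 2 F q := by
  obtain ⟨hq, σ, hσ⟩ := UnitaryBasic.frob_exists hF
  have hσσ : ∀ x : F, σ (σ x) = x := fun x => by
    rw [hσ, hσ, ← pow_mul, ← sq, ← hF, FiniteField.pow_card]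
  have h10 : g.1 0 1 * g.1 0 0 ^ q + g.1 1 1 * g.1 1 0 ^ q = 0 := by
    have h := congrArg σ h01
    rw [map_add, map_mul, map_mul, map_zero] at h
    simp only [← hσ] at h ⊢
    rw [hσσ, hσσ] at h
    linear_combination h
  intro u v
  show Cfsg.hermForm 2 F q (g.1 *ᵥ u) (g.1 *ᵥ v) = _
  simp only [Cfsg.hermForm, Fin.sum_univ_two, Matrix.mulVec, dotProduct, ← hσ, map_add, map_mul]
  simp only [← hσ] at h00 h01 h11 h10
  linear_combination u 0 * σ (v 0) * h00 + u 0 * σ (v 1) * h01 + u 1 * σ (v 0) * h10 + u 1 * σ (v 1) * h11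

theorem card_GU2 (hF : Fintype.card F = q ^ 2) :
    Nat.card (Cfsg.GU 2 F q) = q * ((q + 1) * (q ^ 2 - 1)) := by
  rw [UnitaryOrder.card_GU hF 2, Finset.prod_range_succ, Finset.prod_range_succ, Finset.prod_range_zero, one_mul,
    if_pos (by exact ⟨0, rfl⟩ : Even 0), if_neg (by decide : ¬ Even 1)]
  ring_nf

/-! ### The wreathed case -/

/-- The diagonal embedding. -/
def diagHom : Fˣ × Fˣ →* G2 where
  toFun p := ⟨!![(p.1 : F), 0; 0, p.2], !![((p.1⁻¹ : Fˣ) : F), 0; 0, ((p.2⁻¹ : Fˣ) : F)],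
    by ext i j; fin_cases i <;> fin_cases j <;> simp [Matrix.mul_apply, Fin.sum_univ_two],
    by ext i j; fin_cases i <;> fin_cases j <;> simp [Matrix.mul_apply, Fin.sum_univ_two]⟩
  map_one' := by ext i j; fin_cases i <;> fin_cases j <;> simp
  map_mul' p p' := by ext i j; fin_cases i <;> fin_cases j <;> simp [Matrix.mul_apply, Fin.sum_univ_two]

theorem diagHom_val (a b : Fˣ) : (diagHom (a, b) : G2).1 = !![(a : F), 0; 0, (b : F)] := rfl

theorem diagHom_injective : Function.Injective (diagHom : Fˣ × Fˣ →* G2) := by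
  intro p p' h
  have h0 := congrArg (fun m : G2 => m.1 0 0) h
  have h1 := congrArg (fun m : G2 => m.1 1 1) h
  simp [diagHom] at h0 h1
  exact Prod.ext (Units.ext h0) (Units.ext h1)

/-- The coordinate swap. -/
def swapM : G2 :=
  ⟨!![0, 1; 1, 0], !![0, 1; 1, 0],
    by ext i j; fin_cases i <;> fin_cases j <;> simp [Matrix.mul_apply, Fin.sum_univ_two],
    by ext i j; fin_cases i <;> fin_cases j <;> simp [Matrix.mul_apply, Fin.sum_univ_two]⟩

theorem swapM_sq : (swapM : G2) * swapM = 1 := by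
  ext i j; fin_cases i <;> fin_cases j <;> simp [swapM, Matrix.mul_apply, Fin.sum_univ_two]

theorem swapM_conj (a b : Fˣ) : swapM * diagHom (a, b) * swapM⁻¹ = (diagHom (b, a) : G2) := by
  rw [mul_inv_eq_iff_eq_mul]
  ext i j; fin_cases i <;> fin_cases j <;> simp [swapM, diagHom, Matrix.mul_apply, Fin.sum_univ_two]

theorem diagHom_mem (hF : Fintype.card F = q ^ 2) {a b : Fˣ} (ha : a ^ (q + 1) = 1) (hb : b ^ (q + 1) = 1) :
    (diagHom (a, b) : G2) ∈ Cfsg.GU 2 F q := by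
  have hq := (UnitaryBasic.frob_exists hF).1
  refine mem_GU2 hF ?_ ?_ ?_ <;> simp [diagHom, zero_pow (show q ≠ 0 by omega)]
  · rw [← pow_succ', ← Units.val_pow_eq_pow_val, ha, Units.val_one]
  · rw [← pow_succ', ← Units.val_pow_eq_pow_val, hb, Units.val_one]

theorem swapM_mem (hF : Fintype.card F = q ^ 2) : (swapM : G2) ∈ Cfsg.GU 2 F q := by
  have hq := (UnitaryBasic.frob_exists hF).1
  refine mem_GU2 hF ?_ ?_ ?_ <;> simp [swapM, zero_pow (show q ≠ 0 by omega)]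

/-- Explicit data of a wreathed Sylow subgroup of `GU₂`. -/
theorem exists_wreathed (hF : Fintype.card F = q ^ 2) (h4 : q % 4 = 3) :
    ∃ (U : Sylow 2 (Cfsg.GU 2 F q)) (d : CfsgLib.Wr.Data (U : Subgroup (Cfsg.GU 2 F q))) (ζ : Fˣ) (n : ℕ),
      2 ≤ n ∧ d.h = 2 ^ (n - 1) ∧ orderOf ζ = 2 * d.h ∧ ζ ^ (q + 1) = 1 ∧ Nat.card U = 2 ^ (2 * n + 1) ∧
      ((d.x : Cfsg.GU 2 F q) : G2) = diagHom (ζ, 1) ∧ ((d.y : Cfsg.GU 2 F q) : G2) = diagHom (1, ζ) ∧
      ((d.z : Cfsg.GU 2 F q) : G2) = swapM := by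
  classical
  haveI : Fact (Nat.Prime 2) := ⟨Nat.prime_two⟩
  have hq := (UnitaryBasic.frob_exists hF).1
  obtain ⟨n, r, hr, hqr⟩ := Nat.exists_eq_pow_mul_and_not_dvd (show q + 1 ≠ 0 by omega) 2 (by norm_num)
  have hn2 : 2 ≤ n := by
    by_contra hlt
    have hc : Nat.Coprime (2 ^ 2) r := (Nat.prime_two.coprime_iff_not_dvd.mpr hr).pow_left 2
    have h42 : 2 ^ 2 ∣ 2 ^ n * r := by rw [← hqr]; norm_num; omega
    have := (Nat.pow_dvd_pow_iff_le_right (by norm_num : 1 < 2)).mp (hc.dvd_of_dvd_mul_right h42)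
    omega
  obtain ⟨g, hg⟩ := UnitaryBasic.exists_zeta hF
  let ζ : Fˣ := g ^ r
  have hζ : orderOf ζ = 2 ^ n := by
    rw [orderOf_pow, hg, hqr, Nat.gcd_eq_right (dvd_mul_left r _), Nat.mul_div_cancel _
      (Nat.pos_of_ne_zero fun h => hr (by rw [h]; exact dvd_zero 2))]
  have hζq : ζ ^ (q + 1) = 1 := by
    rw [hqr, pow_mul, ← hζ, pow_orderOf_eq_one, one_pow]
  let D₀ : Subgroup G2 := ((Subgroup.zpowers ζ).prod (Subgroup.zpowers ζ)).map diagHom
  have hD₀ : Nat.card D₀ = 2 ^ n * 2 ^ n := by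
    rw [Subgroup.card_map_of_injective diagHom_injective, Nat.card_congr (Subgroup.prodEquiv _ _).toEquiv,
      Nat.card_prod, Nat.card_zpowers, hζ]
  have hle : D₀ ≤ Cfsg.GU 2 F q := by
    rintro _ ⟨⟨a, b⟩, ⟨⟨i, ha⟩, ⟨j, hb⟩⟩, rfl⟩
    replace ha : ζ ^ i = a := ha
    replace hb : ζ ^ j = b := hb
    refine diagHom_mem hF ?_ ?_
    · rw [← ha, ← zpow_natCast, ← _root_.zpow_mul, mul_comm, _root_.zpow_mul, zpow_natCast, hζq, _root_.one_zpow]
    · rw [← hb, ← zpow_natCast, ← _root_.zpow_mul, mul_comm, _root_.zpow_mul, zpow_natCast, hζq, _root_.one_zpow]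
  let D : Subgroup (Cfsg.GU 2 F q) := D₀.subgroupOf (Cfsg.GU 2 F q)
  have hD : Nat.card D = 2 ^ n * 2 ^ n := by
    rw [Nat.card_congr (Subgroup.subgroupOfEquivOfLe hle).toEquiv, hD₀]
  let w : Cfsg.GU 2 F q := ⟨swapM, swapM_mem hF⟩
  have hw2 : w * w = 1 := Subtype.ext swapM_sq
  have hwD : w ∉ D := by
    rintro ⟨p, -, h⟩
    have h0 := congrArg (fun m : G2 => m.1 0 0) h
    simp [diagHom, w, swapM] at h0
  have hwn : w ∈ Subgroup.normalizer (D : Set (Cfsg.GU 2 F q)) := by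
    have key : ∀ a ∈ D, w * a * w⁻¹ ∈ D := by
      rintro a ⟨⟨c, d⟩, ⟨hc, hd⟩, he⟩
      refine ⟨(d, c), ⟨hd, hc⟩, ?_⟩
      show diagHom (d, c) = swapM * (a : G2) * swapM⁻¹
      rw [← swapM_conj, show diagHom (c, d) = (a : G2) from he]
    refine Subgroup.mem_normalizer_iff.mpr fun a => ⟨key a, fun h => ?_⟩
    have := key _ h
    rw [inv_eq_of_mul_eq_one_right hw2, show w * (w * a * w) * w = (w * w) * a * (w * w) by group, hw2, one_mul,
      mul_one] at this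
    exact this
  have hcard : Nat.card ↥(D ⊔ Subgroup.zpowers w) = 2 ^ (2 * n + 1) := by
    rw [GLTwoSylow.card_double D (by rw [hw2]; exact one_mem D) hwn hwD, hD, ← pow_add, ← pow_succ']
    congr 1
    omega
  obtain ⟨t, ht, ht2⟩ : ∃ t, q - 1 = 2 * t ∧ ¬ 2 ∣ t := ⟨(q - 1) / 2, by omega, by omega⟩
  have hfac : (Nat.card (Cfsg.GU 2 F q)).factorization 2 = 2 * n + 1 := by
    rw [card_GU2 hF, show q ^ 2 - 1 = (q + 1) * (q - 1) by simpa using Nat.sq_sub_sq q 1,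
      show q * ((q + 1) * ((q + 1) * (q - 1))) = 2 ^ (2 * n + 1) * (q * r * r * t) by
      rw [hqr, ht, two_mul n, pow_succ, pow_add]; ring]
    refine GLTwoSylow.factorization_two _ _ ?_
    simp only [Nat.prime_two.dvd_mul]
    omega
  have hmemD : ∀ p : Fˣ × Fˣ, ∀ h1 : p.1 ∈ Subgroup.zpowers ζ, ∀ h2 : p.2 ∈ Subgroup.zpowers ζ,
      (⟨diagHom p, hle ⟨p, ⟨h1, h2⟩, rfl⟩⟩ : Cfsg.GU 2 F q) ∈ D ⊔ Subgroup.zpowers w :=
    fun p h1 h2 => le_sup_left (a := D) ⟨p, ⟨h1, h2⟩, rfl⟩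
  have h2n : 2 ^ n = 2 * 2 ^ (n - 1) := by rw [← pow_succ']; congr 1; omega
  refine ⟨Sylow.ofCard (D ⊔ Subgroup.zpowers w) (by rw [hcard, hfac]),
    { h := 2 ^ (n - 1)
      x := ⟨_, hmemD (ζ, 1) (Subgroup.mem_zpowers ζ) (one_mem _)⟩
      y := ⟨_, hmemD (1, ζ) (one_mem _) (Subgroup.mem_zpowers ζ)⟩
      z := ⟨w, le_sup_right (a := D) (Subgroup.mem_zpowers w)⟩
      h2 := le_trans (by norm_num) (Nat.pow_le_pow_right two_pos (by omega : 1 ≤ n - 1))
      hx := ?_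
      hc := ?_
      hd := ?_
      hz := ?_
      hzx := ?_
      hcard := ?_ }, ζ, n, hn2, rfl, by rw [hζ, h2n], hζq, hcard, rfl, rfl, rfl⟩
  · refine (Subgroup.orderOf_mk _ _).trans ((Subgroup.orderOf_mk _ _).trans ?_)
    rw [orderOf_injective _ diagHom_injective, Prod.orderOf_mk, orderOf_one, hζ, Nat.lcm_one_right, h2n]
  · exact Subtype.ext (Subtype.ext (show diagHom (ζ, (1 : Fˣ)) * diagHom ((1 : Fˣ), ζ) =
      (diagHom ((1 : Fˣ), ζ) * diagHom (ζ, (1 : Fˣ)) : G2) by rw [← map_mul, ← map_mul]; simp))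
  · refine (Subgroup.eq_bot_iff_forall _).mpr ?_
    rintro a ⟨⟨i, hi⟩, ⟨j, hj⟩⟩
    have e1 : (diagHom (ζ, (1 : Fˣ)) : G2) ^ i = ((a : Cfsg.GU 2 F q) : G2) :=
      congrArg (fun s : ↥(D ⊔ Subgroup.zpowers w) => ((s : Cfsg.GU 2 F q) : G2)) hi
    have e2 : (diagHom ((1 : Fˣ), ζ) : G2) ^ j = ((a : Cfsg.GU 2 F q) : G2) :=
      congrArg (fun s : ↥(D ⊔ Subgroup.zpowers w) => ((s : Cfsg.GU 2 F q) : G2)) hj
    rw [← map_zpow] at e1 e2
    have e := diagHom_injective (e1.trans e2.symm)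
    simp [Prod.ext_iff] at e
    refine Subtype.ext (Subtype.ext ?_)
    rw [← e1]
    simp [e.1]
    exact map_one diagHom
  · exact (Subgroup.orderOf_mk _ _).trans (CfsgLib.Involutions.orderOf_eq_two_iff'.mpr
      ⟨hw2, fun h => hwD (h ▸ one_mem D)⟩)
  · exact Subtype.ext (Subtype.ext (swapM_conj ζ 1))
  · exact hcard.trans (by rw [← h2n, ← pow_succ', ← pow_add]; congr 1; omega)

/-! ### The quasi-dihedral case -/

/-- The torus element with eigenvalues `l, m` on the isotropic lines through `(1, ±a)`. -/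
def torusM (a l m : F) : M2 := !![(l + m) / 2, (l - m) / (2 * a); a * (l - m) / 2, (l + m) / 2]

theorem torusM_mul {a : F} (ha : a ≠ 0) (h2 : (2 : F) ≠ 0) (l m l' m' : F) :
    torusM a l m * torusM a l' m' = torusM a (l * l') (m * m') := by
  ext i j
  fin_cases i <;> fin_cases j <;> simp [torusM, Matrix.mul_apply, Fin.sum_univ_two] <;> field_simp <;> ring

theorem torusM_one {a : F} (ha : a ≠ 0) (h2 : (2 : F) ≠ 0) : torusM a 1 1 = 1 := by
  ext i j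
  fin_cases i <;> fin_cases j <;> simp [torusM] <;> field_simp <;> ring

/-- The torus. -/
def torusHom (q : ℕ) {a : F} (ha : a ≠ 0) (h2 : (2 : F) ≠ 0) : Fˣ →* G2 where
  toFun l := ⟨torusM a (l : F) (((l⁻¹ : Fˣ) : F) ^ q), torusM a ((l⁻¹ : Fˣ) : F) ((l : F) ^ q),
    by rw [torusM_mul ha h2, ← mul_pow, ← Units.val_mul, ← Units.val_mul, mul_inv_cancel, inv_mul_cancel,
      Units.val_one, one_pow, torusM_one ha h2],
    by rw [torusM_mul ha h2, ← mul_pow, ← Units.val_mul, ← Units.val_mul, mul_inv_cancel, inv_mul_cancel,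
      Units.val_one, one_pow, torusM_one ha h2]⟩
  map_one' := by
    apply Units.ext
    simp [torusM_one ha h2]
  map_mul' l l' := by
    apply Units.ext
    show torusM a _ _ = torusM a _ _ * torusM a _ _
    rw [torusM_mul ha h2, Units.val_mul, ← mul_pow, ← Units.val_mul, ← Units.val_mul, mul_inv]

theorem torusHom_injective {a : F} (ha : a ≠ 0) (h2 : (2 : F) ≠ 0) :
    Function.Injective (torusHom q ha h2) := by
  intro l l' h
  have h0 : ((l : F) + ((l⁻¹ : Fˣ) : F) ^ q) / 2 = ((l' : F) + ((l'⁻¹ : Fˣ) : F) ^ q) / 2 :=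
    congrArg (fun m : G2 => m.1 0 0) h
  have h1 : ((l : F) - ((l⁻¹ : Fˣ) : F) ^ q) / (2 * a) = ((l' : F) - ((l'⁻¹ : Fˣ) : F) ^ q) / (2 * a) :=
    congrArg (fun m : G2 => m.1 0 1) h
  rw [div_left_inj' h2] at h0
  rw [div_left_inj' (mul_ne_zero h2 ha)] at h1
  refine Units.ext (mul_left_cancel₀ h2 ?_)
  linear_combination h0 + h1

/-- The reflection. -/
def reflM : G2 :=
  ⟨!![1, 0; 0, -1], !![1, 0; 0, -1],
    by ext i j; fin_cases i <;> fin_cases j <;> simp [Matrix.mul_apply, Fin.sum_univ_two],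
    by ext i j; fin_cases i <;> fin_cases j <;> simp [Matrix.mul_apply, Fin.sum_univ_two]⟩

theorem reflM_sq : (reflM : G2) * reflM = 1 := by
  ext i j; fin_cases i <;> fin_cases j <;> simp [reflM, Matrix.mul_apply, Fin.sum_univ_two]

theorem neg_one_mem (hF : Fintype.card F = q ^ 2) (hodd : Odd q) : (reflM : G2) ∈ Cfsg.GU 2 F q := by
  have hq := (UnitaryBasic.frob_exists hF).1
  refine mem_GU2 hF ?_ ?_ ?_ <;> simp [reflM, zero_pow (show q ≠ 0 by omega), hodd.neg_one_pow]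

theorem torusHom_mem (hF : Fintype.card F = q ^ 2) {a : F} (ha : a ≠ 0) (h2 : (2 : F) ≠ 0)
    (haq : a * a ^ q = -1) (l : Fˣ) : torusHom q ha h2 l ∈ Cfsg.GU 2 F q := by
  obtain ⟨hq, σ, hσ⟩ := UnitaryBasic.frob_exists hF
  have hσσ : ∀ x : F, σ (σ x) = x := fun x => by
    rw [hσ, hσ, ← pow_mul, ← sq, ← hF, FiniteField.pow_card]
  have ha' : σ a = -1 / a := by rw [hσ, eq_div_iff ha, mul_comm, haq]
  have hl0 : (l : F) ≠ 0 := l.ne_zero
  have hsl0 : σ (l : F) ≠ 0 := fun h => hl0 (σ.injective (h.trans (map_zero σ).symm))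
  refine mem_GU2 hF ?_ ?_ ?_ <;>
    · simp only [torusHom, MonoidHom.coe_mk, OneHom.coe_mk, torusM, Matrix.cons_val_zero, Matrix.cons_val_one,
        Matrix.of_apply, Matrix.cons_val', Matrix.cons_val_fin_one, ← hσ, Units.val_inv_eq_inv_val]
      simp only [map_div₀, map_mul, map_add, map_sub, map_inv₀, map_ofNat, map_one, hσσ, ha']
      field_simp
      ring

theorem reflM_conj {a : F} (ha : a ≠ 0) (h2 : (2 : F) ≠ 0) (l : Fˣ) (k : ℕ)
    (hk : ((l : F) ^ k) = ((l⁻¹ : Fˣ) : F) ^ q) (hk' : (((l⁻¹ : Fˣ) : F) ^ q) ^ k = (l : F)) :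
    reflM * torusHom q ha h2 l * reflM⁻¹ = torusHom q ha h2 l ^ k := by
  rw [mul_inv_eq_iff_eq_mul, ← map_pow]
  apply Units.ext
  show (reflM : G2).1 * torusM a _ _ = torusM a ((l ^ k : Fˣ) : F) ((((l ^ k)⁻¹ : Fˣ) : F) ^ q) * (reflM : G2).1
  rw [Units.val_pow_eq_pow_val, hk, ← inv_pow, Units.val_pow_eq_pow_val, ← pow_mul, mul_comm k, pow_mul, hk']
  ext i j
  fin_cases i <;> fin_cases j <;> simp [torusM, reflM, Matrix.mul_apply, Fin.sum_univ_two] <;> field_simp <;> ring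

/-- Explicit data of a quasi-dihedral Sylow subgroup of `GU₂`. -/
theorem exists_quasiDihedral (hF : Fintype.card F = q ^ 2) (h4 : q % 4 = 1) :
    ∃ (U : Sylow 2 (Cfsg.GU 2 F q)) (d : CfsgLib.QD.Data (U : Subgroup (Cfsg.GU 2 F q))) (l : Fˣ) (n : ℕ)
      (a : F) (ha : a ≠ 0) (h2 : (2 : F) ≠ 0),
      3 ≤ n ∧ d.M = 2 ^ (n - 3) ∧ Nat.card U = 2 ^ (n + 1) ∧ a * a ^ q = -1 ∧ orderOf l = 8 * d.M ∧
      (∃ r, ¬ 2 ∣ r ∧ q - 1 = 4 * d.M * r) ∧
      ((d.x : Cfsg.GU 2 F q) : G2) = torusHom q ha h2 l ∧ ((d.y : Cfsg.GU 2 F q) : G2) = reflM := by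
  classical
  haveI : Fact (Nat.Prime 2) := ⟨Nat.prime_two⟩
  have hq := (UnitaryBasic.frob_exists hF).1
  have hodd : Odd q := Nat.odd_iff.mpr (by omega)
  have hFodd : Odd (Fintype.card F) := by rw [hF]; exact hodd.pow
  have h2 : (2 : F) ≠ 0 := by
    intro h
    obtain ⟨p, hp⟩ := CharP.exists F
    obtain ⟨d, hpp, hcard⟩ := FiniteField.card F p
    haveI := hp
    have hp2 : p ∣ 2 := (CharP.cast_eq_zero_iff F p 2).mp (by exact_mod_cast h)
    have hp2' : p = 2 := (Nat.prime_dvd_prime_iff_eq hpp Nat.prime_two).mp hp2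
    rw [hcard, hp2'] at hFodd
    exact absurd hFodd (Nat.not_odd_iff_even.mpr (Nat.even_pow.mpr ⟨even_two, d.pos.ne'⟩))
  obtain ⟨u, haq⟩ := HermCount.exists_norm hF (c := (-1 : F)) (neg_ne_zero.mpr one_ne_zero) hodd.neg_one_pow
  obtain ⟨a, rfl⟩ : ∃ a : F, a = (u : F) := ⟨_, rfl⟩
  have haq : (u : F) * (u : F) ^ q = -1 := by rw [← pow_succ']; exact haq
  generalize (u : F) = a at haq
  have ha : a ≠ 0 := fun h => by rw [h, zero_mul] at haq; exact neg_ne_zero.mpr one_ne_zero haq.symm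
  obtain ⟨e, r, hr, hqr⟩ := Nat.exists_eq_pow_mul_and_not_dvd (show q - 1 ≠ 0 by omega) 2 (by norm_num)
  have he2 : 2 ≤ e := by
    by_contra hlt
    have hc : Nat.Coprime (2 ^ 2) r := (Nat.prime_two.coprime_iff_not_dvd.mpr hr).pow_left 2
    have h42 : 2 ^ 2 ∣ 2 ^ e * r := by rw [← hqr]; norm_num; omega
    have := (Nat.pow_dvd_pow_iff_le_right (by norm_num : 1 < 2)).mp (hc.dvd_of_dvd_mul_right h42)
    omega
  obtain ⟨t, ht, ht2⟩ : ∃ t, q + 1 = 2 * t ∧ ¬ 2 ∣ t := ⟨(q + 1) / 2, by omega, by omega⟩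
  have hsq : q ^ 2 - 1 = 2 ^ (e + 1) * (r * t) := by
    rw [show q ^ 2 - 1 = (q + 1) * (q - 1) by simpa using Nat.sq_sub_sq q 1, hqr, ht]; ring
  obtain ⟨g, hg⟩ := IsCyclic.exists_ofOrder_eq_natCard (α := Fˣ)
  rw [Nat.card_units, Nat.card_eq_fintype_card, hF] at hg
  let l : Fˣ := g ^ (r * t)
  have hrt : ¬ 2 ∣ r * t := by rw [Nat.prime_two.dvd_mul]; omega
  have hl : orderOf l = 2 ^ (e + 1) := by
    rw [orderOf_pow, hg, hsq, Nat.gcd_eq_right (dvd_mul_left (r * t) _), Nat.mul_div_cancel _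
      (Nat.pos_of_ne_zero fun h => hrt (by rw [h]; exact dvd_zero 2))]
  have h1e : 1 ≤ 2 ^ e := Nat.one_le_two_pow
  set k := 2 ^ e - 1 with hk
  obtain ⟨s, rfl⟩ : ∃ s, r = 2 * s + 1 := ⟨r / 2, by omega⟩
  have hpow1 : l ^ (k + q) = 1 := by
    refine orderOf_dvd_iff_pow_eq_one.mp (hl ▸ ⟨s + 1, ?_⟩)
    rw [show 2 ^ (e + 1) * (s + 1) = 2 ^ e * (2 * s + 1) + 2 ^ e by rw [pow_succ]; ring, ← hqr]
    omega
  have hlk : (l : F) ^ k = ((l⁻¹ : Fˣ) : F) ^ q := by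
    rw [← Units.val_pow_eq_pow_val, ← Units.val_pow_eq_pow_val, inv_pow]
    congr 1
    rw [eq_inv_iff_mul_eq_one, ← pow_add]
    exact hpow1
  have hlk' : (((l⁻¹ : Fˣ) : F) ^ q) ^ k = (l : F) := by
    have hl2 : (l : F) ^ (q ^ 2) = (l : F) := hF ▸ FiniteField.pow_card _
    rw [← pow_mul, mul_comm, pow_mul, Units.val_inv_eq_inv_val, inv_pow (l : F) k, hlk,
      Units.val_inv_eq_inv_val]
    simp only [inv_pow, inv_inv]
    rw [← pow_mul, ← sq, hl2]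
  let L := torusHom q ha h2
  let X₀ : Subgroup G2 := (Subgroup.zpowers l).map L
  have hle : X₀ ≤ Cfsg.GU 2 F q := by
    rintro _ ⟨b, -, rfl⟩
    exact torusHom_mem hF ha h2 haq b
  let X : Subgroup (Cfsg.GU 2 F q) := X₀.subgroupOf (Cfsg.GU 2 F q)
  have hXc : Nat.card X = 2 ^ (e + 1) := by
    rw [Nat.card_congr (Subgroup.subgroupOfEquivOfLe hle).toEquiv,
      Subgroup.card_map_of_injective (torusHom_injective ha h2), Nat.card_zpowers, hl]
  let y : Cfsg.GU 2 F q := ⟨reflM, neg_one_mem hF hodd⟩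
  have hyy : y * y = 1 := Subtype.ext reflM_sq
  have hyX : y ∉ X := by
    rintro ⟨b, -, hb⟩
    have h0 := congrArg (fun m : G2 => m.1 0 0) hb
    have h1 := congrArg (fun m : G2 => m.1 1 1) hb
    simp [L, torusHom, torusM, y, reflM] at h0 h1
    exact h2 (by linear_combination h1 - h0)
  have hconj := reflM_conj (q := q) ha h2 l k hlk hlk'
  have hyn : y ∈ Subgroup.normalizer (X : Set (Cfsg.GU 2 F q)) := by
    have key : ∀ b ∈ X, y * b * y⁻¹ ∈ X := by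
      rintro b ⟨c, ⟨i, hi⟩, hc⟩
      replace hi : l ^ i = c := hi
      replace hc : L c = (b : G2) := hc
      refine ⟨(l ^ k) ^ i, zpow_mem (pow_mem (Subgroup.mem_zpowers l) k) i, ?_⟩
      show L _ = reflM * (b : G2) * reflM⁻¹
      rw [← hc, ← hi, map_zpow, map_zpow, map_pow, ← conj_zpow]
      exact congrArg (· ^ i) hconj.symm
    refine Subgroup.mem_normalizer_iff.mpr fun b => ⟨key b, fun h => ?_⟩
    have := key _ h
    rw [inv_eq_of_mul_eq_one_right hyy, show y * (y * b * y) * y = (y * y) * b * (y * y) by group, hyy, one_mul,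
      mul_one] at this
    exact this
  have hcard : Nat.card ↥(X ⊔ Subgroup.zpowers y) = 2 ^ (e + 1 + 1) := by
    rw [GLTwoSylow.card_double X (by rw [hyy]; exact one_mem X) hyn hyX, hXc, ← pow_succ']
  have hfac : (Nat.card (Cfsg.GU 2 F q)).factorization 2 = e + 1 + 1 := by
    rw [card_GU2 hF, hsq, ht, show q * (2 * t * (2 ^ (e + 1) * ((2 * s + 1) * t))) =
      2 ^ (e + 1 + 1) * (q * (2 * s + 1) * t * t) by ring]
    refine GLTwoSylow.factorization_two _ _ ?_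
    simp only [Nat.prime_two.dvd_mul]
    omega
  have h8 : 2 ^ (e + 1) = 8 * 2 ^ (e - 2) := by
    rw [show (8 : ℕ) = 2 ^ 3 from rfl, ← pow_add]; congr 1; omega
  have h4M : 2 ^ e = 4 * 2 ^ (e - 2) := by
    rw [show (4 : ℕ) = 2 ^ 2 from rfl, ← pow_add]; congr 1; omega
  refine ⟨Sylow.ofCard (X ⊔ Subgroup.zpowers y) (by rw [hcard, hfac]),
    { M := 2 ^ (e - 2)
      x := ⟨⟨L l, hle ⟨l, Subgroup.mem_zpowers l, rfl⟩⟩, le_sup_left (a := X) ⟨l, Subgroup.mem_zpowers l, rfl⟩⟩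
      y := ⟨y, le_sup_right (a := X) (Subgroup.mem_zpowers y)⟩
      hM := by positivity
      hx := ?_
      hy := ?_
      hxy := ?_
      hcard := ?_ }, l, e + 1, a, ha, h2, by omega, ?_, hcard, haq, ?_, ⟨2 * s + 1, hr, ?_⟩, rfl, rfl⟩
  · refine (Subgroup.orderOf_mk _ _).trans ((Subgroup.orderOf_mk _ _).trans ?_)
    rw [orderOf_injective _ (torusHom_injective ha h2), hl, h8]
  · exact (Subgroup.orderOf_mk _ _).trans (CfsgLib.Involutions.orderOf_eq_two_iff'.mpr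
      ⟨hyy, fun h => hyX (h ▸ one_mem X)⟩)
  · refine Subtype.ext (Subtype.ext ?_)
    rw [Subgroup.coe_zpow, Subgroup.coe_zpow]
    show reflM * L l * reflM⁻¹ = L l ^ (4 * ((2 ^ (e - 2) : ℕ) : ℤ) - 1)
    rw [show (4 * ((2 ^ (e - 2) : ℕ) : ℤ) - 1) = ((k : ℕ) : ℤ) by
      rw [hk, Nat.cast_sub h1e, h4M]; push_cast; ring, zpow_natCast]
    exact hconj
  · exact hcard.trans (by rw [show (16 : ℕ) = 2 ^ 4 from rfl, ← pow_add]; congr 1; omega)
  · show 2 ^ (e - 2) = 2 ^ (e + 1 - 3)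
    rfl
  · exact hl.trans h8
  · exact hqr.trans (congrArg (· * (2 * s + 1)) h4M)

/-- The wreathed data give a wreathed group. -/
theorem isWreathed_of_data {S : Type*} [Group S] (d : CfsgLib.Wr.Data S) {n : ℕ} (hn : 2 ≤ n)
    (hh : d.h = 2 ^ (n - 1)) (hcard : Nat.card S = 2 ^ (2 * n + 1)) : Cfsg.IsWreathed S :=
  ⟨n, hn, hcard, d.x, d.y, d.z, by rw [d.hx, hh, ← pow_succ']; congr 1; omega, d.hc, d.hd, d.hz, d.hzx⟩

/-- The quasi-dihedral data give a quasi-dihedral group. -/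
theorem isQuasiDihedral_of_data {S : Type*} [Group S] (d : CfsgLib.QD.Data S) {n : ℕ} (hn : 3 ≤ n)
    (hM : d.M = 2 ^ (n - 3)) (hcard : Nat.card S = 2 ^ (n + 1)) : Cfsg.IsQuasiDihedral S := by
  have h4 : 2 ^ (n - 1) = 4 * d.M := by
    rw [hM, show (4 : ℕ) = 2 ^ 2 from rfl, ← pow_add]; congr 1; omega
  refine ⟨n, hn, hcard, d.x, d.y, ?_, d.hy, ?_⟩
  · rw [d.hx, hM, show (8 : ℕ) = 2 ^ 3 from rfl, ← pow_add]; congr 1; omega
  · rw [d.hxy, h4, ← zpow_natCast, Nat.cast_sub (by have := d.hM; omega)]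
    push_cast
    rfl

end CfsgLib.GUTwoSylow
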