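import Cfsg.Agent.Lib.Fusion.OmegaSeries
import Cfsg.Agent.Lib.GeneralizedExtraspecial

/-!
Strongly closed generalized extraspecial subgroups.
-/

set_option autoImplicit false
set_option linter.unusedSectionVars false
set_option maxHeartbeats 400000

universe u

namespace Cfsg.FusionSystem

open scoped commutatorElement
open CfsgLib

variable {Ω : Type u} [Group Ω] {S : Subgroup Ω} {F : FusionSystem S} {p : ℕ} [Finite S] [Fact p.Prime]
  {P : Subgroup Ω}

/-- The commutator subgroup of `P`, in the ambient group. -/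
abbrev derivedOf (P : Subgroup Ω) : Subgroup Ω := (commutator ↥P).map P.subtype

theorem commutator_mem_Zc {a b : Ω} (ha : a ∈ P) (hb : b ∈ P) : ⁅a, b⁆ ∈ (derivedOf P) :=
  ⟨⁅(⟨a, ha⟩ : P), ⟨b, hb⟩⁆, Subgroup.commutator_mem_commutator (Subgroup.mem_top _) (Subgroup.mem_top _),
    by simp [map_commutatorElement]⟩

theorem card_Zc (hc : Nat.card ↥(commutator ↥P) = p) : Nat.card ↥(derivedOf P) = p := by
  rw [Subgroup.card_map_of_injective P.subtype_injective, hc]

theorem mem_Zc_pow (hc : Nat.card ↥(commutator ↥P) = p) {a : Ω} (ha : a ∈ (derivedOf P)) : a ^ p = 1 := by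
  have h : (⟨a, ha⟩ : ↥(derivedOf P)) ^ p = 1 := by rw [← card_Zc hc]; exact pow_card_eq_one'
  simpa using congrArg Subtype.val h

theorem eq_zpowers_of_mem_Zc (hP : P ≤ S) (hc : Nat.card ↥(commutator ↥P) = p) {a : Ω} (ha : a ∈ (derivedOf P))
    (ha1 : a ≠ 1) : Subgroup.zpowers a = (derivedOf P) := by
  haveI : Finite ↥(derivedOf P) := finite_of_le (S := S) ((Subgroup.map_subtype_le _).trans hP)
  refine Subgroup.eq_of_le_of_card_ge (Subgroup.zpowers_le.mpr ha) ?_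
  rw [card_Zc hc, Nat.card_zpowers, orderOf_eq_prime (mem_Zc_pow hc ha) ha1]

/-- The commutator subgroup is centralised by `S`. -/
theorem StronglyClosed.centralizerIn_commutator (hP : F.StronglyClosed P) (hS : IsPGroup p S)
    (hc : Nat.card ↥(commutator ↥P) = p) : centralizerIn S (derivedOf P) = S := by
  refine le_antisymm centralizerIn_le fun s hs => ⟨hs, Subgroup.mem_centralizer_iff.mpr fun a ha => ?_⟩
  have hZS : (derivedOf P) ≤ S := (Subgroup.map_subtype_le _).trans hP.1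
  have hn : ∀ g ∈ S, ∀ b ∈ (derivedOf P), g * b * g⁻¹ ∈ (derivedOf P) := by
    rintro g hg _ ⟨b, hb, rfl⟩
    haveI : (commutator ↥P).Characteristic := inferInstance
    refine ⟨P.normalizerMonoidHom ⟨g, hP.le_normalizer hg⟩ b, ?_, rfl⟩
    exact Subgroup.characteristic_iff_map_le.mp inferInstance _ (Subgroup.mem_map_of_mem _ hb)
  haveI : (((derivedOf P)).subgroupOf S).Normal := ⟨fun b hb g => hn g g.2 b hb⟩
  haveI : IsCyclic ↥(((derivedOf P)).subgroupOf S) := isCyclic_of_prime_card (p := p) (by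
    rw [Nat.card_congr (Subgroup.subgroupOfEquivOfLe hZS).toEquiv, card_Zc hc])
  have := Metacyclic.commute_of_mem (N := ((derivedOf P)).subgroupOf S) hS (c := ⟨a, hZS ha⟩) ha
    (Subtype.ext (by simpa using mem_Zc_pow hc ha)) ⟨s, hs⟩
  exact (congrArg Subtype.val this.eq).symm

/-- An element outside `P'` which the system carries into `P'` has small centralizer. -/
theorem IsSaturated.centralizer_of_map_commutator (hF : F.IsSaturated p) (hS : IsPGroup p S)
    (hP : F.StronglyClosed P) (hfr : frattini ↥P = commutator ↥P) (hc : Nat.card ↥(commutator ↥P) = p)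
    {x : Ω} (hxP : x ∈ P) (hxZ : x ∉ (derivedOf P)) {φ : ↥(Subgroup.zpowers x) →* Ω}
    (hφ : φ ∈ F.Hom (Subgroup.zpowers x)) (hφZ : φ ⟨x, Subgroup.mem_zpowers x⟩ ∈ (derivedOf P)) :
    x ^ p = 1 ∧ (∀ a ∈ P, ∀ b ∈ P, Commute a x → Commute b x → Commute a b) ∧
      (∀ a ∈ P, Commute a x → a ^ p = 1) ∧ ∃ y ∈ P, ¬ Commute y x := by
  set X : ↥(Subgroup.zpowers x) := ⟨x, Subgroup.mem_zpowers x⟩ with hXdef
  have hφ1 : φ X ≠ 1 := fun e => hxZ (by
    have h := F.injective_of_mem hφ (e.trans (map_one φ).symm)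
    rw [show x = 1 from congrArg Subtype.val h]
    exact one_mem _)
  have hxp : x ^ p = 1 := by
    have h : X ^ p = 1 := F.injective_of_mem hφ (by rw [map_pow, map_one]; exact mem_Zc_pow hc hφZ)
    simpa [hXdef] using congrArg Subtype.val h
  have hr : φ.range = (derivedOf P) := by
    rw [← eq_zpowers_of_mem_Zc hP.1 hc hφZ hφ1]
    ext w
    constructor
    · rintro ⟨⟨_, k, rfl⟩, rfl⟩
      refine ⟨k, ?_⟩
      show φ X ^ k = _
      rw [← map_zpow]
      rfl
    · rintro ⟨k, rfl⟩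
      exact ⟨X ^ k, map_zpow φ X k⟩
  have hZS : (derivedOf P) ≤ S := (Subgroup.map_subtype_le _).trans hP.1
  have hfc : F.IsFullyCentralized (derivedOf P) := by
    refine ⟨hZS, fun Q _ => ?_⟩
    rw [hP.centralizerIn_commutator hS hc]
    exact Nat.card_le_card_of_injective _ (Subgroup.inclusion_injective centralizerIn_le)
  obtain ⟨ψ, hψ, hψe⟩ := (hF.isReceptive_of_isFullyCentralized hS hfc).2 _ φ hφ hr
  have hdom : ∀ a ∈ P, Commute a x → a ∈ extender S (Subgroup.zpowers x) φ := fun a ha hax =>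
    centralizerIn_le_extender (F.apply_mem hφ) ⟨hP.1 ha, Subgroup.mem_centralizer_iff.mpr fun w hw => by
      obtain ⟨k, rfl⟩ := hw
      exact (hax.zpow_right k).eq.symm⟩
  have hx' : x ∈ extender S (Subgroup.zpowers x) φ := hdom x hxP (Commute.refl x)
  have hψx : ψ ⟨x, hx'⟩ = φ X := hψe x (Subgroup.mem_zpowers x) hx'
  have key : ∀ (w : Ω) (hw : w ∈ extender S (Subgroup.zpowers x) φ), w ∈ (derivedOf P) → ψ ⟨w, hw⟩ ∈ (derivedOf P) → w = 1 := by
    intro w hw hwZ hψw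
    by_contra hw1
    have hψw1 : ψ ⟨w, hw⟩ ≠ 1 := fun e => hw1 (congrArg Subtype.val (F.injective_of_mem hψ (e.trans (map_one ψ).symm)))
    obtain ⟨k, hk⟩ : φ X ∈ Subgroup.zpowers (ψ ⟨w, hw⟩) := (eq_zpowers_of_mem_Zc hP.1 hc hψw hψw1).ge hφZ
    refine hxZ ?_
    have h2 : ψ ((⟨w, hw⟩ : ↥(extender S (Subgroup.zpowers x) φ)) ^ k) = ψ ⟨x, hx'⟩ := by
      rw [hψx]
      exact (map_zpow ψ _ k).trans hk
    have h1 : (w : Ω) ^ k = x := congrArg Subtype.val (F.injective_of_mem hψ h2)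
    rw [← h1]
    exact Subgroup.zpow_mem _ hwZ k
  have hψP : ∀ (w : Ω) (hw : w ∈ extender S (Subgroup.zpowers x) φ), w ∈ P → ψ ⟨w, hw⟩ ∈ P := fun w hw hwP =>
    hP.apply_mem_of_mem hψ (x := ⟨w, hw⟩) hwP
  have habel : ∀ a ∈ P, ∀ b ∈ P, Commute a x → Commute b x → Commute a b := by
    intro a ha b hb hax hbx
    refine commutatorElement_eq_one_iff_commute.mp ?_
    let T := extender S (Subgroup.zpowers x) φ
    set a' : T := ⟨a, hdom a ha hax⟩
    set b' : T := ⟨b, hdom b hb hbx⟩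
    refine key _ (⁅a', b'⁆ : T).2 (commutator_mem_Zc ha hb) ?_
    show ψ ⁅a', b'⁆ ∈ (derivedOf P)
    rw [map_commutatorElement]
    exact commutator_mem_Zc (hψP a a'.2 ha) (hψP b b'.2 hb)
  have hpowZ : ∀ a ∈ P, a ^ p ∈ (derivedOf P) := by
    intro a ha
    haveI : Finite P := finite_of_le hP.1
    exact ⟨(⟨a, ha⟩ : P) ^ p, hfr ▸ pow_mem_frattini_pGroup (hS.to_le hP.1) _, rfl⟩
  refine ⟨hxp, habel, fun a ha hax => ?_, ?_⟩
  · let T := extender S (Subgroup.zpowers x) φ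
    set a' : T := ⟨a, hdom a ha hax⟩
    refine key _ (a' ^ p : T).2 (hpowZ a ha) ?_
    show ψ (a' ^ p) ∈ (derivedOf P)
    rw [map_pow]
    exact hpowZ _ (hψP a a'.2 ha)
  · by_contra h
    push Not at h
    have h1 : commutator ↥P = ⊥ := by
      rw [commutator_def, Subgroup.commutator_eq_bot_iff_le_centralizer]
      exact fun a _ b _ => Subtype.ext (habel b b.2 a a.2 (h b b.2) (h a a.2)).eq
    rw [h1, Subgroup.card_bot] at hc
    exact (Fact.out : p.Prime).ne_one hc.symm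

theorem IsSaturated.isNormal_of_generalized_extraspecial (hF : F.IsSaturated p) (hS : IsPGroup p S)
    (hP : F.StronglyClosed P) (hfr : frattini ↥P = commutator ↥P) (hc : Nat.card ↥(commutator ↥P) = p)
    (hex : ¬ GenExtraspecial.IsExcluded p ↥P) : F.IsNormal P := by
  haveI : Finite P := finite_of_le hP.1
  have hpp : p.Prime := Fact.out
  have hX : IsPGroup p P := hS.to_le hP.1
  have hcen := GenExtraspecial.le_center hX hc
  have hZP : (derivedOf P) ≤ P := Subgroup.map_subtype_le _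
  have hZS : (derivedOf P) ≤ S := hZP.trans hP.1
  by_cases hZsc : F.StronglyClosed (derivedOf P)
  · refine hF.isNormal_of_series hS ![⊥, (derivedOf P), P] rfl rfl ?_ fun i => ?_
    · intro i j h
      fin_cases i <;> fin_cases j <;> simp at h ⊢
      exact hZP
    · fin_cases i
      · refine ⟨hZsc, Subgroup.commutator_le.mpr fun a ha b hb => Subgroup.mem_bot.mpr ?_⟩
        obtain ⟨b, hb, rfl⟩ := hb
        exact commutatorElement_eq_one_iff_commute.mpr
          (congrArg Subtype.val (Subgroup.mem_center_iff.mp (hcen hb) ⟨a, ha⟩))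
      · exact ⟨hP, Subgroup.commutator_le.mpr fun a ha b hb => commutator_mem_Zc ha hb⟩
  exfalso
  simp only [StronglyClosed, not_and, not_forall] at hZsc
  obtain ⟨R, hRZ, φ, hφ, r, hr⟩ := hZsc hZS
  have hrZ : (r : Ω) ∈ (derivedOf P) := hRZ r.2
  set x : Ω := φ r with hxdef
  have hxP : x ∈ P := hP.apply_mem_of_mem hφ (hZP hrZ)
  have hr1 : (r : Ω) ≠ 1 := fun e => hr (by
    rw [hxdef, show r = 1 from Subtype.ext e, map_one]
    exact one_mem _)
  have hle : Subgroup.zpowers (r : Ω) ≤ R := Subgroup.zpowers_le.mpr r.2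
  have hφ'r : (φ.comp (Subgroup.inclusion hle)).range = Subgroup.zpowers x := by
    ext w
    constructor
    · rintro ⟨⟨_, k, rfl⟩, rfl⟩
      exact ⟨k, (map_zpow φ r k).symm⟩
    · rintro ⟨k, rfl⟩
      exact ⟨⟨_, k, rfl⟩, map_zpow φ r k⟩
  obtain ⟨χ, hχ, -, hχe, -⟩ := F.exists_inv (F.restrict_mem hφ hle) hφ'r
  have hχx : χ ⟨x, Subgroup.mem_zpowers x⟩ ∈ (derivedOf P) := by
    have h := hχe ⟨r, Subgroup.mem_zpowers _⟩ (Subgroup.mem_zpowers x)
    exact (show χ ⟨x, Subgroup.mem_zpowers x⟩ = r from h) ▸ hrZ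
  obtain ⟨hxp, hC2, hCp, y, hyP, hyx⟩ :=
    hF.centralizer_of_map_commutator hS hP hfr hc hxP hr hχ hχx
  set xX : P := ⟨x, hxP⟩ with hxX
  have hxX_p : xX ^ p = 1 := Subtype.ext (by simpa using hxp)
  have hC2X : ∀ a b : P, Commute a xX → Commute b xX → Commute a b := fun a b ha hb =>
    Subtype.ext (hC2 a a.2 b b.2 (congrArg Subtype.val ha.eq) (congrArg Subtype.val hb.eq)).eq
  have hCpX : ∀ a : P, Commute a xX → a ^ p = 1 := fun a ha =>
    Subtype.ext (by simpa using hCp a a.2 (congrArg Subtype.val ha.eq))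
  have hyX : ⁅(⟨y, hyP⟩ : P), xX⁆ ≠ 1 := fun h =>
    hyx (congrArg Subtype.val (commutatorElement_eq_one_iff_commute.mp h).eq)
  haveI : IsCyclic ↥(commutator ↥P) := isCyclic_of_prime_card hc
  have hp1 : ∀ w ∈ commutator ↥P, w ^ p = 1 := fun w hw => by
    have h : (⟨w, hw⟩ : commutator ↥P) ^ p = 1 := by rw [← hc]; exact pow_card_eq_one'
    simpa using congrArg Subtype.val h
  set Y : P := ⟨y, hyP⟩ with hY
  have hYp : Y ^ p ∈ commutator ↥P := hfr ▸ pow_mem_frattini_pGroup hX Y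
  by_cases hYp1 : Y ^ p = 1
  · exact hex (GenExtraspecial.excluded_of_data hX hc hxX_p hYp1 hyX hC2X hCpX)
  by_cases hp2 : p = 2
  · subst hp2
    refine hex (GenExtraspecial.excluded_of_data hX hc hxX_p (y := Y * xX) ?_ ?_ hC2X hCpX)
    · have hd : xX * Y = Y * xX * ⁅xX⁻¹, Y⁻¹⁆ := by rw [commutatorElement_def]; group
      have hm := Subgroup.mem_center_iff.mp (hcen (GenExtraspecial.comm_mem xX⁻¹ Y⁻¹))
      have hm' : ⁅xX⁻¹, Y⁻¹⁆ ≠ 1 := by
        intro h
        have h1 : Commute xX Y :=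
          Commute.inv_left_iff.mp (Commute.inv_right_iff.mp (commutatorElement_eq_one_iff_commute.mp h))
        exact hyx (congrArg Subtype.val h1.eq).symm
      rw [Small.mul_pow_class_two hd (hm Y).symm (hm xX).symm 2, hxX_p, mul_one,
        show Nat.choose 2 2 = 1 from rfl, pow_one]
      obtain ⟨k, hk⟩ := Metacyclic.mem_zpowers_of_isCyclic (a := (⟨Y ^ 2, hYp⟩ : commutator ↥P))
        (b := ⟨_, GenExtraspecial.comm_mem xX⁻¹ Y⁻¹⟩) (Subtype.ext (hp1 _ hYp))
        (fun e => hYp1 (congrArg Subtype.val e)) (Subtype.ext (hp1 _ (GenExtraspecial.comm_mem _ _)))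
      have hk' : (Y ^ 2) ^ k = ⁅xX⁻¹, Y⁻¹⁆ := by simpa using congrArg Subtype.val hk
      rcases Int.even_or_odd' k with ⟨l, rfl | rfl⟩
      · exfalso
        refine hm' ?_
        rw [← hk', zpow_mul]
        simp [hp1 _ hYp]
      · rw [← hk', zpow_add, zpow_mul, zpow_one, zpow_ofNat, hp1 _ hYp, one_zpow, one_mul, ← pow_two, hp1 _ hYp]
    · intro h
      have h1 := (commutatorElement_eq_one_iff_commute.mp h).mul_left (Commute.refl xX).inv_left
      rw [mul_inv_cancel_right] at h1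
      exact hyx (congrArg Subtype.val h1.eq)
  -- `p` odd
  set C : Subgroup Ω := P ⊓ Subgroup.centralizer ({x} : Set Ω) with hCdef
  have hCmem : ∀ {a : Ω}, a ∈ C ↔ a ∈ P ∧ Commute a x := fun {a} =>
    and_congr_right fun _ => Subgroup.mem_centralizer_singleton_iff
  have hΩ : ∀ a ∈ P, a ^ p = 1 → a ∈ C := by
    intro a ha hap
    set A : P := ⟨a, ha⟩
    obtain ⟨i, hi⟩ := GenExtraspecial.exists_decomp hc hcen hyX A
    have h1 : (Y ^ i) ^ p = 1 := by
      have hinv : ((Y ^ i)⁻¹ * A)⁻¹ ^ p = 1 := by rw [inv_pow, hCpX _ hi, inv_one]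
      have h := GenExtraspecial.pow_eq_one_of_odd hc hcen hp2 (a := A) (Subtype.ext (by simpa using hap) : A ^ p = 1) hinv
      simpa [mul_assoc] using h
    have h2 : (Y ^ p) ^ i = 1 := by rw [← zpow_natCast Y p, zpow_comm, zpow_natCast, h1]
    have h3 : orderOf (Y ^ p) = p := orderOf_eq_prime (hp1 _ hYp) hYp1
    obtain ⟨l, rfl⟩ : (p : ℤ) ∣ i := h3 ▸ orderOf_dvd_iff_zpow_eq_one.mpr h2
    have h4 : Commute (Y ^ ((p : ℤ) * l)) xX := by
      rw [zpow_mul, zpow_natCast]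
      exact (show Commute (Y ^ p) xX from (Subgroup.mem_center_iff.mp (hcen hYp) xX).symm).zpow_left l
    have h5 := h4.mul_left hi
    rw [mul_inv_cancel_left] at h5
    exact hCmem.mpr ⟨ha, congrArg Subtype.val h5.eq⟩
  have hCP : C ≤ P := inf_le_left
  have hCS : C ≤ S := hCP.trans hP.1
  haveI : Finite C := finite_of_le hCS
  haveI := finite_mulAut_of_le hCS
  have hCexp : ∀ c : C, c ^ p = 1 := fun c =>
    Subtype.ext (by simpa using hCp c (hCmem.mp c.2).1 (hCmem.mp c.2).2)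
  have hCcomm : ∀ a b : C, a * b = b * a := fun a b =>
    Subtype.ext (hC2 a (hCmem.mp a.2).1 b (hCmem.mp b.2).1 (hCmem.mp a.2).2 (hCmem.mp b.2).2).eq
  have hCsc : F.StronglyClosed C := by
    refine ⟨hCS, fun R' hR' χ' hχ' a => hΩ _ (hP.apply_mem_of_mem hχ' (hCP (hR' a.2))) ?_⟩
    rw [← map_pow, show a ^ p = 1 from Subtype.ext (by simpa using congrArg Subtype.val (hCexp ⟨a, hR' a.2⟩)), map_one]
  have hCn : F.IsNormal C := by
    refine hF.isNormal_of_series hS ![⊥, C] rfl rfl ?_ fun i => ?_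
    · intro i j h
      fin_cases i <;> fin_cases j <;> simp at h ⊢
    · fin_cases i
      exact ⟨hCsc, Subgroup.commutator_le.mpr fun a ha b hb => Subgroup.mem_bot.mpr
        (commutatorElement_eq_one_iff_commute.mpr (congrArg Subtype.val (hCcomm ⟨a, ha⟩ ⟨b, hb⟩)))⟩
  have hZC : (derivedOf P) ≤ C := fun w hw => by
    obtain ⟨v, hv, rfl⟩ := hw
    exact hCmem.mpr ⟨v.2, congrArg Subtype.val (Subgroup.mem_center_iff.mp (hcen hv) xX).symm⟩
  obtain ⟨ψ, hψ, hψe, -⟩ := hCn.2 R φ hφ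
  have hCmap : ∀ {Q : Subgroup Ω} {κ : C →* Ω}, κ ∈ F.Hom C → κ.range = Q → Q = C := by
    intro Q κ hκ hQ
    subst hQ
    refine Subgroup.eq_of_le_of_card_ge ?_ (Nat.card_range_of_injective (F.injective_of_mem hκ)).ge
    rintro _ ⟨a, rfl⟩
    exact hCsc.apply_mem_of_mem hκ a.2
  set κ := ψ.comp (Subgroup.inclusion (le_sup_right : C ≤ R ⊔ C)) with hκdef
  have hκ : κ ∈ F.Hom C := F.restrict_mem hψ le_sup_right
  set α : MulAut C := F.isoOf hκ (hCmap hκ rfl) with hαdef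
  have hα : α ∈ F.autGroup C := F.isoOf_mem_autGroup hκ (hCmap hκ rfl)
  set rC : C := ⟨r, hZC hrZ⟩ with hrC
  have hαr : ((α rC : C) : Ω) = x := by
    rw [hαdef, coe_isoOf, hxdef, ← hψe r]
    rfl
  have hyN : y ∈ Subgroup.normalizer (C : Set Ω) := hCsc.le_normalizer (hP.1 hyP)
  set U : MulAut C := C.normalizerMonoidHom ⟨y, hyN⟩ with hUdef
  have hU : U ∈ F.autGroup C :=
    autInducedBy_le_autGroup hCS (mem_autInducedBy_iff.mpr ⟨y, hP.1 hyP, hyN, fun _ => rfl⟩)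
  have hyr : y * (r : Ω) * y⁻¹ = r := by
    obtain ⟨v, hv, e⟩ := hrZ
    have := congrArg Subtype.val (Subgroup.mem_center_iff.mp (hcen hv) Y)
    rw [← e]
    exact mul_inv_eq_iff_eq_mul.mpr this
  -- the preimage of `r`
  set q : C := (α⁻¹ : MulAut C) rC with hq
  have hqZ : (q : Ω) ∉ (derivedOf P) := by
    intro hqZ
    obtain ⟨k, hk⟩ := (eq_zpowers_of_mem_Zc hP.1 hc hrZ hr1).ge hqZ
    have h1 : α q = rC := MulAut.apply_inv_self _ α rC
    have h2 : q = rC ^ k := Subtype.ext (by simpa using hk.symm)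
    rw [h2, map_zpow] at h1
    have h3 : x ^ k = r := by
      rw [← hαr]
      simpa using congrArg Subtype.val h1
    have h4 : x ∈ Subgroup.zpowers (r : Ω) := by
      have hx0 : (⟨x, hxP⟩ : P) ^ p = 1 := hxX_p
      obtain ⟨l, hl⟩ := Metacyclic.mem_zpowers_swap (G := P) (a := xX) (b := ⟨r, hZP hrZ⟩) hxX_p
        ⟨k, Subtype.ext (by simpa using h3)⟩ (fun e => hr1 (congrArg Subtype.val e))
      exact ⟨l, by simpa using congrArg Subtype.val hl⟩
    rw [eq_zpowers_of_mem_Zc hP.1 hc hrZ hr1] at h4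
    exact hr h4
  obtain ⟨κ', hκ', -, hκe⟩ := F.exists_map_of_mem_autGroup hCS hα
  have hle' : Subgroup.zpowers (q : Ω) ≤ C := Subgroup.zpowers_le.mpr q.2
  obtain ⟨-, hqC2, -, -⟩ := hF.centralizer_of_map_commutator hS hP hfr hc (hCP q.2) hqZ
    (F.restrict_mem hκ' hle') (by
      show κ' q ∈ (derivedOf P)
      rw [hκe, hq, MulAut.apply_inv_self]
      exact hrZ)
  have hUr : U rC = rC := Subtype.ext hyr
  have hgenU : ∀ c : C, U c * c⁻¹ ∈ Subgroup.zpowers rC := by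
    intro c
    have h : y * (c : Ω) * y⁻¹ * (c : Ω)⁻¹ ∈ (derivedOf P) := by
      rw [← commutatorElement_def]
      exact commutator_mem_Zc hyP (hCP c.2)
    obtain ⟨k, hk⟩ := (eq_zpowers_of_mem_Zc hP.1 hc hrZ hr1).ge h
    exact ⟨k, C.subtype_injective ((map_zpow C.subtype rC k).trans hk)⟩
  obtain ⟨τ, hτ, hτr, hτU⟩ := Metacyclic.exists_semi_inversion (p := p) hCcomm hCexp (F.autGroup C) hU hα
    hUr hgenU
    (fun h => hyx (by
      have h' := congrArg Subtype.val h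
      change y * ((α rC : C) : Ω) * y⁻¹ = _ at h'
      rw [hαr] at h'
      exact mul_inv_eq_iff_eq_mul.mp h'))
    (fun h => hyx (by
      have h' : y * (q : Ω) * y⁻¹ = q := congrArg Subtype.val h
      exact hqC2 y hyP x hxP (mul_inv_eq_iff_eq_mul.mp h') (hCmem.mp q.2).2.symm))
  have hfn : F.IsFullyNormalized C := by
    refine ⟨hCS, fun Q ⟨κ'', hκ'', hQ⟩ => ?_⟩
    rw [hCmap hκ'' hQ]
  have hM : P ≤ normalizerIn S C := fun g hg => ⟨hP.1 hg, hCsc.le_normalizer (hP.1 hg)⟩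
  have hconjU : ∀ g ∈ P, ∀ hgN : g ∈ Subgroup.normalizer (C : Set Ω), ∃ k : ℤ,
      C.normalizerMonoidHom ⟨g, hgN⟩ = U ^ k := by
    intro g hg hgN
    obtain ⟨k, hk⟩ := GenExtraspecial.exists_decomp hc hcen hyX ⟨g, hg⟩
    set d : P := (Y ^ k)⁻¹ * ⟨g, hg⟩ with hd
    have hdC : (d : Ω) ∈ C := hCmem.mpr ⟨d.2, congrArg Subtype.val hk.eq⟩
    have hgd : g = y ^ k * (d : Ω) := by simp [hd, hY]
    refine ⟨k, ?_⟩
    have hdd : C.normalizerMonoidHom ⟨(d : Ω), Subgroup.le_normalizer hdC⟩ = 1 := by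
      refine MulEquiv.ext fun c => Subtype.ext ?_
      show (d : Ω) * c * (d : Ω)⁻¹ = c
      exact mul_inv_eq_iff_eq_mul.mpr (congrArg Subtype.val (hCcomm ⟨d, hdC⟩ c))
    have he : (⟨g, hgN⟩ : ↥(Subgroup.normalizer (C : Set Ω))) = ⟨y, hyN⟩ ^ k * ⟨d, Subgroup.le_normalizer hdC⟩ :=
      Subtype.ext (by simpa using hgd)
    rw [he, map_mul, map_zpow, hdd, mul_one]
  obtain ⟨ψ', hψ', hψ'e⟩ := exists_extension_of_normalizes (hF.isReceptive_of_isFullyNormalized hS hfn) hτ hM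
    (fun g hg hgN => by
      obtain ⟨k, hk⟩ := hconjU g hg hgN
      have hcm : Commute τ U := MulEquiv.ext fun c => hτU c
      rw [hk, (hcm.zpow_right k).eq, mul_inv_cancel_right, ← hk]
      exact mem_autInducedBy_iff.mpr ⟨g, hP.1 hg, hgN, fun _ => rfl⟩)
  have hy' : y ∈ C ⊔ P := Subgroup.mem_sup_right hyP
  set g := ψ' ⟨y, hy'⟩ with hgdef
  have hgP : g ∈ P := hP.apply_mem_of_mem hψ' (x := ⟨y, hy'⟩) hyP
  have hgc : ∀ c : C, ((τ (U c) : C) : Ω) = g * ((τ c : C) : Ω) * g⁻¹ := by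
    intro c
    rw [← hψ'e, ← hψ'e, hgdef, ← map_inv, ← map_mul, ← map_mul]
    rfl
  have hd : Commute (y⁻¹ * g) x := by
    obtain ⟨c, hc'⟩ := τ.surjective (α rC)
    have h1 := hgc c
    rw [hτU, hc'] at h1
    change y * ((α rC : C) : Ω) * y⁻¹ = g * ((α rC : C) : Ω) * g⁻¹ at h1
    rw [hαr] at h1
    calc y⁻¹ * g * x = y⁻¹ * (g * x * g⁻¹) * g := by group
      _ = x * (y⁻¹ * g) := by rw [← h1]; group
  set D : P := Y⁻¹ * ⟨g, hgP⟩ with hD
  have hDp : D ^ p = 1 := hCpX D (Subtype.ext (by simpa [hD, hY, hxX] using hd.eq))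
  have hgp : g ^ p = y ^ p := by
    have hdY : D * Y = Y * D * ⁅D⁻¹, Y⁻¹⁆ := by rw [commutatorElement_def]; group
    have hm := Subgroup.mem_center_iff.mp (hcen (GenExtraspecial.comm_mem D⁻¹ Y⁻¹))
    have h := Small.mul_pow_class_two hdY (hm Y).symm (hm D).symm p
    obtain ⟨k, hk⟩ : p ∣ p.choose 2 := by
      have := hpp.two_le
      exact hpp.dvd_choose_self two_ne_zero (by omega)
    rw [hDp, mul_one, hk, pow_mul, hp1 _ (GenExtraspecial.comm_mem _ _), one_pow, mul_one,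
      show Y * D = ⟨g, hgP⟩ by rw [hD, mul_inv_cancel_left]] at h
    simpa [hY] using congrArg Subtype.val h
  have hypZ : y ^ p ∈ (derivedOf P) := ⟨Y ^ p, hYp, by simp [hY]⟩
  obtain ⟨k, hk⟩ := (eq_zpowers_of_mem_Zc hP.1 hc hrZ hr1).ge hypZ
  have h1 : g ^ p = ((τ (rC ^ k) : C) : Ω) := by
    rw [← hψ'e, hgdef, ← map_pow]
    exact congrArg ψ' (Subtype.ext (by simpa [hrC] using hk.symm))
  rw [map_zpow, hτr, hgp, SubgroupClass.coe_zpow, InvMemClass.coe_inv, inv_zpow] at h1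
  have hk' : (r : Ω) ^ k = y ^ p := hk
  rw [show ((rC : C) : Ω) = r from rfl, hk'] at h1
  have h2 : (y ^ p) ^ 2 = 1 := by
    rw [pow_two]
    nth_rw 1 [h1]
    rw [inv_mul_cancel]
  have h3 : (y ^ p) ^ p = 1 := mem_Zc_pow hc hypZ
  have hg1 := pow_gcd_eq_one.mpr ⟨h3, h2⟩
  rw [Nat.Coprime.gcd_eq_one ((Nat.coprime_primes hpp Nat.prime_two).mpr hp2), pow_one] at hg1
  exact hYp1 (Subtype.ext (by simpa [hY] using hg1))

end Cfsg.FusionSystem
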