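import Cfsg.Agent.Lib.Fusion.CenterReduce

/-!
Generation of a saturated system by normaliser systems and by the maps acting on a normal subgroup as `S` does.
-/

set_option autoImplicit false
set_option linter.unusedSectionVars false

universe u

namespace Cfsg.FusionSystem

variable {Ω : Type u} [Group Ω] {S : Subgroup Ω} {F : FusionSystem S} {p : ℕ} {X U : Subgroup Ω}
variable [Finite S] [Fact p.Prime]

/-- Every map on an overgroup of `U` inside its normaliser carrying `U` to itself lies in `D`. -/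
def NormalizerLe (F : FusionSystem S) (U : Subgroup Ω) (D : FusionSystem S) : Prop :=
  ∀ (P : Subgroup Ω) (φ : P →* Ω), φ ∈ F.Hom P → U ≤ P → P ≤ normalizerIn S U →
    (U.subgroupOf P).map φ = U → φ ∈ D.Hom P

omit [Finite S] in
theorem IsNormalizerSystem.mem_of_normalizes {E : FusionSystem (normalizerIn S U)} (hE : F.IsNormalizerSystem U E)
    {P : Subgroup Ω} {φ : P →* Ω} (hφ : φ ∈ F.Hom P) (hUP : U ≤ P) (hPN : P ≤ normalizerIn S U)
    (hUm : (U.subgroupOf P).map φ = U) : φ ∈ E.Hom P := by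
  rw [hE]
  have hle : P ⊔ U ≤ P := sup_le le_rfl hUP
  refine ⟨hφ, hPN, fun y => ⟨F.apply_mem hφ y, ?_⟩, φ.comp (Subgroup.inclusion hle), F.restrict_mem hφ hle,
    fun y => rfl, ?_⟩
  · refine apply_mem_normalizer (P := U) (φ := φ.comp (Subgroup.inclusion hUP)) hUP (fun q => rfl) ?_ y (hPN y.2).2
    rw [range_eq_map_of_le hUP]
    exact hUm
  · ext z
    constructor
    · rintro ⟨y, hy, rfl⟩
      exact hUm.le ⟨⟨y, hUP hy⟩, hy, rfl⟩
    · intro hz
      obtain ⟨y, hy, rfl⟩ := hUm.ge hz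
      exact ⟨⟨y, Subgroup.mem_sup_left y.2⟩, hy, rfl⟩

theorem IsNormalizerSystem.normalizerLe {E : FusionSystem (normalizerIn S U)} (hE : F.IsNormalizerSystem U E)
    {D : FusionSystem S} (h : ∀ P, E.Hom P ⊆ D.Hom P) : F.NormalizerLe U D := fun P _ hφ h1 h2 h3 =>
  h P (hE.mem_of_normalizes hφ h1 h2 h3)

/-- Maps on an overgroup of a fully normalised conjugate, transported back. -/
theorem IsSaturated.normalizerLe_transfer (hF : F.IsSaturated p) (hS : IsPGroup p S) {U' : Subgroup Ω}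
    {D : FusionSystem S} (hc : F.IsConj U U') (hU' : F.IsFullyNormalized U') (h : F.NormalizerLe U' D)
    (hbig : ∀ P : Subgroup Ω, Nat.card (normalizerIn S U) ≤ Nat.card P → F.Hom P ⊆ D.Hom P) :
    F.NormalizerLe U D := by
  intro P φ hφ hUP hPN hUm
  obtain ⟨β, hβ, hβr, χ, hχ, hχN, hχe⟩ := hF.exists_map_to_fullyNormalized hS hU' hc
  have hφN : ∀ y : P, φ y ∈ normalizerIn S U := fun y => ⟨F.apply_mem hφ y, by
    refine apply_mem_normalizer (P := U) (φ := φ.comp (Subgroup.inclusion hUP)) hUP (fun q => rfl) ?_ y (hPN y.2).2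
    rw [range_eq_map_of_le hUP]
    exact hUm⟩
  set χP := χ.comp (Subgroup.inclusion hPN) with hχP
  have hχPmem : χP ∈ F.Hom P := F.restrict_mem hχ hPN
  obtain ⟨χ', hχ', hχ'r, hχ'l, -⟩ := F.exists_inv hχPmem rfl
  have hχ'P : ∀ y, χ' y ∈ P := fun y => hχ'r.le ⟨y, rfl⟩
  obtain ⟨γ₁, hγ₁, hγ₁e⟩ := F.exists_comp hχ' hφ hχ'P
  have hγ₁N : ∀ y, γ₁ y ∈ normalizerIn S U := fun y => by rw [hγ₁e]; exact hφN _
  obtain ⟨γ, hγ, hγe⟩ := F.exists_comp hγ₁ hχ hγ₁N
  have hγv : ∀ (u : P) (hu : χP u ∈ χP.range), γ ⟨χP u, hu⟩ = χ ⟨φ u, hφN u⟩ := fun u hu => by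
    rw [hγe]
    refine congrArg χ (Subtype.ext ?_)
    show γ₁ ⟨χP u, hu⟩ = φ u
    rw [hγ₁e]
    exact congrArg φ (Subtype.ext (hχ'l u hu))
  have hU'P : U' ≤ χP.range := by
    rw [← hβr]
    rintro _ ⟨u, rfl⟩
    exact ⟨⟨u, hUP u.2⟩, hχe u _⟩
  have hU'N : χP.range ≤ normalizerIn S U' := by
    rintro _ ⟨u, rfl⟩
    exact hχN _
  have hγU : (U'.subgroupOf χP.range).map γ = U' := by
    apply le_antisymm
    · rintro _ ⟨⟨_, u, rfl⟩, hu, rfl⟩
      have hu' : χP u ∈ U' := hu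
      obtain ⟨w, hw⟩ := hβr.ge hu'
      have huU : (u : Ω) ∈ U := by
        have e : χ ⟨(w : Ω), hPN (hUP w.2)⟩ = χ ⟨(u : Ω), hPN u.2⟩ := (hχe w _).trans hw
        have := congrArg Subtype.val (F.injective_of_mem hχ e)
        exact this ▸ w.2
      refine (congrArg (· ∈ U') (hγv u _)).mpr ?_
      have hfu : φ u ∈ U := hUm.le ⟨u, huU, rfl⟩
      rw [hχe ⟨φ u, hfu⟩]
      exact hβr.le ⟨_, rfl⟩
    · intro z hz
      obtain ⟨w, rfl⟩ := hβr.ge hz
      obtain ⟨u, hu, e⟩ := hUm.ge w.2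
      have huU : (u : Ω) ∈ U := hu
      refine ⟨⟨χP u, u, rfl⟩, ?_, ?_⟩
      · show χ ⟨(u : Ω), hPN u.2⟩ ∈ U'
        rw [hχe ⟨(u : Ω), huU⟩]
        exact hβr.le ⟨_, rfl⟩
      · refine (hγv u _).trans ?_
        rw [← hχe w (hPN (hUP w.2))]
        exact congrArg χ (Subtype.ext e)
  have hγD := h _ γ hγ hU'P hU'N hγU
  have hχD : χ ∈ D.Hom (normalizerIn S U) := hbig _ le_rfl hχ
  obtain ⟨χ'', hχ'', hχ''r, hχ''l, -⟩ := D.exists_inv hχD rfl
  have hγr : ∀ y, γ y ∈ χ.range := fun y => by rw [hγe]; exact ⟨_, rfl⟩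
  obtain ⟨θ₁, hθ₁, hθ₁e⟩ := D.exists_comp hγD hχ'' hγr
  have hχPD : χP ∈ D.Hom P := D.restrict_mem hχD hPN
  obtain ⟨θ₂, hθ₂, hθ₂e⟩ := D.exists_comp hχPD hθ₁ fun y => ⟨y, rfl⟩
  refine D.mem_of_apply_eq hθ₂ fun u => ?_
  refine ((hθ₂e u).trans ((hθ₁e _).trans ?_)).symm
  refine Eq.trans (congrArg χ'' (Subtype.ext (hγv u ⟨u, rfl⟩) : _ = (⟨χ ⟨φ u, hφN u⟩, ⟨_, rfl⟩⟩ : χ.range))) ?_
  exact hχ''l ⟨φ u, hφN u⟩ _

/-- The system is generated by the normaliser of `X C_S(X)` and the maps acting on `X` as `S` does. -/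
theorem IsSaturated.le_of_noncentric_core (hF : F.IsSaturated p) (hS : IsPGroup p S) (hX : F.IsNormal X)
    {D : FusionSystem S} (hU : F.NormalizerLe (X ⊔ centralizerIn S X) D)
    (hH : ∀ P, (relSystem hX (autInducedBy S X) (autInducedBy_hK hX)).Hom P ⊆ D.Hom P) : F ≤ D := by
  classical
  have hXs := hX.stronglyClosed
  set U := X ⊔ centralizerIn S X with hUdef
  have hUs : F.StronglyClosed U := hXs.sup_centralizerIn hF hS
  refine hF.le_of_autGroup_le' hS D fun R hR hbig α hα => ?_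
  have hRS : R ≤ S := by
    rcases hR with rfl | hR
    · exact le_rfl
    · exact hR.1.1
  obtain ⟨φ, hφ, hr, he⟩ := F.exists_map_of_mem_autGroup hRS hα
  by_cases hUR : U ≤ R
  · exact D.mem_autGroup_of_map (hU R φ hφ hUR (hRS.trans ((normalizerIn_eq_of_le_normalizer hUs.le_normalizer).ge))
      (hUs.map_eq hφ hUR)) fun y => (he y).symm
  replace hR : F.IsEssential p R := hR.resolve_left fun h => hUR (h ▸ hUs.1)
  haveI := finite_mulAut_of_le hRS
  haveI : Finite R := finite_of_le hRS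
  have hXR : X ≤ R := hX.le_of_centric_radical hS hR.1 (hR.isRadical hS hF)
  let St : Subgroup (F.autGroup R) := (D.autGroup R).comap (F.autGroup R).subtype
  suffices hSt : (⊤ : Subgroup (F.autGroup R)) ≤ St from hSt (Subgroup.mem_top (⟨α, hα⟩ : F.autGroup R))
  obtain ⟨-, T, hT⟩ := hF.isFullyAutomized_of_isFullyNormalized hS hR.2.1
  have hrec := hF.isReceptive_of_isFullyNormalized hS hR.2.1
  have hres : ∀ a : F.autGroup R, ∀ y : X, (((a : MulAut R) ⟨y, hXR y.2⟩ : R) : Ω) ∈ X := by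
    intro a y
    obtain ⟨χ, hχ, -, hχe⟩ := F.exists_map_of_mem_autGroup hRS a.2
    rw [← hχe]
    exact hXs.apply_mem_of_mem hχ y.2
  let C : Subgroup (F.autGroup R) :=
    { carrier := {c | ∃ x₀ : X, ∀ y : X, (((c : MulAut R) ⟨y, hXR y.2⟩ : R) : Ω) = x₀ * y * (x₀ : Ω)⁻¹}
      one_mem' := ⟨1, fun y => by simp⟩
      mul_mem' := by
        rintro a b ⟨a₀, ha⟩ ⟨b₀, hb⟩
        refine ⟨a₀ * b₀, fun y => ?_⟩
        show (((a : MulAut R) ((b : MulAut R) ⟨y, hXR y.2⟩) : R) : Ω) = _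
        rw [show (b : MulAut R) ⟨y, hXR y.2⟩ = ⟨((b₀ * y * b₀⁻¹ : X) : Ω), hXR (b₀ * y * b₀⁻¹).2⟩ from
          Subtype.ext (hb y), ha]
        simp [mul_assoc]
      inv_mem' := by
        rintro a ⟨a₀, ha⟩
        refine ⟨a₀⁻¹, fun y => ?_⟩
        have h1 := ha (a₀⁻¹ * y * a₀)
        have e : (⟨((a₀⁻¹ * y * a₀ : X) : Ω), hXR (a₀⁻¹ * y * a₀).2⟩ : R) =
            ((a⁻¹ : F.autGroup R) : MulAut R) ⟨y, hXR y.2⟩ := by
          apply (a : MulAut R).injective
          rw [show (a : MulAut R) (((a⁻¹ : F.autGroup R) : MulAut R) ⟨y, hXR y.2⟩) = ⟨y, hXR y.2⟩ from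
            (a : MulAut R).apply_symm_apply _]
          exact Subtype.ext (h1.trans (by simp [mul_assoc]))
        rw [← e]
        simp }
  haveI hCn : C.Normal := by
    refine ⟨fun c hc a => ?_⟩
    obtain ⟨x₀, h⟩ := hc
    refine ⟨⟨_, hres a x₀⟩, fun y => ?_⟩
    show (((a : MulAut R) ((c : MulAut R) (((a⁻¹ : F.autGroup R) : MulAut R) ⟨y, hXR y.2⟩)) : R) : Ω) = _
    have e1 : (c : MulAut R) (((a⁻¹ : F.autGroup R) : MulAut R) ⟨y, hXR y.2⟩) =
        ⟨x₀, hXR x₀.2⟩ * ((a⁻¹ : F.autGroup R) : MulAut R) ⟨y, hXR y.2⟩ * ⟨x₀, hXR x₀.2⟩⁻¹ :=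
      Subtype.ext (h ⟨_, hres a⁻¹ y⟩)
    rw [e1, map_mul, map_mul, map_inv]
    rw [show (a : MulAut R) (((a⁻¹ : F.autGroup R) : MulAut R) ⟨y, hXR y.2⟩) = ⟨y, hXR y.2⟩ from
      (a : MulAut R).apply_symm_apply _]
    rfl
  have hCSt : C ≤ St := by
    intro c hc
    obtain ⟨x₀, hx₀⟩ := hc
    obtain ⟨χ, hχ, -, hχe⟩ := F.exists_map_of_mem_autGroup hRS c.2
    refine D.mem_autGroup_of_map (hH R ⟨hχ, _, F.restrict_mem hχ (sup_le le_rfl hXR), fun y => rfl,
      X.normalizerMonoidHom ⟨(x₀ : Ω), Subgroup.le_normalizer x₀.2⟩,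
      mem_autInducedBy_iff.mpr ⟨x₀, hX.1 x₀.2, Subgroup.le_normalizer x₀.2, fun y => rfl⟩, fun y => ?_⟩)
      fun y => (hχe y).symm
    exact (hχe _).trans (hx₀ y)
  -- a Sylow subgroup of `C`
  obtain ⟨V, hV⟩ := ((T.2.to_le (inf_le_left : (T : Subgroup (F.autGroup R)) ⊓ C ≤ T)).of_equiv
    (Subgroup.subgroupOfEquivOfLe inf_le_right).symm).exists_le_sylow
  have hVmap : (V : Subgroup C).map C.subtype = (T : Subgroup (F.autGroup R)) ⊓ C := by
    symm
    have h1 : (T : Subgroup (F.autGroup R)) ⊓ C ≤ (V : Subgroup C).map C.subtype :=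
      fun y hy => ⟨⟨y, hy.2⟩, hV hy, rfl⟩
    obtain ⟨a, ha⟩ := exists_conj_mem_sylow T (V.2.map C.subtype)
    refine Subgroup.eq_of_le_of_card_ge h1 ?_
    refine le_trans (le_of_eq (Subgroup.card_map_of_injective (f := (MulAut.conj a : (F.autGroup R) ≃* _).toMonoidHom)
      (MulEquiv.injective (MulAut.conj a))).symm)
      (Subgroup.card_le_of_le ?_)
    rintro _ ⟨y, hy, rfl⟩
    refine ⟨ha y hy, ?_⟩
    obtain ⟨z, -, rfl⟩ := hy
    exact hCn.conj_mem _ z.2 a
  rw [← V.normalizer_sup_eq_top, hVmap]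
  refine sup_le ?_ hCSt
  intro γ hγ
  let M : Subgroup Ω := normalizerIn U R
  have hM : M ≤ normalizerIn S R := fun g hg => ⟨hUs.1 hg.1, hg.2⟩
  obtain ⟨ψ, hψ, hψe⟩ := exists_extension_of_normalizes hrec γ.2 hM (by
    intro g hg hgN
    let c : F.autGroup R := ⟨R.normalizerMonoidHom ⟨g, hgN⟩,
      autInducedBy_le_autGroup hRS (mem_autInducedBy_iff.mpr ⟨g, hUs.1 hg.1, hgN, fun _ => rfl⟩)⟩
    have hc : c ∈ (T : Subgroup (F.autGroup R)) ⊓ C := by
      refine ⟨hT.ge (mem_autInducedBy_iff.mpr ⟨g, hUs.1 hg.1, hgN, fun _ => rfl⟩), ?_⟩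
      have hv' : g ∈ (↑(X ⊔ centralizerIn S X) : Set Ω) := hg.1
      rw [sup_comm, Subgroup.coe_mul_of_left_le_normalizer_right (centralizerIn S X) X
        (fun c hc => Subgroup.centralizer_le_normalizer _ hc.2)] at hv'
      obtain ⟨d, hd, y₀, hy₀, rfl⟩ := hv'
      refine ⟨⟨y₀, hy₀⟩, fun y => ?_⟩
      show d * y₀ * (y : Ω) * (d * y₀)⁻¹ = y₀ * y * y₀⁻¹
      have h1 := Subgroup.mem_centralizer_iff.mp hd.2 (y₀ * y * y₀⁻¹)
        (X.mul_mem (X.mul_mem hy₀ y.2) (X.inv_mem hy₀))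
      calc d * y₀ * (y : Ω) * (d * y₀)⁻¹ = d * (y₀ * y * y₀⁻¹) * d⁻¹ := by group
        _ = y₀ * y * y₀⁻¹ * d * d⁻¹ := by rw [h1]
        _ = y₀ * y * y₀⁻¹ := by group
    exact hT.le ((Subgroup.mem_normalizer_iff.mp hγ c).mp hc).1)
  have hRM : R ⊔ M ≤ S := sup_le hRS (hM.trans normalizerIn_le)
  have hlt : R < R ⊔ M := by
    refine lt_of_le_of_ne le_sup_left fun e => ?_
    have hle : R ⊔ U ≤ S := sup_le hRS hUs.1
    have hlt : R < R ⊔ U := lt_of_le_of_ne le_sup_left fun e => hUR (le_sup_right.trans e.ge)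
    haveI := finite_of_le hle
    obtain ⟨w, hw, hwR⟩ := SetLike.exists_of_lt (lt_normalizerIn (hS.to_le hle) hlt)
    have hw1 : w ∈ (↑(R ⊔ U) : Set Ω) := hw.1
    rw [Subgroup.coe_mul_of_left_le_normalizer_right R U (hRS.trans hUs.le_normalizer)] at hw1
    obtain ⟨r, hr, t, ht, rfl⟩ := hw1
    have htN : t ∈ Subgroup.normalizer (R : Set Ω) := by
      have := Subgroup.mul_mem _ (Subgroup.inv_mem _
        (Subgroup.le_normalizer hr : r ∈ Subgroup.normalizer (R : Set Ω))) hw.2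
      simpa [mul_assoc] using this
    exact hwR (R.mul_mem hr (e.ge (Subgroup.mem_sup_right ⟨ht, htN⟩)))
  haveI := finite_of_le hRM
  exact D.mem_autGroup_of_map (D.restrict_mem (hbig _ (card_lt_of_lt hlt) hψ) le_sup_left)
    fun y => (hψe y).symm

/-- Climbing along a functor: without a nontrivial normal subgroup the local systems generate. -/
theorem IsSaturated.le_of_climb (W : ∀ (Q : Type u) [Group Q], Subgroup Q)
    (hW1 : ∀ (Q : Type u) [Group Q] [Finite Q], IsPGroup p Q → Nontrivial Q → W Q ≠ ⊥)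
    (hW2 : ∀ (Q R : Type u) [Group Q] [Group R] [Finite Q], IsPGroup p Q → ∀ φ : Q ≃* R,
      (W Q).map φ.toMonoidHom = W R)
    (hF : F.IsSaturated p) (hS : IsPGroup p S) {D : FusionSystem S} (htop : F.Hom S ⊆ D.Hom S)
    (hloc : ∀ U, F.IsFullyNormalized U → U ≠ ⊥ →
      (normalizerIn S U ≠ S → F.NormalizerLe (functorOn W (normalizerIn S U)) D) → F.NormalizerLe U D) :
    F ≤ D := by
  refine hF.le_of_autGroup_le' hS D fun R hR hbig α hα => ?_
  by_cases hRe : R = S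
  · subst hRe
    obtain ⟨φ, hφ, -, he⟩ := F.exists_map_of_mem_autGroup le_rfl hα
    exact D.mem_autGroup_of_map (htop hφ) fun y => (he y).symm
  replace hR : F.IsEssential p R := hR.resolve_left hRe
  have hRS : R ≤ S := hR.1.1
  have hRb : R ≠ ⊥ := by
    rintro rfl
    refine hRe (le_antisymm hRS fun y hy => ?_)
    exact hR.1.centralizerIn_le_self ⟨hy, Subgroup.mem_centralizer_iff.mpr fun z hz => by
      rw [Subgroup.mem_bot.mp hz, one_mul, mul_one]⟩
  suffices key : ∀ k, ∀ U, U ≤ S → U ≠ ⊥ → Nat.card R < Nat.card (normalizerIn S U) →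
      Nat.card S - Nat.card (normalizerIn S U) = k → F.NormalizerLe U D by
    haveI : Finite (normalizerIn S R) := finite_normalizerIn
    have hlt : Nat.card R < Nat.card (normalizerIn S R) :=
      card_lt_of_lt (lt_normalizerIn hS (hR.lt hS hF))
    obtain ⟨φ, hφ, hr, he⟩ := F.exists_map_of_mem_autGroup hRS hα
    have hRm : (R.subgroupOf R).map φ = R := by
      rw [Subgroup.subgroupOf_self, ← MonoidHom.range_eq_map, hr]
    exact D.mem_autGroup_of_map (key _ R hRS hRb hlt rfl R φ hφ le_rfl (le_normalizerIn hRS) hRm) fun y => (he y).symm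
  intro k
  induction k using Nat.strong_induction_on with
  | h k ihk =>
    have full : ∀ U, F.IsFullyNormalized U → U ≠ ⊥ → Nat.card R < Nat.card (normalizerIn S U) →
        Nat.card S - Nat.card (normalizerIn S U) ≤ k → F.NormalizerLe U D := by
      intro U hU hUb hlt hk
      refine hloc U hU hUb fun hTe => ?_
      set T := normalizerIn S U with hTdef
      have hTS : T ≤ S := normalizerIn_le
      haveI : Finite T := finite_of_le hTS
      have hTp : IsPGroup p T := hS.to_le hTS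
      have hTb : T ≠ ⊥ := fun h => hUb (le_bot_iff.mp (h ▸ le_normalizerIn hU.1))
      have hVb := functorOn_ne_bot W hW1 hTp hTb
      have hVS : functorOn W T ≤ S := (Subgroup.map_subtype_le _).trans hTS
      haveI : Finite (normalizerIn S (functorOn W T)) := finite_normalizerIn
      haveI : Finite (normalizerIn S T) := finite_normalizerIn
      have hT1 : T < normalizerIn S T := lt_normalizerIn hS (lt_of_le_of_ne hTS hTe)
      have hT2 : normalizerIn S T ≤ normalizerIn S (functorOn W T) :=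
        inf_le_inf_left _ (normalizer_le_normalizer_functorOn W hW2 hTp)
      have hc1 : Nat.card T < Nat.card (normalizerIn S (functorOn W T)) :=
        lt_of_lt_of_le (card_lt_of_lt hT1) (Subgroup.card_le_of_le hT2)
      have hle := Nat.card_le_card_of_injective _ (Subgroup.inclusion_injective
        (normalizerIn_le (S := S) (P := functorOn W T)))
      exact ihk _ (by omega) _ hVS hVb (by omega) rfl
    intro U hUS hUb hlt hk
    obtain ⟨U', hc', hU'⟩ := F.exists_isFullyNormalized hUS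
    have hU'b : U' ≠ ⊥ := fun h => hUb (Subgroup.eq_bot_of_card_eq U (by rw [hc'.card_eq, h, Subgroup.card_bot]))
    have hle : Nat.card (normalizerIn S U) ≤ Nat.card (normalizerIn S U') := by
      obtain ⟨φ, hφ, hr⟩ := hc'
      exact hU'.2 U (IsConj.symm ⟨φ, hφ, hr⟩)
    exact hF.normalizerLe_transfer hS hc' hU' (full U' hU' hU'b (by omega) (by omega))
      fun P hP => hbig P (by omega)

end Cfsg.FusionSystem
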