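import Cfsg.Agent.S5118
import Cfsg.Agent.Lib.Basic

/-!
A group realising a simple fusion system minimally is simple.
-/

set_option autoImplicit false

namespace Cfsg

namespace FusionSystem

variable {G : Type*} [Group G] [Finite G] {p : ℕ} [Fact p.Prime]

theorem fusionSystemOfSubgroup_congr {H A B : Subgroup G} (hA : A ≤ H) (hB : B ≤ H) (h : A = B)
    (P : Subgroup G) : (fusionSystemOfSubgroup H A hA).Hom P = (fusionSystemOfSubgroup H B hB).Hom P := by
  subst h
  rfl

theorem isSimpleGroup_of_isSimple (S : Sylow p G)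
    (hsimple : (groupFusionSystem (S : Subgroup G)).IsSimple p) (hcore : pPrimeCore p G = ⊥)
    (hmin : ∀ (H : Subgroup G) (hSH : (S : Subgroup G) ≤ H), H ≠ ⊤ → ∃ P : Subgroup G,
      (fusionSystemOfSubgroup H (S : Subgroup G) hSH).Hom P ≠ (groupFusionSystem (S : Subgroup G)).Hom P) :
    IsSimpleGroup G := by
  obtain ⟨-, hS1, hsub⟩ := hsimple
  haveI : Nontrivial G := by
    obtain ⟨x, -, hx1⟩ := (Subgroup.bot_or_exists_ne_one _).resolve_left hS1
    exact ⟨⟨x, 1, hx1⟩⟩
  refine ⟨fun N hN => ?_⟩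
  haveI := hN
  rcases hsub _ _ (Cfsg.Agent.S5118.aux p S N) with h | ⟨h, heq⟩
  · left
    refine eq_bot_iff.mpr (hcore ▸ CfsgLib.le_pPrimeCore (hN := hN) ?_)
    refine ((Fact.out : p.Prime).coprime_iff_not_dvd.mpr fun hd => ?_).symm
    obtain ⟨x, hx⟩ := exists_prime_orderOf_dvd_card' (G := N) p hd
    obtain ⟨P, hP⟩ := (IsPGroup.of_card (p := p) (n := 1)
      (by rw [Nat.card_zpowers, Subgroup.orderOf_coe, hx, pow_one]) :
        IsPGroup p (Subgroup.zpowers (x : G))).exists_le_sylow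
    obtain ⟨g, rfl⟩ := MulAction.exists_smul_eq G S P
    have h1 := hP (Subgroup.mem_zpowers (x : G))
    rw [Sylow.coe_subgroup_smul, Subgroup.mem_pointwise_smul_iff_inv_smul_mem] at h1
    have h1' : g⁻¹ * (x : G) * g ∈ (S : Subgroup G) := by simpa [MulAut.smul_def] using h1
    have h2 : g⁻¹ * (x : G) * g ∈ (S : Subgroup G) ⊓ N :=
      ⟨h1', by simpa using hN.conj_mem _ x.2 g⁻¹⟩
    rw [h, Subgroup.mem_bot] at h2
    have h3 : (x : G) = 1 := by
      calc (x : G) = g * (g⁻¹ * (x : G) * g) * g⁻¹ := by group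
        _ = 1 := by rw [h2, mul_one, mul_inv_cancel]
    rw [← Subgroup.orderOf_coe, h3, orderOf_one] at hx
    exact (Fact.out : p.Prime).one_lt.ne hx
  · right
    by_contra hne
    obtain ⟨P, hP⟩ := hmin N (inf_eq_left.mp h) hne
    exact hP ((fusionSystemOfSubgroup_congr (inf_eq_left.mp h) inf_le_right h.symm P).trans (heq P))

end FusionSystem

end Cfsg
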