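import Cfsg.Agent.Lib.Fusion.Group
import Cfsg.Agent.Lib.Fusion.Centric
import Cfsg.Agent.Lib.Fusion.Normal
import Cfsg.Agent.Lib.LocalFusionExtra

/-! Simplicity criteria for the fusion systems of groups. -/

set_option autoImplicit false
set_option linter.unusedSectionVars false

namespace CfsgLib.GroupSimple

open Cfsg Cfsg.FusionSystem

variable {G : Type*} [Group G] [Finite G] {p : ℕ} [Fact p.Prime]

/-- The criterion with generation by normalizers of fully normalized centric subgroups. -/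
theorem isSimple_of_generated (S : Sylow p G) (hS1 : (S : Subgroup G) ≠ ⊥)
    (ha : ∀ T : Subgroup G, (groupFusionSystem (S : Subgroup G)).StronglyClosed T → T = ⊥ ∨ T = (S : Subgroup G))
    (hb : autInducedBy ⊤ (S : Subgroup G) ≤ ⨆ (R : Subgroup G)
      (_ : (groupFusionSystem (S : Subgroup G)).IsFullyNormalized R ∧ (groupFusionSystem (S : Subgroup G)).IsCentric R),
      autInducedBy (Subgroup.closure {g : G | g ∈ Subgroup.normalizer (R : Set G) ∧ ∃ k : ℕ, orderOf g = p ^ k})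
        (S : Subgroup G)) :
    (groupFusionSystem (S : Subgroup G)).IsSimple p := by
  classical
  let F := Cfsg.groupFusionSystem (S : Subgroup G)
  have hF : F.IsSaturated p := Cfsg.FusionSystem.groupFusionSystem_isSaturated S
  refine ⟨hF, hS1, fun T E hE => ?_⟩
  obtain ⟨⟨hEsat, -, hsub, hT, hinv, hfr⟩, -⟩ := hE
  rcases ha T hT with h | rfl
  · exact Or.inl h
  refine Or.inr ⟨rfl, fun P => Set.Subset.antisymm (hsub P) fun φ hφ => ?_⟩
  -- it suffices to treat the automorphisms of `S`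
  suffices htop : F.autGroup (S : Subgroup G) ≤ E.autGroup S by
    obtain ⟨α, hα, φ₀, hφ₀, he⟩ := hfr P (F.source_le hφ) φ hφ
    obtain ⟨ψ, hψ, -, hψe⟩ := E.exists_map_of_mem_autGroup le_rfl (htop hα)
    obtain ⟨χ, hχ, hχe⟩ := E.exists_comp hφ₀ hψ (E.apply_mem hφ₀)
    exact E.mem_of_apply_eq hχ fun x => by rw [hχe, hψe, he x (E.apply_mem hφ₀ x)]
  rw [Cfsg.FusionSystem.autGroup_groupFusionSystem le_rfl]
  refine hb.trans ?_
  refine iSup_le fun R => iSup_le fun ⟨hRn, hRc⟩ => ?_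
  have hRS : R ≤ (S : Subgroup G) := hRn.1
  have hSn : Cfsg.FusionSystem.IsSylowIn p (Cfsg.FusionSystem.normalizerIn (S : Subgroup G) R)
      (Subgroup.normalizer (R : Set G)) :=
    (Cfsg.FusionSystem.isFullyNormalized_groupFusionSystem_iff S hRS).mp hRn
  let ρ : Subgroup.normalizer (R : Set G) →* MulAut R := R.normalizerMonoidHom
  -- invariance under `N_G(R)`
  have hconj : ∀ g : Subgroup.normalizer (R : Set G), ∀ u : Subgroup.normalizer (R : Set G),
      ρ u ∈ E.autGroup R → ρ (g * u * g⁻¹) ∈ E.autGroup R := by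
    intro g u hu
    obtain ⟨φu, hφu, -, hue⟩ := E.exists_map_of_mem_autGroup hRS hu
    have hgF : Cfsg.conjHom R (g : G) ∈ F.Hom R := by
      refine Cfsg.FusionSystem.conjHom_mem_groupFusionSystem hRS fun x hx => hRS ?_
      exact (Subgroup.mem_normalizer_iff.mp g.2 x).mp hx
    obtain ⟨α, hα, φ₁, hφ₁, he₁⟩ := hfr R hRS _ hgF
    -- `c_g = α ∘ φ₁`: transport `u` first by `φ₁` inside `E`, then by `α`
    obtain ⟨i, hi, hir, hil, -⟩ := E.exists_inv hφ₁ (rfl : φ₁.range = φ₁.range)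
    obtain ⟨m₁, hm₁, hm₁e⟩ := E.exists_comp hi hφu (fun y => hir.le ⟨y, rfl⟩)
    obtain ⟨m₂, hm₂, hm₂e⟩ := E.exists_comp hm₁ hφ₁
      (fun y => by rw [hm₁e, hue]; exact SetLike.coe_mem _)
    obtain ⟨χ, hχ, hχe⟩ := hinv _ (E.range_le hφ₁) m₂ hm₂ α hα
    have himg : R ≤ (φ₁.range.subgroupOf (S : Subgroup G)).map ((S : Subgroup G).subtype.comp α.toMonoidHom) := by
      intro x hx
      refine ⟨⟨φ₁ ⟨(g : G)⁻¹ * x * g, (Subgroup.mem_normalizer_iff''.mp g.2 x).mp hx⟩, E.apply_mem hφ₁ _⟩,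
        ⟨_, rfl⟩, ?_⟩
      show ((α _ : (S : Subgroup G)) : G) = x
      rw [← he₁]
      show (g : G) * ((g : G)⁻¹ * x * g) * (g : G)⁻¹ = x
      group
    refine E.mem_autGroup_of_map (E.restrict_mem hχ himg) fun x => ?_
    have hx' : (g : G)⁻¹ * x * g ∈ R := (Subgroup.mem_normalizer_iff''.mp g.2 x).mp x.2
    have hy : ((α ⟨φ₁ ⟨_, hx'⟩, E.apply_mem hφ₁ _⟩ : (S : Subgroup G)) : G) = x := by
      rw [← he₁]
      show (g : G) * ((g : G)⁻¹ * x * g) * (g : G)⁻¹ = x
      group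
    have hmem := himg x.2
    have h1 := hχe ⟨φ₁ ⟨_, hx'⟩, _, rfl⟩ (E.apply_mem hm₂ _) (hy.symm ▸ hmem)
    show ((g * u * g⁻¹ : Subgroup.normalizer (R : Set G)) : G) * x * _ = χ _
    have h2 : (⟨(x : G), hmem⟩ :
        ↥((φ₁.range.subgroupOf (S : Subgroup G)).map ((S : Subgroup G).subtype.comp α.toMonoidHom))) =
        ⟨_, hy.symm ▸ hmem⟩ := Subtype.ext hy.symm
    refine Eq.trans ?_ ((congrArg χ h2).trans h1).symm
    have h3 : m₂ ⟨φ₁ ⟨_, hx'⟩, _, rfl⟩ = φ₁ (ρ u ⟨_, hx'⟩) := by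
      rw [hm₂e]
      congr 1
      apply Subtype.ext
      show m₁ _ = _
      rw [hm₁e, hue]
      congr 2
      exact Subtype.ext (hil ⟨_, hx'⟩ _)
    have h4 : (⟨m₂ ⟨φ₁ ⟨_, hx'⟩, _, rfl⟩, E.apply_mem hm₂ _⟩ : (S : Subgroup G)) =
        ⟨φ₁ (ρ u ⟨_, hx'⟩), E.apply_mem hφ₁ _⟩ := Subtype.ext h3
    rw [h4, ← he₁]
    show _ = (g : G) * ((u : G) * ((g : G)⁻¹ * x * g) * (u : G)⁻¹) * (g : G)⁻¹
    simp only [Subgroup.coe_mul, InvMemClass.coe_inv]
    group
  -- all `p`-elements of `N_G(R)` act in `E`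
  have hpel : ∀ u : Subgroup.normalizer (R : Set G), (∃ k : ℕ, orderOf (u : G) = p ^ k) →
      ρ u ∈ E.autGroup R := by
    rintro u ⟨k, hk⟩
    obtain ⟨b, hb, hb'⟩ := hSn.exists_conj_le (X := Subgroup.zpowers (u : G))
      (IsPGroup.of_card (by rw [Nat.card_zpowers, hk])) (Subgroup.zpowers_le.mpr u.2)
    have h1 := hb' _ (Subgroup.mem_zpowers _)
    have h2 : ρ (⟨b, hb⟩ * u * ⟨b, hb⟩⁻¹) ∈ E.autGroup R :=
      Cfsg.FusionSystem.autInducedBy_le_autGroup hRS
        (Cfsg.mem_autInducedBy_iff.mpr ⟨_, h1.1, h1.2, fun x => rfl⟩)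
    have h3 := hconj (⟨b, hb⟩)⁻¹ _ h2
    simpa [mul_assoc] using h3
  let H : Subgroup G := ((E.autGroup R).comap ρ).map (Subgroup.normalizer (R : Set G)).subtype
  have hH : Subgroup.closure {g : G | g ∈ Subgroup.normalizer (R : Set G) ∧ ∃ k : ℕ, orderOf g = p ^ k} ≤ H :=
    (Subgroup.closure_le _).mpr fun g ⟨hg, hk⟩ => ⟨⟨g, hg⟩, hpel ⟨g, hg⟩ hk, rfl⟩
  intro α hα
  obtain ⟨g, hg, hgS, he⟩ := Cfsg.mem_autInducedBy_iff.mp hα
  obtain ⟨u, hu, hug⟩ := hH hg
  have hψ : Cfsg.conjHom (S : Subgroup G) g ∈ F.Hom S :=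
    Cfsg.FusionSystem.conjHom_mem_groupFusionSystem le_rfl fun x hx =>
      (Subgroup.mem_normalizer_iff.mp hgS x).mp hx
  have hres : (Cfsg.conjHom (S : Subgroup G) g).comp (Subgroup.inclusion hRS) ∈ E.Hom R := by
    obtain ⟨φu, hφu, -, hue⟩ := E.exists_map_of_mem_autGroup hRS hu
    refine E.mem_of_apply_eq hφu fun x => ?_
    rw [hue, ← hug]
    rfl
  exact E.mem_autGroup_of_map
    (Cfsg.FusionSystem.mem_of_restrict_centric S.2 hF hEsat hsub hRc hRS hψ hres) he


/-- A subgroup closed under the fusion of `G` inside `A`. -/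
def FusionClosed (A T : Subgroup G) : Prop :=
  T ≤ A ∧ ∀ x ∈ T, ∀ g : G, g * x * g⁻¹ ∈ A → g * x * g⁻¹ ∈ T

omit [Finite G] [Fact p.Prime] in
theorem fusionClosed_of_stronglyClosed {A T : Subgroup G} (h : (groupFusionSystem A).StronglyClosed T) :
    FusionClosed A T := by
  refine ⟨h.1, fun x hx g hg => ?_⟩
  have hA : ∀ y ∈ Subgroup.zpowers x, g * y * g⁻¹ ∈ A := by
    rintro _ ⟨k, rfl⟩
    show g * x ^ k * g⁻¹ ∈ A
    rw [← conj_zpow]
    exact zpow_mem hg k
  exact h.2 _ (Subgroup.zpowers_le.mpr hx) (conjHom (Subgroup.zpowers x) g)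
    (conjHom_mem_groupFusionSystem (le_trans (Subgroup.zpowers_le.mpr hx) h.1) hA) ⟨x, Subgroup.mem_zpowers x⟩

omit [Finite G] [Fact p.Prime] in
theorem map_conj_le_iff {A B : Subgroup G} {g : G} :
    A.map (MulAut.conj g).toMonoidHom ≤ B ↔ ∀ x ∈ A, g * x * g⁻¹ ∈ B :=
  ⟨fun h x hx => h ⟨x, hx, rfl⟩, fun h _ ⟨x, hx, e⟩ => e ▸ h x hx⟩

/-- Transport of `ha` along conjugation. -/
theorem closed_cases (U S : Sylow p G)
    (hsc : ∀ T : Subgroup G, FusionClosed (U : Subgroup G) T → T ≠ ⊥ → (U : Subgroup G) ≤ T) :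
    ∀ T : Subgroup G, (groupFusionSystem (S : Subgroup G)).StronglyClosed T → T = ⊥ ∨ T = (S : Subgroup G) := by
  intro T hT
  obtain ⟨hTS, hcl⟩ := fusionClosed_of_stronglyClosed hT
  obtain ⟨g, hg⟩ := MulAction.exists_smul_eq G U S
  have hmem : ∀ x, x ∈ (U : Subgroup G) ↔ g * x * g⁻¹ ∈ (S : Subgroup G) := fun x => by
    rw [← hg, Sylow.coe_subgroup_smul]
    exact ⟨fun h => ⟨x, h, rfl⟩, fun ⟨y, hy, e⟩ => (MulAut.conj g).injective e ▸ hy⟩
  rcases eq_or_ne (T.comap (MulAut.conj g).toMonoidHom) ⊥ with h | h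
  · left
    refine (Subgroup.eq_bot_iff_forall _).mpr fun x hx => ?_
    have := (Subgroup.eq_bot_iff_forall _).mp h (g⁻¹ * x * g) (show g * (g⁻¹ * x * g) * g⁻¹ ∈ T by
      simpa [mul_assoc] using hx)
    calc x = g * (g⁻¹ * x * g) * g⁻¹ := by group
      _ = 1 := by rw [this]; group
  · right
    refine le_antisymm hTS fun x hx => ?_
    have hle := hsc _ ⟨fun y hy => (hmem y).mpr (hTS hy), fun y hy k hk => by
      have h2 := hcl _ hy (g * k * g⁻¹) (by
        have := (hmem _).mp hk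
        simpa [mul_assoc] using this)
      show g * (k * y * k⁻¹) * g⁻¹ ∈ T
      simpa [mul_assoc] using h2⟩ h
    have := hle ((hmem (g⁻¹ * x * g)).mpr (by simpa [mul_assoc] using hx))
    have h3 : g * (g⁻¹ * x * g) * g⁻¹ ∈ T := this
    simpa [mul_assoc] using h3

/-- The generation hypothesis for a normal subgroup of the Sylow subgroup. -/
def Gen (U : Sylow p G) (g : G) : Prop :=
  g ∈ Subgroup.normalizer ((U : Subgroup G) : Set G) ∧ ∃ R : Subgroup G, R ≤ (U : Subgroup G) ∧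
    (U : Subgroup G) ≤ Subgroup.normalizer (R : Set G) ∧
    (U : Subgroup G) ⊓ Subgroup.centralizer (R : Set G) ≤ R ∧
    g ∈ Subgroup.closure {x : G | x ∈ Subgroup.normalizer (R : Set G) ∧ ∃ k : ℕ, orderOf x = p ^ k}

/-- The criterion in terms of one convenient Sylow subgroup. -/
theorem isSimple_group (U S : Sylow p G) (hU1 : (U : Subgroup G) ≠ ⊥)
    (hsc : ∀ T : Subgroup G, FusionClosed (U : Subgroup G) T → T ≠ ⊥ → (U : Subgroup G) ≤ T)
    (hgen : Subgroup.normalizer ((U : Subgroup G) : Set G) ≤ Subgroup.closure {g | Gen U g}) :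
    (groupFusionSystem (S : Subgroup G)).IsSimple p := by
  obtain ⟨c, hc⟩ := MulAction.exists_smul_eq G U S
  set φ : G →* G := (MulAut.conj c).toMonoidHom with hφ
  have hinj : Function.Injective φ := (MulAut.conj c).injective
  have hbij : Function.Bijective φ := (MulAut.conj c).bijective
  have hUS : (U : Subgroup G).map φ = (S : Subgroup G) := by
    rw [← hc, Sylow.coe_subgroup_smul]; rfl
  have hS1 : (S : Subgroup G) ≠ ⊥ := fun h => hU1 ((Subgroup.map_eq_bot_iff_of_injective _ hinj).mp (hUS.trans h))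
  refine isSimple_of_generated S hS1 (closed_cases U S hsc) ?_
  set A := ⨆ (R : Subgroup G)
      (_ : (groupFusionSystem (S : Subgroup G)).IsFullyNormalized R ∧ (groupFusionSystem (S : Subgroup G)).IsCentric R),
      autInducedBy (Subgroup.closure {g : G | g ∈ Subgroup.normalizer (R : Set G) ∧ ∃ k : ℕ, orderOf g = p ^ k})
        (S : Subgroup G) with hA
  have hN : (Subgroup.normalizer ((U : Subgroup G) : Set G)).map φ = Subgroup.normalizer ((S : Subgroup G) : Set G) := by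
    rw [Subgroup.map_normalizer_eq_of_bijective _ hbij, hUS]
  intro α hα
  obtain ⟨g, -, hgS, he⟩ := mem_autInducedBy_iff.mp hα
  let ρ := (S : Subgroup G).normalizerMonoidHom
  have key : Subgroup.normalizer ((S : Subgroup G) : Set G) ≤ (A.comap ρ).map
      (Subgroup.normalizer ((S : Subgroup G) : Set G)).subtype := by
    refine hN.ge.trans ((Subgroup.map_mono hgen).trans ?_)
    rw [MonoidHom.map_closure, Subgroup.closure_le]
    rintro _ ⟨x, ⟨hxN, R, hRU, hUR, hCR, hx⟩, rfl⟩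
    have hxS : φ x ∈ Subgroup.normalizer ((S : Subgroup G) : Set G) := hN ▸ ⟨x, hxN, rfl⟩
    refine ⟨⟨φ x, hxS⟩, ?_, rfl⟩
    have hR' : R.map φ ≤ (S : Subgroup G) := hUS ▸ Subgroup.map_mono hRU
    have hSN : (S : Subgroup G) ≤ Subgroup.normalizer ((R.map φ : Subgroup G) : Set G) := by
      rw [← hUS]
      exact (Subgroup.map_mono hUR).trans (Subgroup.le_normalizer_map _)
    have hnI : normalizerIn (S : Subgroup G) (R.map φ) = (S : Subgroup G) := inf_eq_left.mpr hSN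
    have hFN : (groupFusionSystem (S : Subgroup G)).IsFullyNormalized (R.map φ) := by
      rw [isFullyNormalized_groupFusionSystem_iff S hR', hnI]
      exact ⟨hSN, S.2, fun h => S.not_dvd_index (h.trans (Subgroup.relIndex_dvd_index_of_le hSN))⟩
    have hcen : (groupFusionSystem (S : Subgroup G)).IsCentric (R.map φ) := by
      refine ((groupFusionSystem_isSaturated S).isFullyCentralized_of_isFullyNormalized S.2 hFN).isCentric ?_
      rintro y ⟨hyS, hyC⟩
      rw [← hUS] at hyS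
      obtain ⟨u, hu, rfl⟩ := hyS
      refine ⟨u, hCR ⟨hu, Subgroup.mem_centralizer_iff.mpr fun r hr => hinj ?_⟩, rfl⟩
      rw [map_mul, map_mul]
      exact Subgroup.mem_centralizer_iff.mp hyC _ ⟨r, hr, rfl⟩
    show ρ ⟨φ x, _⟩ ∈ A
    refine Subgroup.mem_iSup_of_mem (R.map φ) (Subgroup.mem_iSup_of_mem ⟨hFN, hcen⟩ ?_)
    refine mem_autInducedBy_iff.mpr ⟨φ x, ?_, hxS, fun y => rfl⟩
    have h3 : φ x ∈ (Subgroup.closure {y : G | y ∈ Subgroup.normalizer (R : Set G) ∧ ∃ k : ℕ, orderOf y = p ^ k}).map φ :=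
      ⟨x, hx, rfl⟩
    rw [MonoidHom.map_closure] at h3
    refine Subgroup.closure_mono ?_ h3
    rintro _ ⟨y, ⟨hy, k, hk⟩, rfl⟩
    exact ⟨Subgroup.le_normalizer_map _ ⟨y, hy, rfl⟩, k, by rw [orderOf_injective φ hinj, hk]⟩
  obtain ⟨u, hu, hug⟩ := key hgS
  have hα' : α = ρ u := by
    refine MulEquiv.ext fun y => Subtype.ext ?_
    rw [he y, ← hug]
    rfl
  rw [hα']
  exact hu

/-- If the automorphism group of the Sylow subgroup is a `p`-group, only closed subgroups matter. -/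
theorem isSimple_of_isPGroup_mulAut (U S : Sylow p G) (hU1 : (U : Subgroup G) ≠ ⊥)
    (hAut : IsPGroup p (MulAut (U : Subgroup G)))
    (hsc : ∀ T : Subgroup G, FusionClosed (U : Subgroup G) T → T ≠ ⊥ → (U : Subgroup G) ≤ T) :
    (groupFusionSystem (S : Subgroup G)).IsSimple p := by
  have e : (U : Subgroup G) ≃* (S : Subgroup G) := U.equiv S
  have hS1 : (S : Subgroup G) ≠ ⊥ := fun h => hU1 (by
    haveI : Subsingleton (S : Subgroup G) := by rw [h]; infer_instance
    haveI : Subsingleton (U : Subgroup G) := e.toEquiv.subsingleton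
    exact Subgroup.eq_bot_of_subsingleton _)
  refine isSimple_of_autGroup_eq_inn (groupFusionSystem_isSaturated S) hS1 ?_ (closed_cases U S hsc)
  have hAutS : IsPGroup p (MulAut (S : Subgroup G)) := hAut.of_equiv (MulAut.congr e)
  rw [autGroup_groupFusionSystem le_rfl]
  refine le_antisymm (fun α hα => ?_) ?_
  · obtain ⟨g, -, hgN, he⟩ := mem_autInducedBy_iff.mp hα
    set N := Subgroup.normalizer ((S : Subgroup G) : Set G) with hNdef
    set ρ : N →* MulAut (S : Subgroup G) := (S : Subgroup G).normalizerMonoidHom with hρ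
    have hα' : α = ρ ⟨g, hgN⟩ := MulEquiv.ext fun y => Subtype.ext (he y)
    rw [hα']
    -- the image of the normalizer is a `p`-group, so it is the image of `S`
    have hR : IsPGroup p ρ.range := hAutS.to_subgroup _
    obtain ⟨k, hk⟩ := IsPGroup.iff_card.mp hR
    haveI : ((S : Subgroup G).subgroupOf N).Normal := Subgroup.normal_in_normalizer
    have h1 : ((S : Subgroup G).subgroupOf N ⊔ ρ.ker) = ⊤ := by
      rw [← Subgroup.index_eq_one]
      have ha : ((S : Subgroup G).subgroupOf N ⊔ ρ.ker).index ∣ p ^ k := by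
        rw [← hk, ← Subgroup.index_ker]
        exact Subgroup.index_dvd_of_le le_sup_right
      have hb : ((S : Subgroup G).subgroupOf N ⊔ ρ.ker).index ∣ ((S : Subgroup G).subgroupOf N).index :=
        Subgroup.index_dvd_of_le le_sup_left
      have hc : ¬ p ∣ ((S : Subgroup G).subgroupOf N).index := fun h =>
        S.not_dvd_index (h.trans (Subgroup.relIndex_dvd_index_of_le Subgroup.le_normalizer))
      exact Nat.eq_one_of_dvd_coprimes
        (Nat.Coprime.pow_left k ((Fact.out : p.Prime).coprime_iff_not_dvd.mpr hc)) ha hb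
    obtain ⟨s, hs, c, hc, hsc'⟩ := Subgroup.mem_sup_of_normal_left.mp (h1.ge (Subgroup.mem_top (⟨g, hgN⟩ : N)))
    refine ⟨⟨(s : G), hs⟩, ?_⟩
    rw [← hsc', map_mul, MonoidHom.mem_ker.mp hc, mul_one]
    exact MulEquiv.ext fun y => Subtype.ext rfl
  · rintro _ ⟨s, rfl⟩
    exact mem_autInducedBy_iff.mpr ⟨(s : G), trivial, Subgroup.le_normalizer s.2, fun y => rfl⟩

end CfsgLib.GroupSimple
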