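import Cfsg.Agent.Lib.Fusion.Hyperfocal
import Cfsg.Agent.Lib.Fusion.Quotient
import Cfsg.Agent.Lib.Fusion.Alperin
import Cfsg.Agent.Lib.PResidual

/-!
The action of the hyperfocal subgroup on a strongly closed subgroup.
-/

set_option autoImplicit false

universe u

namespace Cfsg

namespace FusionSystem

variable {Ω : Type u} [Group Ω] {S : Subgroup Ω} [Finite S] {F : FusionSystem S} {p : ℕ} [Fact p.Prime]
  {T : Subgroup Ω}

theorem hyperfocal_acts_residually (hS : IsPGroup p S) (hF : F.IsSaturated p) (hT : F.StronglyClosed T)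
    {x : Ω} (hx : x ∈ F.hyperfocalSubgroup p) :
    ∃ α ∈ ((pResidual p ↥(F.autGroup T)).map (F.autGroup T).subtype ⊔ Inn ↥T : Subgroup (MulAut ↥T)),
      ∀ t : ↥T, ((α t : ↥T) : Ω) = x * (t : Ω) * x⁻¹ := by
  haveI := finite_of_le hT.1
  haveI := finite_autGroup (F := F) hT.1
  let A : Subgroup (F.autGroup T) := pResidual p ↥(F.autGroup T) ⊔ (Inn ↥T).subgroupOf (F.autGroup T)
  haveI : A.Normal := inferInstance
  let σ : S →* F.autGroup T :=
    (T.normalizerMonoidHom.comp (Subgroup.inclusion hT.le_normalizer)).codRestrict _ fun s =>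
      autInducedBy_le_autGroup hT.1
        (mem_autInducedBy_iff.mpr ⟨s, s.2, hT.le_normalizer s.2, fun _ => rfl⟩)
  have hσ : ∀ (s : S) (t : T), ((((σ s : F.autGroup T) : MulAut T) t : T) : Ω) = (s : Ω) * t * (s : Ω)⁻¹ :=
    fun _ _ => rfl
  let τ := (QuotientGroup.mk' A).comp σ
  have key : ∀ (P : Subgroup Ω) (φ : P →* Ω) (hφ : φ ∈ F.Hom P), ∃ q : F.autGroup T ⧸ A, ∀ y : P,
      τ ⟨φ y, F.apply_mem hφ y⟩ = q * τ ⟨y, F.source_le hφ y.2⟩ * q⁻¹ := by
    intro P φ hφ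
    obtain ⟨ψ, hψ, hψe⟩ := hF.exists_congr_mod hS hT hφ
    have hres := F.restrict_mem hψ (le_sup_right : T ≤ P ⊔ T)
    have hr : (ψ.comp (Subgroup.inclusion (le_sup_right : T ≤ P ⊔ T))).range = T := by
      refine Subgroup.eq_of_le_of_card_ge ?_
        (Nat.card_congr (MonoidHom.ofInjective (F.injective_of_mem hres)).toEquiv).le
      rintro _ ⟨t, rfl⟩
      exact hT.apply_mem_of_mem hψ t.2
    let γ : F.autGroup T := ⟨F.isoOf hres hr, F.isoOf_mem_autGroup hres hr⟩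
    refine ⟨QuotientGroup.mk' A γ, fun y => ?_⟩
    have hy : (y : Ω) ∈ S := F.source_le hφ y.2
    let y' : ↥(P ⊔ T) := ⟨y, Subgroup.mem_sup_left y.2⟩
    have h1 : σ ⟨ψ y', F.apply_mem hψ y'⟩ * γ = γ * σ ⟨y, hy⟩ := by
      refine Subtype.ext (MulEquiv.ext fun t => Subtype.ext ?_)
      show ψ y' * ψ ⟨t, Subgroup.mem_sup_right t.2⟩ * (ψ y')⁻¹ =
        ψ ⟨(y : Ω) * t * (y : Ω)⁻¹, Subgroup.mem_sup_right (hT.conj_mem_of_mem hy t.2)⟩
      rw [← map_inv, ← map_mul, ← map_mul]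
      rfl
    have hmem : (ψ y')⁻¹ * φ y ∈ T := hψe y
    have h2 : σ ⟨_, hT.1 hmem⟩ ∈ A :=
      Subgroup.mem_sup_right (show ((σ ⟨_, hT.1 hmem⟩ : F.autGroup T) : MulAut T) ∈ Inn ↥T from
        ⟨⟨_, hmem⟩, MulEquiv.ext fun t => Subtype.ext rfl⟩)
    have h3 : (⟨φ y, F.apply_mem hφ y⟩ : S) = ⟨ψ y', F.apply_mem hψ y'⟩ * ⟨_, hT.1 hmem⟩ :=
      Subtype.ext (mul_inv_cancel_left _ _).symm
    rw [h3, map_mul, show τ ⟨_, hT.1 hmem⟩ = 1 from (QuotientGroup.eq_one_iff _).mpr h2, mul_one,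
      eq_mul_inv_iff_mul_eq]
    show QuotientGroup.mk' A _ * QuotientGroup.mk' A γ = _ * QuotientGroup.mk' A _
    rw [← map_mul, h1, map_mul]
  have hle : F.hyperfocalSubgroup p ≤ τ.ker.map S.subtype := by
    rw [hyperfocalSubgroup_le_iff]
    intro P hP α hα hαp y
    obtain ⟨φ, hφ, -, he⟩ := F.exists_map_of_mem_autGroup hP hα
    obtain ⟨q, hq⟩ := key P φ hφ
    obtain ⟨g, rfl⟩ := QuotientGroup.mk'_surjective A q
    obtain ⟨k, hk⟩ := CfsgLib.PResidual.pow_mem_pResidual (p := p) g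
    have hpow : ∀ (n : ℕ) (z : P), τ ⟨((α ^ n) z : P), hP ((α ^ n) z).2⟩ =
        (QuotientGroup.mk' A g) ^ n * τ ⟨z, hP z.2⟩ * ((QuotientGroup.mk' A g) ^ n)⁻¹ := by
      intro n
      induction n with
      | zero => intro z; simp
      | succ n ih =>
        intro z
        have h4 : (⟨((α z : P) : Ω), hP (α z).2⟩ : S) = ⟨φ z, F.apply_mem hφ z⟩ := Subtype.ext (he z).symm
        have h5 := ih (α z)
        rw [h4, hq z] at h5
        simp only [pow_succ, MulAut.mul_apply]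
        rw [h5]
        group
    obtain ⟨l, hl⟩ := exists_pow_eq_self_of_coprime (x := α) (n := p ^ k) (Nat.Coprime.pow_left k hαp.symm)
    have h5 := hpow (p ^ k * l) y
    rw [pow_mul (QuotientGroup.mk' A g), ← map_pow, show QuotientGroup.mk' A (g ^ p ^ k) = 1 from
      (QuotientGroup.eq_one_iff _).mpr (Subgroup.mem_sup_left hk), one_pow, inv_one, mul_one, one_mul] at h5
    simp only [pow_mul α, hl] at h5
    refine ⟨(⟨y, hP y.2⟩ : S)⁻¹ * ⟨(α y : P), hP (α y).2⟩, ?_, rfl⟩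
    show τ _ = 1
    rw [map_mul, map_inv, h5, inv_mul_cancel]
  obtain ⟨s, hs, rfl⟩ := hle hx
  refine ⟨((σ s : F.autGroup T) : MulAut T), ?_, hσ s⟩
  have h6 : σ s ∈ A := (QuotientGroup.eq_one_iff _).mp hs
  have h7 := Subgroup.mem_map_of_mem (F.autGroup T).subtype h6
  rw [Subgroup.map_sup] at h7
  exact (sup_le_sup le_rfl (Subgroup.map_comap_le _ _)) h7

end FusionSystem

end Cfsg
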