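import Cfsg.Agent.Lib.Fusion.Group
import Cfsg.Agent.Lib.Fusion.Normal
import Cfsg.Agent.Lib.Fusion.Systems
import Cfsg.Agent.Lib.Fusion.Invariant
import Cfsg.Agent.Lib.Fusion.Alperin
import Cfsg.Agent.Lib.Fusion.Saturation
import Cfsg.Agent.Lib.Fusion.PrimeResidual.Comparison
import Cfsg.Agent.Lib.Basic
import Cfsg.Agent.Lib.Transfer
import Cfsg.Agent.S5118

/-!
Normal subsystems of the fusion system of a group `G` with `C_G(O_p G) ≤ O_p G` come from
normal subgroups of `G`.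
-/

set_option autoImplicit false
set_option linter.unusedSectionVars false
set_option linter.style.haveILetI false

namespace CfsgNormalConstrained

open Cfsg Cfsg.FusionSystem Subgroup

universe u

variable {G : Type u} [Group G] [Finite G] {p : ℕ} [hp : Fact p.Prime]

/-- The power of `g` that keeps the `p'`-part. -/
theorem exists_primePart (g : G) (k : ℕ) (hk : k.Coprime p) :
    ∃ m : ℕ, m ≡ 1 [MOD k] ∧ (orderOf (g ^ m)).Coprime p := by
  have hq : (p ^ (orderOf g).factorization p).Coprime k :=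
    (Nat.Coprime.pow_right _ hk).symm
  refine ⟨Nat.chineseRemainder hq 0 1, (Nat.chineseRemainder hq 0 1).2.2, ?_⟩
  obtain ⟨t, ht⟩ := Nat.modEq_zero_iff_dvd.mp (Nat.chineseRemainder hq 0 1).2.1
  rw [ht, pow_mul]
  refine Nat.Coprime.coprime_dvd_left (orderOf_pow_dvd t) ?_
  rw [orderOf_pow' g (pow_ne_zero _ hp.out.ne_zero),
    Nat.gcd_eq_right (Nat.ordProj_dvd (orderOf g) p)]
  exact (Nat.coprime_ordCompl hp.out (orderOf_pos g).ne').symm

/-- The elements acting trivially on `O_p(G) / Q`. -/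
def trivialOn (O Q : Subgroup G) [Q.Normal] : Subgroup G :=
  (Subgroup.centralizer ((O.map (QuotientGroup.mk' Q) : Subgroup (G ⧸ Q)) : Set (G ⧸ Q))).comap
    (QuotientGroup.mk' Q)

theorem mem_trivialOn {O Q : Subgroup G} [Q.Normal] {x : G} :
    x ∈ trivialOn O Q ↔ ∀ o ∈ O, x * o * x⁻¹ * o⁻¹ ∈ Q := by
  constructor
  · intro hx o ho
    have h := Subgroup.mem_centralizer_iff.mp hx (QuotientGroup.mk' Q o) ⟨o, ho, rfl⟩
    rw [← QuotientGroup.eq_one_iff]
    show QuotientGroup.mk' Q (x * o * x⁻¹ * o⁻¹) = 1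
    rw [map_mul, map_mul, map_mul, map_inv, map_inv, ← h]
    group
  · intro h
    refine Subgroup.mem_centralizer_iff.mpr ?_
    rintro _ ⟨o, ho, rfl⟩
    have h1 : QuotientGroup.mk' Q (x * o * x⁻¹ * o⁻¹) = 1 :=
      (QuotientGroup.eq_one_iff _).mpr (h o ho)
    rw [map_mul, map_mul, map_mul, map_inv, map_inv, mul_inv_eq_one, mul_inv_eq_iff_eq_mul] at h1
    exact h1.symm

instance trivialOn_normal (O Q : Subgroup G) [O.Normal] [Q.Normal] : (trivialOn O Q).Normal := by
  haveI : (O.map (QuotientGroup.mk' Q)).Normal :=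
    Subgroup.Normal.map inferInstance _ (QuotientGroup.mk'_surjective Q)
  exact Subgroup.Normal.comap inferInstance _

/-- A `p'`-element `h` and a `p`-element `o`: if `[h, o]` commutes with `h` modulo `Q`, it is in `Q`. -/
theorem comm_mem_of_coprime {Q : Subgroup G} [Q.Normal] {h o : G}
    (hh : (orderOf h).Coprime p) (hm : ∃ a, (h * o * h⁻¹ * o⁻¹) ^ p ^ a = 1)
    (hcomm : h * (h * o * h⁻¹ * o⁻¹) * h⁻¹ * (h * o * h⁻¹ * o⁻¹)⁻¹ ∈ Q) :
    h * o * h⁻¹ * o⁻¹ ∈ Q := by
  obtain ⟨a, ha⟩ := hm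
  set m := h * o * h⁻¹ * o⁻¹ with hmdef
  rw [← QuotientGroup.eq_one_iff]
  set π := QuotientGroup.mk' Q
  show π m = 1
  have h1 : π h * π m = π m * π h := by
    have : π (h * m * h⁻¹ * m⁻¹) = 1 := (QuotientGroup.eq_one_iff _).mpr hcomm
    rw [map_mul, map_mul, map_mul, map_inv, map_inv, mul_inv_eq_one, mul_inv_eq_iff_eq_mul] at this
    exact this
  have h2 : π h * π o * (π h)⁻¹ = π m * π o := by
    rw [hmdef, map_mul, map_mul, map_mul, map_inv, map_inv]
    group
  have h3 : ∀ k : ℕ, π h ^ k * π o * (π h ^ k)⁻¹ = π m ^ k * π o := by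
    intro k
    induction k with
    | zero => simp
    | succ k ih =>
      have hc : π h * π m ^ k = π m ^ k * π h := (Commute.pow_right h1 k).eq
      calc π h ^ (k + 1) * π o * (π h ^ (k + 1))⁻¹
          = π h * (π h ^ k * π o * (π h ^ k)⁻¹) * (π h)⁻¹ := by rw [pow_succ']; group
        _ = π h * π m ^ k * π o * (π h)⁻¹ := by rw [ih]; group
        _ = π m ^ k * (π h * π o * (π h)⁻¹) := by rw [hc]; group
        _ = π m ^ (k + 1) * π o := by rw [h2, pow_succ]; group
  have h4 := h3 (orderOf h)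
  rw [← map_pow, pow_orderOf_eq_one, map_one, inv_one, mul_one, one_mul] at h4
  have h5 : π m ^ orderOf h = 1 := by
    have := congrArg (fun z => z * (π o)⁻¹) h4
    simpa using this.symm
  have h6 : π m ^ p ^ a = 1 := by rw [← map_pow, ha, map_one]
  have h7 : orderOf (π m) ∣ 1 :=
    (Nat.dvd_gcd (orderOf_dvd_of_pow_eq_one h5) (orderOf_dvd_of_pow_eq_one h6)).trans
      (dvd_of_eq (Nat.Coprime.pow_right a hh))
  exact orderOf_eq_one_iff.mp (Nat.dvd_one.mp h7)

section Setting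

variable (S : Sylow p G) {T : Subgroup G} {E : FusionSystem T}

/-- The standing hypotheses. -/
structure Data (T : Subgroup G) (E : FusionSystem T) : Prop where
  hG : Subgroup.centralizer ((pCore p G : Subgroup G) : Set G) ≤ pCore p G
  hTS : T ≤ S
  hE : E.IsNormalIn (groupFusionSystem (S : Subgroup G)) p

variable {S}

theorem Data.closed (d : Data S T E) {g t : G} (ht : t ∈ T) (h : g * t * g⁻¹ ∈ (S : Subgroup G)) :
    g * t * g⁻¹ ∈ T := by
  have hmem : conjHom (Subgroup.zpowers t) g ∈ (groupFusionSystem (S : Subgroup G)).Hom _ :=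
    conjHom_mem_groupFusionSystem ((Subgroup.zpowers_le.mpr ht).trans d.hTS) fun x hx => by
      obtain ⟨k, rfl⟩ := hx
      rw [← conj_zpow]
      exact Subgroup.zpow_mem _ h k
  exact d.hE.1.2.2.2.1.2 _ (Subgroup.zpowers_le.mpr ht) _ hmem ⟨t, Subgroup.mem_zpowers t⟩

theorem pCore_le (S : Sylow p G) : pCore p G ≤ (S : Subgroup G) := CfsgLib.pCore_le_sylow S

theorem Data.normal_inf (d : Data S T E) : (T ⊓ pCore p G).Normal := by
  refine ⟨fun x hx g => ?_⟩
  have h2 : g * x * g⁻¹ ∈ pCore p G := (inferInstance : (pCore p G).Normal).conj_mem _ hx.2 g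
  exact ⟨d.closed hx.1 (pCore_le S h2), h2⟩

theorem Data.conj_mem_T (d : Data S T E) {s t : G} (hs : s ∈ (S : Subgroup G)) (ht : t ∈ T) :
    s * t * s⁻¹ ∈ T :=
  d.closed ht ((S : Subgroup G).mul_mem (Subgroup.mul_mem _ hs (d.hTS ht)) (Subgroup.inv_mem _ hs))

end Setting

theorem main (S : Sylow p G)
    (hG : Subgroup.centralizer ((pCore p G : Subgroup G) : Set G) ≤ pCore p G) (T : Subgroup G)
    (hTS : T ≤ S) (E : FusionSystem T)
    (hE : E.IsNormalIn (groupFusionSystem (S : Subgroup G)) p) :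
    ∃ H : Subgroup G,
      (∃ hTH : T ≤ H, H.Normal ∧ (∃ R : Sylow p H, (R : Subgroup H) = T.subgroupOf H) ∧
        ∀ P : Subgroup G, E.Hom P = (fusionSystemOfSubgroup H T hTH).Hom P) ∧
      ∀ H' : Subgroup G,
        (∃ hTH' : T ≤ H', H'.Normal ∧ (∃ R : Sylow p H', (R : Subgroup H') = T.subgroupOf H') ∧
          ∀ P : Subgroup G, E.Hom P = (fusionSystemOfSubgroup H' T hTH').Hom P) → H' = H := by
  classical
  have d : Data S T E := ⟨hG, hTS, hE⟩
  set F := groupFusionSystem (S : Subgroup G) with hFdef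
  have hTp : IsPGroup p T := S.2.to_le hTS
  have hEsat : E.IsSaturated p := hE.1.1
  have hinv : E.IsInvariantIn F := hE.1.2.2
  have hsub : E.IsSubsystemOf F := hinv.1
  set O := pCore p G with hOdef
  have hOp : IsPGroup p O := CfsgLib.isPGroup_pCore p
  have hOS : O ≤ (S : Subgroup G) := pCore_le S
  set Q := T ⊓ O with hQdef
  haveI hQn : Q.Normal := d.normal_inf
  have hQT : Q ≤ T := inf_le_left
  set C := Subgroup.centralizer (Q : Set G) with hCdef
  haveI hCn : C.Normal := Subgroup.normal_centralizer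
  set X := trivialOn O Q with hXdef
  -- `C ∩ X` is a normal `p`-subgroup
  have hCXp : IsPGroup p (C ⊓ X : Subgroup G) := by
    rintro ⟨x, hxC, hxX⟩
    obtain ⟨b, hb⟩ := IsPGroup.iff_card.mp (S.2.to_le (hQT.trans hTS))
    have hk : x ^ p ^ b ∈ O := by
      refine hG (Subgroup.mem_centralizer_iff.mpr fun o ho => ?_)
      set z := x * o * x⁻¹ * o⁻¹ with hz
      have hzQ : z ∈ Q := mem_trivialOn.mp hxX o ho
      have hzc : Commute x z := (Subgroup.mem_centralizer_iff.mp hxC z hzQ).symm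
      have h3 : ∀ k : ℕ, x ^ k * o * (x ^ k)⁻¹ = z ^ k * o := by
        intro k
        induction k with
        | zero => simp
        | succ k ih =>
          calc x ^ (k + 1) * o * (x ^ (k + 1))⁻¹ = x * (x ^ k * o * (x ^ k)⁻¹) * x⁻¹ := by
                rw [pow_succ']; group
            _ = (x * z ^ k) * o * x⁻¹ := by rw [ih]; group
            _ = (z ^ k * x) * o * x⁻¹ := by rw [(hzc.pow_right k).eq]
            _ = z ^ k * (z * o) := by rw [show z * o = x * o * x⁻¹ by rw [hz]; group]; group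
            _ = z ^ (k + 1) * o := by rw [pow_succ, mul_assoc (z ^ k) z o]
      have h4 := h3 (p ^ b)
      have hz1 : z ^ p ^ b = 1 := by
        have := pow_card_eq_one' (G := Q) (x := ⟨z, hzQ⟩)
        rw [hb] at this
        exact congrArg Subtype.val this
      rw [hz1, one_mul, mul_inv_eq_iff_eq_mul] at h4
      exact h4.symm
    obtain ⟨a, ha⟩ := hOp ⟨_, hk⟩
    refine ⟨b + a, Subtype.ext ?_⟩
    show x ^ p ^ (b + a) = 1
    rw [pow_add, pow_mul]
    exact congrArg Subtype.val ha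
  have hD0O : C ⊓ X ≤ O := CfsgLib.le_pCore hCXp
  -- `T ≤ X`
  have hTX : T ≤ X := fun t ht => mem_trivialOn.mpr fun o ho => by
    refine ⟨?_, O.mul_mem ((inferInstance : O.Normal).conj_mem _ ho t) (O.inv_mem ho)⟩
    have h1 := d.conj_mem_T (hOS ho) (T.inv_mem ht)
    have : t * o * t⁻¹ * o⁻¹ = t * (o * t⁻¹ * o⁻¹) := by group
    rw [this]
    exact T.mul_mem ht h1
  have hTC : T ⊓ C ≤ Q := fun t ht => ⟨ht.1, hD0O ⟨ht.2, hTX ht.1⟩⟩
  -- maps induced on `Q`
  let f : G →* MulAut Q := MulAut.conjNormal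
  have hfmap : ∀ g : G, conjHom Q g ∈ F.Hom Q := fun g =>
    conjHom_mem_groupFusionSystem (hQT.trans hTS) fun x hx =>
      hTS (hQT (hQn.conj_mem x hx g))
  have hfF : ∀ g : G, f g ∈ F.autGroup Q := fun g => by
    refine F.mem_autGroup_of_map (hfmap g) fun x => ?_
    exact MulAut.conjNormal_apply g x
  set A := E.autGroup Q with hAdef
  have hAconj : ∀ g : G, ∀ a ∈ A, f g * a * (f g)⁻¹ ∈ A := by
    intro g a ha
    obtain ⟨φ, hφ, hφr, hφe⟩ := E.exists_map_of_mem_autGroup hQT ha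
    obtain ⟨χ, hχ, hχe⟩ := hinv.strongInvariance Q Q le_rfl hQT φ hφ
      (fun x => by rw [hφe]; exact (a x).2) (conjHom Q g) (hfmap g)
    have hle : Q ≤ (Q.subgroupOf Q).map (conjHom Q g) := by
      intro y hy
      have hy' : g⁻¹ * y * g⁻¹⁻¹ ∈ Q := hQn.conj_mem y hy g⁻¹
      refine ⟨⟨_, hy'⟩, hy', ?_⟩
      show g * (g⁻¹ * y * g⁻¹⁻¹) * g⁻¹ = y
      group
    refine E.mem_autGroup_of_map (E.restrict_mem hχ hle) fun y => ?_
    show (((f g * a * (f g)⁻¹) y : Q) : G) = χ ⟨y, hle y.2⟩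
    obtain ⟨x, rfl⟩ := (f g).surjective y
    have hv : conjHom Q g (Subgroup.inclusion le_rfl x) ∈ (Q.subgroupOf Q).map (conjHom Q g) :=
      ⟨x, x.2, rfl⟩
    have hxe : (⟨((f g x : Q) : G), hle (f g x).2⟩ : ↥((Q.subgroupOf Q).map (conjHom Q g))) =
        ⟨conjHom Q g (Subgroup.inclusion le_rfl x), hv⟩ := Subtype.ext (MulAut.conjNormal_apply g x)
    rw [hxe, hχe x hv, MulAut.mul_apply, MulAut.mul_apply, MulAut.inv_apply_self]
    show ((f g (a x) : Q) : G) = g * φ x * g⁻¹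
    rw [hφe]
    exact MulAut.conjNormal_apply g (a x)
  set K := A.comap f with hKdef
  haveI hKn : K.Normal := ⟨fun x hx g => by
    show f (g * x * g⁻¹) ∈ A
    rw [map_mul, map_mul, map_inv]
    exact hAconj g _ hx⟩
  haveI hXn : X.Normal := trivialOn_normal O Q
  set Y := K ⊓ X with hYdef
  haveI hYn : Y.Normal := inferInstance
  have hTK : T ≤ K := fun t ht => by
    refine E.mem_autGroup_of_map (E.conj_mem hQT ht) fun x => ?_
    exact MulAut.conjNormal_apply t x
  have hTY : T ≤ Y := le_inf hTK hTX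
  have hker : ∀ g : G, f g = 1 ↔ g ∈ C := by
    intro g
    constructor
    · intro h1
      refine Subgroup.mem_centralizer_iff.mpr fun x hx => ?_
      have h2 : ((f g ⟨x, hx⟩ : Q) : G) = x := by rw [h1]; rfl
      have h3 : g * x * g⁻¹ = x := (MulAut.conjNormal_apply g ⟨x, hx⟩).symm.trans h2
      rw [mul_inv_eq_iff_eq_mul] at h3
      exact h3.symm
    · intro hg
      refine MulEquiv.ext fun x => Subtype.ext ?_
      rw [MulAut.conjNormal_apply]
      show g * (x : G) * g⁻¹ = x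
      rw [← Subgroup.mem_centralizer_iff.mp hg x x.2, mul_inv_cancel_right]
  -- `Aut_T(Q)` is a Sylow subgroup of `A`
  haveI : Finite T := inferInstance
  have hQfn : E.IsFullyNormalized Q := by
    refine ⟨hQT, fun R hR => ?_⟩
    obtain ⟨φ, hφ, rfl⟩ := hR
    obtain ⟨-, -, g, hg⟩ := hsub Q hφ
    have : φ.range = Q := by
      rw [show φ = conjHom Q g from MonoidHom.ext hg, range_conjHom]
      exact @Subgroup.Normal.map_conj_eq _ _ Q hQn g
    rw [this]
  obtain ⟨-, RA, hRA⟩ := hEsat.isFullyAutomized_of_isFullyNormalized hTp hQfn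
  have hfT : ∀ a : MulAut Q, a ∈ autInducedBy T Q ↔ ∃ t ∈ T, f t = a := by
    intro a
    rw [mem_autInducedBy_iff]
    constructor
    · rintro ⟨t, ht, -, he⟩
      exact ⟨t, ht, MulEquiv.ext fun x => Subtype.ext ((MulAut.conjNormal_apply t x).trans (he x).symm)⟩
    · rintro ⟨t, ht, rfl⟩
      exact ⟨t, ht, Subgroup.normalizer_eq_top_iff.mpr hQn ▸ Subgroup.mem_top _,
        fun x => MulAut.conjNormal_apply t x⟩
  -- Sylow `p`-subgroup of `Y`
  have hSY : ∀ s ∈ (S : Subgroup G), s ∈ Y → ∃ t ∈ T, ∃ c ∈ C ⊓ X, s = t * c := by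
    intro s hs hsY
    have hWp : IsPGroup p (((S : Subgroup G) ⊓ Y).map f) := (S.2.to_le inf_le_left).map f
    have hWA : ((S : Subgroup G) ⊓ Y).map f ≤ A := by
      rintro _ ⟨w, hw, rfl⟩
      exact hw.2.1
    have hle : (RA : Subgroup A) ≤ (((S : Subgroup G) ⊓ Y).map f).subgroupOf A := by
      intro a ha
      rw [hRA] at ha
      obtain ⟨t, ht, he⟩ := (hfT _).mp ha
      exact ⟨t, ⟨hTS ht, hTY ht⟩, he⟩
    have heq := RA.3 (hWp.of_equiv (Subgroup.subgroupOfEquivOfLe hWA).symm) hle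
    have hmem : (⟨f s, hsY.1⟩ : A) ∈ (RA : Subgroup A) := by
      rw [← heq]
      exact ⟨s, ⟨hs, hsY⟩, rfl⟩
    rw [hRA] at hmem
    obtain ⟨t, ht, he⟩ := (hfT _).mp hmem
    refine ⟨t, ht, t⁻¹ * s, ⟨(hker _).mp ?_, X.mul_mem (X.inv_mem (hTX ht)) hsY.2⟩, by group⟩
    rw [map_mul, map_inv, he]
    exact inv_mul_cancel _
  -- commutators of `X` with `C ∩ X`
  have hXD : ∀ y ∈ X, ∀ c ∈ C ⊓ X, y * c * y⁻¹ * c⁻¹ ∈ Q ⊓ C := fun y hy c hc =>
    ⟨mem_trivialOn.mp hy c (hD0O hc), C.mul_mem (hCn.conj_mem _ hc.1 y) (C.inv_mem hc.1)⟩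
  -- the transfer
  let PY : Subgroup Y := ((S : Subgroup G) ⊓ Y).subgroupOf Y
  let TP : Subgroup PY := (T.subgroupOf Y).subgroupOf PY
  haveI hTPn : TP.Normal := ⟨fun x hx g => by
    show ((((g * x * g⁻¹ : PY) : Y) : G)) ∈ T
    exact d.conj_mem_T g.2.1 hx⟩
  have hcomm : ∀ a b : PY, (a * b)⁻¹ * (b * a) ∈ TP := by
    intro a b
    obtain ⟨t, ht, c, hc, ha⟩ := hSY ((a : Y) : G) a.2.1 a.2.2
    obtain ⟨t', ht', c', hc', hb⟩ := hSY ((b : Y) : G) b.2.1 b.2.2
    have hQT' : ∀ x : G, x ∈ Q ⊓ C → (QuotientGroup.mk (s := T) x : G ⧸ T) = QuotientGroup.mk 1 :=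
      fun x hx => QuotientGroup.eq.mpr (by simpa using hQT hx.1)
    show (((((a * b)⁻¹ * (b * a) : PY)) : Y) : G) ∈ T
    simp only [Subgroup.coe_mul, InvMemClass.coe_inv, ha, hb]
    have hcS : c ∈ (S : Subgroup G) := hOS (hD0O hc)
    have hcS' : c' ∈ (S : Subgroup G) := hOS (hD0O hc')
    have e : (t * c * (t' * c'))⁻¹ * (t' * c' * (t * c)) =
        (c'⁻¹ * (t'⁻¹ * (c⁻¹ * t⁻¹ * c) * t') * c') * (c'⁻¹ * (t'⁻¹ * (c⁻¹ * t' * c)) * c') *
          (c'⁻¹ * ((c⁻¹ * c' * c * c'⁻¹)) * c') * ((c⁻¹ * t * c)) := by group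
    rw [e]
    have hX' : c⁻¹ * c' * c⁻¹⁻¹ * c'⁻¹ ∈ T := hQT (hXD c⁻¹ (X.inv_mem hc.2) c' hc').1
    rw [inv_inv] at hX'
    have k1 : ∀ {s x : G}, s ∈ (S : Subgroup G) → x ∈ T → s⁻¹ * x * s ∈ T := fun hs hx => by
      simpa using d.conj_mem_T (Subgroup.inv_mem _ hs) hx
    exact T.mul_mem (T.mul_mem (T.mul_mem (k1 hcS' (k1 (hTS ht') (k1 hcS (T.inv_mem ht))))
      (k1 hcS' (T.mul_mem (T.inv_mem ht') (k1 hcS ht')))) (k1 hcS' hX')) (k1 hcS ht)
  letI hQcg : CommGroup (PY ⧸ TP) :=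
    { (inferInstance : Group (PY ⧸ TP)) with
      mul_comm := fun a b => by
        induction a using QuotientGroup.induction_on with
        | H a =>
          induction b using QuotientGroup.induction_on with
          | H b => exact QuotientGroup.eq.mpr (hcomm a b) }
  let τ : PY →* PY ⧸ TP := QuotientGroup.mk' TP
  let V : Y →* PY ⧸ TP := MonoidHom.transfer τ
  have hSYin : IsSylowIn p ((S : Subgroup G) ⊓ Y) Y :=
    IsSylowIn.inf_of_normal (B := ⊤)
      ⟨le_top, S.2, by rw [Subgroup.relIndex_top_right]; exact S.not_dvd_index⟩ le_top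
      (by rw [Subgroup.normalizer_eq_top_iff.mpr hYn])
  have hidx : PY.index.Coprime p := by
    rw [Nat.coprime_comm, hp.out.coprime_iff_not_dvd]
    exact hSYin.2.2
  have hquotp : IsPGroup p (PY ⧸ TP) :=
    ((S.2.to_le (inf_le_left : (S : Subgroup G) ⊓ Y ≤ S)).of_equiv
      (Subgroup.subgroupOfEquivOfLe inf_le_right).symm).to_quotient TP
  have hVT : ∀ y : Y, (y : G) ∈ T → V y = 1 := by
    intro y hy
    letI := Fintype.ofFinite (Quotient (MulAction.orbitRel (Subgroup.zpowers y) (Y ⧸ PY)))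
    show MonoidHom.transfer τ y = 1
    rw [MonoidHom.transfer_eq_prod_quotient_orbitRel_zpowers_quot]
    refine Finset.prod_eq_one fun q _ => (QuotientGroup.eq_one_iff _).mpr ?_
    show (((q.out.out⁻¹ * y ^ _ * q.out.out : Y)) : G) ∈ T
    have h0 := QuotientGroup.out_conj_pow_minimalPeriod_mem PY y q.out
    have h1 : (((q.out.out⁻¹ * y ^ _ * q.out.out : Y)) : G) ∈ (S : Subgroup G) := h0.1
    simp only [Subgroup.coe_mul, InvMemClass.coe_inv, SubmonoidClass.coe_pow] at h1 ⊢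
    have := d.closed (g := ((q.out.out : Y) : G)⁻¹) (T.pow_mem hy _) (by rw [inv_inv]; exact h1)
    rwa [inv_inv] at this
  have hVD : ∀ (y : Y) (hy : (y : G) ∈ C ⊓ X), V y = 1 → (y : G) ∈ T := by
    intro y hy hV
    have hyP : y ∈ PY := ⟨hOS (hD0O hy), y.2⟩
    have hval : V y = τ ⟨y, hyP⟩ ^ PY.index := by
      show MonoidHom.transfer τ y = _
      letI := PY.fintypeQuotientOfFiniteIndex
      letI := Fintype.ofFinite (Quotient (MulAction.orbitRel (Subgroup.zpowers y) (Y ⧸ PY)))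
      rw [MonoidHom.transfer_eq_prod_quotient_orbitRel_zpowers_quot]
      rw [index_eq_sum_minimalPeriod PY y, ← Finset.prod_pow_eq_pow_sum]
      refine Finset.prod_congr rfl fun q _ => ?_
      rw [← map_pow]
      refine QuotientGroup.eq.mpr ?_
      rw [Subgroup.mem_subgroupOf, Subgroup.mem_subgroupOf]
      simp only [Subgroup.coe_mul, InvMemClass.coe_inv, SubmonoidClass.coe_pow]
      have hc : (y : G) ^ Function.minimalPeriod (y • ·) q.out ∈ C ⊓ X := Subgroup.pow_mem _ hy _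
      set c := (y : G) ^ Function.minimalPeriod (y • ·) q.out
      set g := ((q.out.out : Y) : G)
      have hgX : g⁻¹ ∈ X := X.inv_mem (q.out.out : Y).2.2
      have h2 := (hXD g⁻¹ hgX c hc).1
      have h4 : (g⁻¹ * c * g)⁻¹ * c = c⁻¹ * (g⁻¹ * c * g⁻¹⁻¹ * c⁻¹)⁻¹ * c := by group
      rw [h4]
      exact hQT (by simpa using hQn.conj_mem _ (Q.inv_mem h2) c⁻¹)
    rw [hval] at hV
    obtain ⟨a, ha⟩ := hquotp (τ ⟨y, hyP⟩)
    have h1 : orderOf (τ ⟨y, hyP⟩) ∣ 1 :=
      (Nat.dvd_gcd (orderOf_dvd_of_pow_eq_one hV) (orderOf_dvd_of_pow_eq_one ha)).trans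
        (dvd_of_eq (Nat.Coprime.pow_right a hidx))
    exact (QuotientGroup.eq_one_iff (N := TP) _).mp (orderOf_eq_one_iff.mp (Nat.dvd_one.mp h1))
  -- the subgroup
  set gen : Set G := {y : G | y ∈ Y ∧ (orderOf y).Coprime p} ∪
    {y : G | ∃ g : G, ∃ t ∈ T, y = g * t * g⁻¹} with hgen
  set H := Subgroup.normalClosure gen with hHdef
  haveI hHn : H.Normal := Subgroup.normalClosure_normal
  have hTH : T ≤ H := fun t ht =>
    Subgroup.subset_normalClosure (Or.inr ⟨1, t, ht, by group⟩)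
  have hpH : ∀ y ∈ Y, (orderOf y).Coprime p → y ∈ H := fun y hy ho =>
    Subgroup.subset_normalClosure (Or.inl ⟨hy, ho⟩)
  have hHY : H ≤ Y ∧ ∀ (y : G) (hy : y ∈ Y), y ∈ H → V ⟨y, hy⟩ = 1 := by
    have hle : H ≤ V.ker.map Y.subtype := by
      refine (Subgroup.closure_le _).mpr ?_
      intro y hy
      obtain ⟨y₀, hy₀, hconj⟩ := Group.mem_conjugatesOfSet_iff.mp hy
      obtain ⟨g, rfl⟩ := isConj_iff.mp hconj
      rcases hy₀ with ⟨hy₁, hord⟩ | ⟨g', t, ht, rfl⟩
      · have hmem : g * y₀ * g⁻¹ ∈ Y := hYn.conj_mem _ hy₁ g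
        refine ⟨⟨_, hmem⟩, ?_, rfl⟩
        have ho : (orderOf (V ⟨_, hmem⟩)).Coprime p := by
          refine Nat.Coprime.coprime_dvd_left (orderOf_map_dvd V _) ?_
          rw [← Subgroup.orderOf_coe]
          show (orderOf (MulAut.conj g y₀)).Coprime p
          rw [MulEquiv.orderOf_eq]
          exact hord
        obtain ⟨a, ha⟩ := hquotp (V ⟨_, hmem⟩)
        exact orderOf_eq_one_iff.mp (Nat.eq_one_of_dvd_coprimes
          (Nat.Coprime.pow_right a ho) dvd_rfl (orderOf_dvd_of_pow_eq_one ha))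
      · obtain ⟨g'', hg''⟩ : ∃ z, z = g * g' := ⟨_, rfl⟩
        have he : g * (g' * t * g'⁻¹) * g⁻¹ = g'' * t * g''⁻¹ := by rw [hg'', mul_inv_rev]; group
        rw [he]
        have hmem : g'' * t * g''⁻¹ ∈ Y := hYn.conj_mem _ (hTY ht) g''
        refine ⟨⟨_, hmem⟩, ?_, rfl⟩
        have hXp : IsPGroup p (Subgroup.zpowers (g'' * t * g''⁻¹)) := by
          obtain ⟨a, ha⟩ := hTp ⟨t, ht⟩
          have h0 : t ^ p ^ a = 1 := congrArg Subtype.val ha
          refine IsPGroup.of_card (n := (orderOf (g'' * t * g''⁻¹)).factorization p) ?_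
          rw [Nat.card_zpowers]
          obtain ⟨i, -, hi⟩ := (Nat.dvd_prime_pow hp.out).mp
            (orderOf_dvd_of_pow_eq_one (x := g'' * t * g''⁻¹) (n := p ^ a)
              (by rw [conj_pow, h0]; group))
          rw [hi, hp.out.factorization_pow]
          simp
        obtain ⟨b, hbY, hb⟩ := hSYin.exists_conj_le hXp (Subgroup.zpowers_le.mpr hmem)
        have h1 := (hb _ (Subgroup.mem_zpowers _)).1
        have he2 : b * (g'' * t * g''⁻¹) * b⁻¹ = (b * g'') * t * (b * g'')⁻¹ := by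
          rw [mul_inv_rev]; group
        rw [he2] at h1
        have h2 : V (⟨b, hbY⟩ * ⟨_, hmem⟩ * ⟨b, hbY⟩⁻¹) = 1 := by
          refine hVT _ ?_
          show b * (g'' * t * g''⁻¹) * b⁻¹ ∈ T
          rw [he2]
          exact d.closed ht h1
        rw [map_mul, map_mul, map_inv] at h2
        show V ⟨_, hmem⟩ = 1
        exact (conj_eq_one_iff).mp h2
    refine ⟨hle.trans (Subgroup.map_subtype_le _), fun y hy hyH => ?_⟩
    obtain ⟨w, hw, rfl⟩ := hle hyH
    exact hw
  have hHS : ∀ s ∈ (S : Subgroup G), s ∈ H → s ∈ T := by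
    intro s hs hsH
    obtain ⟨t, ht, c, hc, rfl⟩ := hSY s hs (hHY.1 hsH)
    have hcY : c ∈ Y := by
      have := Y.mul_mem (Y.inv_mem (hTY ht)) (hHY.1 hsH)
      simpa using this
    have h1 := hHY.2 _ (hHY.1 hsH) hsH
    have h2 : V ⟨c, hcY⟩ = 1 := by
      rw [show (⟨t * c, hHY.1 hsH⟩ : Y) = ⟨t, hTY ht⟩ * ⟨c, hcY⟩ from rfl, map_mul,
        hVT ⟨t, hTY ht⟩ ht, one_mul] at h1
      exact h1
    exact T.mul_mem ht (hVD ⟨c, hcY⟩ hc h2)
  have hHC : H ⊓ C ≤ Q ⊓ C := fun x hx => by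
    have hxO : x ∈ O := hD0O ⟨hx.2, (hHY.1 hx.1).2⟩
    exact ⟨hTC ⟨hHS x (hOS hxO) hx.1, hx.2⟩, hx.2⟩
  have hSin : (S : Subgroup G) ⊓ H = T :=
    le_antisymm (fun x hx => hHS x hx.1 hx.2) (le_inf hTS hTH)
  -- `p'`-elements of `N_A(Aut_T(Q))` lift
  have hlift : ∀ a : A, (orderOf a).Coprime p → a ∈ Subgroup.normalizer ((RA : Subgroup A) : Set A) →
      ∃ h ∈ H, f h = a := by
    intro a hao haN
    obtain ⟨φ, hφ, hφr, hφe⟩ := E.exists_map_of_mem_autGroup hQT a.2
    obtain ⟨-, hrec⟩ := hEsat.isReceptive_of_isFullyNormalized hTp hQfn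
    obtain ⟨ψ, hψ, hψe⟩ := hrec Q φ hφ hφr
    have hext : T ≤ extender T Q φ := by
      intro t ht
      refine (mem_extender_iff fun x => E.apply_mem hφ x).mpr
        ⟨ht, Subgroup.normalizer_eq_top_iff.mpr hQn ▸ Subgroup.mem_top _, ?_⟩
      have hct : (⟨f t, hTK ht⟩ : A) ∈ (RA : Subgroup A) := by
        rw [hRA]
        exact (hfT _).mpr ⟨t, ht, rfl⟩
      have := (Subgroup.mem_normalizer_iff.mp haN ⟨f t, hTK ht⟩).mp hct
      rw [hRA] at this
      obtain ⟨t', ht', he'⟩ := (hfT _).mp this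
      refine ⟨t', ht', fun x hx => ?_⟩
      have e2 : f t' ((a : MulAut Q) x) = (a : MulAut Q) (f t x) := by
        rw [he']
        simp [MulAut.mul_apply]
      have e3 := congrArg (fun z : Q => (z : G)) e2
      simp only [f, MulAut.conjNormal_apply] at e3
      rw [hφe, hφe]
      rw [show (⟨t * (x : G) * t⁻¹, hx⟩ : Q) = MulAut.conjNormal t x from
        Subtype.ext (MulAut.conjNormal_apply t x).symm]
      exact e3.symm
    have hψT : (ψ.comp (Subgroup.inclusion hext)) ∈ E.Hom T := E.restrict_mem hψ hext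
    have hψr : (ψ.comp (Subgroup.inclusion hext)).range = T := by
      refine Subgroup.eq_of_le_of_card_ge (E.range_le hψT) ?_
      exact (Nat.card_congr (MonoidHom.ofInjective (E.injective_of_mem hψT)).toEquiv).le
    let α : MulAut T := (E.isoOf hψT hψr : MulAut T)
    have hαE : α ∈ E.autGroup T := E.isoOf_mem_autGroup hψT hψr
    obtain ⟨β, hβ, hβT, hβC⟩ := hE.2 α hαE
    rw [hFdef, autGroup_groupFusionSystem (sup_le hTS centralizerIn_le)] at hβ
    obtain ⟨g, -, hgN, hgβ⟩ := mem_autInducedBy_iff.mp hβ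
    have hgT : ∀ x : T, ((α x : T) : G) = g * x * g⁻¹ := fun x => (hβT x).symm.trans (hgβ _)
    have hgTmem : ∀ x ∈ T, g * x * g⁻¹ ∈ T := fun x hx => hgT ⟨x, hx⟩ ▸ (α ⟨x, hx⟩).2
    have hgC : ∀ c ∈ centralizerIn (S : Subgroup G) T,
        c⁻¹ * (g * c * g⁻¹) ∈ T ⊓ Subgroup.centralizer (T : Set G) := by
      intro c hc
      have := hβC ⟨c, Subgroup.mem_sup_right hc⟩ hc
      rwa [hgβ] at this
    have hga : f g = (a : MulAut Q) := by
      refine MulEquiv.ext fun x => Subtype.ext ?_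
      rw [MulAut.conjNormal_apply]
      rw [← hgT ⟨x, hQT x.2⟩]
      show ψ ⟨(x : G), hext (hQT x.2)⟩ = _
      rw [hψe _ x.2 _, hφe]
    have hao' : (orderOf (a : MulAut Q)).Coprime p := by rwa [Subgroup.orderOf_coe]
    obtain ⟨m, hm1, hmp⟩ := exists_primePart g _ hao'
    set h := g ^ m with hhdef
    have hfh : f h = (a : MulAut Q) := by
      rw [hhdef, map_pow, hga]
      conv_rhs => rw [← pow_one (a : MulAut Q)]
      exact pow_eq_pow_iff_modEq.mpr hm1
    have hhT : ∀ n : ℕ, ∀ x ∈ T, g ^ n * x * (g ^ n)⁻¹ ∈ T := by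
      intro n
      induction n with
      | zero => simp
      | succ n ih =>
        intro x hx
        have := hgTmem _ (ih x hx)
        rwa [show g ^ (n + 1) * x * (g ^ (n + 1))⁻¹ = g * (g ^ n * x * (g ^ n)⁻¹) * g⁻¹ by
          rw [pow_succ']; group]
    have hhC : ∀ n : ℕ, ∀ c ∈ centralizerIn (S : Subgroup G) T,
        c⁻¹ * (g ^ n * c * (g ^ n)⁻¹) ∈ T ⊓ Subgroup.centralizer (T : Set G) := by
      intro n
      induction n with
      | zero => intro c _; simp
      | succ n ih =>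
        intro c hc
        set z := c⁻¹ * (g ^ n * c * (g ^ n)⁻¹) with hz
        have hzm := ih c hc
        have hzC : z ∈ centralizerIn (S : Subgroup G) T := ⟨hTS hzm.1, hzm.2⟩
        have h1 := hgC _ hc
        have h2 := hgC _ hzC
        have h2' : g * z * g⁻¹ ∈ T ⊓ Subgroup.centralizer (T : Set G) := by
          have := Subgroup.mul_mem _ hzm h2
          rwa [mul_inv_cancel_left] at this
        have e : c⁻¹ * (g ^ (n + 1) * c * (g ^ (n + 1))⁻¹) = c⁻¹ * (g * c * g⁻¹) * (g * z * g⁻¹) := by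
          rw [hz, pow_succ']; group
        rw [e]
        exact Subgroup.mul_mem _ h1 h2'
    have hhK : h ∈ K := by
      show f h ∈ A
      rw [hfh]
      exact a.2
    -- `h` centralises `(O ∩ C) / Q`
    have hD : ∀ c ∈ O ⊓ C, h * c * h⁻¹ * c⁻¹ ∈ Q := by
      intro c hc
      refine comm_mem_of_coprime hmp ?_ ?_
      · obtain ⟨k, hk⟩ := hOp ⟨h * c * h⁻¹ * c⁻¹,
          O.mul_mem ((inferInstance : O.Normal).conj_mem _ hc.1 h) (O.inv_mem hc.1)⟩
        exact ⟨k, congrArg Subtype.val hk⟩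
      set w := h * c * h⁻¹ * c⁻¹ with hw
      have hwO : w ∈ O := O.mul_mem ((inferInstance : O.Normal).conj_mem _ hc.1 h) (O.inv_mem hc.1)
      have hwC : w ∈ C := C.mul_mem (hCn.conj_mem _ hc.2 h) (C.inv_mem hc.2)
      have hwN : w ∈ Subgroup.normalizer (T : Set G) :=
        hinv.2.1.le_normalizer (hOS hwO)
      -- the action of `w` on `T` is inner
      obtain ⟨t, ht, hwt⟩ : ∃ t ∈ T, ∀ x ∈ T, w * x * w⁻¹ = t * x * t⁻¹ := by
        have hcN : c ∈ Subgroup.normalizer (T : Set G) := hinv.2.1.le_normalizer (hOS hc.1)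
        have hhN : h ∈ Subgroup.normalizer (T : Set G) := by
          refine Subgroup.mem_normalizer_iff.mpr fun x => ⟨fun hx => hhT m x hx, fun hx => ?_⟩
          have hinj : Function.Surjective (fun y : T => (⟨h * y * h⁻¹, hhT m y y.2⟩ : T)) := by
            refine Finite.surjective_of_injective fun y z hyz => Subtype.ext ?_
            exact mul_left_cancel (mul_right_cancel (congrArg Subtype.val hyz))
          obtain ⟨y, hy⟩ := hinj ⟨_, hx⟩
          have : (y : G) = x := mul_left_cancel (mul_right_cancel (congrArg Subtype.val hy))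
          exact this ▸ y.2
        have hη : T.normalizerMonoidHom ⟨h, hhN⟩ = α ^ m := by
          have hN' : g ∈ Subgroup.normalizer (T : Set G) := by
            refine Subgroup.mem_normalizer_iff.mpr fun x => ⟨hgTmem x, fun hx => ?_⟩
            obtain ⟨y, hy⟩ := α.surjective ⟨_, hx⟩
            have h0 := (hgT y).symm.trans (congrArg Subtype.val hy)
            exact mul_left_cancel (mul_right_cancel h0) ▸ y.2
          rw [show (⟨h, hhN⟩ : Subgroup.normalizer (T : Set G)) = ⟨g, hN'⟩ ^ m from Subtype.ext rfl,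
            map_pow]
          congr 1
          exact MulEquiv.ext fun x => Subtype.ext (hgT x).symm
        set cc := T.normalizerMonoidHom ⟨c, hcN⟩
        have hccF : cc ∈ F.autGroup T := by
          rw [hFdef, autGroup_groupFusionSystem hTS]
          exact mem_autInducedBy_iff.mpr ⟨c, Subgroup.mem_top c, hcN, fun x => rfl⟩
        have hηE : α ^ m ∈ E.autGroup T := pow_mem hαE m
        have hwE : T.normalizerMonoidHom ⟨w, hwN⟩ ∈ E.autGroup T := by
          have e : T.normalizerMonoidHom ⟨w, hwN⟩ = α ^ m * (cc * (α ^ m)⁻¹ * cc⁻¹) := by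
            rw [show (⟨w, hwN⟩ : Subgroup.normalizer (T : Set G)) =
              ⟨h, hhN⟩ * (⟨c, hcN⟩ * ⟨h, hhN⟩⁻¹ * ⟨c, hcN⟩⁻¹) from Subtype.ext (by
                show w = h * (c * h⁻¹ * c⁻¹)
                rw [hw]; group), map_mul, map_mul, map_mul, map_inv, map_inv, hη]
          rw [e]
          exact mul_mem hηE (hinv.conj_mem_autGroup (inv_mem hηE) hccF)
        have hwp : ∃ k, (⟨_, hwE⟩ : E.autGroup T) ^ p ^ k = 1 := by
          obtain ⟨k, hk⟩ := hOp ⟨w, hwO⟩
          refine ⟨k, Subtype.ext ?_⟩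
          show (T.normalizerMonoidHom ⟨w, hwN⟩) ^ p ^ k = 1
          rw [← map_pow]
          rw [show (⟨w, hwN⟩ : Subgroup.normalizer (T : Set G)) ^ p ^ k = 1 from
            Subtype.ext (show w ^ p ^ k = 1 from congrArg Subtype.val hk), map_one]
        obtain ⟨-, RT, hRT⟩ := hEsat.isFullyAutomized_of_isFullyNormalized hTp
          (isFullyNormalized_self (F := E))
        haveI hRTn : (RT : Subgroup (E.autGroup T)).Normal := by
          rw [hRT, ← inn_eq_autInducedBy]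
          exact (Subgroup.Normal.comap (inferInstanceAs (Inn T).Normal) _)
        have hzp : IsPGroup p (Subgroup.zpowers (⟨_, hwE⟩ : E.autGroup T)) := by
          obtain ⟨k, hk⟩ := hwp
          obtain ⟨i, -, hi⟩ := (Nat.dvd_prime_pow hp.out).mp (orderOf_dvd_of_pow_eq_one hk)
          exact IsPGroup.of_card (n := i) (by rw [Nat.card_zpowers, hi])
        obtain ⟨R', hR'⟩ := hzp.exists_le_sylow
        haveI := Sylow.unique_of_normal RT hRTn
        have hmem : (⟨_, hwE⟩ : E.autGroup T) ∈ (RT : Subgroup (E.autGroup T)) := by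
          rw [Subsingleton.elim RT R']
          exact hR' (Subgroup.mem_zpowers _)
        rw [hRT] at hmem
        obtain ⟨t, ht, -, he⟩ := mem_autInducedBy_iff.mp hmem
        exact ⟨t, ht, fun x hx => he ⟨x, hx⟩⟩
      set v := t⁻¹ * w with hv
      have hvT : v ∈ Subgroup.centralizer (T : Set G) := by
        refine Subgroup.mem_centralizer_iff.mpr fun x hx => ?_
        have h1 := hwt x hx
        calc x * v = t⁻¹ * (t * x * t⁻¹) * w := by rw [hv]; group
          _ = t⁻¹ * (w * x * w⁻¹) * w := by rw [h1]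
          _ = v * x := by rw [hv]; group
      have htC : t ∈ C := by
        have hvC : v ∈ C := Subgroup.centralizer_le (hQT : (Q : Set G) ⊆ T) hvT
        have := C.mul_mem hwC (C.inv_mem hvC)
        rwa [hv, mul_inv_rev, inv_inv, ← mul_assoc, mul_inv_cancel, one_mul] at this
      have htQ : t ∈ Q := hTC ⟨ht, htC⟩
      have hvO : v ∈ O := O.mul_mem (O.inv_mem htQ.2) hwO
      have hvh := hhC m v ⟨hOS hvO, hvT⟩
      have hvh' : h * v * h⁻¹ * v⁻¹ ∈ Q := by
        have h1 : v⁻¹ * (h * v * h⁻¹) ∈ Q :=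
          ⟨hvh.1, O.mul_mem (O.inv_mem hvO) ((inferInstance : O.Normal).conj_mem _ hvO h)⟩
        have h2 := hQn.conj_mem _ h1 v
        rwa [mul_inv_cancel_left] at h2
      have e : h * w * h⁻¹ * w⁻¹ = (h * t * h⁻¹) * (h * v * h⁻¹ * v⁻¹) * t⁻¹ := by rw [hv]; group
      rw [e]
      exact Q.mul_mem (Q.mul_mem (hQn.conj_mem _ htQ h) hvh') (Q.inv_mem htQ)
    -- `h` centralises `O / Q`
    have hhX : h ∈ X := mem_trivialOn.mpr fun o ho => by
      refine comm_mem_of_coprime hmp ?_ ?_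
      · obtain ⟨k, hk⟩ := hOp ⟨h * o * h⁻¹ * o⁻¹,
          O.mul_mem ((inferInstance : O.Normal).conj_mem _ ho h) (O.inv_mem ho)⟩
        exact ⟨k, congrArg Subtype.val hk⟩
      set w := h * o * h⁻¹ * o⁻¹ with hw
      have hwO : w ∈ O := O.mul_mem ((inferInstance : O.Normal).conj_mem _ ho h) (O.inv_mem ho)
      have hwK : w ∈ K := by
        rw [show w = h * (o * h⁻¹ * o⁻¹) by rw [hw]; group]
        exact K.mul_mem hhK (hKn.conj_mem _ (K.inv_mem hhK) o)
      -- `O ∩ K ≤ Q (O ∩ C)`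
      let W : Subgroup G := X ⊓ ((O ⊓ K) ⊔ C)
      haveI hWn : W.Normal := inferInstance
      have hWp : IsPGroup p W := by
        rintro ⟨y, hyX, hy⟩
        obtain ⟨o', ho', c', hc', rfl⟩ := Subgroup.mem_sup_of_normal_right.mp hy
        obtain ⟨k, hk⟩ := hOp ⟨o', ho'.1⟩
        have hyC : (o' * c') ^ p ^ k ∈ C := by
          refine (hker _).mp ?_
          rw [map_pow, map_mul, (hker c').mpr hc', mul_one, ← map_pow,
            show o' ^ p ^ k = 1 from congrArg Subtype.val hk, map_one]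
        obtain ⟨l, hl⟩ := hCXp ⟨(o' * c') ^ p ^ k, hyC, X.pow_mem hyX _⟩
        refine ⟨k + l, Subtype.ext ?_⟩
        show (o' * c') ^ p ^ (k + l) = 1
        rw [pow_add, pow_mul]
        exact congrArg Subtype.val hl
      have hWO : W ≤ O := CfsgLib.le_pCore hWp
      obtain ⟨t, ht, hwt⟩ : ∃ t ∈ T, f t = f w := by
        let M : Subgroup A := ((O ⊓ K).map f).subgroupOf A
        haveI hMn : M.Normal := ⟨fun x hx b => by
          obtain ⟨y, hy, hye⟩ := hx
          obtain ⟨φb, hφb, -, hφbe⟩ := E.exists_map_of_mem_autGroup hQT b.2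
          obtain ⟨-, -, gb, hgb⟩ := hsub Q hφb
          have hbe : f gb = (b : MulAut Q) := MulEquiv.ext fun z => Subtype.ext (by
            rw [MulAut.conjNormal_apply, ← hgb, hφbe])
          refine ⟨gb * y * gb⁻¹, (inferInstance : (O ⊓ K).Normal).conj_mem _ hy gb, ?_⟩
          rw [map_mul, map_mul, map_inv, hbe, hye]
          rfl⟩
        have hMp : IsPGroup p M := by
          refine ((hOp.to_le (inf_le_left : O ⊓ K ≤ O)).map f).of_equiv
            (Subgroup.subgroupOfEquivOfLe ?_).symm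
          rintro _ ⟨y, hy, rfl⟩
          exact hy.2
        have hMR : M ≤ (RA : Subgroup A) := (CfsgLib.le_pCore hMp).trans (CfsgLib.pCore_le_sylow RA)
        have := hMR (show (⟨f w, hwK⟩ : A) ∈ M from ⟨w, ⟨hwO, hwK⟩, rfl⟩)
        rw [hRA] at this
        exact (hfT _).mp this
      have htW : t ∈ W := by
        refine ⟨hTX ht, ?_⟩
        rw [show t = w * (w⁻¹ * t) by group]
        refine Subgroup.mul_mem_sup ⟨hwO, hwK⟩ ((hker _).mp ?_)
        rw [map_mul, map_inv, hwt, inv_mul_cancel]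
      have htQ : t ∈ Q := ⟨ht, hWO htW⟩
      set v := t⁻¹ * w with hv
      have hvD : v ∈ O ⊓ C := ⟨O.mul_mem (O.inv_mem htQ.2) hwO, (hker _).mp (by
        rw [hv, map_mul, map_inv, hwt, inv_mul_cancel])⟩
      have e : h * w * h⁻¹ * w⁻¹ = (h * t * h⁻¹) * (h * v * h⁻¹ * v⁻¹) * t⁻¹ := by rw [hv]; group
      rw [e]
      exact Q.mul_mem (Q.mul_mem (hQn.conj_mem _ htQ h) (hD v hvD)) (Q.inv_mem htQ)
    exact ⟨h, hpH h ⟨hhK, hhX⟩ hmp, hfh⟩
  -- `H` induces all of `A`
  have honto : ∀ a ∈ A, ∃ h ∈ H, f h = a := by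
    intro a ha
    let A' : Subgroup A := (H.map f).subgroupOf A
    haveI hA'n : A'.Normal := ⟨fun x hx b => by
      obtain ⟨y, hy, hye⟩ := hx
      obtain ⟨φb, hφb, -, hφbe⟩ := E.exists_map_of_mem_autGroup hQT b.2
      obtain ⟨-, -, gb, hgb⟩ := hsub Q hφb
      have hbe : f gb = (b : MulAut Q) := MulEquiv.ext fun z => Subtype.ext (by
        rw [MulAut.conjNormal_apply, ← hgb, hφbe])
      refine ⟨gb * y * gb⁻¹, hHn.conj_mem _ hy gb, ?_⟩
      rw [map_mul, map_mul, map_inv, hbe, hye]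
      rfl⟩
    have hRle : (RA : Subgroup A) ≤ A' := by
      intro x hx
      rw [hRA] at hx
      obtain ⟨t, ht, he⟩ := (hfT _).mp hx
      exact ⟨t, hTH ht, he⟩
    have htop : A' = ⊤ := by
      set N := Subgroup.normalizer ((RA : Subgroup A) : Set A) with hNdef
      have hN : N ≤ A' := by
        let RN : Sylow p N := RA.subtype Subgroup.le_normalizer
        have h1 := CfsgLib.Transfer.sylow_sup_pResidual RN
        intro x hx
        have hx' : (⟨x, hx⟩ : N) ∈ (RN : Subgroup N) ⊔ pResidual p N := by rw [h1]; trivial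
        have hle : (RN : Subgroup N) ⊔ pResidual p N ≤ A'.comap N.subtype := by
          refine sup_le (fun y hy => hRle hy) ((Subgroup.closure_le _).mpr ?_)
          intro y hy
          have hy' : (orderOf (y : A)).Coprime p := by rw [Subgroup.orderOf_coe]; exact hy
          obtain ⟨h, hh, he⟩ := hlift y hy' y.2
          exact ⟨h, hh, he⟩
        exact hle hx'
      have h2 := Sylow.normalizer_sup_eq_top (N := A') (RA.subtype hRle)
      rw [show (RA.subtype hRle : Subgroup A').map A'.subtype = (RA : Subgroup A) from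
        Subgroup.map_subgroupOf_eq_of_le hRle] at h2
      rw [eq_top_iff, ← h2]
      exact sup_le hN le_rfl
    have hmem : (⟨a, ha⟩ : A) ∈ A' := by rw [htop]; trivial
    exact hmem
  -- key lemma
  have key : ∀ (P : Subgroup G), Q ≤ P → P ≤ T → ∀ (g h : G), h ∈ H → f g = f h →
      (∀ x ∈ P, g * x * g⁻¹ ∈ P) →
      ∀ k : ℕ, k.Coprime p → g ^ k ∈ Subgroup.centralizer (P : Set G) →
      ∃ z ∈ Q ⊓ C, ∃ v ∈ Subgroup.centralizer (P : Set G), g = h * z * v := by
    intro P hQP hPT g h hh hgh hgP k hk hgk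
    set c := h⁻¹ * g with hcdef
    have hcC : c ∈ C := (hker _).mp (by rw [hcdef, map_mul, map_inv, hgh, inv_mul_cancel])
    have hHC' : ∀ x ∈ H, ∀ y ∈ C, x * y * x⁻¹ * y⁻¹ ∈ Q ⊓ C := fun x hx y hy => hHC
      ⟨by
        rw [show x * y * x⁻¹ * y⁻¹ = x * (y * x⁻¹ * y⁻¹) by group]
        exact H.mul_mem hx (hHn.conj_mem _ (H.inv_mem hx) y),
      C.mul_mem (hCn.conj_mem _ hy x) (C.inv_mem hy)⟩
    let π := QuotientGroup.mk' (Q ⊓ C)
    have hcom : Commute (π h) (π c) := by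
      have h1 : π (h * c * h⁻¹ * c⁻¹) = 1 := (QuotientGroup.eq_one_iff _).mpr (hHC' h hh c hcC)
      rw [map_mul, map_mul, map_mul, map_inv, map_inv, mul_inv_eq_one, mul_inv_eq_iff_eq_mul] at h1
      exact h1
    have hgC : f (g ^ k) = 1 := (hker _).mpr (Subgroup.centralizer_le (hQP : (Q : Set G) ⊆ P) hgk)
    have hhk : h ^ k ∈ Q ⊓ C := hHC ⟨H.pow_mem hh k, (hker _).mp (by
      rw [map_pow, ← hgh, ← map_pow, hgC])⟩
    have h2 : π (g ^ k) = π (c ^ k) := by
      rw [map_pow, map_pow, show g = h * c by rw [hcdef]; group, map_mul, hcom.mul_pow,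
        ← map_pow π h, show π (h ^ k) = 1 from (QuotientGroup.eq_one_iff _).mpr hhk, one_mul]
    set CP := Subgroup.centralizer (P : Set G)
    let W : Subgroup G := (Q ⊓ C) ⊔ CP
    have hck : c ^ k ∈ W := by
      have h3 : (c ^ k) * (g ^ k)⁻¹ ∈ Q ⊓ C := by
        rw [← QuotientGroup.eq_one_iff]
        show π _ = 1
        rw [map_mul, map_inv, h2, mul_inv_cancel]
      have := Subgroup.mul_mem_sup h3 hgk
      rwa [inv_mul_cancel_right] at this
    -- `c` acts on `P` by elements of `Q ∩ C`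
    obtain ⟨e, he⟩ := IsPGroup.iff_card.mp (S.2.to_le ((hQT.trans hTS)))
    have hcp : c ^ p ^ e ∈ CP := by
      refine Subgroup.mem_centralizer_iff.mpr fun x hx => ?_
      set z := c * x * c⁻¹ * x⁻¹ with hz
      have hzQ : z ∈ Q ⊓ C := by
        have h0 := hHC' x (hTH (hPT hx)) c hcC
        rw [show z = (x * c * x⁻¹ * c⁻¹)⁻¹ by rw [hz]; group]
        exact Subgroup.inv_mem _ h0
      have hzc : Commute c z := (Subgroup.mem_centralizer_iff.mp hcC z hzQ.1).symm
      have h3 : ∀ n : ℕ, c ^ n * x * (c ^ n)⁻¹ = z ^ n * x := by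
        intro n
        induction n with
        | zero => simp
        | succ n ih =>
          calc c ^ (n + 1) * x * (c ^ (n + 1))⁻¹ = c * (c ^ n * x * (c ^ n)⁻¹) * c⁻¹ := by
                rw [pow_succ']; group
            _ = (c * z ^ n) * x * c⁻¹ := by rw [ih]; group
            _ = (z ^ n * c) * x * c⁻¹ := by rw [(hzc.pow_right n).eq]
            _ = z ^ n * (z * x) := by rw [show z * x = c * x * c⁻¹ by rw [hz]; group]; group
            _ = z ^ (n + 1) * x := by rw [pow_succ, mul_assoc (z ^ n) z x]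
      have h4 := h3 (p ^ e)
      have hz1 : z ^ p ^ e = 1 := by
        have := pow_card_eq_one' (G := Q) (x := ⟨z, hzQ.1⟩)
        rw [he] at this
        exact congrArg Subtype.val this
      rw [hz1, one_mul, mul_inv_eq_iff_eq_mul] at h4
      exact h4.symm
    have hcW : c ∈ W := by
      have h5 : Nat.gcd k (p ^ e) = 1 := Nat.Coprime.pow_right e hk
      have h6 : c ^ (1 : ℤ) ∈ W := by
        rw [show (1 : ℤ) = ((Nat.gcd k (p ^ e) : ℕ) : ℤ) by rw [h5]; simp, Nat.gcd_eq_gcd_ab,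
          zpow_add, zpow_mul, zpow_mul, zpow_natCast, zpow_natCast]
        exact W.mul_mem (W.zpow_mem hck _) (W.zpow_mem (Subgroup.mem_sup_right hcp) _)
      rwa [zpow_one] at h6
    obtain ⟨z, hz, v, hv, hzv⟩ := Subgroup.mem_sup_of_normal_left.mp hcW
    exact ⟨z, hz, v, hv, by rw [mul_assoc, hzv, hcdef, mul_inv_cancel_left]⟩
  -- `Q` is normal in both systems
  let D : FusionSystem T := fusionSystemOfSubgroup H T hTH
  have hDsat : D.IsSaturated p := by
    have hD0 := (Cfsg.Agent.S5118.aux p S H).1.1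
    have htr : ∀ (T' : Subgroup G) (h' : T' ≤ H), T' = T →
        (fusionSystemOfSubgroup H T' h').IsSaturated p → D.IsSaturated p := by
      rintro T' h' rfl h
      exact h
    exact htr _ _ hSin hD0
  have hnormal : ∀ E' : FusionSystem T, E'.IsSaturated p → E'.IsSubsystemOf F → E'.IsNormal Q := by
    intro E' hE' hsub'
    haveI : Group.IsNilpotent Q := (hTp.to_le hQT).isNilpotent
    obtain ⟨n, hn⟩ := Group.IsNilpotent.nilpotent Q
    let Z : ℕ → Subgroup G := fun i => (Subgroup.upperCentralSeries Q i).map Q.subtype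
    haveI hZn : ∀ i, (Z i).Normal := fun i =>
      @ConjAct.normal_of_characteristic_of_normal G _ Q hQn (Subgroup.upperCentralSeries Q i) inferInstance
    refine hE'.isNormal_of_series hTp (n := n) (fun i => Z i) ?_ ?_ ?_ fun i => ⟨?_, ?_⟩
    · simp [Z]
    · simp [Z, hn, ← MonoidHom.range_eq_map]
    · intro i j hij
      exact Subgroup.map_mono (Subgroup.upperCentralSeries_mono _ hij)
    · refine ⟨(Subgroup.map_subtype_le _).trans hQT, fun R hR φ hφ x => ?_⟩
      obtain ⟨-, -, g, hg⟩ := hsub' R hφ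
      rw [hg]
      exact (hZn _).conj_mem _ (hR x.2) g
    · refine Subgroup.commutator_le.mpr fun a ha b hb => ?_
      obtain ⟨y, hy, rfl⟩ := hb
      have h1 := InvMemClass.inv_mem ((Subgroup.mem_upperCentralSeries_succ_iff.mp hy) ⟨a, ha⟩)
      exact ⟨_, h1, by simp [commutatorElement_def, mul_assoc]⟩
  have hDsub : D.IsSubsystemOf F := fun P φ hφ =>
    ⟨hφ.1.trans hTS, fun x => hTS (hφ.2.1 x), hφ.2.2.choose, hφ.2.2.choose_spec.2⟩
  have hEQ := hnormal E hEsat hsub
  have hDQ := hnormal D hDsat hDsub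
  -- the two systems have the same automisers at the subgroups containing `Q`
  have hED : ∀ P : Subgroup G, Q ≤ P → P ≤ T → ∀ β : MulAut P, β ∈ E.autGroup P →
      (orderOf β).Coprime p → β ∈ D.autGroup P := by
    intro P hQP hPT β hβ hβo
    obtain ⟨φ, hφ, hφr, hφe⟩ := E.exists_map_of_mem_autGroup hPT hβ
    obtain ⟨-, -, g, hg⟩ := hsub P hφ
    have hgP : ∀ x ∈ P, g * x * g⁻¹ ∈ P := fun x hx => by
      rw [← hg ⟨x, hx⟩, hφe]
      exact (β ⟨x, hx⟩).2
    have hfg : f g ∈ A := by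
      refine E.mem_autGroup_of_map (E.restrict_mem hφ hQP) fun x => ?_
      rw [MulAut.conjNormal_apply]
      exact (hg (Subgroup.inclusion hQP x)).symm
    obtain ⟨h, hh, hhe⟩ := honto _ hfg
    have hpow : g ^ orderOf β ∈ Subgroup.centralizer (P : Set G) := by
      refine Subgroup.mem_centralizer_iff.mpr fun x hx => ?_
      have hn : ∀ n : ℕ, (((β ^ n) ⟨x, hx⟩ : P) : G) = g ^ n * x * (g ^ n)⁻¹ := by
        intro n
        induction n with
        | zero => simp
        | succ n ih => rw [pow_succ', MulAut.mul_apply, ← hφe, hg, ih, pow_succ']; group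
      have h1 := hn (orderOf β)
      rw [pow_orderOf_eq_one] at h1
      exact (mul_inv_eq_iff_eq_mul.mp h1.symm).symm
    obtain ⟨z, hz, v, hv, e⟩ := key P hQP hPT g h hh hhe.symm hgP _ hβo hpow
    refine (D.mem_autGroup_iff hPT).mpr ⟨hPT, fun x => hPT (β x).2, h * z,
      H.mul_mem hh (hTH (hQT hz.1)), fun x => ?_⟩
    show ((β x : P) : G) = _
    rw [← hφe, hg, e]
    have hvx := Subgroup.mem_centralizer_iff.mp hv x x.2
    calc h * z * v * (x : G) * (h * z * v)⁻¹
        = h * z * (v * (x : G)) * v⁻¹ * (h * z)⁻¹ := by group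
      _ = h * z * ((x : G) * v) * v⁻¹ * (h * z)⁻¹ := by rw [hvx]
      _ = h * z * x * (h * z)⁻¹ := by group
  have hDE : ∀ P : Subgroup G, Q ≤ P → P ≤ T → ∀ β : MulAut P, β ∈ D.autGroup P →
      (orderOf β).Coprime p → β ∈ E.autGroup P := by
    intro P hQP hPT β hβ hβo
    obtain ⟨-, -, h, hh, hhe⟩ := (D.mem_autGroup_iff hPT).mp hβ
    replace hhe : ∀ x : P, ((β x : P) : G) = h * (x : G) * h⁻¹ := hhe
    have hfh : f h ∈ A := (hHY.1 hh).1
    obtain ⟨φ, hφ, hφr, hφe⟩ := E.exists_map_of_mem_autGroup hQT hfh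
    obtain ⟨-, hrec⟩ := hEsat.isReceptive_of_isFullyNormalized hTp hQfn
    obtain ⟨ψ, hψ, hψe⟩ := hrec Q φ hφ hφr
    have hext : P ≤ extender T Q φ := by
      intro x hx
      refine (mem_extender_iff fun y => E.apply_mem hφ y).mpr
        ⟨hPT hx, Subgroup.normalizer_eq_top_iff.mpr hQn ▸ Subgroup.mem_top _,
          h * x * h⁻¹, ?_, fun y hy => ?_⟩
      · rw [← hhe ⟨x, hx⟩]
        exact hPT (β ⟨x, hx⟩).2
      · rw [hφe, hφe, MulAut.conjNormal_apply, MulAut.conjNormal_apply]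
        group
    obtain ⟨-, -, g, hg⟩ := hsub _ hψ
    have hgQ : f g = f h := by
      refine MulEquiv.ext fun y => Subtype.ext ?_
      have h1 := hψe _ y.2 (hext (hQP y.2))
      rw [hg, hφe] at h1
      rw [MulAut.conjNormal_apply]
      exact h1
    set c := h⁻¹ * g with hcdef
    have hcC : c ∈ C := (hker _).mp (by rw [hcdef, map_mul, map_inv, hgQ, inv_mul_cancel])
    -- `g` normalises `P`
    have hcP : ∀ x ∈ P, g * x * g⁻¹ ∈ P := by
      intro x hx
      have h0 : c * x * c⁻¹ * x⁻¹ ∈ Q ⊓ C := hHC ⟨by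
        exact H.mul_mem (hHn.conj_mem _ (hTH (hPT hx)) c) (H.inv_mem (hTH (hPT hx))),
        by
          rw [show c * x * c⁻¹ * x⁻¹ = c * (x * c⁻¹ * x⁻¹) by group]
          exact C.mul_mem hcC (hCn.conj_mem _ (C.inv_mem hcC) x)⟩
      rw [show g * x * g⁻¹ = (h * (c * x * c⁻¹ * x⁻¹) * h⁻¹) * (h * x * h⁻¹) by rw [hcdef]; group,
        ← hhe ⟨x, hx⟩]
      exact P.mul_mem (hQP (hQn.conj_mem _ h0.1 h)) (β ⟨x, hx⟩).2
    have hψ' : ψ.comp (Subgroup.inclusion hext) ∈ E.Hom P := E.restrict_mem hψ hext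
    have hψr : (ψ.comp (Subgroup.inclusion hext)).range = P := by
      refine Subgroup.eq_of_le_of_card_ge ?_
        (Nat.card_congr (MonoidHom.ofInjective (E.injective_of_mem hψ')).toEquiv).le
      rintro _ ⟨x, rfl⟩
      show ψ _ ∈ P
      rw [hg]
      exact hcP x x.2
    let β' : MulAut P := (E.isoOf hψ' hψr : MulAut P)
    have hβ'E : β' ∈ E.autGroup P := E.isoOf_mem_autGroup hψ' hψr
    have hβ'e : ∀ x : P, ((β' x : P) : G) = g * (x : G) * g⁻¹ := fun x => hg _
    obtain ⟨m, hm1, hmp⟩ := exists_primePart g _ hβo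
    have hn : ∀ n : ℕ, ∀ x : P, (((β' ^ n) x : P) : G) = g ^ n * x * (g ^ n)⁻¹ := by
      intro n
      induction n with
      | zero => simp
      | succ n ih => intro x; rw [pow_succ', MulAut.mul_apply, hβ'e, ih, pow_succ']; group
    have hfhm : f (g ^ m) = f h := by
      have hk : f h ^ orderOf β = 1 := by
        refine MulEquiv.ext fun y => Subtype.ext ?_
        have h1 : ∀ n : ℕ, (((β ^ n) ⟨y, hQP y.2⟩ : P) : G) = (((f h ^ n) y : Q) : G) := by
          intro n
          induction n with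
          | zero => simp
          | succ n ih =>
            rw [pow_succ', MulAut.mul_apply, hhe, ih, pow_succ', MulAut.mul_apply,
              MulAut.conjNormal_apply]
        rw [← h1, pow_orderOf_eq_one]
        rfl
      rw [map_pow, hgQ]
      conv_rhs => rw [← pow_one (f h)]
      exact pow_eq_pow_iff_modEq.mpr (hm1.of_dvd (orderOf_dvd_of_pow_eq_one hk))
    obtain ⟨z, hz, v, hv, e⟩ := key P hQP hPT (g ^ m) h hh hfhm
      (fun x hx => hn m ⟨x, hx⟩ ▸ ((β' ^ m) ⟨x, hx⟩).2) (orderOf (g ^ m)) hmp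
      (by rw [pow_orderOf_eq_one]; exact Subgroup.one_mem _)
    have hzP : z ∈ P := hQP hz.1
    let ζ : MulAut P := MulAut.conj ⟨z, hzP⟩
    have hζ : ζ⁻¹ ∈ E.autGroup P := inv_mem (inn_le_autGroup hPT ⟨⟨z, hzP⟩, rfl⟩)
    have hfin : β = β' ^ m * ζ⁻¹ := by
      refine MulEquiv.ext fun x => Subtype.ext ?_
      rw [MulAut.mul_apply, hn, e, hhe]
      have hζx : (((ζ⁻¹) x : P) : G) = z⁻¹ * x * z := by
        simp [ζ, mul_assoc]
      rw [hζx]
      have hzx : z⁻¹ * (x : G) * z ∈ P := P.mul_mem (P.mul_mem (P.inv_mem hzP) x.2) hzP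
      have hvx := Subgroup.mem_centralizer_iff.mp hv _ hzx
      calc h * (x : G) * h⁻¹ = h * z * ((z⁻¹ * x * z) * v) * v⁻¹ * (h * z)⁻¹ := by group
        _ = h * z * (v * (z⁻¹ * x * z)) * v⁻¹ * (h * z)⁻¹ := by rw [hvx]
        _ = h * z * v * (z⁻¹ * x * z) * (h * z * v)⁻¹ := by group
    rw [hfin]
    exact mul_mem (pow_mem hβ'E m) hζ
  have halp : ∀ E₁ E₂ : FusionSystem T, E₁.IsSaturated p → E₁.IsNormal Q →
      (∀ P : Subgroup G, Q ≤ P → P ≤ T → ∀ β : MulAut P, β ∈ E₁.autGroup P →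
        (orderOf β).Coprime p → β ∈ E₂.autGroup P) → E₁ ≤ E₂ := by
    intro E₁ E₂ h₁ hn₁ hp' 
    refine h₁.le_of_autGroup_le hTp E₂ fun P hP => ?_
    have hfn : E₁.IsFullyNormalized P ∧ Q ≤ P ∧ P ≤ T := by
      rcases hP with rfl | hP
      · exact ⟨isFullyNormalized_self, hQT, le_rfl⟩
      · exact ⟨hP.2.1, hn₁.le_of_centric_radical hTp hP.1 (hP.isRadical hTp h₁), hP.1.1⟩
    obtain ⟨hfn, hQP, hPT⟩ := hfn
    obtain ⟨-, R, hR⟩ := h₁.isFullyAutomized_of_isFullyNormalized hTp hfn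
    have hfin' := finite_autGroup (F := E₁) hPT
    intro α hα
    have h1 : (⟨α, hα⟩ : E₁.autGroup P) ∈ (R : Subgroup (E₁.autGroup P)) ⊔
        pResidual p (E₁.autGroup P) := by
      rw [CfsgLib.Transfer.sylow_sup_pResidual R]; trivial
    have h2 : (R : Subgroup (E₁.autGroup P)) ⊔ pResidual p (E₁.autGroup P) ≤
        (E₂.autGroup P).comap (E₁.autGroup P).subtype := by
      refine sup_le ?_ ((Subgroup.closure_le _).mpr fun y hy => ?_)
      · rw [hR]
        exact fun x hx => autInducedBy_le_autGroup hPT hx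
      · exact hp' P hQP hPT y y.2 (by rw [Subgroup.orderOf_coe]; exact hy)
    exact h2 h1
  refine ⟨H, ⟨hTH, hHn, ?_, fun P => ?_⟩, ?_⟩
  · rw [← isSylowIn_iff hTH, ← hSin]
    exact IsSylowIn.inf_of_normal (B := ⊤)
      ⟨le_top, S.2, by rw [Subgroup.relIndex_top_right]; exact S.not_dvd_index⟩ le_top
      (by rw [Subgroup.normalizer_eq_top_iff.mpr hHn])
  · exact Set.Subset.antisymm (halp E D hEsat hEQ hED P) (halp D E hDsat hDQ hDE P)
  -- uniqueness
  rintro H' ⟨hTH', hH'n, hR', hEH'⟩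
  have hH'S : IsSylowIn p T H' := (isSylowIn_iff hTH').mpr hR'
  have hOH' : O ⊓ H' ≤ Q := by
    haveI : (O ⊓ H').Normal := inferInstance
    intro x hx
    obtain ⟨b, hb, hbx⟩ := hH'S.exists_conj_le (hOp.to_le inf_le_left) (inf_le_right : O ⊓ H' ≤ H')
    have h1 : b⁻¹ * x * b⁻¹⁻¹ ∈ O ⊓ H' := (inferInstance : (O ⊓ H').Normal).conj_mem _ hx b⁻¹
    have h2 := hbx _ h1
    rw [show b * (b⁻¹ * x * b⁻¹⁻¹) * b⁻¹ = x by group] at h2
    exact ⟨h2, hx.1⟩
  have hH'Y : H' ≤ Y := fun x hx => by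
    refine ⟨?_, mem_trivialOn.mpr fun o ho => hOH'
      ⟨O.mul_mem ((inferInstance : O.Normal).conj_mem _ ho x) (O.inv_mem ho), ?_⟩⟩
    · show f x ∈ A
      have h1 : conjHom Q x ∈ E.Hom Q := by
        rw [hEH' Q]
        exact ⟨hQT, fun y => hQT (hQn.conj_mem _ y.2 x), x, hx, fun y => rfl⟩
      exact E.mem_autGroup_of_map h1 fun y => MulAut.conjNormal_apply x y
    · rw [show x * o * x⁻¹ * o⁻¹ = x * (o * x⁻¹ * o⁻¹) by group]
      exact H'.mul_mem hx (hH'n.conj_mem _ (H'.inv_mem hx) o)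
  have hH'onto : ∀ a ∈ A, ∃ h ∈ H', f h = a := by
    intro a ha
    have h1 := (E.mem_autGroup_iff hQT).mp ha
    rw [hEH' Q] at h1
    obtain ⟨-, -, h, hh, he⟩ := h1
    exact ⟨h, hh, MulEquiv.ext fun y => Subtype.ext ((MulAut.conjNormal_apply h y).trans (he y).symm)⟩
  have hHH' : H ≤ H' := by
    haveI := hH'n
    refine Subgroup.normalClosure_le_normal ?_
    rintro y (⟨hyY, hyo⟩ | ⟨g, t, ht, rfl⟩)
    · obtain ⟨h, hh, he⟩ := hH'onto (f y) hyY.1
      set w := h⁻¹ * y with hwdef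
      have hw : w ∈ O := hD0O ⟨(hker _).mp (by rw [hwdef, map_mul, map_inv, he, inv_mul_cancel]),
        X.mul_mem (X.inv_mem (hH'Y hh).2) hyY.2⟩
      show y ∈ H'
      rw [← QuotientGroup.eq_one_iff]
      have h2 : (y : G ⧸ H') = (w : G ⧸ H') := QuotientGroup.eq.mpr (by
        rw [hwdef, show y⁻¹ * (h⁻¹ * y) = y⁻¹ * h⁻¹ * y⁻¹⁻¹ by group]
        exact hH'n.conj_mem _ (H'.inv_mem hh) y⁻¹)
      obtain ⟨a, ha⟩ := hOp ⟨w, hw⟩
      have h3 : orderOf (y : G ⧸ H') ∣ p ^ a := by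
        rw [h2]
        apply orderOf_dvd_of_pow_eq_one
        rw [← QuotientGroup.mk_pow, show w ^ p ^ a = 1 from congrArg Subtype.val ha]
        rfl
      have h4 : orderOf (y : G ⧸ H') ∣ orderOf y := orderOf_map_dvd (QuotientGroup.mk' H') y
      exact orderOf_eq_one_iff.mp (Nat.eq_one_of_dvd_coprimes (Nat.Coprime.pow_right a hyo) h4 h3)
    · exact hH'n.conj_mem _ (hTH' ht) g
  refine le_antisymm (fun x hx => ?_) hHH'
  obtain ⟨h, hh, he⟩ := honto (f x) (hH'Y hx).1
  have h5 : h⁻¹ * x ∈ T := hQT (hOH' ⟨hD0O ⟨(hker _).mp (by rw [map_mul, map_inv, he, inv_mul_cancel]),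
    X.mul_mem (X.inv_mem (hHY.1 hh).2) (hH'Y hx).2⟩, H'.mul_mem (H'.inv_mem (hHH' hh)) hx⟩)
  have := H.mul_mem hh (hTH h5)
  rwa [mul_inv_cancel_left] at this

end CfsgNormalConstrained
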