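import Cfsg.Agent.Lib.Fusion.Generation
import Cfsg.Agent.Lib.Fusion.CenterLocal

/-!
A functor normal in the constrained local groups of a `Qd(p)`-free system is normal in the system.
-/

set_option autoImplicit false
set_option linter.unusedSectionVars false

universe u v

namespace Cfsg.FusionSystem

variable {Ω : Type u} [Group Ω] {S : Subgroup Ω} {F : FusionSystem S} {p : ℕ} {X : Subgroup Ω}
variable [Finite S] [Fact p.Prime]

/-- A normal subgroup of a model inside the Sylow subgroup gives a normal subgroup of the system. -/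
theorem IsModel.isNormal_comap {G : Type v} [Group G] {ι : S →* G} (hG : F.IsModel p G ι) (K : Subgroup G)
    [K.Normal] (hle : K ≤ ι.range) : F.IsNormal ((K.comap ι).map S.subtype) := by
  obtain ⟨hfin, ⟨hinj, hiff⟩, -, -⟩ := hG
  let O : Subgroup Ω := (K.comap ι).map S.subtype
  have hOS : O ≤ S := Subgroup.map_subtype_le _
  have hmem : ∀ (x : Ω) (hx : x ∈ S), x ∈ O ↔ ι ⟨x, hx⟩ ∈ K := fun x hx =>
    ⟨fun ⟨z, hz, he⟩ => by rw [show (⟨x, hx⟩ : S) = z from Subtype.ext he.symm]; exact hz,
      fun h => ⟨⟨x, hx⟩, h, rfl⟩⟩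
  refine ⟨hOS, fun P φ hφ => ?_⟩
  have hPS := F.source_le hφ
  obtain ⟨g, hg⟩ := (hiff P hPS φ (F.apply_mem hφ)).mp hφ
  let j : ↥(P ⊔ O) →* G := (MulAut.conj g).toMonoidHom.comp (ι.comp (Subgroup.inclusion (sup_le hPS hOS)))
  have hj : ∀ x, j x ∈ ι.range := by
    have h : P ⊔ O ≤ (ι.range.comap ((MulAut.conj g).toMonoidHom.comp ι)).map S.subtype := by
      refine sup_le (fun x hx => ⟨⟨x, hPS hx⟩, ⟨_, hg ⟨x, hx⟩⟩, rfl⟩)
        (fun x hx => ⟨⟨x, hOS hx⟩, hle ?_, rfl⟩)
      exact (inferInstance : K.Normal).conj_mem _ ((hmem x (hOS hx)).mp hx) g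
    intro x
    obtain ⟨y, hy, hyx⟩ := h x.2
    show g * ι ⟨x, _⟩ * g⁻¹ ∈ ι.range
    rw [show (⟨(x : Ω), sup_le hPS hOS x.2⟩ : S) = y from Subtype.ext hyx.symm]
    exact hy
  let ψ : ↥(P ⊔ O) →* Ω :=
    S.subtype.comp ((MonoidHom.ofInjective hinj).symm.toMonoidHom.comp (j.codRestrict ι.range hj))
  have hψS : ∀ x, ψ x ∈ S := fun x => SetLike.coe_mem _
  have hψe : ∀ x, ι ⟨ψ x, hψS x⟩ = g * ι ⟨x, sup_le hPS hOS x.2⟩ * g⁻¹ := fun x =>
    congrArg Subtype.val ((MonoidHom.ofInjective hinj).apply_symm_apply (j.codRestrict ι.range hj x))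
  have hψ : ψ ∈ F.Hom (P ⊔ O) := (hiff _ (sup_le hPS hOS) ψ hψS).mpr ⟨g, hψe⟩
  refine ⟨ψ, hψ, fun x => ?_, ?_⟩
  · exact congrArg Subtype.val (hinj ((hψe (Subgroup.inclusion le_sup_left x)).trans (hg x).symm) :
      (⟨_, hψS _⟩ : S) = ⟨φ x, F.apply_mem hφ x⟩)
  · haveI := finite_of_le (sup_le hPS hOS)
    haveI := finite_of_le hOS
    refine Subgroup.eq_of_le_of_card_ge ?_ ?_
    · rintro _ ⟨x, hx, rfl⟩
      refine (hmem _ (hψS x)).mpr ?_
      rw [hψe]
      exact (inferInstance : K.Normal).conj_mem _ ((hmem x _).mp hx) g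
    · rw [Subgroup.card_map_of_injective (F.injective_of_mem hψ),
        Nat.card_congr (Subgroup.subgroupOfEquivOfLe (le_sup_right : O ≤ P ⊔ O)).toEquiv]

/-- Subgroups of `X` invariant under `S` are strongly closed when all maps act on `X` as `S` does. -/
theorem stronglyClosed_of_invariant (hX : F.IsNormal X)
    (hprop : ∀ P, F.Hom P ⊆ (relSystem hX (autInducedBy S X) (autInducedBy_hK hX)).Hom P)
    {A : Subgroup Ω} (hAX : A ≤ X) (hA : S ≤ Subgroup.normalizer (A : Set Ω)) : F.StronglyClosed A := by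
  refine ⟨hAX.trans hX.1, fun P hP φ hφ y => ?_⟩
  obtain ⟨-, ψ, -, hψe, k, hk, hke⟩ := hprop P hφ
  obtain ⟨s, hs, -, hse⟩ := mem_autInducedBy_iff.mp hk
  have h1 : φ y = s * (y : Ω) * s⁻¹ := by
    rw [← hψe y]
    exact (hke ⟨y, hAX (hP y.2)⟩).trans (hse _)
  rw [h1]
  exact (Subgroup.mem_normalizer_iff.mp (hA hs) _).mp (hP y.2)

/-- The upper central series inside a subgroup. -/
def centralLayer (Q : Subgroup Ω) (k : ℕ) : Subgroup Ω := (Subgroup.upperCentralSeries Q k).map Q.subtype

theorem centralLayer_commutator {Q : Subgroup Ω} {k : ℕ} {q y : Ω} (hq : q ∈ Q) (hy : y ∈ centralLayer Q (k + 1)) :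
    q * y * q⁻¹ * y⁻¹ ∈ centralLayer Q k := by
  obtain ⟨y, hy, rfl⟩ := hy
  refine ⟨(⟨q, hq⟩ : Q) * y * (⟨q, hq⟩ : Q)⁻¹ * y⁻¹, ?_, rfl⟩
  have := (Subgroup.mem_upperCentralSeries_succ_iff.mp hy) ⟨q, hq⟩
  have h2 := (Subgroup.upperCentralSeries Q k).inv_mem this
  rwa [commutatorElement_inv] at h2

theorem centralLayer_le_normalizer {Q : Subgroup Ω} {k : ℕ} :
    Q ≤ Subgroup.normalizer (centralLayer Q k : Set Ω) := by
  have hc : ∀ g ∈ Q, ∀ w ∈ centralLayer Q k, g * w * g⁻¹ ∈ centralLayer Q k := by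
    rintro g hg _ ⟨w, hw, rfl⟩
    exact ⟨_, (inferInstance : (Subgroup.upperCentralSeries Q k).Normal).conj_mem w hw ⟨g, hg⟩, rfl⟩
  intro g hg
  refine Subgroup.mem_normalizer_iff.mpr fun w => ⟨hc g hg w, fun hw => ?_⟩
  have := hc g⁻¹ (Q.inv_mem hg) _ hw
  simpa [mul_assoc] using this

/-- The preimage of a normal subgroup of the quotient is normal when all maps act on the kernel as `S`. -/
theorem IsSaturated.isNormal_preimage (hF : F.IsSaturated p) (hS : IsPGroup p S) (hX : F.IsNormal X)
    (hprop : ∀ P, F.Hom P ⊆ (relSystem hX (autInducedBy S X) (autInducedBy_hK hX)).Hom P)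
    {Ω' : Type u} [Group Ω'] {θ : S →* Ω'} {E : FusionSystem θ.range}
    (hker : ∀ s : S, θ s = 1 ↔ (s : Ω) ∈ X)
    (hEm : ∀ P' φ', φ' ∈ E.Hom P' ↔ P' ≤ θ.range ∧ ∃ φ ∈ F.Hom (preimageAlong θ P'), InducedAlong θ φ φ')
    {V : Subgroup Ω'} (hV : E.IsNormal V) : F.IsNormal (preimageAlong θ V) := by
  haveI : Finite θ.range := Finite.of_surjective θ.rangeRestrict θ.rangeRestrict_surjective
  haveI : Group.IsNilpotent S := hS.isNilpotent
  obtain ⟨c, hc⟩ := Group.IsNilpotent.nilpotent (G := S)
  haveI : Finite V := finite_of_le hV.1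
  haveI : Group.IsNilpotent V :=
    ((hS.of_surjective θ.rangeRestrict θ.rangeRestrict_surjective).to_le hV.1).isNilpotent
  obtain ⟨d, hd⟩ := Group.IsNilpotent.nilpotent (G := V)
  let f : ℕ → Subgroup Ω := fun i =>
    if i ≤ c then X ⊓ centralLayer S i else preimageAlong θ (centralLayer V (i - c))
  have hScl : centralLayer S c = S := by
    simp [centralLayer, hc, ← MonoidHom.range_eq_map]
  have hfc : ∀ i, c ≤ i → f i = preimageAlong θ (centralLayer V (i - c)) := by
    intro i hi
    rcases hi.eq_or_lt with rfl | hlt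
    · show (if c ≤ c then _ else _) = _
      rw [if_pos le_rfl, hScl, inf_eq_left.mpr hX.1, Nat.sub_self]
      ext y
      constructor
      · intro hy
        refine mem_preimageAlong.mpr ⟨hX.1 hy, ?_⟩
        rw [(hker _).mpr hy]
        exact Subgroup.one_mem _
      · intro hy
        obtain ⟨hyS, h1⟩ := mem_preimageAlong.mp hy
        have h2 : centralLayer V 0 = ⊥ := by simp [centralLayer]
        rw [h2, Subgroup.mem_bot] at h1
        exact (hker _).mp h1
    · exact if_neg (not_le.mpr hlt)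
  have hXf : ∀ i, c ≤ i → X ≤ f i := by
    intro i hi y hy
    rw [hfc i hi]
    refine mem_preimageAlong.mpr ⟨hX.1 hy, ?_⟩
    rw [(hker _).mpr hy]
    exact Subgroup.one_mem _
  have hmonoP : ∀ {A B : Subgroup Ω'}, A ≤ B → preimageAlong θ A ≤ preimageAlong θ B := by
    intro A B hAB x hx
    obtain ⟨hxS, h1⟩ := mem_preimageAlong.mp hx
    exact mem_preimageAlong.mpr ⟨hxS, hAB h1⟩
  have hVle : ∀ k, centralLayer V k ≤ V := fun k => Subgroup.map_subtype_le _
  have hsc : ∀ i, F.StronglyClosed (f i) := by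
    intro i
    by_cases hi : i ≤ c
    · rw [show f i = X ⊓ centralLayer S i from if_pos hi]
      refine stronglyClosed_of_invariant hX hprop inf_le_left fun s hs => ?_
      refine Subgroup.mem_normalizer_iff.mpr fun y => ?_
      exact and_congr (Subgroup.mem_normalizer_iff.mp (hX.le_normalizer hs) y)
        (Subgroup.mem_normalizer_iff.mp (centralLayer_le_normalizer hs) y)
    · rw [hfc i (le_of_not_ge hi)]
      set A := centralLayer V (i - c) with hAdef
      have hA : E.StronglyClosed A := by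
        refine (hV.of_characteristic (hVle _) ?_).stronglyClosed
        show ((centralLayer V (i - c)).subgroupOf V).Characteristic
        simp only [centralLayer, Subgroup.subgroupOf]
        rw [Subgroup.comap_map_eq_self_of_injective V.subtype_injective]
        infer_instance
      refine ⟨preimageAlong_le, fun P hP φ hφ y => ?_⟩
      obtain ⟨ψ, hψ, hψe, -⟩ := hX.2 P φ hφ
      obtain ⟨ψ', hψ'⟩ := exists_inducedAlong hker hX.stronglyClosed hψ
      have hle : preimageAlong θ (imageAlong θ (P ⊔ X)) ≤ P ⊔ X := by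
        intro x hx
        obtain ⟨hxS, z, hz, hze⟩ := mem_preimageAlong.mp hx
        have h1 : (z : Ω)⁻¹ * x ∈ X :=
          (hker (z⁻¹ * ⟨x, hxS⟩)).mp (by rw [map_mul, map_inv, hze, inv_mul_cancel])
        have := (P ⊔ X).mul_mem hz (Subgroup.mem_sup_right h1)
        simpa using this
      have hψ'E : ψ' ∈ E.Hom (imageAlong θ (P ⊔ X)) := by
        refine (hEm _ _).mpr ⟨by rintro _ ⟨s, -, rfl⟩; exact ⟨s, rfl⟩, ?_⟩
        obtain ⟨h1, h2, h3, h4⟩ := hψ'
        exact ⟨_, F.restrict_mem hψ hle, preimageAlong_le, F.apply_mem (F.restrict_mem hψ hle),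
          fun x => (mem_preimageAlong.mp x.2).2, fun x => h4 ⟨x, hle x.2⟩⟩
      have hXA : X ≤ preimageAlong θ A := fun z hz => mem_preimageAlong.mpr ⟨hX.1 hz, by
        rw [(hker _).mpr hz]; exact Subgroup.one_mem _⟩
      have himg : imageAlong θ (P ⊔ X) ≤ A := by
        rintro _ ⟨s, hs, rfl⟩
        obtain ⟨hsS, h1⟩ := mem_preimageAlong.mp (sup_le hP hXA hs)
        exact h1
      have hyI : θ ⟨(y : Ω), F.source_le hψ (Subgroup.mem_sup_left y.2)⟩ ∈ imageAlong θ (P ⊔ X) :=
        ⟨_, Subgroup.mem_sup_left y.2, rfl⟩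
      have h1 := hA.2 _ himg ψ' hψ'E ⟨_, hyI⟩
      rw [inducedAlong_apply_mem hψ hψ' ⟨y, Subgroup.mem_sup_left y.2⟩ hyI] at h1
      refine mem_preimageAlong.mpr ⟨F.apply_mem hφ y, ?_⟩
      rwa [show (⟨φ y, F.apply_mem hφ y⟩ : S) = ⟨ψ ⟨(y : Ω), Subgroup.mem_sup_left y.2⟩, F.apply_mem hψ _⟩ from
        Subtype.ext (hψe y).symm]
  have hmono : Monotone f := by
    refine monotone_nat_of_le_succ fun i => ?_
    by_cases hi : i + 1 ≤ c
    · rw [show f i = X ⊓ centralLayer S i from if_pos (by omega),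
        show f (i + 1) = X ⊓ centralLayer S (i + 1) from if_pos hi]
      exact inf_le_inf_left _ (Subgroup.map_mono (Subgroup.upperCentralSeries_mono S (Nat.le_succ i)))
    · by_cases hi' : i ≤ c
      · rw [show f i = X ⊓ centralLayer S i from if_pos hi']
        exact inf_le_left.trans (hXf _ (by omega))
      · rw [hfc i (by omega), hfc (i + 1) (by omega)]
        exact hmonoP (Subgroup.map_mono (Subgroup.upperCentralSeries_mono V (by omega)))
  refine hF.isNormal_of_series hS (n := c + d) (fun i => f i) ?_ ?_ (fun i j h => hmono h) fun i => ⟨hsc _, ?_⟩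
  · show (if (0 : ℕ) ≤ c then X ⊓ centralLayer S 0 else _) = (⊥ : Subgroup Ω)
    rw [if_pos (Nat.zero_le c)]
    simp [centralLayer]
  · show f (c + d) = _
    rw [hfc _ (Nat.le_add_right c d), Nat.add_sub_cancel_left]
    congr 1
    simp [centralLayer, hd, ← MonoidHom.range_eq_map]
  · rw [Subgroup.commutator_le]
    intro q hq y hy
    obtain ⟨hqS, hqV⟩ := mem_preimageAlong.mp hq
    show q * y * q⁻¹ * y⁻¹ ∈ f i
    change y ∈ f (i + 1) at hy
    by_cases hi : (i : ℕ) + 1 ≤ c
    · rw [show f (i + 1) = X ⊓ centralLayer S (i + 1) from if_pos hi] at hy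
      rw [show f i = X ⊓ centralLayer S i from if_pos (by omega)]
      exact ⟨X.mul_mem ((Subgroup.mem_normalizer_iff.mp (hX.le_normalizer hqS) _).mp hy.1) (X.inv_mem hy.1),
        centralLayer_commutator hqS hy.2⟩
    · rw [hfc _ (by omega), show (i : ℕ) + 1 - c = i - c + 1 by omega] at hy
      rw [hfc _ (by omega)]
      obtain ⟨hyS, hyV⟩ := mem_preimageAlong.mp hy
      refine mem_preimageAlong.mpr ⟨S.mul_mem (S.mul_mem (S.mul_mem hqS hyS) (S.inv_mem hqS)) (S.inv_mem hyS), ?_⟩
      have := centralLayer_commutator hqV hyV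
      rw [← map_inv, ← map_inv, ← map_mul, ← map_mul, ← map_mul] at this
      exact this

/-- Each map of a system in which `Q` is normal lies in the maps normalising `Q`. -/
theorem mem_normalizerHom_of_isNormal {T Q : Subgroup Ω} {E : FusionSystem T} (hT : T ≤ S)
    (hEF : E.IsSubsystemOf F) (hQ : E.IsNormal Q) {P : Subgroup Ω} {φ : P →* Ω} (hφ : φ ∈ E.Hom P) :
    φ ∈ F.normalizerHom Q P := by
  obtain ⟨ψ, hψ, hψe, hψQ⟩ := hQ.2 P φ hφ
  exact ⟨hEF P hφ, (E.source_le hφ).trans (le_inf hT hQ.le_normalizer),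
    fun y => ⟨hT (E.apply_mem hφ y), hQ.le_normalizer (E.apply_mem hφ y)⟩, ψ, hEF _ hψ, hψe, hψQ⟩

/-- A functor which is normal in the free local groups is normal in the system. -/
theorem isNormal_functorOn_aux (p : ℕ) [Fact p.Prime]
    (W : ∀ (Q : Type u) [Group Q], Subgroup Q)
    (hW1 : ∀ (Q : Type u) [Group Q] [Finite Q], IsPGroup p Q → Nontrivial Q → W Q ≠ ⊥)
    (hW2 : ∀ (Q R : Type u) [Group Q] [Group R] [Finite Q], IsPGroup p Q → ∀ φ : Q ≃* R,
      (W Q).map φ.toMonoidHom = W R)
    (hW3 : ∀ (L : Type u) [Group L] [Finite L] (P : Sylow p L),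
      Subgroup.centralizer (pCore p L : Set L) ≤ pCore p L →
      ¬ Involves ↥(qd p) L → (functorOn W (P : Subgroup L)).Normal) :
    ∀ N m : ℕ, ∀ {Ω : Type u} [Group Ω] {S : Subgroup Ω} [Finite S] (F : FusionSystem S),
      Nat.card S = N → F.count = m → F.IsSaturated p → IsPGroup p S → ¬ F.QdWitness p →
      F.IsNormal (functorOn W S) := by
  intro N
  induction N using Nat.strong_induction_on with
  | h N ihn =>
    intro m
    induction m using Nat.strong_induction_on with
    | h m ihm =>
      intro Ω _ S _ F hN hm hF hS hfree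
      have hWS : functorOn W S ≤ S := Subgroup.map_subtype_le _
      have hWN : S ≤ Subgroup.normalizer (functorOn W S : Set Ω) :=
        Subgroup.le_normalizer.trans (normalizer_le_normalizer_functorOn W hW2 hS)
      by_cases hc : F.IsCentric F.core
      · have hcon : F.IsConstrained p := ⟨hF, F.core, isNormal_core F, hc⟩
        obtain ⟨L, _, ι, hL⟩ := (hcon.setup_core hS).exists_isModel
        haveI := hL.1
        obtain ⟨T, hT⟩ := hL.2.2.1
        have hinj := hL.2.1.1
        have hn := hW3 L T hL.2.2.2 fun hi => hfree (QdWitness.of_involves hL.2.1 hT hi)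
        have hWT : functorOn W (T : Subgroup L) = ((functorOn W S).subgroupOf S).map ι := by
          suffices ∀ R : Subgroup L, R = ι.range → functorOn W R = ((functorOn W S).subgroupOf S).map ι from
            this _ hT
          rintro R rfl
          have h1 := hW2 S ι.range hS (MonoidHom.ofInjective hinj)
          have h2 : (functorOn W S).subgroupOf S = W S := by
            rw [functorOn, Subgroup.subgroupOf, Subgroup.comap_map_eq_self_of_injective S.subtype_injective]
          rw [h2, functorOn, ← h1, Subgroup.map_map]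
          rfl
        rw [hWT] at hn
        haveI := hn
        have h := hL.isNormal_comap (((functorOn W S).subgroupOf S).map ι) (Subgroup.map_le_range ι _)
        rwa [Subgroup.comap_map_eq_self_of_injective hinj, Subgroup.subgroupOf_map_subtype,
          inf_eq_left.mpr hWS] at h
      obtain ⟨D, hD⟩ : ∃ D : FusionSystem S, ∀ P, D.Hom P = F.normalizerHom (functorOn W S) P := by
        obtain ⟨E, hE⟩ : ∃ E : FusionSystem (normalizerIn S (functorOn W S)),
            F.IsNormalizerSystem (functorOn W S) E := ⟨_, F.normalizerSystem_isNormalizerSystem _ hWS⟩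
        suffices ∀ T : Subgroup Ω, T = S → ∀ E' : FusionSystem T,
            (∀ P, E'.Hom P = F.normalizerHom (functorOn W S) P) →
            ∃ D : FusionSystem S, ∀ P, D.Hom P = F.normalizerHom (functorOn W S) P from
          this _ (normalizerIn_eq_of_le_normalizer hWN) E hE
        rintro T rfl E' hE'
        exact ⟨E', hE'⟩
      suffices hle : F ≤ D by
        refine ⟨hWS, fun P φ hφ => ?_⟩
        have := hle P hφ
        rw [hD] at this
        exact this.2.2.2
      have hsub : ∀ T : Subgroup Ω, T = S → ∀ E : FusionSystem T, E.IsSaturated p → E.IsSubsystemOf F →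
          ¬ (∀ P, F.Hom P ⊆ E.Hom P) → ∀ P, E.Hom P ⊆ D.Hom P := by
        rintro T rfl E hE hEF hne P φ hφ
        rw [hD]
        exact mem_normalizerHom_of_isNormal le_rfl hEF
          (ihm _ (hm ▸ count_lt hEF hne) E hN rfl hE hS fun h => hfree (h.mono hEF)) hφ
      have hX := isNormal_core F
      by_cases hb : F.core = ⊥
      · refine hF.le_of_climb W hW1 hW2 hS ?_ fun U hU hUb hrec => ?_
        · intro φ hφ
          rw [hD]
          exact ⟨hφ, le_inf le_rfl hWN, fun y => ⟨F.apply_mem hφ y, hWN (F.apply_mem hφ y)⟩,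
            φ.comp (Subgroup.inclusion (sup_le le_rfl hWS)), F.restrict_mem hφ _, fun y => rfl, by
              rw [← Subgroup.map_map]
              refine Eq.trans ?_ (map_functorOn W hW2 hS hφ)
              congr 1
              rw [show (functorOn W S).subgroupOf (S ⊔ functorOn W S) =
                ((functorOn W S).subgroupOf S).comap (Subgroup.inclusion (sup_le le_rfl hWS)) from rfl,
                Subgroup.map_comap_eq_self_of_surjective]
              intro y
              exact ⟨⟨y, Subgroup.mem_sup_left y.2⟩, Subtype.ext rfl⟩⟩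
        have hUn : ¬ F.IsNormal U := fun h => hUb (le_bot_iff.mp (hb ▸ h.le_core))
        have hNE := F.normalizerSystem_isNormalizerSystem U hU.1
        have hEsat := hF.isSaturated_normalizerSystem hS hU hNE
        refine hNE.normalizerLe ?_
        haveI : Finite (normalizerIn S U) := finite_normalizerIn
        by_cases hTe : normalizerIn S U = S
        · exact hsub _ hTe _ hEsat hNE.subsystem (hNE.proper hU.1 hUn)
        have hTS : normalizerIn S U ≤ S := normalizerIn_le
        have hTp := hS.to_le hTS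
        have hfree' : ¬ (F.normalizerSystem U hU.1).QdWitness p := fun h => hfree (h.mono hNE.subsystem)
        have hV : (F.normalizerSystem U hU.1).IsNormal (functorOn W (normalizerIn S U)) := by
          rcases count_lt_of_lt hNE.subsystem (hNE.proper hU.1 hUn) hTS with h | ⟨h, h'⟩
          · exact ihn _ (hN ▸ h) _ _ rfl rfl hEsat hTp hfree'
          · exact ihm _ (hm ▸ h') _ (h.trans hN) rfl hEsat hTp hfree'
        intro P φ hφ
        obtain ⟨ψ, hψ, hψe, hψV⟩ := hV.2 P φ hφ
        have hψD : ψ ∈ D.Hom _ := hrec hTe _ ψ (hNE.subsystem _ hψ) le_sup_right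
          ((F.normalizerSystem U hU.1).source_le hψ |>.trans (le_inf hTS hV.le_normalizer)) hψV
        exact D.mem_of_apply_eq (D.restrict_mem hψD le_sup_left) fun y => (hψe y).symm
      set X := F.core with hXdef
      have hXs := hX.stronglyClosed
      set U := X ⊔ centralizerIn S X with hUdef
      have hUs : F.StronglyClosed U := hXs.sup_centralizerIn hF hS
      have hUn : ¬ F.IsNormal U := fun h => hc (by
        refine isCentric_of_le ?_ h.le_core hX.1
        refine ⟨hUs.1, fun R hR => ?_⟩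
        obtain ⟨φ, hφ, rfl⟩ := hR
        rw [hUs.weaklyClosed.2 φ hφ]
        exact fun y hy => Subgroup.mem_sup_right ⟨hy.1, Subgroup.centralizer_le (SetLike.coe_subset_coe.mpr (le_sup_left : X ≤ U)) hy.2⟩)
      have hUE := F.normalizerSystem_isNormalizerSystem U hUs.1
      by_cases hprop : ¬ ∀ P, F.Hom P ⊆ (relSystem hX (autInducedBy S X) (autInducedBy_hK hX)).Hom P
      · refine hF.le_of_noncentric_core hS hX ?_ (hsub S rfl _ (hF.relSystem_isSaturated hS hX) (relSystem_le hX _ _) hprop)
        exact hUE.normalizerLe (hsub _ (normalizerIn_eq_of_le_normalizer hUs.le_normalizer) _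
          (hF.isSaturated_normalizerSystem hS (isFullyNormalized_of_le_normalizer hUs.1 hUs.le_normalizer) hUE)
          hUE.subsystem (hUE.proper hUs.1 hUn))
      rw [not_not] at hprop
      exfalso
      obtain ⟨Ω', _, θ, E, hE, hker, hEm⟩ := hF.exists_factor hS hX
      haveI : Finite θ.range := Finite.of_surjective θ.rangeRestrict θ.rangeRestrict_surjective
      have hpr : IsPGroup p θ.range := hS.of_surjective θ.rangeRestrict θ.rangeRestrict_surjective
      have hlt : Nat.card θ.range < N := by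
        obtain ⟨z, hz, hz1⟩ := (Subgroup.bot_or_exists_ne_one X).resolve_left hb
        letI : Fintype S := Fintype.ofFinite _
        letI : Fintype θ.range := Fintype.ofFinite _
        rw [← hN]
        simp only [Nat.card_eq_fintype_card]
        refine Fintype.card_lt_of_surjective_not_injective θ.rangeRestrict θ.rangeRestrict_surjective fun hinj => hz1 ?_
        have h1 : θ.rangeRestrict ⟨z, hX.1 hz⟩ = θ.rangeRestrict 1 := by
          apply Subtype.ext
          show θ ⟨z, hX.1 hz⟩ = θ 1
          rw [(hker _).mpr hz, map_one]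
        exact congrArg Subtype.val (hinj h1)
      have hrne : θ.range ≠ ⊥ := fun hbot => hc (by
        have hXS : X = S := le_antisymm hX.1 fun y hy => (hker ⟨y, hy⟩).mp (by
          have : θ ⟨y, hy⟩ ∈ θ.range := ⟨_, rfl⟩
          rwa [hbot, Subgroup.mem_bot] at this)
        rw [hXS]; exact isCentric_self)
      have hV := ihn _ hlt _ E rfl rfl hE hpr fun h => hfree (QdWitness.of_factor hker hEm h)
      refine functorOn_ne_bot W hW1 hpr hrne ((Subgroup.eq_bot_iff_forall _).mpr fun v hv => ?_)
      obtain ⟨s, rfl⟩ := hV.1 hv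
      exact (hker s).mpr ((hF.isNormal_preimage hS hX hprop hker hEm hV).le_core
        (mem_preimageAlong.mpr ⟨s.2, hv⟩))

end Cfsg.FusionSystem
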