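import Cfsg.Agent.Lib.Fusion.Normal

/-!
Subsystems omitting the conjugacy class of an essential subgroup, or the outer automorphisms of `S`.
-/

set_option autoImplicit false

namespace Cfsg

namespace FusionSystem

variable {Ω : Type*} [Group Ω] {S : Subgroup Ω} {F : FusionSystem S} {P Q R : Subgroup Ω}
  {p : ℕ}

/-- An isomorphism onto `Q` that extends to the normalisers. -/
def IsGoodIso (F : FusionSystem S) (θ : P →* Ω) (Q : Subgroup Ω) : Prop :=
  θ ∈ F.Hom P ∧ θ.range = Q ∧ ∃ Θ ∈ F.Hom (normalizerIn S P), (∀ x, Θ x ∈ normalizerIn S Q) ∧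
    ∀ (x : P) (hN : (x : Ω) ∈ normalizerIn S P), Θ ⟨x, hN⟩ = θ x

theorem IsSaturated.exists_isGoodIso [Fact p.Prime] [Finite S] (hF : F.IsSaturated p)
    (hS : IsPGroup p S) (hn : F.IsFullyNormalized Q) (h : F.IsConj P Q) :
    ∃ θ : P →* Ω, F.IsGoodIso θ Q := by
  obtain ⟨θ, hθ, hr, Θ, hΘ, hN, he⟩ := hF.exists_map_to_fullyNormalized hS hn h
  exact ⟨θ, hθ, hr, Θ, hΘ, hN, he⟩

/-- A map with a larger source, read through good isomorphisms onto `Q`, is extendable. -/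
theorem mem_extendableAut_of_lt [Fact p.Prime] [Finite S] (hS : IsPGroup p S) {X : Subgroup Ω}
    {ψ : X →* Ω} (hψ : ψ ∈ F.Hom X) (hPX : P < X) (hR : (ψ.comp (Subgroup.inclusion hPX.le)).range = R)
    {θ₁ : P →* Ω} (h₁ : F.IsGoodIso θ₁ Q) {θ₂ : R →* Ω} (h₂ : F.IsGoodIso θ₂ Q)
    {α : MulAut Q} (hα : ∀ (x : P) (h : θ₁ x ∈ Q) (h' : ψ ⟨x, hPX.le x.2⟩ ∈ R),
      ((α ⟨θ₁ x, h⟩ : Q) : Ω) = θ₂ ⟨ψ ⟨x, hPX.le x.2⟩, h'⟩) :
    α ∈ extendableAut F Q := by
  obtain ⟨hθ₁, hr₁, Θ₁, hΘ₁, hN₁, he₁⟩ := h₁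
  obtain ⟨hθ₂, hr₂, Θ₂, hΘ₂, hN₂, he₂⟩ := h₂
  have hXS : X ≤ S := F.source_le hψ
  have hPS : P ≤ S := hPX.le.trans hXS
  let M : Subgroup Ω := normalizerIn X P
  have hMS : M ≤ normalizerIn S P := fun g hg => ⟨hXS hg.1, hg.2⟩
  have hPM : P ≤ M := fun g hg => ⟨hPX.le hg, Subgroup.le_normalizer hg⟩
  have hMX : M ≤ X := fun g hg => hg.1
  have hψP : ∀ x : P, ψ ⟨x, hPX.le x.2⟩ ∈ R := fun x => hR.le ⟨x, rfl⟩
  have hψM : ∀ g : M, ψ (Subgroup.inclusion hMX g) ∈ normalizerIn S R := fun g =>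
    ⟨F.apply_mem hψ _, apply_mem_normalizer (φ := ψ.comp (Subgroup.inclusion hPX.le)) hPX.le
      (fun _ => rfl) hR (Subgroup.inclusion hMX g) g.2.2⟩
  obtain ⟨a, ha, hae⟩ := F.exists_comp (F.restrict_mem hψ hMX) hΘ₂ hψM
  have hΘM := F.restrict_mem hΘ₁ hMS
  obtain ⟨b, hb, hbr, hbl, -⟩ := F.exists_inv hΘM rfl
  obtain ⟨c, hc, hce⟩ := F.exists_comp hb ha (fun y => hbr.le ⟨y, rfl⟩)
  have hQY : Q ≤ (Θ₁.comp (Subgroup.inclusion hMS)).range := by
    intro y hy
    obtain ⟨x, rfl⟩ := hr₁.ge hy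
    exact ⟨⟨x, hPM x.2⟩, he₁ x _⟩
  have hlt : Q < (Θ₁.comp (Subgroup.inclusion hMS)).range := by
    have : Finite X := finite_of_le hXS
    refine lt_of_le_of_ne hQY fun e => ?_
    obtain ⟨g, hg, hgP⟩ := SetLike.exists_of_lt (lt_normalizerIn (p := p) (hS.to_le hXS) hPX)
    have h1 : Θ₁ (Subgroup.inclusion hMS ⟨g, hg⟩) ∈ Q := e.ge ⟨⟨g, hg⟩, rfl⟩
    obtain ⟨x, hx⟩ := hr₁.ge h1
    have h2 : Θ₁ ⟨x, hMS (hPM x.2)⟩ = Θ₁ (Subgroup.inclusion hMS ⟨g, hg⟩) := (he₁ x _).trans hx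
    have h3 : (x : Ω) = g := congrArg Subtype.val (F.injective_of_mem hΘ₁ h2)
    exact hgP (h3 ▸ x.2)
  refine Subgroup.subset_closure ⟨_, hlt, c, hc, fun y => ?_⟩
  obtain ⟨x, hx⟩ := hr₁.ge y.2
  have hy : θ₁ x ∈ Q := hx ▸ y.2
  rw [show y = ⟨θ₁ x, hy⟩ from Subtype.ext hx.symm, hα x hy (hψP x)]
  rw [hce, hae]
  have h3 : b ⟨θ₁ x, hQY hy⟩ = x := by
    have h4 := hbl ⟨x, hPM x.2⟩ ⟨_, rfl⟩
    refine Eq.trans ?_ h4
    congr 1
    exact Subtype.ext (he₁ x _).symm
  refine Eq.trans ?_ (he₂ ⟨_, hψP x⟩ ⟨F.apply_mem hψ _, Subgroup.le_normalizer (hψP x)⟩)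
  congr 1
  apply Subtype.ext
  show ψ _ = ψ _
  congr 1
  exact Subtype.ext h3

/-- A subsystem containing all automisers except on the class of an essential subgroup, and proper. -/
theorem IsEssential.exists_omit [Fact p.Prime] [Finite S] (hS : IsPGroup p S) (hF : F.IsSaturated p)
    (hQ : F.IsEssential p Q) :
    ∃ E : FusionSystem S, (∀ R : Subgroup Ω, R ≤ S → ¬ F.IsConj Q R → F.autGroup R ≤ E.autGroup R) ∧
      ¬ F ≤ E := by
  classical
  have hQS := hQ.lt hS hF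
  have hfin := finite_autGroup (F := F) hQS.le
  choose θ hθ using fun (R : Subgroup Ω) (h : F.IsConj Q R) => hF.exists_isGoodIso hS hQ.2.1 h.symm
  let iso : ∀ (R : Subgroup Ω) (h : F.IsConj Q R), R ≃* Q := fun R h => F.isoOf (hθ R h).1 (hθ R h).2.1
  have hiso : ∀ (R : Subgroup Ω) (h : F.IsConj Q R) (x : R), ((iso R h x : Q) : Ω) = θ R h x :=
    fun R h x => rfl
  -- the automorphism of `Q` attached to a map between conjugates
  let cls : ∀ {P : Subgroup Ω} {φ : P →* Ω} (hφ : φ ∈ F.Hom P) (h : F.IsConj Q P), MulAut Q :=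
    fun {P φ} hφ h => ((iso P h).symm.trans (F.isoOf hφ rfl)).trans (iso φ.range (h.trans ⟨φ, hφ, rfl⟩))
  have hlt : ∀ {P : Subgroup Ω} {φ : P →* Ω} {X : Subgroup Ω} {ψ : X →* Ω} (hφ : φ ∈ F.Hom P)
      (h : F.IsConj Q P) (_ : ψ ∈ F.Hom X) (hPX : P < X), (∀ x : P, ψ ⟨x, hPX.le x.2⟩ = φ x) →
      cls hφ h ∈ extendableAut F Q := by
    intro P φ X ψ hφ h hψ hPX he
    have hR : (ψ.comp (Subgroup.inclusion hPX.le)).range = φ.range := by
      congr 1
      exact MonoidHom.ext he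
    refine mem_extendableAut_of_lt hS hψ hPX hR (hθ P h) (hθ φ.range (h.trans ⟨φ, hφ, rfl⟩))
      fun x hx hx' => ?_
    show ((iso φ.range _ (F.isoOf hφ rfl ((iso P h).symm ⟨θ P h x, hx⟩)) : Q) : Ω) = _
    rw [show (⟨θ P h x, hx⟩ : Q) = iso P h x from Subtype.ext rfl, MulEquiv.symm_apply_apply, hiso]
    congr 1
    exact Subtype.ext (he x).symm
  let E : FusionSystem S :=
    { Hom := fun P => {φ | ∃ hφ : φ ∈ F.Hom P, ∀ h : F.IsConj Q P, cls hφ h ∈ extendableAut F Q}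
      le_of_mem := fun h => F.le_of_mem h.1
      injective_of_mem := fun h => F.injective_of_mem h.1
      conj_mem := by
        intro P g hP hg
        refine ⟨F.conj_mem hP hg, fun h => hlt _ h (F.conj_mem le_rfl hg)
          (lt_of_le_of_ne hP fun e => (card_lt_of_lt hQS).ne ?_) fun x => rfl⟩
        rw [h.card_eq, e]
      comp_mem := by
        rintro P R φ ψ ⟨hφ, hφc⟩ ⟨hψ, hψc⟩ hh
        refine ⟨F.comp_mem hφ hψ hh, fun h => ?_⟩
        have hle : φ.range ≤ R := by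
          rintro _ ⟨x, rfl⟩
          exact hh x
        have hh₁ : F.IsConj Q φ.range := h.trans ⟨φ, hφ, rfl⟩
        have hres := F.restrict_mem hψ hle
        have h2 : cls hres hh₁ ∈ extendableAut F Q := by
          rcases eq_or_lt_of_le hle with e | e
          · subst e
            exact hψc hh₁
          · exact hlt hres hh₁ hψ e fun x => rfl
        have hrange : (ψ.comp (φ.codRestrict R hh)).range = (ψ.comp (Subgroup.inclusion hle)).range := by
          ext y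
          exact ⟨fun ⟨x, hx⟩ => ⟨⟨φ x, x, rfl⟩, hx⟩,
            fun ⟨⟨_, x, rfl⟩, hx⟩ => ⟨x, hx⟩⟩
        have hiso' : ∀ {A B : Subgroup Ω} (e : A = B) (hA : F.IsConj Q A) (hB : F.IsConj Q B)
            (a : A) (b : B), (a : Ω) = b → iso A hA a = iso B hB b := by
          intro A B e hA hB a b hab
          subst e
          rw [Subtype.ext hab]
        have e2 : cls (F.comp_mem hφ hψ hh) h = cls hres hh₁ * cls hφ (h) := by
          refine MulEquiv.ext fun y => ?_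
          show iso _ _ _ = iso _ _ (F.isoOf hres rfl ((iso φ.range hh₁).symm (iso φ.range hh₁ _)))
          rw [MulEquiv.symm_apply_apply]
          exact hiso' hrange _ _ _ _ rfl
        rw [e2]
        exact (extendableAut F Q).mul_mem h2 (hφc h)
      inv_mem := by
        rintro P φ ⟨hφ, hφc⟩
        obtain ⟨i, hi, hir, hil, -⟩ := F.exists_inv hφ rfl
        refine ⟨i, ⟨hi, fun h => ?_⟩, fun x => hil x _⟩
        have hP : F.IsConj Q P := h.trans ⟨i, hi, hir⟩
        have hiso' : ∀ {A B : Subgroup Ω} (e : A = B) (hA : F.IsConj Q A) (hB : F.IsConj Q B)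
            (a : A) (b : B), (a : Ω) = b → iso A hA a = iso B hB b := by
          intro A B e hA hB a b hab
          subst e
          rw [Subtype.ext hab]
        have e2 : cls hi h * cls hφ hP = 1 := by
          refine MulEquiv.ext fun y => ?_
          show iso i.range _ (F.isoOf hi rfl ((iso φ.range h).symm (iso φ.range h _))) = y
          rw [MulEquiv.symm_apply_apply]
          refine Eq.trans (hiso' hir _ hP _ ((iso P hP).symm y) ?_) (MulEquiv.apply_symm_apply _ _)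
          exact hil _ _
        rw [eq_inv_of_mul_eq_one_left e2]
        exact (extendableAut F Q).inv_mem (hφc hP) }
  refine ⟨E, fun R hR hn α hα => ?_, fun hle => ?_⟩
  · obtain ⟨φ, hφ, -, he⟩ := F.exists_map_of_mem_autGroup hR hα
    exact E.mem_autGroup_of_map (φ := φ) ⟨hφ, fun h => absurd h hn⟩ fun x => (he x).symm
  · apply hQ.extendableAut_ne hS hF
    refine le_antisymm (extendableAut_le_autGroup hQS.le) fun α hα => ?_
    obtain ⟨φ, hφ, hr, he⟩ := F.exists_map_of_mem_autGroup hQS.le hα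
    obtain ⟨hφ', hc⟩ := hle Q hφ
    have hQQ := F.isConj_refl hQS.le
    let t : MulAut Q := iso Q hQQ
    have ht : t ∈ extendableAut F Q := by
      obtain ⟨-, -, Θ, hΘ, -, hΘe⟩ := hθ Q hQQ
      exact Subgroup.subset_closure ⟨_, lt_normalizerIn (p := p) hS hQS, Θ, hΘ, fun x => hΘe x _⟩
    have e2 : cls hφ' hQQ * t = t * α := by
      refine MulEquiv.ext fun y => ?_
      show iso φ.range _ (F.isoOf hφ' rfl ((iso Q hQQ).symm (iso Q hQQ y))) = iso Q hQQ (α y)
      rw [MulEquiv.symm_apply_apply]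
      have hiso' : ∀ {A B : Subgroup Ω} (e : A = B) (hA : F.IsConj Q A) (hB : F.IsConj Q B)
          (a : A) (b : B), (a : Ω) = b → iso A hA a = iso B hB b := by
        intro A B e hA hB a b hab
        subst e
        rw [Subtype.ext hab]
      exact hiso' hr _ hQQ _ (α y) (he y)
    have h3 := (extendableAut F Q).mul_mem ((extendableAut F Q).inv_mem ht)
      ((extendableAut F Q).mul_mem (hc hQQ) ht)
    rwa [e2, inv_mul_cancel_left] at h3

/-- The subsystem with all maps on proper subgroups and only inner maps on `S`. -/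
theorem exists_omit_self [Finite S] (F : FusionSystem S) :
    ∃ E : FusionSystem S, (∀ P : Subgroup Ω, P ≠ S → F.Hom P ⊆ E.Hom P) ∧
      E.autGroup S ≤ autInducedBy S S := by
  let E : FusionSystem S :=
    { Hom := fun P => {φ | φ ∈ F.Hom P ∧ (P = S → ∃ g ∈ S, ∀ x : P, φ x = g * (x : Ω) * g⁻¹)}
      le_of_mem := fun h => F.le_of_mem h.1
      injective_of_mem := fun h => F.injective_of_mem h.1
      conj_mem := fun hP hg => ⟨F.conj_mem hP hg, fun _ => ⟨_, hg, fun _ => rfl⟩⟩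
      comp_mem := by
        rintro P R φ ψ ⟨hφ, hφi⟩ ⟨hψ, hψi⟩ hh
        refine ⟨F.comp_mem hφ hψ hh, fun hP => ?_⟩
        have hR : R = S := by
          have : Finite R := finite_of_le (F.source_le hψ)
          refine Subgroup.eq_of_le_of_card_ge (F.source_le hψ) ?_
          rw [← hP]
          exact Nat.card_le_card_of_injective (fun x => (⟨φ x, hh x⟩ : R))
            fun a b hab => F.injective_of_mem hφ (congrArg Subtype.val hab)
        obtain ⟨g, hg, hge⟩ := hφi hP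
        obtain ⟨k, hk, hke⟩ := hψi hR
        refine ⟨k * g, S.mul_mem hk hg, fun x => ?_⟩
        show ψ ⟨φ x, hh x⟩ = _
        rw [hke]
        show k * φ x * k⁻¹ = _
        rw [hge]
        group
      inv_mem := by
        rintro P φ ⟨hφ, hφi⟩
        obtain ⟨i, hi, hie⟩ := F.inv_mem hφ
        refine ⟨i, ⟨hi, fun hr => ?_⟩, hie⟩
        have hP : P = S := by
          refine Subgroup.eq_of_le_of_card_ge (F.source_le hφ) ?_
          rw [IsConj.card_eq ⟨φ, hφ, hr⟩]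
        obtain ⟨g, hg, hge⟩ := hφi hP
        refine ⟨g⁻¹, S.inv_mem hg, fun y => ?_⟩
        obtain ⟨_, x, rfl⟩ := y
        rw [hie]
        show (x : Ω) = g⁻¹ * φ x * g⁻¹⁻¹
        rw [hge]
        group }
  refine ⟨E, fun P hP φ hφ => ⟨hφ, fun h => absurd h hP⟩, fun α hα => ?_⟩
  obtain ⟨φ, ⟨-, hi⟩, -, he⟩ := E.exists_map_of_mem_autGroup le_rfl hα
  obtain ⟨g, hg, hge⟩ := hi rfl
  exact Subgroup.subset_closure ⟨g, hg, fun x => (he x).symm.trans (hge x)⟩

end FusionSystem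

end Cfsg
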