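import Cfsg.Agent.Lib.Fusion.Basic
import Cfsg.Agent.Lib.Fusion.Saturation
import Cfsg.Agent.Lib.Fusion.Systems
import Mathlib.GroupTheory.PGroup
import Mathlib.GroupTheory.Perm.Cycle.Type

/-!
Maps from subgroups of order `p` and their centralizer systems determine a saturated fusion system.
-/

set_option autoImplicit false
set_option linter.unusedSectionVars false

namespace Cfsg.FusionSystem

variable {Ω : Type*} [Group Ω] {S : Subgroup Ω} [Finite S] {p : ℕ} [Fact p.Prime]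

omit [Finite S] in
/-- Restriction of a map, with the values. -/
theorem exists_restrict {F : FusionSystem S} {P R : Subgroup Ω} {φ : P →* Ω} (hφ : φ ∈ F.Hom P) (h : R ≤ P) :
    ∃ ψ ∈ F.Hom R, ∀ x : R, ψ x = φ ⟨x, h x.2⟩ :=
  ⟨_, F.restrict_mem hφ h, fun _ => rfl⟩

/-- A map with receptive image of `Z` extends to every subgroup of `S` centralising `Z`. -/
theorem exists_extend_centralizing {F : FusionSystem S} {Z Q P : Subgroup Ω} {α : Z →* Ω}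
    (hQ : F.IsReceptive Q) (hα : α ∈ F.Hom Z) (hr : α.range = Q) (hPS : P ≤ S)
    (hPZ : ∀ x ∈ P, ∀ z ∈ Z, x * z = z * x) :
    ∃ β ∈ F.Hom P, ∀ (x : Ω) (hZ : x ∈ Z) (hP : x ∈ P), β ⟨x, hP⟩ = α ⟨x, hZ⟩ := by
  obtain ⟨β, hβ, hβe⟩ := hQ.2 Z α hα hr
  have hle : P ≤ extender S Z α := fun g hg => Subgroup.subset_closure
    ⟨hPS hg, Subgroup.mem_normalizer_iff.mpr fun z => ⟨fun hz => by rwa [hPZ g hg z hz, mul_inv_cancel_right],
      fun hz => by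
        have h1 := hPZ g hg _ hz
        have h2 : g * z * g⁻¹ = z := by
          have h3 := congrArg (fun w => g⁻¹ * w) h1
          simpa [mul_assoc] using h3
        rwa [h2] at hz⟩,
      1, one_mem _, fun x hx => by
        rw [one_mul, inv_one, mul_one]
        congr 1
        exact Subtype.ext (by rw [Subtype.coe_mk, hPZ g hg x x.2, mul_inv_cancel_right])⟩
  obtain ⟨ψ, hψ, hψe⟩ := exists_restrict hβ hle
  exact ⟨ψ, hψ, fun x hZ hP => (hψe ⟨x, hP⟩).trans (hβe x hZ (hle hP))⟩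

theorem eq_of_order_p_control (hS : IsPGroup p S) {F F' : FusionSystem S} (hF' : F'.IsSaturated p) (hle : F' ≤ F)
    (hZ : ∀ Z : Subgroup Ω, Z ≤ S → Nat.card Z = p → F'.IsFullyCentralized Z → F.Hom Z = F'.Hom Z ∧
      ∀ (C C' : FusionSystem (centralizerIn S Z)), F.IsCentralizerSystem Z C → F'.IsCentralizerSystem Z C' →
        ∀ P : Subgroup Ω, C.Hom P = C'.Hom P) (P : Subgroup Ω) : F.Hom P = F'.Hom P := by
  refine Set.Subset.antisymm (fun φ hφ => ?_) (hle P)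
  have hPS := F.source_le hφ
  by_cases hbot : P = ⊥
  · refine F'.mem_of_apply_eq (F'.id_mem hPS) fun x => ?_
    have hx : x = 1 := Subtype.ext (by simpa [hbot] using x.2)
    rw [hx, map_one]; rfl
  haveI : Finite P := Finite.of_injective _ (Subgroup.inclusion_injective hPS)
  haveI : Nontrivial P := (Subgroup.nontrivial_iff_ne_bot P).mpr hbot
  have hPp : IsPGroup p P := hS.of_injective _ (Subgroup.inclusion_injective hPS)
  haveI := hPp.center_nontrivial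
  obtain ⟨z, hz⟩ := exists_prime_orderOf_dvd_card' (G := Subgroup.center P) p (by
    obtain ⟨n, hn, hc⟩ := (hPp.to_subgroup (Subgroup.center P)).nontrivial_iff_card.mp inferInstance
    rw [hc]; exact dvd_pow_self p (by omega))
  set Z := Subgroup.zpowers ((z : P) : Ω) with hZdef
  have hzP : Z ≤ P := Subgroup.zpowers_le.mpr (z : P).2
  have hZcard : Nat.card Z = p := by
    rw [hZdef, Nat.card_zpowers, Subgroup.orderOf_coe, Subgroup.orderOf_coe, hz]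
  have hcomm : ∀ x ∈ P, ∀ w ∈ Z, x * w = w * x := by
    rintro x hx w ⟨k, rfl⟩
    have h1 : Commute x ((z : P) : Ω) := congrArg Subtype.val (Subgroup.mem_center_iff.mp z.2 ⟨x, hx⟩)
    exact (h1.zpow_right k).eq
  obtain ⟨Q, ⟨α, hα, hαr⟩, -, hQr⟩ := hF' Z (hzP.trans hPS)
  have hQcard : Nat.card Q = p := by rw [← IsConj.card_eq ⟨α, hα, hαr⟩, hZcard]
  obtain ⟨hhom, hcent⟩ := hZ Q hQr.1 hQcard hQr.isFullyCentralized
  -- `φ` restricted to `Z` lies in `F'`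
  obtain ⟨ψ, hψ, hψe⟩ : ∃ ψ ∈ F'.Hom Z, ∀ w : Z, ψ w = φ ⟨w, hzP w.2⟩ := by
    obtain ⟨αi, hαi, hαir, hαil, -⟩ := F'.exists_inv hα hαr
    have hin : ∀ w : Q, αi w ∈ P := fun w => hzP (hαir.le ⟨w, rfl⟩)
    obtain ⟨χ, hχ, hχe⟩ := F.exists_comp (hle Q hαi) hφ hin
    obtain ⟨ψ, hψ, hψe⟩ := F'.exists_comp hα (hhom ▸ hχ : χ ∈ F'.Hom Q) fun w => hαr.le ⟨w, rfl⟩
    refine ⟨ψ, hψ, fun w => ?_⟩
    rw [hψe, hχe]
    congr 1
    exact Subtype.ext (hαil w _)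
  -- extend `α` to `P`, and `α ψ⁻¹` to the image of `P`
  obtain ⟨αP, hαP, hαPe⟩ := exists_extend_centralizing hQr hα hαr hPS hcomm
  obtain ⟨ψi, hψi, hψir, hψil, -⟩ := F'.exists_inv hψ rfl
  have hψiZ : ∀ w, ψi w ∈ Z := fun w => hψir.le ⟨w, rfl⟩
  obtain ⟨γ, hγ, hγe⟩ := F'.exists_comp hψi hα hψiZ
  have hγr : γ.range = Q := by
    refine le_antisymm ?_ ?_
    · rintro _ ⟨w, rfl⟩; rw [hγe]; exact hαr.le ⟨_, rfl⟩
    · intro y hy
      obtain ⟨w, rfl⟩ := hαr.ge hy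
      refine ⟨⟨ψ w, w, rfl⟩, ?_⟩
      rw [hγe]; congr 1; exact Subtype.ext (hψil w _)
  have hP1 : ∀ x ∈ φ.range, ∀ w ∈ ψ.range, x * w = w * x := by
    rintro _ ⟨x, rfl⟩ _ ⟨w, rfl⟩
    rw [hψe, ← map_mul, ← map_mul]
    congr 1
    exact Subtype.ext (hcomm x x.2 w w.2)
  obtain ⟨β, hβ, hβe⟩ := exists_extend_centralizing hQr hγ hγr (F.range_le hφ) hP1
  -- the twisted map centralises `Q`
  obtain ⟨αPi, hαPi, hαPir, hαPil, hαPil'⟩ := F'.exists_inv hαP rfl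
  have hi1 : ∀ y : αP.range, αPi y ∈ P := fun y => hαPir.le ⟨y, rfl⟩
  obtain ⟨φ1, hφ1, hφ1e⟩ := F.exists_comp (hle _ hαPi) hφ hi1
  have hi2 : ∀ y : αP.range, φ1 y ∈ φ.range := fun y => by rw [hφ1e]; exact ⟨_, rfl⟩
  obtain ⟨θ, hθ, hθe⟩ := F.exists_comp hφ1 (hle _ hβ) hi2
  have hQP' : Q ≤ αP.range := by
    intro y hy
    obtain ⟨w, rfl⟩ := hαr.ge hy
    exact ⟨⟨w, hzP w.2⟩, hαPe w w.2 _⟩
  have hθQ : ∀ (y : Ω) (hy : y ∈ Q) (hy' : y ∈ αP.range), θ ⟨y, hy'⟩ = y := by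
    intro y hy hy'
    obtain ⟨w, rfl⟩ := hαr.ge hy
    have e0 : αP ⟨w, hzP w.2⟩ = α w := hαPe w w.2 _
    have e1 : αPi ⟨α w, hy'⟩ = (w : Ω) := by
      have h := hαPil ⟨w, hzP w.2⟩ ⟨_, rfl⟩
      rw [show (⟨α w, hy'⟩ : αP.range) = ⟨αP ⟨w, hzP w.2⟩, _, rfl⟩ from Subtype.ext e0.symm]
      exact h
    have e2 : φ1 ⟨α w, hy'⟩ = ψ w := by
      rw [hφ1e, hψe]; congr 1; exact Subtype.ext e1
    rw [hθe]
    have h3 : ψ w ∈ φ.range := e2 ▸ hi2 ⟨α w, hy'⟩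
    rw [show (⟨φ1 ⟨α w, hy'⟩, hi2 _⟩ : φ.range) = ⟨ψ w, h3⟩ from Subtype.ext e2, hβe (ψ w) ⟨w, rfl⟩ h3, hγe]
    congr 1
    exact Subtype.ext (hψil w _)
  have hθC : θ ∈ F.centralizerHom Q αP.range := by
    refine ⟨hθ, fun y hy => Subgroup.mem_inf.mpr ⟨F'.range_le hαP hy, ?_⟩, fun y => Subgroup.mem_inf.mpr
      ⟨F.apply_mem hθ y, ?_⟩, θ.comp (Subgroup.inclusion (sup_le le_rfl hQP')),
      F.restrict_mem hθ (sup_le le_rfl hQP'), fun y => rfl, fun y => hθQ y y.2 _⟩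
    · obtain ⟨x, rfl⟩ := hy
      intro q hq
      obtain ⟨w, rfl⟩ := hαr.ge hq
      rw [← hαPe w w.2 (hzP w.2), ← map_mul, ← map_mul]
      congr 1
      exact Subtype.ext (hcomm x x.2 w w.2).symm
    · intro q hq
      rw [← hθQ q hq (hQP' hq), ← map_mul, ← map_mul]
      congr 1
      obtain ⟨x, hx⟩ := y.2
      obtain ⟨w, rfl⟩ := hαr.ge hq
      refine Subtype.ext ?_
      show α w * (y : Ω) = y * α w
      rw [← hx, ← hαPe w w.2 (hzP w.2), ← map_mul, ← map_mul]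
      congr 1
      exact Subtype.ext (hcomm x x.2 w w.2).symm
  have hθ' : θ ∈ F'.Hom αP.range := by
    have h : θ ∈ (centralizerSystem (F := F') Q hQr.1).Hom αP.range :=
      hcent (centralizerSystem (F := F) Q hQr.1) (centralizerSystem (F := F') Q hQr.1) (fun _ => rfl) (fun _ => rfl)
        αP.range ▸ hθC
    exact h.1
  -- `φ = β⁻¹ θ αP`
  obtain ⟨βi, hβi, -, hβil, -⟩ := F'.exists_inv hβ rfl
  obtain ⟨χ, hχ, hχe⟩ := F'.exists_comp hαP hθ' fun x => ⟨x, rfl⟩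
  have hi3 : ∀ x : P, χ x ∈ β.range := fun x => by rw [hχe, hθe]; exact ⟨_, rfl⟩
  obtain ⟨χ', hχ', hχ'e⟩ := F'.exists_comp hχ hβi hi3
  refine F'.mem_of_apply_eq hχ' fun x => ?_
  have e1 : φ1 ⟨αP x, x, rfl⟩ = φ x := by
    rw [hφ1e]; congr 1; exact Subtype.ext (hαPil x _)
  have e2 : χ x = β ⟨φ x, x, rfl⟩ := by
    rw [hχe, hθe]; congr 1; exact Subtype.ext e1
  rw [hχ'e, show (⟨χ x, hi3 x⟩ : β.range) = ⟨β ⟨φ x, x, rfl⟩, _, rfl⟩ from Subtype.ext e2]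
  exact (hβil ⟨φ x, x, rfl⟩ _).symm

end Cfsg.FusionSystem
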