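import Cfsg.Prelude.Def_Classical
import Cfsg.Agent.Lib.SympTransvection
import Cfsg.Agent.Lib.PSLn.FusionSimple
import Cfsg.Agent.S0245

/-!
The standard Borel subgroup of `Sp(2m,F)` in block form and its unipotent Sylow subgroup.
-/

set_option autoImplicit false
set_option linter.unusedSectionVars false

namespace CfsgLib.PSpBorel

open Matrix

variable {F : Type*} [Field F] {m : ℕ}

local notation "Mm" => Matrix (Fin m) (Fin m) F
local notation "GLm" => GL (Fin m) F
local notation "SLm" => SpecialLinearGroup (Fin m) F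
local notation "Sp" => Matrix.symplecticGroup (Fin m) F

theorem blocks_cond (A B C D : Mm) :
    Matrix.fromBlocks A B C D * Matrix.J (Fin m) F * (Matrix.fromBlocks A B C D)ᵀ =
      Matrix.fromBlocks (B * Aᵀ - A * Bᵀ) (B * Cᵀ - A * Dᵀ) (D * Aᵀ - C * Bᵀ) (D * Cᵀ - C * Dᵀ) := by
  rw [Matrix.J, Matrix.fromBlocks_transpose, Matrix.fromBlocks_multiply, Matrix.fromBlocks_multiply]
  simp [sub_eq_add_neg]

theorem mem_blocks {A B C D : Mm} :
    Matrix.fromBlocks A B C D ∈ Sp ↔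
      B * Aᵀ - A * Bᵀ = 0 ∧ B * Cᵀ - A * Dᵀ = -1 ∧ D * Aᵀ - C * Bᵀ = 1 ∧ D * Cᵀ - C * Dᵀ = 0 := by
  rw [SymplecticGroup.mem_iff, blocks_cond, Matrix.J, Matrix.fromBlocks_inj]

theorem glT (g : GLm) : g.1 * ((g⁻¹).1ᵀ)ᵀ = 1 := by
  rw [Matrix.transpose_transpose, ← Units.val_mul, mul_inv_cancel, Units.val_one]

theorem glT' (g : GLm) : (g⁻¹).1ᵀ * g.1ᵀ = 1 := by
  rw [← Matrix.transpose_mul, ← Units.val_mul, mul_inv_cancel, Units.val_one, Matrix.transpose_one]

/-- The Levi embedding of `GL_m`. -/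
def Lv : GL (Fin m) F →* Matrix.symplecticGroup (Fin m) F where
  toFun g := ⟨Matrix.fromBlocks g.1 0 0 (g⁻¹).1ᵀ, mem_blocks.mpr
    ⟨by simp, by rw [Matrix.zero_mul, glT g, zero_sub], by rw [Matrix.zero_mul, glT' g, sub_zero], by simp⟩⟩
  map_one' := Subtype.ext (by simp)
  map_mul' g h := Subtype.ext (by
    show Matrix.fromBlocks (g * h).1 0 0 ((g * h)⁻¹).1ᵀ =
      Matrix.fromBlocks g.1 0 0 (g⁻¹).1ᵀ * Matrix.fromBlocks h.1 0 0 (h⁻¹).1ᵀ
    simp [Matrix.fromBlocks_multiply, _root_.mul_inv_rev, Matrix.transpose_mul])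

theorem Lv_val (g : GLm) : (Lv g).1 = Matrix.fromBlocks g.1 0 0 (g⁻¹).1ᵀ := rfl

/-- The Siegel element. -/
def Sg (B : Matrix (Fin m) (Fin m) F) (h : Bᵀ = B) : Matrix.symplecticGroup (Fin m) F :=
  ⟨Matrix.fromBlocks 1 B 0 1, mem_blocks.mpr ⟨by simp [h], by simp, by simp, by simp⟩⟩

theorem Sg_val (B : Mm) (h : Bᵀ = B) : (Sg B h).1 = Matrix.fromBlocks 1 B 0 1 := rfl

theorem Sg_congr {B B' : Mm} (h : Bᵀ = B) (h' : B'ᵀ = B') (e : B = B') : Sg B h = Sg B' h' := by
  subst e; rfl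

theorem add_symm {B B' : Mm} (h : Bᵀ = B) (h' : B'ᵀ = B') : (B + B')ᵀ = B + B' := by
  rw [Matrix.transpose_add, h, h']

theorem conj_symm {B : Mm} (g : Mm) (h : Bᵀ = B) : (g * B * gᵀ)ᵀ = g * B * gᵀ := by
  rw [Matrix.transpose_mul, Matrix.transpose_mul, Matrix.transpose_transpose, h, Matrix.mul_assoc]

theorem Sg_mul {B B' : Mm} (h : Bᵀ = B) (h' : B'ᵀ = B') : Sg B h * Sg B' h' = Sg (B + B') (add_symm h h') :=
  Subtype.ext (by
    show Matrix.fromBlocks 1 B 0 1 * Matrix.fromBlocks 1 B' 0 1 = _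
    simp [Matrix.fromBlocks_multiply, Sg_val, add_comm])

theorem Sg_zero : Sg (0 : Mm) (Matrix.transpose_zero) = 1 := Subtype.ext (by simp [Sg_val])

theorem Sg_inv {B : Mm} (h : Bᵀ = B) : (Sg B h)⁻¹ = Sg (-B) (by rw [Matrix.transpose_neg, h]) :=
  inv_eq_of_mul_eq_one_right (by rw [Sg_mul, ← Sg_zero]; exact Sg_congr _ _ (add_neg_cancel B))

theorem Lv_Sg (g : GLm) {B : Mm} (h : Bᵀ = B) :
    Lv g * Sg B h * (Lv g)⁻¹ = Sg (g.1 * B * g.1ᵀ) (conj_symm _ h) := by
  rw [mul_inv_eq_iff_eq_mul]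
  refine Subtype.ext ?_
  show Matrix.fromBlocks g.1 0 0 (g⁻¹).1ᵀ * Matrix.fromBlocks 1 B 0 1 =
    Matrix.fromBlocks 1 (g.1 * B * g.1ᵀ) 0 1 * Matrix.fromBlocks g.1 0 0 (g⁻¹).1ᵀ
  simp only [Matrix.fromBlocks_multiply, Matrix.mul_zero, Matrix.zero_mul, Matrix.mul_one, Matrix.one_mul, add_zero,
    zero_add, Matrix.mul_assoc]
  rw [← Matrix.transpose_mul, ← Units.val_mul, inv_mul_cancel, Units.val_one, Matrix.transpose_one, Matrix.mul_one]

theorem Lv_mul_Sg_val (g : GLm) {B : Mm} (h : Bᵀ = B) :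
    (Lv g * Sg B h).1 = Matrix.fromBlocks g.1 (g.1 * B) 0 (g⁻¹).1ᵀ := by
  show Matrix.fromBlocks g.1 0 0 (g⁻¹).1ᵀ * Matrix.fromBlocks 1 B 0 1 = _
  simp [Matrix.fromBlocks_multiply]

/-- Elements with vanishing lower left block. -/
theorem tri_decomp {M : Sp} {g : GLm} (hC : M.1.toBlocks₂₁ = 0) (hA : M.1.toBlocks₁₁ = g.1) :
    ∃ (B : Mm) (h : Bᵀ = B), M = Lv g * Sg B h := by
  obtain ⟨B', hB'⟩ : ∃ B', M.1.toBlocks₁₂ = B' := ⟨_, rfl⟩
  obtain ⟨D, hD⟩ : ∃ D, M.1.toBlocks₂₂ = D := ⟨_, rfl⟩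
  have hM : M.1 = Matrix.fromBlocks g.1 B' 0 D := by
    rw [← hA, ← hB', ← hC, ← hD, Matrix.fromBlocks_toBlocks]
  have hmem := M.2
  rw [hM, mem_blocks] at hmem
  obtain ⟨h1, -, h3, -⟩ := hmem
  simp only [Matrix.zero_mul, sub_zero] at h3
  have hDeq : D = (g⁻¹).1ᵀ := by
    calc D = D * (g.1ᵀ * (g⁻¹).1ᵀ) := by
          rw [← Matrix.transpose_mul, ← Units.val_mul, inv_mul_cancel, Units.val_one, Matrix.transpose_one,
            Matrix.mul_one]
      _ = (g⁻¹).1ᵀ := by rw [← Matrix.mul_assoc, h3, Matrix.one_mul]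
  refine ⟨(g⁻¹).1 * B', ?_, Subtype.ext ?_⟩
  · rw [sub_eq_zero] at h1
    have e := congrArg (fun X : Mm => (g⁻¹).1 * X * (g⁻¹).1ᵀ) h1
    (try simp only at e)
    rw [Matrix.mul_assoc, Matrix.mul_assoc B', ← Matrix.transpose_mul, ← Units.val_mul, inv_mul_cancel, Units.val_one,
      Matrix.transpose_one, Matrix.mul_one, ← Matrix.mul_assoc (g⁻¹).1 g.1, ← Units.val_mul, inv_mul_cancel,
      Units.val_one, Matrix.one_mul, ← Matrix.transpose_mul] at e
    exact e.symm
  · rw [Lv_mul_Sg_val, ← Matrix.mul_assoc, ← Units.val_mul, mul_inv_cancel, Units.val_one, Matrix.one_mul, hM, hDeq]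

/-- The weights `c E_kk`. -/
def dE (k : Fin m) (c : F) : Matrix (Fin m) (Fin m) F := Matrix.single k k c

/-- The weights `c (E_kl + E_lk)`. -/
def sE (k l : Fin m) (c : F) : Matrix (Fin m) (Fin m) F := Matrix.single k l c + Matrix.single l k c

theorem dE_symm (k : Fin m) (c : F) : (dE k c)ᵀ = dE k c := Matrix.transpose_single _ _ _

theorem sE_symm (k l : Fin m) (c : F) : (sE k l c)ᵀ = sE k l c := by
  rw [sE, Matrix.transpose_add, Matrix.transpose_single, Matrix.transpose_single, add_comm]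

theorem single_conj (g : Mm) (k l : Fin m) (c : F) :
    g * Matrix.single k l c * gᵀ = c • Matrix.vecMulVec (fun i => g i k) (fun i => g i l) := by
  ext i j
  rw [Matrix.mul_apply, Finset.sum_eq_single l]
  · rw [Matrix.mul_single_apply_same, Matrix.smul_apply, Matrix.vecMulVec_apply, Matrix.transpose_apply, smul_eq_mul]
    ring
  · intro b _ hb
    rw [Matrix.mul_single_apply_of_ne (hbj := hb), zero_mul]
  · simp

/-- Diagonal elements of `GL_m`. -/
def dG : (Fin m → Fˣ) →* GL (Fin m) F :=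
  (Units.map (Matrix.diagonalRingHom (Fin m) F).toMonoidHom).comp MulEquiv.piUnits.symm.toMonoidHom

theorem dG_val (v : Fin m → Fˣ) : (dG v).1 = Matrix.diagonal fun k => (v k : F) := rfl

/-- Permutation elements of `GL_m`. -/
def pG (σ : Equiv.Perm (Fin m)) : GL (Fin m) F where
  val := Matrix.of fun i j => if i = σ j then 1 else 0
  inv := Matrix.of fun i j => if σ i = j then 1 else 0
  val_inv := by
    ext i j
    rw [Matrix.mul_apply, Finset.sum_eq_single (σ.symm i)]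
    · simp [Matrix.one_apply]
    · intro b _ hb
      simp only [Matrix.of_apply]
      rw [if_neg (fun e => hb (by rw [e, Equiv.symm_apply_apply])), zero_mul]
    · simp
  inv_val := by
    ext i j
    rw [Matrix.mul_apply, Finset.sum_eq_single (σ i)]
    · simp [Matrix.one_apply]
    · intro b _ hb
      simp only [Matrix.of_apply]
      rw [if_neg (Ne.symm hb), zero_mul]
    · simp

theorem pG_col (σ : Equiv.Perm (Fin m)) (k : Fin m) :
    (fun i => (pG σ : GLm).1 i k) = Pi.single (σ k) 1 := by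
  funext i
  simp [pG, Pi.single_apply]

theorem pG_single (σ : Equiv.Perm (Fin m)) (k l : Fin m) (c : F) :
    (pG σ : GLm).1 * Matrix.single k l c * (pG σ : GLm).1ᵀ = Matrix.single (σ k) (σ l) c := by
  rw [single_conj, pG_col, pG_col, ← Matrix.single_eq_single_vecMulVec_single, Matrix.smul_single, smul_eq_mul,
    mul_one]

/-- A root element of `GL_m`. -/
def xG (k l : Fin m) (h : k ≠ l) (c : F) : GL (Fin m) F :=
  SpecialLinearGroup.toGL (PSLn.xx k l h c)

theorem xG_val (k l : Fin m) (h : k ≠ l) (c : F) : (xG k l h c).1 = 1 + Matrix.single k l c := rfl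

theorem xG_inv (k l : Fin m) (h : k ≠ l) (c : F) : (xG k l h c)⁻¹ = xG k l h (-c) := by
  rw [xG, ← map_inv, PSLn.xx_inv]; rfl

/-- The Weyl element exchanging `e_i` and `f_i` (up to sign). -/
def wE (i : Fin m) : Matrix.symplecticGroup (Fin m) F :=
  ⟨Matrix.fromBlocks (1 - Matrix.single i i 1) (-Matrix.single i i 1) (Matrix.single i i 1)
    (1 - Matrix.single i i 1), mem_blocks.mpr (by
      simp [sub_mul, mul_sub, Matrix.single_mul_single_same] <;> abel)⟩

theorem wE_Sg {k l : Fin m} (hkl : k ≠ l) (c : F) :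
    wE l * Sg (sE k l c) (sE_symm k l c) * (wE l)⁻¹ = Lv (xG k l hkl (-c)) := by
  rw [mul_inv_eq_iff_eq_mul]
  refine Subtype.ext ?_
  show Matrix.fromBlocks (1 - Matrix.single l l 1) (-Matrix.single l l 1) (Matrix.single l l 1)
      (1 - Matrix.single l l 1) * Matrix.fromBlocks 1 (sE k l c) 0 1 =
    Matrix.fromBlocks (xG k l hkl (-c)).1 0 0 ((xG k l hkl (-c))⁻¹).1ᵀ *
      Matrix.fromBlocks (1 - Matrix.single l l 1) (-Matrix.single l l 1) (Matrix.single l l 1)
        (1 - Matrix.single l l 1)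
  rw [xG_inv, neg_neg, xG_val, xG_val, Matrix.fromBlocks_multiply, Matrix.fromBlocks_multiply]
  simp [sE, sub_mul, mul_sub, add_mul, mul_add, Matrix.transpose_single, Matrix.single_mul_single_same,
    Matrix.single_mul_single_of_ne, hkl, hkl.symm]
  repeat' constructor
  all_goals (try simp [← Matrix.single_neg]) <;> (try abel)

variable [Fintype F]

/-- A subgroup from a submonoid of a finite group. -/
def ofClosed {G : Type*} [Group G] [Finite G] (s : Set G) (h1 : (1 : G) ∈ s)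
    (hm : ∀ a ∈ s, ∀ b ∈ s, a * b ∈ s) : Subgroup G where
  carrier := s
  one_mem' := h1
  mul_mem' := fun {a b} ha hb => hm a ha b hb
  inv_mem' := fun {a} ha => by
    have key : ∀ k : ℕ, a ^ k ∈ s := by
      intro k
      induction k with
      | zero => rwa [pow_zero]
      | succ k ih => rw [pow_succ]; exact hm _ ih _ ha
    have h : a⁻¹ = a ^ (orderOf a - 1) := by
      refine inv_eq_of_mul_eq_one_right ?_
      rw [← pow_succ', Nat.sub_add_cancel (orderOf_pos a), pow_orderOf_eq_one]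
    show a⁻¹ ∈ s
    rw [h]
    exact key _

theorem toGL_val (A : SLm) : (SpecialLinearGroup.toGL A : GLm).1 = A.1 := rfl

/-- The unipotent radical of the Borel subgroup. -/
def UT (F : Type*) [Field F] [Fintype F] (m : ℕ) : Subgroup (Matrix.symplecticGroup (Fin m) F) :=
  ofClosed {M | ∃ A ∈ PSLn.upper F m, ∃ (B : Matrix (Fin m) (Fin m) F) (h : Bᵀ = B),
      M = Lv (SpecialLinearGroup.toGL A) * Sg B h}
    ⟨1, one_mem _, 0, Matrix.transpose_zero, by rw [map_one, map_one, Sg_zero, one_mul]⟩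
    (by
      rintro _ ⟨A, hA, B, h, rfl⟩ _ ⟨A', hA', B', h', rfl⟩
      refine ⟨A * A', mul_mem hA hA', _, add_symm
        (conj_symm ((SpecialLinearGroup.toGL A'⁻¹ : GL (Fin m) F)).1 h) h', ?_⟩
      rw [map_mul, map_mul, ← Sg_mul (conj_symm _ h) h', ← Lv_Sg (SpecialLinearGroup.toGL A'⁻¹) h, map_inv, map_inv]
      group)

theorem mem_UT {M : Sp} : M ∈ UT F m ↔
    ∃ A ∈ PSLn.upper F m, ∃ (B : Mm) (h : Bᵀ = B), M = Lv (SpecialLinearGroup.toGL A) * Sg B h := Iff.rfl

theorem Lv_mem {A : SLm} (hA : A ∈ PSLn.upper F m) : Lv (SpecialLinearGroup.toGL A) ∈ UT F m :=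
  ⟨A, hA, 0, Matrix.transpose_zero, by rw [Sg_zero, mul_one]⟩

theorem Sg_mem (B : Mm) (h : Bᵀ = B) : Sg B h ∈ UT F m :=
  ⟨1, one_mem _, B, h, by rw [map_one, map_one, one_mul]⟩

theorem xG_mem {k l : Fin m} (h : k < l) (c : F) : Lv (xG k l h.ne c) ∈ UT F m :=
  Lv_mem (PSLn.xx_mem_upper h c)

theorem mem_UT_of_blocks {M : Sp} (hC : M.1.toBlocks₂₁ = 0)
    (hA : ∀ k l, l ≤ k → M.1.toBlocks₁₁ k l = (1 : Mm) k l) : M ∈ UT F m := by
  have hdet : (M.1.toBlocks₁₁).det = 1 := by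
    rw [Matrix.det_of_upperTriangular]
    · exact Finset.prod_eq_one fun i _ => by rw [hA i i le_rfl, Matrix.one_apply_eq]
    · intro i j hij
      simp only [id_eq] at hij
      rw [hA i j hij.le, Matrix.one_apply_ne hij.ne']
  obtain ⟨B, h, e⟩ := tri_decomp (g := SpecialLinearGroup.toGL ⟨_, hdet⟩) hC rfl
  exact ⟨⟨_, hdet⟩, hA, B, h, e⟩

theorem center_scalar {z : Sp} (hz : z ∈ Subgroup.center Sp) :
    ∃ r : F, z.1 = Matrix.scalar (Fin m ⊕ Fin m) r := SympTransvection.scalar_of_central z hz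

theorem UT_inf_center (hm : 1 ≤ m) {z : Sp} (hz : z ∈ UT F m) (hc : z ∈ Subgroup.center Sp) : z = 1 := by
  obtain ⟨r, hr⟩ := center_scalar hc
  obtain ⟨A, hA, B, h, e⟩ := hz
  have h00 : r = 1 := by
    have h1 := congrFun (congrFun (congrArg Subtype.val e) (Sum.inl ⟨0, hm⟩)) (Sum.inl ⟨0, hm⟩)
    rw [Lv_mul_Sg_val, hr, Matrix.fromBlocks_apply₁₁, toGL_val, hA _ _ le_rfl] at h1
    simpa using h1
  refine Subtype.ext ?_
  rw [hr, h00, map_one]
  rfl

theorem card_symm : Nat.card {B : Mm // Bᵀ = B} = ∏ j : Fin m, Fintype.card F ^ ((j : ℕ) + 1) := by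
  classical
  let e : {B : Mm // Bᵀ = B} ≃ ((j : Fin m) → Fin ((j : ℕ) + 1) → F) :=
    { toFun := fun B j i => B.1 ⟨i.1, lt_of_lt_of_le i.2 j.2⟩ j
      invFun := fun f => ⟨Matrix.of fun i j => if h : i ≤ j then f j ⟨i.1, Nat.lt_succ_of_le h⟩
          else f i ⟨j.1, Nat.lt_succ_of_le (le_of_lt (not_le.mp h))⟩, by
        ext i j
        simp only [Matrix.transpose_apply, Matrix.of_apply]
        rcases lt_trichotomy i j with h | h | h
        · rw [dif_pos h.le, dif_neg (not_le.mpr h)]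
        · subst h; rfl
        · rw [dif_pos h.le, dif_neg (not_le.mpr h)]⟩
      left_inv := fun B => by
        apply Subtype.ext
        ext i j
        simp only [Matrix.of_apply]
        split_ifs with h
        · rfl
        · exact congrFun (congrFun B.2 i) j
      right_inv := fun f => by
        funext j i
        simp only [Matrix.of_apply]
        rw [dif_pos (Fin.le_def.mpr (Nat.lt_succ_iff.mp i.2))] }
  rw [Nat.card_congr e, Nat.card_pi]
  simp [Nat.card_eq_fintype_card]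

theorem card_UT : Nat.card (UT F m) = Fintype.card F ^ m ^ 2 := by
  classical
  let f : PSLn.upper F m × {B : Mm // Bᵀ = B} → UT F m := fun p =>
    ⟨Lv (SpecialLinearGroup.toGL p.1.1) * Sg p.2.1 p.2.2, p.1.1, p.1.2, p.2.1, p.2.2, rfl⟩
  have hf : Function.Bijective f := by
    constructor
    · rintro ⟨⟨A, hA⟩, B, hB⟩ ⟨⟨A', hA'⟩, B', hB'⟩ e
      have e' := congrArg (fun x : UT F m => x.1.1) e
      simp only [f, Lv_mul_Sg_val, Matrix.fromBlocks_inj, toGL_val] at e'
      have hAA : A = A' := Subtype.ext e'.1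
      subst hAA
      have hB : B = B' := by
        exact (SpecialLinearGroup.toGL A).isUnit.mul_right_inj.mp e'.2.1
      subst hB
      rfl
    · rintro ⟨_, A, hA, B, h, rfl⟩
      exact ⟨⟨⟨A, hA⟩, B, h⟩, rfl⟩
  rw [← Nat.card_eq_of_bijective f hf, Nat.card_prod, PSLn.card_upper, card_symm, ← Finset.prod_mul_distrib]
  simp only [← pow_add]
  rw [Finset.prod_pow_eq_pow_sum]
  congr 1
  have : ∀ n : ℕ, ∑ j : Fin n, ((j : ℕ) + ((j : ℕ) + 1)) = n ^ 2 := by
    intro n
    induction n with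
    | zero => simp
    | succ n ih =>
      rw [Fin.sum_univ_castSucc]
      simp only [Fin.val_castSucc, Fin.val_last]
      rw [ih]; ring
  exact this m

variable (p : ℕ) [Fact p.Prime] [CharP F p]

theorem isPGroup_UT : IsPGroup p (UT F m) := by
  obtain ⟨f, -, hf⟩ := FiniteField.card F p
  exact IsPGroup.of_card (n := (f : ℕ) * m ^ 2) (by rw [card_UT, hf, pow_mul])

local notation "π" => QuotientGroup.mk' (Subgroup.center (Matrix.symplecticGroup (Fin m) F))

theorem card_map_UT (hm : 1 ≤ m) : Nat.card ((UT F m).map π) = Nat.card (UT F m) := by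
  have hinj : Function.Injective ((π).comp (UT F m).subtype) := by
    rw [injective_iff_map_eq_one]
    intro x hx
    exact Subtype.ext (UT_inf_center hm x.2 ((QuotientGroup.eq_one_iff _).mp hx))
  rw [Nat.card_congr (MonoidHom.ofInjective hinj).toEquiv, MonoidHom.range_comp, Subgroup.range_subtype]

theorem not_dvd_index (hm : 1 ≤ m) : ¬ p ∣ ((UT F m).map π).index := by
  intro hdvd
  obtain ⟨f, -, hf⟩ := FiniteField.card F p
  have h := Subgroup.card_eq_card_quotient_mul_card_subgroup (Subgroup.center Sp)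
  rw [← ((UT F m).map π).card_mul_index, card_map_UT hm, card_UT, Cfsg.Agent.S0245.result rfl m, mul_assoc] at h
  have h' := Nat.eq_of_mul_eq_mul_left (pow_pos Fintype.card_pos _) h
  have h2 : p ∣ ∏ i ∈ Finset.range m, (Fintype.card F ^ (2 * (i + 1)) - 1) := h' ▸ dvd_mul_of_dvd_left hdvd _
  obtain ⟨i, -, hi⟩ := (Nat.prime_iff.mp (Fact.out : p.Prime)).exists_mem_finset_dvd h2
  have hne : (f : ℕ) * (2 * (i + 1)) ≠ 0 := by positivity
  have h3 : p ∣ Fintype.card F ^ (2 * (i + 1)) := by rw [hf, ← pow_mul]; exact dvd_pow_self p hne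
  have h4 := Nat.dvd_sub h3 hi
  rw [Nat.sub_sub_self (Nat.one_le_pow _ _ Fintype.card_pos)] at h4
  exact (Fact.out : p.Prime).not_dvd_one h4

/-- The standard Sylow `p`-subgroup of `PSp(2m,F)`. -/
noncomputable def sylowU (hm : 1 ≤ m) : Sylow p (Cfsg.PSp m F) :=
  ((isPGroup_UT p).map π).toSylow (not_dvd_index p hm)

theorem coe_sylowU (hm : 1 ≤ m) :
    ((sylowU (F := F) (m := m) p hm : Sylow p (Cfsg.PSp m F)) : Subgroup (Cfsg.PSp m F)) = (UT F m).map π := rfl

theorem center_pow (hm : 1 ≤ m) {z : Sp} (hz : z ∈ Subgroup.center Sp) {k : ℕ} (hk : z ^ p ^ k = 1) : z = 1 := by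
  have h1 : z ^ Nat.gcd 2 (Fintype.card F - 1) = 1 := by
    rw [← SympTransvection.card_center (F := F) hm]
    exact congrArg Subtype.val (pow_card_eq_one' (x := (⟨z, hz⟩ : Subgroup.center Sp)))
  have hcop : Nat.Coprime (Nat.gcd 2 (Fintype.card F - 1)) (p ^ k) := by
    refine (Nat.Coprime.pow_right k ?_)
    refine Nat.Coprime.symm ((Fact.out : p.Prime).coprime_iff_not_dvd.mpr fun hd => ?_)
    obtain ⟨f, -, hf⟩ := FiniteField.card F p
    have h2 : p ∣ Fintype.card F - 1 := hd.trans (Nat.gcd_dvd_right _ _)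
    have h3 : p ∣ Fintype.card F := by rw [hf]; exact dvd_pow_self p f.ne_zero
    have h4 := Nat.dvd_sub h3 h2
    rw [Nat.sub_sub_self Fintype.card_pos] at h4
    exact (Fact.out : p.Prime).not_dvd_one h4
  have := pow_gcd_eq_one.mpr ⟨h1, hk⟩
  rwa [hcop.gcd_eq_one, pow_one] at this

/-- A `p`-element over the Sylow subgroup lies in `UT`. -/
theorem mem_UT_of_map (hm : 1 ≤ m) {x : Sp} {k : ℕ} (hx : x ^ p ^ k = 1) (h : π x ∈ (UT F m).map π) :
    x ∈ UT F m := by
  obtain ⟨y, hy, e⟩ := h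
  have hz : y⁻¹ * x ∈ Subgroup.center Sp := QuotientGroup.eq.mp e
  obtain ⟨z, hz', rfl⟩ : ∃ z ∈ Subgroup.center Sp, x = y * z := ⟨_, hz, (mul_inv_cancel_left y x).symm⟩
  obtain ⟨j, hj⟩ := isPGroup_UT (F := F) (m := m) p ⟨y, hy⟩
  have hj' : y ^ p ^ j = 1 := congrArg Subtype.val hj
  have hyz : Commute y z := Subgroup.mem_center_iff.mp hz' y
  have hz1 : z = 1 := by
    refine center_pow p hm hz' (k := j + k) ?_
    calc z ^ p ^ (j + k) = y ^ p ^ (j + k) * z ^ p ^ (j + k) := by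
          rw [pow_add p, pow_mul y, hj', one_pow, one_mul]
      _ = 1 := by
          rw [← hyz.mul_pow, pow_add p, mul_comm, pow_mul, hx, one_pow]
  rwa [hz1, mul_one]

end CfsgLib.PSpBorel
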