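import Cfsg.Prelude.Def_Classical
import Cfsg.Agent.Lib.UnitaryBasic
import Cfsg.Agent.Lib.HermCount
import Cfsg.Agent.Lib.Fusion.PSpBorel
import Cfsg.Agent.S0280

/-!
`SU(n,q)` in a split basis: root elements, parabolic subgroups and their radicals, Sylow subgroups in the
defining characteristic.
-/

set_option autoImplicit false
set_option linter.unusedSectionVars false

namespace CfsgLib.PSUBorel

open Matrix

/-- The data of a conjugation on a finite field with `q²` elements. -/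
structure Conj (F : Type*) [Field F] [Fintype F] where
  q : ℕ
  σ : F →+* F
  card : Fintype.card F = q ^ 2
  hσ : ∀ x : F, σ x = x ^ q

variable {F : Type*} [Field F] [Fintype F]

namespace Conj

variable (c : Conj F)

theorem one_lt : 1 < c.q := (UnitaryBasic.frob_exists c.card).1

theorem invol (x : F) : c.σ (c.σ x) = x := by
  rw [c.hσ, c.hσ, ← pow_mul, ← pow_two, ← c.card, FiniteField.pow_card]

theorem exists_moved : ∃ t : F, c.σ t ≠ t := by
  classical
  by_contra h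
  push Not at h
  have hq := c.one_lt
  have h1 : (Fintype.card F) ≤ c.q := by
    have hp : (Polynomial.X ^ c.q - Polynomial.X : Polynomial F) ≠ 0 :=
      FiniteField.X_pow_card_sub_X_ne_zero F hq
    have hsub : (Finset.univ : Finset F) ⊆ (Polynomial.X ^ c.q - Polynomial.X : Polynomial F).roots.toFinset := by
      intro x _
      rw [Multiset.mem_toFinset, Polynomial.mem_roots hp, Polynomial.IsRoot]
      simp [← c.hσ, h x]
    have := (Finset.card_le_card hsub).trans (Multiset.toFinset_card_le _)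
    have := this.trans (Polynomial.card_roots' _)
    rwa [Finset.card_univ, FiniteField.X_pow_card_sub_X_natDegree_eq F hq] at this
  rw [c.card] at h1
  nlinarith

theorem exists_antifixed : ∃ b : F, b ≠ 0 ∧ c.σ b = -b := by
  obtain ⟨t, ht⟩ := c.exists_moved
  exact ⟨t - c.σ t, sub_ne_zero.mpr (Ne.symm ht), by rw [map_sub, c.invol, neg_sub]⟩

theorem exists_trace_one : ∃ e : F, e + c.σ e = 1 := by
  obtain ⟨t, ht⟩ : ∃ t : F, t + c.σ t ≠ 0 := by
    by_contra h
    push Not at h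
    obtain ⟨t, ht⟩ := c.exists_moved
    have h1 := h 1
    rw [map_one] at h1
    refine ht ?_
    linear_combination (h t) - t * h1
  refine ⟨t / (t + c.σ t), ?_⟩
  rw [map_div₀, map_add, c.invol, add_comm (c.σ t) t, ← add_div, div_self ht]

theorem exists_norm {d : F} (hd : c.σ d = d) : ∃ u : F, u * c.σ u = d := by
  rcases eq_or_ne d 0 with rfl | h
  · exact ⟨0, zero_mul _⟩
  obtain ⟨α, hα⟩ := HermCount.exists_norm c.card h (by rw [← c.hσ, hd])
  exact ⟨α, by rw [c.hσ, ← pow_succ']; exact hα⟩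

end Conj

variable {n k : ℕ}

local notation "Mn" => Matrix (Fin n) (Fin n) F

/-- The antidiagonal form. -/
def aJ (F : Type*) [Zero F] [One F] (n : ℕ) : Matrix (Fin n) (Fin n) F :=
  Matrix.of fun i j => if j = i.rev then 1 else 0

theorem mul_aJ (A : Mn) (i j : Fin n) : (A * aJ F n) i j = A i j.rev := by
  rw [Matrix.mul_apply, Finset.sum_eq_single j.rev]
  · simp [aJ]
  · intro b _ hb
    simp only [aJ, Matrix.of_apply]
    rw [if_neg (fun e => hb (by rw [e, Fin.rev_rev])), mul_zero]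
  · simp

theorem aJ_mul (A : Matrix (Fin n) (Fin k) F) (i : Fin n) (j : Fin k) : (aJ F n * A) i j = A i.rev j := by
  rw [Matrix.mul_apply, Finset.sum_eq_single i.rev]
  · simp [aJ]
  · intro b _ hb
    simp only [aJ, Matrix.of_apply]
    rw [if_neg hb, zero_mul]
  · simp

theorem aJ_sq : aJ F n * aJ F n = 1 := by
  ext i j
  rw [aJ_mul]
  simp [aJ, Matrix.one_apply, eq_comm]

variable (c : Conj F)

/-- Preservation of the split Hermitian form. -/
def Cond (A : Matrix (Fin n) (Fin n) F) : Prop := A * aJ F n * (A.map c.σ)ᵀ = aJ F n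

theorem cond_apply {A : Mn} (h : Cond c A) (a b : Fin n) :
    ∑ l, A a l * c.σ (A b l.rev) = if b = a.rev then 1 else 0 := by
  have e := congrFun (congrFun h a) b
  rw [Matrix.mul_apply] at e
  rw [← Equiv.sum_comp Fin.revPerm] at e
  simp only [mul_aJ, Matrix.transpose_apply, Matrix.map_apply, Fin.revPerm_apply, Fin.rev_rev] at e
  simpa [aJ] using e

theorem val_mul {N : ℕ} (a b : SpecialLinearGroup (Fin N) F) : (a * b).1 = a.1 * b.1 := rfl

theorem val_one {N : ℕ} : (1 : SpecialLinearGroup (Fin N) F).1 = 1 := rfl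

/-- `SU(n,q)` for the split form. -/
def SUs (n : ℕ) : Subgroup (SpecialLinearGroup (Fin n) F) :=
  PSpBorel.ofClosed {A | Cond c A.1} (by simp [Cond])
    (by
      intro A hA B hB
      show (A.1 * B.1) * aJ F n * ((A.1 * B.1).map c.σ)ᵀ = aJ F n
      rw [Matrix.map_mul, Matrix.transpose_mul, ← Matrix.mul_assoc, Matrix.mul_assoc A.1, Matrix.mul_assoc A.1,
        show B.1 * aJ F n * (B.1.map c.σ)ᵀ = aJ F n from hB]
      exact hA)

theorem coe_mul (a b : SUs c n) : (a * b).1.1 = a.1.1 * b.1.1 := rfl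

theorem coe_one : (1 : SUs c n).1.1 = (1 : Mn) := rfl

theorem SUs_ext {a b : SUs c n} (h : a.1.1 = b.1.1) : a = b := Subtype.ext (Subtype.ext h)

/-! ### Embeddings of small unitary groups -/

/-- The coordinate inclusion. -/
def incl (F : Type*) [Zero F] [One F] (f : Fin k → Fin n) : Matrix (Fin n) (Fin k) F :=
  Matrix.of fun i a => if i = f a then 1 else 0

theorem incl_transpose_mul {f : Fin k → Fin n} (hf : Function.Injective f) :
    (incl F f)ᵀ * incl F f = 1 := by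
  ext a b
  rw [Matrix.mul_apply, Finset.sum_eq_single (f a)]
  · simp [incl, Matrix.one_apply, hf.eq_iff]
  · intro i _ hi
    simp [incl, hi]
  · simp

theorem incl_single (f : Fin k → Fin n) (a b : Fin k) (x : F) :
    incl F f * Matrix.single a b x * (incl F f)ᵀ = Matrix.single (f a) (f b) x := by
  ext i j
  rw [Matrix.mul_apply, Finset.sum_eq_single b]
  · rw [Matrix.mul_single_apply_same]
    simp only [incl, Matrix.transpose_apply, Matrix.of_apply, Matrix.single_apply]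
    split_ifs <;> simp_all [eq_comm]
  · intro l _ hl
    rw [Matrix.mul_single_apply_of_ne (hbj := hl), zero_mul]
  · simp

/-- An injection compatible with the reversals. -/
def RevEmb (f : Fin k → Fin n) : Prop := Function.Injective f ∧ ∀ a, f a.rev = (f a).rev

/-- The embedded matrix. -/
def embM (f : Fin k → Fin n) (X : Matrix (Fin k) (Fin k) F) : Matrix (Fin n) (Fin n) F :=
  1 + incl F f * (X - 1) * (incl F f)ᵀ

theorem embM_mul {f : Fin k → Fin n} (hf : Function.Injective f) (X Y : Matrix (Fin k) (Fin k) F) :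
    embM f X * embM f Y = embM f (X * Y) := by
  unfold embM
  generalize hP : incl F f = P
  have h : Pᵀ * P = 1 := hP ▸ incl_transpose_mul hf
  rw [show X * Y - 1 = (X - 1) + (Y - 1) + (X - 1) * (Y - 1) by
    rw [sub_mul, mul_sub, mul_sub, one_mul, mul_one, mul_one]; abel]
  simp only [Matrix.add_mul, Matrix.mul_add, Matrix.one_mul, Matrix.mul_one, Matrix.mul_assoc]
  rw [← Matrix.mul_assoc Pᵀ P, h, Matrix.one_mul]
  abel

theorem aJ_incl {f : Fin k → Fin n} (hf : RevEmb f) : aJ F n * incl F f = incl F f * aJ F k := by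
  ext i a
  rw [aJ_mul, Matrix.mul_apply, Finset.sum_eq_single a.rev]
  · simp only [incl, aJ, Matrix.of_apply, Fin.rev_rev, if_true, mul_one, hf.2]
    exact if_congr Fin.rev_eq_iff rfl rfl
  · intro b _ hb
    simp only [incl, aJ, Matrix.of_apply]
    rw [if_neg (fun e : a = b.rev => hb (by rw [e, Fin.rev_rev])), mul_zero]
  · simp

theorem aJ_transpose : (aJ F n)ᵀ = aJ F n := by
  ext i j
  simp only [aJ, Matrix.transpose_apply, Matrix.of_apply]
  exact if_congr ⟨fun e => by rw [e, Fin.rev_rev], fun e => by rw [e, Fin.rev_rev]⟩ rfl rfl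

theorem incl_aJ {f : Fin k → Fin n} (hf : RevEmb f) : (incl F f)ᵀ * aJ F n = aJ F k * (incl F f)ᵀ := by
  have h := congrArg Matrix.transpose (aJ_incl (F := F) hf)
  rwa [Matrix.transpose_mul, Matrix.transpose_mul, aJ_transpose, aJ_transpose] at h

theorem incl_map (f : Fin k → Fin n) : (incl F f).map c.σ = incl F f := by
  ext i a
  simp only [incl, Matrix.map_apply, Matrix.of_apply]
  split_ifs <;> simp

theorem embM_cond {f : Fin k → Fin n} (hf : RevEmb f) {X : Matrix (Fin k) (Fin k) F} (hX : Cond c X) :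
    Cond c (embM f X) := by
  have h : (incl F f)ᵀ * incl F f = (1 : Matrix (Fin k) (Fin k) F) := incl_transpose_mul hf.1
  have h1 := aJ_incl (F := F) hf
  have h2 := incl_aJ (F := F) hf
  have h3 := incl_map c f
  unfold Cond at hX ⊢
  unfold embM
  generalize incl F f = P at h h1 h2 h3
  generalize hY : X - 1 = Y
  have hX' : Y * aJ F k + aJ F k * (Y.map c.σ)ᵀ + Y * aJ F k * (Y.map c.σ)ᵀ = 0 := by
    rw [show X = Y + 1 by rw [← hY, sub_add_cancel], Matrix.map_add _ (map_add c.σ), Matrix.map_one _ (map_zero c.σ)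
      (map_one c.σ), Matrix.transpose_add, Matrix.transpose_one] at hX
    simp only [Matrix.add_mul, Matrix.mul_add, Matrix.one_mul, Matrix.mul_one] at hX
    linear_combination (norm := abel) hX
  have hconj : ((1 + P * Y * Pᵀ).map c.σ)ᵀ = 1 + P * (Y.map c.σ)ᵀ * Pᵀ := by
    rw [Matrix.map_add _ (map_add c.σ), Matrix.map_one _ (map_zero c.σ) (map_one c.σ), Matrix.map_mul,
      Matrix.map_mul, Matrix.transpose_map, h3, Matrix.transpose_add, Matrix.transpose_one, Matrix.transpose_mul,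
      Matrix.transpose_mul, Matrix.transpose_transpose, Matrix.mul_assoc]
  rw [hconj]
  calc (1 + P * Y * Pᵀ) * aJ F n * (1 + P * (Y.map c.σ)ᵀ * Pᵀ)
      = aJ F n + P * Y * (Pᵀ * aJ F n) + (aJ F n * P) * (Y.map c.σ)ᵀ * Pᵀ
        + P * Y * (Pᵀ * aJ F n) * P * (Y.map c.σ)ᵀ * Pᵀ := by
        simp only [Matrix.add_mul, Matrix.mul_add, Matrix.one_mul, Matrix.mul_one, Matrix.mul_assoc]; abel
    _ = aJ F n + P * (Y * aJ F k + aJ F k * (Y.map c.σ)ᵀ + Y * aJ F k * (Y.map c.σ)ᵀ) * Pᵀ := by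
        rw [h2, h1]
        simp only [Matrix.add_mul, Matrix.mul_add, Matrix.mul_assoc]
        rw [← Matrix.mul_assoc Pᵀ P, h, Matrix.one_mul]
        abel
    _ = aJ F n := by rw [hX', Matrix.mul_zero, Matrix.zero_mul, add_zero]

theorem embM_det {f : Fin k → Fin n} (hf : Function.Injective f) (X : Matrix (Fin k) (Fin k) F) :
    (embM f X).det = X.det := by
  rw [embM, Matrix.mul_assoc, Matrix.det_one_add_mul_comm, Matrix.mul_assoc, incl_transpose_mul hf, Matrix.mul_one,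
    add_sub_cancel]

/-- The embedding homomorphism. -/
def emb {f : Fin k → Fin n} (hf : RevEmb f) : SUs c k →* SUs c n where
  toFun X := ⟨⟨embM f X.1.1, by rw [embM_det hf.1]; exact X.1.2⟩, embM_cond c hf X.2⟩
  map_one' := SUs_ext c (by
    show embM f (1 : Matrix (Fin k) (Fin k) F) = 1
    simp [embM])
  map_mul' X Y := SUs_ext c (embM_mul hf.1 X.1.1 Y.1.1).symm

theorem emb_val {f : Fin k → Fin n} (hf : RevEmb f) (X : SUs c k) :
    (emb c hf X).1.1 = 1 + incl F f * (X.1.1 - 1) * (incl F f)ᵀ := rfl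

theorem embM_apply {f : Fin k → Fin n} (hf : Function.Injective f) (X : Matrix (Fin k) (Fin k) F) (a b : Fin k) :
    embM f X (f a) (f b) = X a b := by
  rw [embM, Matrix.add_apply, Matrix.mul_apply, Finset.sum_eq_single b, Matrix.mul_apply, Finset.sum_eq_single a]
  · simp [incl, Matrix.one_apply, hf.eq_iff]
  · intro l _ hl; simp [incl, hf.eq_iff, hl.symm]
  · simp
  · intro l _ hl; simp [incl, hf.eq_iff, hl.symm]
  · simp

theorem embM_left {f : Fin k → Fin n} (X : Matrix (Fin k) (Fin k) F) {i : Fin n} (hi : ∀ a, i ≠ f a) (j : Fin n) :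
    embM f X i j = (1 : Mn) i j := by
  rw [embM, Matrix.add_apply, Matrix.mul_assoc, Matrix.mul_apply, Finset.sum_eq_zero, add_zero]
  intro a _
  simp [incl, hi a]

theorem embM_right {f : Fin k → Fin n} (X : Matrix (Fin k) (Fin k) F) (i : Fin n) {j : Fin n} (hj : ∀ a, j ≠ f a) :
    embM f X i j = (1 : Mn) i j := by
  rw [embM, Matrix.add_apply, Matrix.mul_apply, Finset.sum_eq_zero, add_zero]
  intro a _
  simp [incl, hj a]

/-! ### Parabolic subgroups -/

/-- The parabolic subgroup of a level function. -/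
def Par (ℓ : Fin n → ℕ) : Subgroup (SUs c n) :=
  PSpBorel.ofClosed {A | ∀ i j, ℓ j < ℓ i → A.1.1 i j = 0}
    (fun i j h => by
      rw [coe_one]
      exact Matrix.one_apply_ne (fun e => by rw [e] at h; exact lt_irrefl _ h))
    (by
      intro A hA B hB i j h
      rw [coe_mul, Matrix.mul_apply]
      refine Finset.sum_eq_zero fun l _ => ?_
      rcases lt_or_ge (ℓ l) (ℓ i) with hl | hl
      · rw [hA i l hl, zero_mul]
      · rw [hB l j (lt_of_lt_of_le h hl), mul_zero])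

theorem mul_level {ℓ : Fin n → ℕ} {A B : SUs c n} (hA : A ∈ Par c ℓ) (hB : B ∈ Par c ℓ) {i j : Fin n}
    (h : ℓ i = ℓ j) : (A * B).1.1 i j = ∑ l, if ℓ l = ℓ i then A.1.1 i l * B.1.1 l j else 0 := by
  rw [coe_mul, Matrix.mul_apply]
  refine Finset.sum_congr rfl fun l _ => ?_
  split_ifs with hl
  · rfl
  rcases lt_or_gt_of_ne hl with h' | h'
  · rw [hA i l h', zero_mul]
  · rw [hB l j (h ▸ h'), mul_zero]

/-- The radical of a parabolic subgroup. -/
def Rad (ℓ : Fin n → ℕ) : Subgroup (SUs c n) :=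
  PSpBorel.ofClosed {A | A ∈ Par c ℓ ∧ ∀ i j, ℓ i = ℓ j → A.1.1 i j = (1 : Matrix (Fin n) (Fin n) F) i j}
    ⟨one_mem _, fun i j _ => rfl⟩
    (by
      rintro A ⟨hA, hA'⟩ B ⟨hB, hB'⟩
      refine ⟨mul_mem hA hB, fun i j h => ?_⟩
      rw [mul_level c hA hB h, Finset.sum_eq_single i]
      · rw [if_pos rfl, hA' i i rfl, Matrix.one_apply_eq, one_mul, hB' i j h]
      · intro l _ hl
        split_ifs with hl'
        · rw [hA' i l hl'.symm, Matrix.one_apply_ne hl.symm, zero_mul]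
        · rfl
      · simp)

theorem Rad_conj {ℓ : Fin n → ℕ} {g x : SUs c n} (hg : g ∈ Par c ℓ) (hx : x ∈ Rad c ℓ) :
    g * x * g⁻¹ ∈ Rad c ℓ := by
  obtain ⟨hxP, hx'⟩ := hx
  refine ⟨mul_mem (mul_mem hg hxP) (inv_mem hg), fun i j h => ?_⟩
  have hgg : (1 : Mn) i j = (g * g⁻¹).1.1 i j := by rw [mul_inv_cancel]; rfl
  rw [hgg, mul_level c (mul_mem hg hxP) (inv_mem hg) h, mul_level c hg (inv_mem hg) h]
  refine Finset.sum_congr rfl fun l _ => ?_
  split_ifs with hl
  · congr 1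
    rw [mul_level c hg hxP hl.symm, Finset.sum_eq_single l]
    · rw [if_pos hl, hx' l l rfl, Matrix.one_apply_eq, mul_one]
    · intro w _ hw
      split_ifs with hw'
      · rw [hx' w l (hw'.trans hl.symm), Matrix.one_apply_ne hw, mul_zero]
      · rfl
    · simp
  · rfl

/-- The unipotent radical of the Borel subgroup. -/
abbrev UU (n : ℕ) : Subgroup (SUs c n) := Rad c fun i : Fin n => (i : ℕ)

theorem UU_diag {A : SUs c n} (hA : A ∈ UU c n) (i : Fin n) : A.1.1 i i = 1 := by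
  rw [hA.2 i i rfl, Matrix.one_apply_eq]

theorem UU_below {A : SUs c n} (hA : A ∈ UU c n) {i j : Fin n} (h : j < i) : A.1.1 i j = 0 := hA.1 i j h

theorem Rad_le_UU {ℓ : Fin n → ℕ} (hℓ : Monotone ℓ) : Rad c ℓ ≤ UU c n := by
  rintro A ⟨hA, hA'⟩
  refine ⟨fun i j h => ?_, fun i j h => hA' i j (by rw [Fin.ext h])⟩
  rcases (hℓ (le_of_lt (Fin.lt_def.mpr h))).lt_or_eq with h' | h'
  · exact hA i j h'
  · rw [hA' i j h'.symm, Matrix.one_apply_ne (fun e => by rw [e] at h; exact lt_irrefl _ h)]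

theorem UU_le_Par {ℓ : Fin n → ℕ} (hℓ : Monotone ℓ) : UU c n ≤ Par c ℓ := by
  intro A hA i j h
  exact hA.1 i j (lt_of_not_ge fun h' => not_lt.mpr (hℓ (Fin.le_def.mpr h')) h)

theorem emb_mem_Par {f : Fin k → Fin n} (hf : RevEmb f) {ℓ : Fin n → ℕ} {X : SUs c k}
    (h : ∀ a b, ℓ (f b) < ℓ (f a) → X.1.1 a b = 0) : emb c hf X ∈ Par c ℓ := by
  intro i j hij
  have hne : i ≠ j := fun e => by rw [e] at hij; exact lt_irrefl _ hij
  show embM f X.1.1 i j = 0
  by_cases hi : ∃ a, i = f a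
  · by_cases hj : ∃ b, j = f b
    · obtain ⟨a, rfl⟩ := hi
      obtain ⟨b, rfl⟩ := hj
      rw [embM_apply hf.1, h a b hij]
    · push Not at hj
      rw [embM_right _ _ hj, Matrix.one_apply_ne hne]
  · push Not at hi
    rw [embM_left _ hi, Matrix.one_apply_ne hne]

theorem emb_mem_Rad {f : Fin k → Fin n} (hf : RevEmb f) {ℓ : Fin n → ℕ} {X : SUs c k}
    (h : ∀ a b, ℓ (f b) ≤ ℓ (f a) → X.1.1 a b = (1 : Matrix (Fin k) (Fin k) F) a b) : emb c hf X ∈ Rad c ℓ := by
  refine ⟨emb_mem_Par c hf fun a b hab => ?_, fun i j hij => ?_⟩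
  · rw [h a b hab.le, Matrix.one_apply_ne (fun e => by rw [e] at hab; exact lt_irrefl _ hab)]
  show embM f X.1.1 i j = _
  by_cases hi : ∃ a, i = f a
  · by_cases hj : ∃ b, j = f b
    · obtain ⟨a, rfl⟩ := hi
      obtain ⟨b, rfl⟩ := hj
      rw [embM_apply hf.1, h a b hij.ge]
      simp [Matrix.one_apply, hf.1.eq_iff]
    · push Not at hj
      rw [embM_right _ _ hj]
  · push Not at hi
    rw [embM_left _ hi]

/-! ### Root elements -/

/-- The long root matrix in dimension two. -/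
def m2 (b : F) : Matrix (Fin 2) (Fin 2) F := !![1, b; 0, 1]

/-- The short root matrix in dimension three. -/
def m3 (σ : F → F) (a b : F) : Matrix (Fin 3) (Fin 3) F := !![1, a, b; 0, 1, -σ a; 0, 0, 1]

/-- The root matrix in dimension four. -/
def m4 (σ : F → F) (x : F) : Matrix (Fin 4) (Fin 4) F := !![1, x, 0, 0; 0, 1, 0, 0; 0, 0, 1, -σ x; 0, 0, 0, 1]

/-- Long root elements. -/
def r2 (b : F) (hb : c.σ b = -b) : SUs c 2 :=
  ⟨⟨m2 b, by simp [m2]⟩, by
    show Cond c (m2 b)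
    ext i j
    rw [Matrix.mul_apply]
    simp only [mul_aJ]
    fin_cases i <;> fin_cases j <;> simp [m2, aJ, Fin.sum_univ_two, hb, Fin.rev]⟩

/-- Short root elements through the middle. -/
def r3 (a b : F) (hb : b + c.σ b + a * c.σ a = 0) : SUs c 3 :=
  ⟨⟨m3 c.σ a b, by simp [m3, Matrix.det_fin_three]⟩, by
    show Cond c (m3 c.σ a b)
    ext i j
    rw [Matrix.mul_apply]
    simp only [mul_aJ]
    fin_cases i <;> fin_cases j <;> simp [m3, aJ, Fin.sum_univ_three, c.invol, Fin.rev]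
    linear_combination hb⟩

/-- Short root elements. -/
def r4 (x : F) : SUs c 4 :=
  ⟨⟨m4 c.σ x, by simp [m4, Matrix.det_succ_row_zero, Fin.sum_univ_succ, Fin.succAbove]⟩, by
    show Cond c (m4 c.σ x)
    ext i j
    rw [Matrix.mul_apply]
    simp only [mul_aJ]
    fin_cases i <;> fin_cases j <;> simp [m4, aJ, Fin.sum_univ_four, c.invol, Fin.rev]⟩

/-- The frame of a long root. -/
def f2 (i : Fin n) : Fin 2 → Fin n := ![i, i.rev]

/-- The frame of a middle root. -/
def f3 (i μ : Fin n) : Fin 3 → Fin n := ![i, μ, i.rev]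

/-- The frame of a short root. -/
def f4 (i j : Fin n) : Fin 4 → Fin n := ![i, j, j.rev, i.rev]

theorem rev_f2 {i : Fin n} (hi : i.rev ≠ i) : RevEmb (f2 i) := by
  refine ⟨fun a b h => ?_, fun a => ?_⟩
  · fin_cases a <;> fin_cases b <;> simp [f2, hi, hi.symm] at h ⊢
  · fin_cases a <;> simp [f2, Fin.rev]
    all_goals (apply Fin.ext; simp; omega)

theorem rev_f3 {i μ : Fin n} (hμ : μ.rev = μ) (hi : i.rev ≠ i) : RevEmb (f3 i μ) := by
  have h1 : i ≠ μ := fun e => hi (e ▸ hμ)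
  have h2 : i.rev ≠ μ := fun e => h1 (by rw [← Fin.rev_rev i, e, hμ])
  refine ⟨fun a b h => ?_, fun a => ?_⟩
  · fin_cases a <;> fin_cases b <;> simp [f3, hi, hi.symm, h1, h1.symm, h2, h2.symm] at h ⊢
  · fin_cases a
    · show f3 i μ (2 : Fin 3) = i.rev; rfl
    · show f3 i μ (1 : Fin 3) = μ.rev; rw [hμ]; rfl
    · show f3 i μ (0 : Fin 3) = i.rev.rev; rw [Fin.rev_rev]; rfl

theorem rev_f4 {i j : Fin n} (hi : i.rev ≠ i) (hj : j.rev ≠ j) (hij : i ≠ j) (hij' : i ≠ j.rev) :
    RevEmb (f4 i j) := by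
  have h3 : i.rev ≠ j.rev := fun e => hij (Fin.rev_injective e)
  have h4 : i.rev ≠ j := fun e => hij' (by rw [← e, Fin.rev_rev])
  refine ⟨fun a b h => ?_, fun a => ?_⟩
  · fin_cases a <;> fin_cases b <;>
      simp [f4, hi, hi.symm, hj, hj.symm, hij, hij.symm, hij', hij'.symm, h3, h3.symm, h4, h4.symm] at h ⊢
  · fin_cases a
    · show f4 i j (3 : Fin 4) = i.rev; rfl
    · show f4 i j (2 : Fin 4) = j.rev; rfl
    · show f4 i j (1 : Fin 4) = j.rev.rev; rw [Fin.rev_rev]; rfl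
    · show f4 i j (0 : Fin 4) = i.rev.rev; rw [Fin.rev_rev]; rfl

/-- Long root elements of `SU(n,q)`. -/
def L2 (i : Fin n) (hi : i.rev ≠ i) (b : F) (hb : c.σ b = -b) : SUs c n := emb c (rev_f2 hi) (r2 c b hb)

/-- Middle root elements of `SU(n,q)`. -/
def L3 (i μ : Fin n) (hμ : μ.rev = μ) (hi : i.rev ≠ i) (a b : F) (hb : b + c.σ b + a * c.σ a = 0) : SUs c n :=
  emb c (rev_f3 hμ hi) (r3 c a b hb)

/-- Short root elements of `SU(n,q)`. -/
def L4 (i j : Fin n) (hi : i.rev ≠ i) (hj : j.rev ≠ j) (hij : i ≠ j) (hij' : i ≠ j.rev) (x : F) : SUs c n :=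
  emb c (rev_f4 hi hj hij hij') (r4 c x)

theorem L2_val (i : Fin n) (hi : i.rev ≠ i) (b : F) (hb : c.σ b = -b) :
    (L2 c i hi b hb).1.1 = 1 + Matrix.single i i.rev b := by
  rw [L2, emb_val, show (r2 c b hb).1.1 - 1 = Matrix.single 0 1 b by
    ext r s; fin_cases r <;> fin_cases s <;> simp [r2, m2], incl_single]
  rfl

theorem L3_val (i μ : Fin n) (hμ : μ.rev = μ) (hi : i.rev ≠ i) (a b : F) (hb : b + c.σ b + a * c.σ a = 0) :
    (L3 c i μ hμ hi a b hb).1.1 =
      1 + (Matrix.single i μ a + Matrix.single μ i.rev (-c.σ a) + Matrix.single i i.rev b) := by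
  rw [L3, emb_val, show (r3 c a b hb).1.1 - 1 =
      Matrix.single 0 1 a + Matrix.single 1 2 (-c.σ a) + Matrix.single 0 2 b by
    ext r s; fin_cases r <;> fin_cases s <;> simp [r3, m3], Matrix.mul_add, Matrix.mul_add, Matrix.add_mul,
    Matrix.add_mul, incl_single, incl_single, incl_single]
  rfl

theorem L4_val (i j : Fin n) (hi : i.rev ≠ i) (hj : j.rev ≠ j) (hij : i ≠ j) (hij' : i ≠ j.rev) (x : F) :
    (L4 c i j hi hj hij hij' x).1.1 = 1 + (Matrix.single i j x + Matrix.single j.rev i.rev (-c.σ x)) := by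
  rw [L4, emb_val, show (r4 c x).1.1 - 1 = Matrix.single 0 1 x + Matrix.single 2 3 (-c.σ x) by
    ext r s; fin_cases r <;> fin_cases s <;> simp [r4, m4], Matrix.mul_add, Matrix.add_mul, incl_single, incl_single]
  rfl

theorem L2_mem {i : Fin n} (h : i < i.rev) {ℓ : Fin n → ℕ} (hℓ : ℓ i < ℓ i.rev) (b : F) (hb : c.σ b = -b) :
    L2 c i h.ne' b hb ∈ Rad c ℓ := by
  refine emb_mem_Rad c _ fun a a' ha => ?_
  fin_cases a <;> fin_cases a' <;> simp [f2, r2, m2] at ha ⊢
  exact absurd ha (not_le.mpr hℓ)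

theorem L3_mem {i μ : Fin n} (hμ : μ.rev = μ) (hi : i.rev ≠ i) {ℓ : Fin n → ℕ} (h1 : ℓ i < ℓ μ) (h2 : ℓ μ < ℓ i.rev)
    (a b : F) (hb : b + c.σ b + a * c.σ a = 0) : L3 c i μ hμ hi a b hb ∈ Rad c ℓ := by
  refine emb_mem_Rad c _ fun r s hrs => ?_
  fin_cases r <;> fin_cases s <;> simp [f3, r3, m3] at hrs ⊢ <;> omega

theorem L4_mem {i j : Fin n} (hi : i.rev ≠ i) (hj : j.rev ≠ j) (hij : i ≠ j) (hij' : i ≠ j.rev) {ℓ : Fin n → ℕ}
    (h1 : ℓ i < ℓ j) (h2 : ℓ j.rev < ℓ i.rev) (x : F) : L4 c i j hi hj hij hij' x ∈ Rad c ℓ := by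
  refine emb_mem_Rad c _ fun r s hrs => ?_
  fin_cases r <;> fin_cases s <;> simp [f4, r4, m4] at hrs ⊢ <;> omega

theorem L4_mem_UU {i j : Fin n} (hi : i.rev ≠ i) (hj : j.rev ≠ j) (hij : i < j) (hij' : i ≠ j.rev) (x : F) :
    L4 c i j hi hj hij.ne hij' x ∈ UU c n :=
  L4_mem c hi hj hij.ne hij' (ℓ := fun a : Fin n => (a : ℕ)) hij (Fin.rev_lt_rev.mpr hij) x

theorem L2_mem_UU {i : Fin n} (h : i < i.rev) (b : F) (hb : c.σ b = -b) : L2 c i h.ne' b hb ∈ UU c n :=
  L2_mem c h (ℓ := fun a : Fin n => (a : ℕ)) h b hb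

theorem L3_mem_UU {i μ : Fin n} (hμ : μ.rev = μ) (h : i < μ) (hi : i.rev ≠ i) (a b : F)
    (hb : b + c.σ b + a * c.σ a = 0) : L3 c i μ hμ hi a b hb ∈ UU c n :=
  L3_mem c hμ hi (ℓ := fun a : Fin n => (a : ℕ)) h (by rw [← Fin.lt_def, ← hμ, Fin.rev_lt_rev]; exact h) a b hb

/-- Matrices with cube-zero nilpotent part have `p`-power order. -/
theorem pow_eq_one_of_cube (p : ℕ) [Fact p.Prime] [CharP F p] {N : ℕ} {A : Matrix (Fin N) (Fin N) F}
    (h : (A - 1) ^ 3 = 0) : A ^ p ^ 2 = 1 := by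
  have hp : 3 ≤ p ^ 2 := le_trans (by norm_num) (Nat.pow_le_pow_left (Fact.out : p.Prime).two_le 2)
  rcases Nat.eq_zero_or_pos N with rfl | hN
  · exact Subsingleton.elim _ _
  haveI : Nonempty (Fin N) := ⟨⟨0, hN⟩⟩
  have e : A = (A - 1) + 1 := (sub_add_cancel A 1).symm
  haveI : ExpChar (Matrix (Fin N) (Fin N) F) p := ExpChar.prime Fact.out
  rw [e, add_pow_expChar_pow_of_commute p 2 (Commute.one_right (A - 1)), one_pow, ← Nat.sub_add_cancel hp, pow_add, h, mul_zero, zero_add]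

end CfsgLib.PSUBorel
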