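import Cfsg.Agent.Lib.Fusion.PSpBorel
import Cfsg.Agent.Lib.Fusion.GroupSimple
import Cfsg.Agent.Lib.SLPerfect

/-!
The `p`-fusion system of `PSp(2m,q)` in the defining characteristic is simple.
-/

set_option autoImplicit false
set_option linter.unusedSectionVars false
set_option maxHeartbeats 800000

namespace CfsgLib.PSpBorel

open Matrix
open CfsgLib.GroupSimple (FusionClosed Gen)

variable {F : Type*} [Field F] {m : ℕ}

local notation "Mm" => Matrix (Fin m) (Fin m) F
local notation "GLm" => GL (Fin m) F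
local notation "SLm" => SpecialLinearGroup (Fin m) F
local notation "Sp" => Matrix.symplecticGroup (Fin m) F
local notation "PS" => Cfsg.PSp m F
local notation "π" => QuotientGroup.mk' (Subgroup.center (Matrix.symplecticGroup (Fin m) F))

/-! ### Congruence invariant groups of symmetric matrices -/

theorem dG_conj (v : Fin m → Fˣ) (k l : Fin m) (c : F) :
    (dG v).1 * Matrix.single k l c * (dG v).1ᵀ = Matrix.single k l (v k * v l * c) := by
  ext i j
  rw [dG_val, Matrix.diagonal_transpose, Matrix.mul_diagonal, Matrix.diagonal_mul, Matrix.single_apply,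
    Matrix.single_apply]
  split_ifs with h
  · obtain ⟨rfl, rfl⟩ := h; ring
  · ring

theorem pG_dE (σ : Equiv.Perm (Fin m)) (k : Fin m) (c : F) :
    (pG σ : GLm).1 * dE k c * (pG σ : GLm).1ᵀ = dE (σ k) c := pG_single σ k k c

theorem pG_sE (σ : Equiv.Perm (Fin m)) (k l : Fin m) (c : F) :
    (pG σ : GLm).1 * sE k l c * (pG σ : GLm).1ᵀ = sE (σ k) (σ l) c := by
  rw [sE, Matrix.mul_add, Matrix.add_mul, pG_single, pG_single, sE]

theorem xG_col {k l : Fin m} (h : k ≠ l) (c : F) (n : Fin m) :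
    (fun i => (xG k l h c).1 i n) = Pi.single n (1 : F) + if n = l then Pi.single k c else 0 := by
  funext i
  rw [xG_val, Pi.add_apply, Matrix.add_apply]
  congr 1
  · simp [Matrix.one_apply, Pi.single_apply]
  · split_ifs with h'
    · simp [h', Matrix.single_apply, Pi.single_apply, eq_comm]
    · simp [Matrix.single_apply, Ne.symm h']

theorem xG_single {k l : Fin m} (h : k ≠ l) (t : F) (a b : Fin m) (c : F) :
    (xG k l h t).1 * Matrix.single a b c * (xG k l h t).1ᵀ =
      Matrix.single a b c + (if a = l then Matrix.single k b (t * c) else 0) +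
        (if b = l then Matrix.single a k (t * c) else 0) +
        (if a = l ∧ b = l then Matrix.single k k (t * t * c) else 0) := by
  rw [single_conj, xG_col, xG_col]
  ext i j
  by_cases ha : a = l <;> by_cases hb : b = l <;>
    simp only [ha, hb, if_true, if_false, and_self, and_true, true_and, and_false, false_and, add_zero,
      Matrix.smul_apply, Matrix.vecMulVec_apply, Pi.add_apply, Pi.single_apply, Matrix.add_apply, Matrix.single_apply,
      Matrix.zero_apply, Pi.zero_apply, smul_eq_mul] <;>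
    grind

/-- A subgroup of symmetric matrices invariant under congruence. -/
structure Inv (W : AddSubgroup (Matrix (Fin m) (Fin m) F)) : Prop where
  conj : ∀ g : GL (Fin m) F, ∀ B ∈ W, g.1 * B * g.1ᵀ ∈ W

variable {W : AddSubgroup (Matrix (Fin m) (Fin m) F)}

theorem short_of_mem (hW : Inv W) (hsmall : (∃ t : Fˣ, (t : F) ≠ 1) ∨ ∃ j : Fin m, 2 ≤ (j : ℕ)) {o i : Fin m}
    (ho : (o : ℕ) = 0) (hi : (i : ℕ) = 1) {a b : F} (hne : a ≠ 0 ∨ b ≠ 0) (hB : dE o a + sE o i b ∈ W) :
    ∃ c : F, c ≠ 0 ∧ sE o i c ∈ W := by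
  have hoi : o ≠ i := fun h => by rw [h] at ho; omega
  by_cases hb : b = 0
  · have ha : a ≠ 0 := hne.resolve_right (fun h => h hb)
    subst hb
    have hB' : dE o a ∈ W := by simpa [sE] using hB
    have hi' : dE i a ∈ W := by
      have := hW.conj (pG (Equiv.swap o i)) _ hB'
      rwa [pG_dE, Equiv.swap_apply_left] at this
    have h1 := hW.conj (xG i o hoi.symm 1) _ hB'
    rw [dE, xG_single] at h1
    simp only [if_true, and_self, one_mul] at h1
    refine ⟨a, ha, ?_⟩
    have := W.sub_mem (W.sub_mem h1 hB') hi'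
    convert this using 1
    simp only [dE, sE]
    abel
  by_cases ha : a = 0
  · subst ha
    exact ⟨b, hb, by simpa [dE] using hB⟩
  rcases hsmall with ⟨t, ht⟩ | ⟨j, hj⟩
  · refine ⟨((t : F) - 1) * b, mul_ne_zero (sub_ne_zero.mpr ht) hb, ?_⟩
    have h1 := hW.conj (dG (Function.update 1 i t)) _ hB
    rw [dE, sE, Matrix.mul_add, Matrix.mul_add, Matrix.add_mul, Matrix.add_mul, dG_conj, dG_conj, dG_conj] at h1
    simp only [Function.update_self, Function.update_of_ne hoi, Pi.one_apply, Units.val_one, one_mul, mul_one] at h1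
    have := W.sub_mem h1 hB
    convert this using 1
    simp only [dE, sE, sub_mul, one_mul]
    ext r s
    simp [Matrix.single_apply]
    split_ifs <;> ring
  · have hoj : o ≠ j := fun h => by rw [h] at ho; omega
    have hij : i ≠ j := fun h => by rw [h] at hi; omega
    refine ⟨b, hb, ?_⟩
    have h1 := hW.conj (pG (Equiv.swap i j)) _ hB
    rw [Matrix.mul_add, Matrix.add_mul, pG_dE, pG_sE, Equiv.swap_apply_left,
      Equiv.swap_apply_of_ne_of_ne hoi hoj] at h1
    have h2 := W.sub_mem hB h1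
    have h3 := hW.conj (xG j i hij.symm 1) _ h2
    rw [show dE o a + sE o i b - (dE o a + sE o j b) = Matrix.single o i b + Matrix.single i o b -
      (Matrix.single o j b + Matrix.single j o b) by simp only [sE]; abel] at h3
    simp only [Matrix.mul_sub, Matrix.sub_mul, Matrix.mul_add, Matrix.add_mul, xG_single, hoi, hij.symm, if_false,
      if_true, and_false, false_and, add_zero, one_mul] at h3
    convert h3 using 1
    simp only [sE]
    abel

theorem short_all (hW : Inv W) {o i : Fin m} (hoi : o ≠ i) {b : F} (hb : b ≠ 0) (hB : sE o i b ∈ W)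
    (k l : Fin m) (hkl : k ≠ l) (c : F) : sE k l c ∈ W := by
  rcases eq_or_ne c 0 with rfl | hc
  · simpa [sE] using W.zero_mem
  have h1 : sE o i c ∈ W := by
    have := hW.conj (dG (Function.update 1 o (Units.mk0 (c / b) (div_ne_zero hc hb)))) _ hB
    rw [sE, Matrix.mul_add, Matrix.add_mul, dG_conj, dG_conj] at this
    simp only [Function.update_self, Function.update_of_ne hoi.symm, Pi.one_apply, Units.val_one, one_mul, mul_one,
      Units.val_mk0, div_mul_cancel₀ _ hb] at this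
    exact this
  let σ : Equiv.Perm (Fin m) := Equiv.swap (Equiv.swap o k i) l * Equiv.swap o k
  have h2 := hW.conj (pG σ) _ h1
  rw [pG_sE] at h2
  have e1 : σ o = k := by
    rw [Equiv.Perm.mul_apply, Equiv.swap_apply_left, Equiv.swap_apply_of_ne_of_ne ?_ hkl]
    intro e
    exact hoi ((Equiv.swap o k).injective (by rw [Equiv.swap_apply_left]; exact e))
  have e2 : σ i = l := by rw [Equiv.Perm.mul_apply, Equiv.swap_apply_left]
  rwa [e1, e2] at h2

theorem squares_top [Fintype F] (S : AddSubgroup F) (h : ∀ c : F, c * c ∈ S) (a : F) : a ∈ S := by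
  by_cases h2 : (2 : F) = 0
  · haveI : CharP F 2 := CharTwo.of_one_ne_zero_of_two_eq_zero one_ne_zero h2
    obtain ⟨c, hc⟩ := FiniteField.isSquare_of_char_two ((ringChar.eq_iff).mpr ‹_›) a
    exact hc ▸ h c
  · have e : a = ((a + 1) / 2) * ((a + 1) / 2) - ((a - 1) / 2) * ((a - 1) / 2) := by field_simp; ring
    rw [e]
    exact S.sub_mem (h _) (h _)

theorem full_of (hW : Inv W) (hshort : ∀ k l : Fin m, k ≠ l → ∀ c : F, sE k l c ∈ W) [Fintype F] {o : Fin m}
    (hsq : ∀ c : F, dE o (c * c) ∈ W) {B : Mm} (hB : Bᵀ = B) : B ∈ W := by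
  classical
  have hdo : ∀ a : F, dE o a ∈ W := squares_top
    (W.comap (AddMonoidHom.mk' (fun a : F => dE o a) fun a b => Matrix.single_add o o a b)) hsq
  have hd : ∀ k a, dE k a ∈ W := fun k a => by
    have := hW.conj (pG (Equiv.swap o k)) _ (hdo a)
    rwa [pG_dE, Equiv.swap_apply_left] at this
  let N : Mm := Matrix.of fun k l => if k < l then B k l else 0
  have hdec : B = (∑ k, dE k (B k k)) + (N + Nᵀ) := by
    ext k l
    rw [Matrix.add_apply, Matrix.sum_apply, Finset.sum_eq_single k, Matrix.add_apply, Matrix.transpose_apply]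
    · have hkl : B l k = B k l := congrFun (congrFun hB k) l
      rcases lt_trichotomy k l with h | h | h
      · simp [dE, N, Matrix.single_apply, h, h.ne, not_lt.mpr h.le]
      · subst h; simp [dE, N, Matrix.single_apply]
      · simp [dE, N, Matrix.single_apply, h, h.ne', not_lt.mpr h.le, hkl]
    · intro b _ hb
      simp [dE, Matrix.single_apply, hb]
    · simp
  rw [hdec]
  refine W.add_mem (W.sum_mem fun k _ => hd k _) ?_
  have hN : N + Nᵀ = ∑ k, ∑ l, sE k l (N k l) := by
    conv_lhs => rw [Matrix.matrix_eq_sum_single N]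
    simp only [Matrix.transpose_sum, Matrix.transpose_single, ← Finset.sum_add_distrib, sE]
  rw [hN]
  refine W.sum_mem fun k _ => W.sum_mem fun l _ => ?_
  rcases eq_or_ne k l with rfl | h
  · simp [N, sE]
  · exact hshort k l h _

variable [Fintype F] (p : ℕ) [Fact p.Prime] [CharP F p]

/-! ### Closed subgroups -/

theorem commute_UT (hm : 1 ≤ m) {x y : Sp} (hx : x ∈ UT F m) (hy : y ∈ UT F m) (h : π x * π y = π y * π x) :
    x * y = y * x := by
  refine mul_inv_eq_one.mp (UT_inf_center hm (mul_mem (mul_mem hx hy) (inv_mem (mul_mem hy hx))) ?_)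
  rw [← QuotientGroup.ker_mk' (Subgroup.center Sp), MonoidHom.mem_ker, map_mul, map_inv, map_mul, map_mul, h,
    mul_inv_cancel]

theorem eq_one_of_fix {A : SLm} (hA : A ∈ PSLn.upper F m) (h : ∀ k, A.1 * dE k 1 * A.1ᵀ = dE k (1 : F)) : A = 1 := by
  refine Subtype.ext ?_
  ext i k
  rcases le_or_gt k i with hik | hik
  · exact hA i k hik
  · have := congrFun (congrFun (h k) i) k
    rw [dE, single_conj, one_smul, Matrix.vecMulVec_apply, hA k k le_rfl, Matrix.one_apply_eq, mul_one,
      Matrix.single_apply_of_ne _ _ _ _ _ (fun e => hik.ne e.1.symm)] at this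
    rw [this]; exact (Matrix.one_apply_ne hik.ne).symm

theorem eq_one_of_commute (hm : 1 ≤ m) {A : SLm} (hA : A ∈ PSLn.upper F m) {B : Mm} (h : Bᵀ = B)
    (hc : ∀ k, Lv (SpecialLinearGroup.toGL A) * Sg B h * Sg (dE k 1) (dE_symm k 1) =
      Sg (dE k 1) (dE_symm k 1) * (Lv (SpecialLinearGroup.toGL A) * Sg B h)) : A = 1 := by
  refine eq_one_of_fix hA fun k => ?_
  have e := hc k
  rw [mul_assoc, Sg_mul, Sg_congr _ (add_symm (dE_symm k 1) h) (add_comm B _), ← Sg_mul (dE_symm k 1) h, ← mul_assoc,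
    ← mul_assoc, mul_left_inj, ← mul_inv_eq_iff_eq_mul, Lv_Sg] at e
  exact (Matrix.fromBlocks_inj.mp (congrArg Subtype.val e)).2.1

theorem shape {B : Mm} (hB : Bᵀ = B) {o i : Fin m} (ho : (o : ℕ) = 0) (hi : (i : ℕ) = 1)
    (h : ∀ (k l : Fin m) (hkl : k < l), (xG k l hkl.ne 1).1 * B * (xG k l hkl.ne 1).1ᵀ = B) :
    B = dE o (B o o) + sE o i (B o i) := by
  have key : ∀ k l n : Fin m, k < l → n ≠ k → B l n = 0 := by
    intro k l n hkl hn
    have e := congrFun (congrFun (h k l hkl) k) n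
    rw [Matrix.mul_apply, Finset.sum_eq_single n] at e
    · rw [Matrix.transpose_apply, xG_val, Matrix.add_apply, Matrix.one_apply_eq,
        Matrix.single_apply_of_ne _ _ _ _ _ (fun e => hn e.1.symm), add_zero, mul_one, Matrix.add_mul, Matrix.one_mul,
        Matrix.add_apply, Matrix.single_mul_apply_same, one_mul] at e
      exact add_eq_left.mp e
    · intro b _ hb
      rw [Matrix.transpose_apply, xG_val, Matrix.add_apply, Matrix.one_apply_ne hb.symm,
        Matrix.single_apply_of_ne _ _ _ _ _ (fun e => hn e.1.symm), add_zero, mul_zero]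
    · simp
  have hz : ∀ k l : Fin m, 1 ≤ (k : ℕ) → (l : ℕ) ≠ 0 → B k l = 0 := fun k l hk hl =>
    key o k l (by rw [Fin.lt_def, ho]; omega) (fun e => hl (by rw [e, ho]))
  have hz2 : ∀ k : Fin m, 2 ≤ (k : ℕ) → B k o = 0 := fun k hk =>
    key i k o (by rw [Fin.lt_def, hi]; omega) (fun e => by rw [e, hi] at ho; omega)
  have hsym : ∀ k l, B k l = B l k := fun k l => congrFun (congrFun hB.symm k) l
  have hoi : o ≠ i := fun e => by rw [e, hi] at ho; omega
  ext k l
  rw [Matrix.add_apply, sE, Matrix.add_apply, dE, Matrix.single_apply, Matrix.single_apply, Matrix.single_apply]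
  rcases eq_or_ne k o with rfl | hk
  · rcases eq_or_ne l k with rfl | hl
    · simp [hoi.symm]
    rcases eq_or_ne l i with rfl | hl'
    · simp [hl.symm, hl]
    · have h2 : 2 ≤ (l : ℕ) := by
        have : (l : ℕ) ≠ 0 := fun e => hl (Fin.ext (e.trans ho.symm))
        have : (l : ℕ) ≠ 1 := fun e => hl' (Fin.ext (e.trans hi.symm))
        omega
      rw [hsym k l, hz2 l h2]
      simp [hl.symm, hl'.symm, hoi.symm]
  · have hk0 : (k : ℕ) ≠ 0 := fun e => hk (Fin.ext (e.trans ho.symm))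
    rcases eq_or_ne l o with rfl | hl
    · rcases eq_or_ne k i with rfl | hk'
      · simp [hk.symm, hsym l k]
      · have h2 : 2 ≤ (k : ℕ) := by
          have : (k : ℕ) ≠ 1 := fun e => hk' (Fin.ext (e.trans hi.symm))
          omega
        rw [hz2 k h2]
        simp [hk.symm, hk'.symm]
    · rw [hz k l (by omega) (fun e => hl (Fin.ext (e.trans ho.symm)))]
      simp [hk.symm, hl.symm]

theorem closed_eq (hm : 2 ≤ m) (hex : m = 2 → 3 ≤ Fintype.card F) (T : Subgroup PS)
    (hT : FusionClosed ((sylowU (F := F) (m := m) p (by omega) : Sylow p PS) : Subgroup PS) T) (h1 : T ≠ ⊥) :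
    ((sylowU (F := F) (m := m) p (by omega) : Sylow p PS) : Subgroup PS) ≤ T := by
  classical
  set UP : Subgroup PS := ((sylowU (F := F) (m := m) p (by omega) : Sylow p PS) : Subgroup PS) with hUP
  obtain ⟨hTU, hcl⟩ := hT
  haveI : Group.IsNilpotent UP := (sylowU (F := F) (m := m) p (by omega)).2.isNilpotent
  haveI : (T.subgroupOf UP).Normal := ⟨fun x hx g => hcl _ hx (g : PS) (g * x * g⁻¹).2⟩
  have hne : T.subgroupOf UP ⊓ Subgroup.center UP ≠ ⊥ :=
    CfsgLib.inf_center_ne_bot_of_nilpotent (fun h => h1 (by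
      rw [← inf_eq_left.mpr hTU, ← Subgroup.subgroupOf_map_subtype, h, Subgroup.map_bot]))
  obtain ⟨⟨c, hc⟩, hc1⟩ := Subgroup.ne_bot_iff_exists_ne_one.mp hne
  set T' : Subgroup Sp := T.comap π with hT'
  have hcl' : ∀ y ∈ T', ∀ g : Sp, g * y * g⁻¹ ∈ UT F m → g * y * g⁻¹ ∈ T' := by
    intro y hy g hg
    show π (g * y * g⁻¹) ∈ T
    have := hcl (π y) hy (π g) (by rw [← map_inv, ← map_mul, ← map_mul]; exact ⟨_, hg, rfl⟩)
    rwa [← map_inv, ← map_mul, ← map_mul] at this
  obtain ⟨z, hzU, hzc⟩ := (c.2 : (c : PS) ∈ (UT F m).map π)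
  have hzT : z ∈ T' := by show π z ∈ T; rw [hzc]; exact hc.1
  have hcomm : ∀ y ∈ UT F m, z * y = y * z := fun y hy => commute_UT (by omega) hzU hy (by
    rw [hzc]
    exact (congrArg Subtype.val (Subgroup.mem_center_iff.mp hc.2 ⟨π y, ⟨y, hy, rfl⟩⟩)).symm)
  obtain ⟨A, hA, B, hBs, rfl⟩ := hzU
  have hA1 : A = 1 := eq_one_of_commute (by omega) hA hBs fun k => hcomm _ (Sg_mem _ _)
  subst hA1
  simp only [map_one, one_mul] at hzT hcomm hzc
  let W : AddSubgroup Mm :=
    { carrier := {B | ∃ h : Bᵀ = B, Sg B h ∈ T'}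
      zero_mem' := ⟨Matrix.transpose_zero, by rw [Sg_zero]; exact one_mem T'⟩
      add_mem' := by
        rintro _ _ ⟨h, hB⟩ ⟨h', hB'⟩
        exact ⟨add_symm h h', Sg_mul h h' ▸ mul_mem hB hB'⟩
      neg_mem' := by
        rintro _ ⟨h, hB⟩
        exact ⟨by rw [Matrix.transpose_neg, h], Sg_inv h ▸ inv_mem hB⟩ }
  have hW : Inv W := ⟨fun g B ⟨h, hB⟩ => ⟨conj_symm _ h,
    Lv_Sg g h ▸ hcl' _ hB (Lv g) (by rw [Lv_Sg]; exact Sg_mem _ _)⟩⟩
  set o : Fin m := ⟨0, by omega⟩
  set i : Fin m := ⟨1, by omega⟩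
  have hoi : o ≠ i := by simp [o, i, Fin.ext_iff]
  have hfix : ∀ (k l : Fin m) (hkl : k < l), (xG k l hkl.ne 1).1 * B * (xG k l hkl.ne 1).1ᵀ = B := by
    intro k l hkl
    have e := hcomm _ (xG_mem hkl (1 : F))
    have e2 : Sg _ (conj_symm (xG k l hkl.ne 1).1 hBs) = Sg B hBs := by
      rw [← Lv_Sg, mul_inv_eq_iff_eq_mul, e]
    exact (Matrix.fromBlocks_inj.mp (congrArg Subtype.val e2)).2.1
  have hshape := shape hBs (o := o) (i := i) rfl rfl hfix
  have hne0 : B o o ≠ 0 ∨ B o i ≠ 0 := by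
    by_contra hcon
    push Not at hcon
    rw [hcon.1, hcon.2] at hshape
    refine hc1 (Subtype.ext (Subtype.ext ?_))
    rw [← hzc, Sg_congr hBs Matrix.transpose_zero (by rw [hshape]; simp [dE, sE]), Sg_zero, map_one]
    rfl
  have hsmall : (∃ t : Fˣ, (t : F) ≠ 1) ∨ ∃ j : Fin m, 2 ≤ (j : ℕ) := by
    rcases Nat.lt_or_ge 2 m with h | h
    · exact Or.inr ⟨⟨2, h⟩, le_rfl⟩
    · left
      have h3 := hex (by omega)
      by_contra hcon
      push Not at hcon
      have : Fintype.card Fˣ ≤ 1 := Fintype.card_le_one_iff.mpr fun a b => Units.ext ((hcon a).trans (hcon b).symm)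
      rw [Fintype.card_units] at this
      omega
  obtain ⟨b, hb, hbW⟩ := short_of_mem hW hsmall (o := o) (i := i) rfl rfl hne0 (hshape ▸ ⟨hBs, hzT⟩)
  have hshort := short_all hW hoi hb hbW
  have hroot : ∀ (k l : Fin m) (hkl : k < l) (c : F), Lv (xG k l hkl.ne c) ∈ T' := by
    intro k l hkl c
    obtain ⟨h, hm'⟩ := hshort k l hkl.ne (-c)
    have := hcl' _ hm' (wE l) (by rw [wE_Sg hkl.ne, neg_neg]; exact xG_mem hkl c)
    rwa [wE_Sg hkl.ne, neg_neg] at this
  have hsq : ∀ c : F, dE o (c * c) ∈ W := by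
    intro c
    have hlt : o < i := by simp [o, i, Fin.lt_def]
    have hy := hroot o i hlt c
    have h2 : Sg (dE i 1) (dE_symm i 1) * (Lv (xG o i hlt.ne c))⁻¹ * (Sg (dE i 1) (dE_symm i 1))⁻¹ ∈ T' :=
      hcl' _ (inv_mem hy) _ (mul_mem (mul_mem (Sg_mem _ _) (inv_mem (xG_mem hlt c))) (inv_mem (Sg_mem _ _)))
    have h3 := mul_mem hy h2
    rw [← mul_assoc, ← mul_assoc, Lv_Sg, Sg_inv, Sg_mul] at h3
    have h4 := W.sub_mem (show _ ∈ W from ⟨_, h3⟩) (hshort o i hoi c)
    convert h4 using 1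
    simp only [dE, sE]
    rw [xG_single]
    simp only [if_true, and_self, mul_one]
    abel
  intro x hx
  obtain ⟨u, hu, rfl⟩ := (hx : x ∈ (UT F m).map π)
  show u ∈ T'
  obtain ⟨A, hA, B', hB', rfl⟩ := hu
  refine mul_mem ?_ ?_
  · refine (Subgroup.closure_le (K := T'.comap ((Lv).comp SpecialLinearGroup.toGL))).mpr ?_
      (PSLn.upper_le_closure hA)
    rintro _ ⟨k, l, hkl, t, rfl⟩
    exact hroot k l hkl t
  · obtain ⟨_, h⟩ := full_of hW hshort hsq hB'
    exact h

/-! ### Normalizers -/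

theorem mem_normalizer_of_conj {G : Type*} [Group G] [Finite G] (H : Subgroup G) {g : G}
    (h : ∀ x ∈ H, g * x * g⁻¹ ∈ H) : g ∈ Subgroup.normalizer (H : Set G) := by
  have hle : H.map (MulAut.conj g).toMonoidHom ≤ H := CfsgLib.GroupSimple.map_conj_le_iff.mpr h
  have heq := Subgroup.eq_of_le_of_card_ge hle (by
    rw [Subgroup.card_map_of_injective (MulAut.conj g).injective])
  rw [Subgroup.mem_normalizer_iff]
  intro x
  refine ⟨h x, fun hx => ?_⟩
  rw [← heq] at hx
  obtain ⟨y, hy, he⟩ := hx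
  have : y = x := (MulAut.conj g).injective he
  exact this ▸ hy

theorem map_normalizer (R : Subgroup Sp) {y : Sp} (h : ∀ x ∈ R, y * x * y⁻¹ ∈ R) :
    π y ∈ Subgroup.normalizer ((R.map π : Subgroup PS) : Set PS) := by
  refine mem_normalizer_of_conj _ ?_
  rintro _ ⟨x, hx, rfl⟩
  exact ⟨_, h x hx, by rw [map_mul, map_mul, map_inv]⟩

/-- The Siegel radical. -/
def R1 (F : Type*) [Field F] [Fintype F] (m : ℕ) : Subgroup (Matrix.symplecticGroup (Fin m) F) :=
  ofClosed {M | ∃ (B : Matrix (Fin m) (Fin m) F) (h : Bᵀ = B), M = Sg B h} ⟨0, Matrix.transpose_zero, Sg_zero.symm⟩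
    (by rintro _ ⟨B, h, rfl⟩ _ ⟨B', h', rfl⟩; exact ⟨_, _, Sg_mul h h'⟩)

theorem R1_conj (g : GLm) {x : Sp} (hx : x ∈ R1 F m) : Lv g * x * (Lv g)⁻¹ ∈ R1 F m := by
  obtain ⟨B, h, rfl⟩ := hx
  exact ⟨_, _, Lv_Sg g h⟩

/-- Positions away from the first hyperbolic pair. -/
def Mid (o : Fin m) (x : Fin m ⊕ Fin m) : Prop := x ≠ Sum.inl o ∧ x ≠ Sum.inr o

/-- The stabiliser of the first line. -/
def Par (o : Fin m) : Subgroup (Matrix.symplecticGroup (Fin m) F) :=
  ofClosed {M | (∀ x, x ≠ Sum.inl o → M.1 x (Sum.inl o) = 0) ∧ (∀ y, y ≠ Sum.inr o → M.1 (Sum.inr o) y = 0)}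
    ⟨fun x hx => by simp [Matrix.one_apply_ne hx], fun y hy => by simp [Matrix.one_apply_ne hy.symm]⟩
    (by
      rintro M ⟨h1, h2⟩ N ⟨k1, k2⟩
      refine ⟨fun x hx => ?_, fun y hy => ?_⟩ <;> show (M.1 * N.1) _ _ = 0 <;> rw [Matrix.mul_apply] <;>
        refine Finset.sum_eq_zero fun z _ => ?_
      · rcases eq_or_ne z (Sum.inl o) with rfl | hz
        · rw [h1 x hx, zero_mul]
        · rw [k1 z hz, mul_zero]
      · rcases eq_or_ne z (Sum.inr o) with rfl | hz
        · rw [k2 y hy, mul_zero]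
        · rw [h2 z hz, zero_mul])

theorem Par_diag {o : Fin m} {g h : Sp} (hh : h ∈ Par o) :
    (g * h).1 (Sum.inl o) (Sum.inl o) = g.1 (Sum.inl o) (Sum.inl o) * h.1 (Sum.inl o) (Sum.inl o) := by
  show (g.1 * h.1) _ _ = _
  rw [Matrix.mul_apply, Finset.sum_eq_single (Sum.inl o)]
  · intro b _ hb
    rw [hh.1 b hb, mul_zero]
  · simp

/-- Its unipotent radical. -/
def R2 (o : Fin m) : Subgroup (Matrix.symplecticGroup (Fin m) F) :=
  ofClosed {M | M ∈ Par o ∧ M.1 (Sum.inl o) (Sum.inl o) = 1 ∧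
      ∀ x y, Mid o x → Mid o y → M.1 x y = (1 : Matrix (Fin m ⊕ Fin m) (Fin m ⊕ Fin m) F) x y}
    ⟨one_mem _, by simp, fun x y _ _ => rfl⟩
    (by
      rintro M ⟨hM, hMo, hMm⟩ N ⟨hN, hNo, hNm⟩
      refine ⟨mul_mem hM hN, by rw [Par_diag hN, hMo, hNo, one_mul], fun x y hx hy => ?_⟩
      show (M.1 * N.1) x y = _
      rw [Matrix.mul_apply, Finset.sum_eq_single x]
      · rw [hMm x x hx hx, Matrix.one_apply_eq, one_mul, hNm x y hx hy]
      · intro b _ hb
        by_cases hbl : b = Sum.inl o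
        · rw [hbl, hM.1 x hx.1, zero_mul]
        by_cases hbr : b = Sum.inr o
        · rw [hbr, hN.2 y hy.2, mul_zero]
        rw [hMm x b hx ⟨hbl, hbr⟩, Matrix.one_apply_ne hb.symm, zero_mul]
      · simp)

theorem R2_conj {o : Fin m} {g x : Sp} (hg : g ∈ Par o) (hx : x ∈ R2 o) : g * x * g⁻¹ ∈ R2 o := by
  obtain ⟨hxP, hxo, hxm⟩ := hx
  refine ⟨mul_mem (mul_mem hg hxP) (inv_mem hg), ?_, fun a b ha hb => ?_⟩
  · rw [Par_diag (inv_mem hg), Par_diag hxP, hxo, mul_one, ← Par_diag (inv_mem hg), mul_inv_cancel]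
    simp
  have hgg : (g.1 * (g⁻¹).1 : Matrix (Fin m ⊕ Fin m) (Fin m ⊕ Fin m) F) = 1 := congrArg Subtype.val (mul_inv_cancel g)
  show ((g.1 * x.1) * (g⁻¹).1) a b = _
  rw [← hgg, Matrix.mul_apply, Matrix.mul_apply]
  refine Finset.sum_congr rfl fun z _ => ?_
  by_cases hzl : z = Sum.inl o
  · have h1 : (g.1 * x.1) a (Sum.inl o) = 0 := (mul_mem hg hxP).1 a ha.1
    rw [hzl, h1, hg.1 a ha.1]
  by_cases hzr : z = Sum.inr o
  · rw [hzr, (inv_mem hg).2 b hb.2, mul_zero, mul_zero]
  congr 1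
  rw [Matrix.mul_apply, Finset.sum_eq_single z]
  · rw [hxm z z ⟨hzl, hzr⟩ ⟨hzl, hzr⟩, Matrix.one_apply_eq, mul_one]
  · intro w _ hw
    by_cases hwl : w = Sum.inl o
    · rw [hwl, hg.1 a ha.1, zero_mul]
    by_cases hwr : w = Sum.inr o
    · rw [hwr, hxP.2 z hzr, mul_zero]
    rw [hxm w z ⟨hwl, hwr⟩ ⟨hzl, hzr⟩, Matrix.one_apply_ne hw, mul_zero]
  · simp

theorem UT_val {A : SLm} {B : Mm} (h : Bᵀ = B) :
    (Lv (SpecialLinearGroup.toGL A) * Sg B h).1 = Matrix.fromBlocks A.1 (A.1 * B) 0 (A⁻¹).1ᵀ := by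
  rw [Lv_mul_Sg_val, ← map_inv]; rfl

theorem UT_le_Par {o : Fin m} (ho : (o : ℕ) = 0) : UT F m ≤ Par o := by
  rintro _ ⟨A, hA, B, h, rfl⟩
  have hle : ∀ k : Fin m, o ≤ k := fun k => by rw [Fin.le_def, ho]; omega
  constructor
  · intro x hx
    rw [UT_val]
    rcases x with k | k
    · rw [Matrix.fromBlocks_apply₁₁, hA k o (hle k), Matrix.one_apply_ne (fun e => hx (by rw [e]))]
    · simp
  · intro y hy
    rw [UT_val]
    rcases y with l | l
    · simp
    · rw [Matrix.fromBlocks_apply₂₂, Matrix.transpose_apply, inv_mem hA l o (hle l),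
        Matrix.one_apply_ne (fun e => hy (by rw [e]))]

theorem R2_le_UT {o : Fin m} (ho : (o : ℕ) = 0) : R2 o ≤ UT F m := by
  rintro M ⟨⟨h1, h2⟩, hMo, hmid⟩
  refine mem_UT_of_blocks ?_ ?_
  · ext k l
    show M.1 (Sum.inr k) (Sum.inl l) = 0
    rcases eq_or_ne l o with rfl | hl
    · exact h1 _ (by simp)
    rcases eq_or_ne k o with rfl | hk
    · exact h2 _ (by simp)
    rw [hmid _ _ ⟨by simp, by simpa using hk⟩ ⟨by simpa using hl, by simp⟩]
    simp
  · intro k l hlk
    show M.1 (Sum.inl k) (Sum.inl l) = _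
    rcases eq_or_ne l o with rfl | hl
    · rcases eq_or_ne k l with rfl | hk
      · rw [hMo, Matrix.one_apply_eq]
      · rw [h1 _ (by simpa using hk), Matrix.one_apply_ne hk]
    have hk : k ≠ o := fun e => hl (Fin.ext (by
      have h3 : (l : ℕ) ≤ k := hlk
      rw [e] at h3
      omega))
    rw [hmid _ _ ⟨by simpa using hk, by simp⟩ ⟨by simpa using hl, by simp⟩]
    simp [Matrix.one_apply]

/-- The lower root element at `i`. -/
def Lo (i : Fin m) (c : F) : Matrix.symplecticGroup (Fin m) F :=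
  ⟨Matrix.fromBlocks 1 0 (dE i c) 1, mem_blocks.mpr ⟨by simp, by simp, by simp, by simp [dE_symm]⟩⟩

theorem Lo_pow (i : Fin m) (c : F) (k : ℕ) : Lo i c ^ k = Lo i ((k : F) * c) := by
  induction k with
  | zero => exact Subtype.ext (by simp [Lo, dE])
  | succ k ih =>
    rw [pow_succ, ih]
    refine Subtype.ext ?_
    show Matrix.fromBlocks 1 0 (dE i ((k : F) * c)) 1 * Matrix.fromBlocks 1 0 (dE i c) 1 =
      Matrix.fromBlocks 1 0 (dE i (((k + 1 : ℕ) : F) * c)) 1
    simp [Matrix.fromBlocks_multiply, dE, ← Matrix.single_add, add_mul, add_comm]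

theorem Sg_pow (B : Mm) (h : Bᵀ = B) (k : ℕ) :
    Sg B h ^ k = Sg ((k : F) • B) (by rw [Matrix.transpose_smul, h]) := by
  induction k with
  | zero => rw [pow_zero, ← Sg_zero]; exact Sg_congr _ _ (by simp)
  | succ k ih => rw [pow_succ, ih, Sg_mul]; exact Sg_congr _ _ (by simp [add_smul])

theorem orderOf_map {x : Sp} (hx : x ^ p = 1) : ∃ k : ℕ, orderOf (π x) = p ^ k := by
  obtain ⟨k, -, hk⟩ := (Nat.dvd_prime_pow (Fact.out : p.Prime)).mp
    (show orderOf (π x) ∣ p ^ 1 by rw [pow_one]; exact orderOf_dvd_of_pow_eq_one (by rw [← map_pow, hx, map_one]))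
  exact ⟨k, hk⟩

/-- The rank one torus through root elements. -/
theorem torus_eq (i : Fin m) (t : Fˣ) :
    Sg (dE i (t : F)) (dE_symm _ _) * Lo i (-(t : F)⁻¹) * Sg (dE i ((t : F) - 1)) (dE_symm _ _) * Lo i 1 *
      Sg (dE i (-1)) (dE_symm _ _) = Lv (dG (Function.update 1 i t)) := by
  refine Subtype.ext ?_
  show Matrix.fromBlocks 1 (dE i (t : F)) 0 1 * Matrix.fromBlocks 1 0 (dE i (-(t : F)⁻¹)) 1 *
      Matrix.fromBlocks 1 (dE i ((t : F) - 1)) 0 1 * Matrix.fromBlocks 1 0 (dE i 1) 1 *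
      Matrix.fromBlocks 1 (dE i (-1)) 0 1 =
    Matrix.fromBlocks (dG (Function.update 1 i t)).1 0 0 ((dG (Function.update 1 i t))⁻¹).1ᵀ
  have ht : (t : F) ≠ 0 := t.ne_zero
  rw [← map_inv, dG_val, dG_val]
  simp only [dE, Matrix.fromBlocks_multiply, Matrix.mul_zero, Matrix.zero_mul, Matrix.one_mul, Matrix.mul_one,
    add_zero, zero_add, Matrix.add_mul, Matrix.mul_add, Matrix.single_mul_single_same, Matrix.diagonal_transpose]
  rw [Matrix.fromBlocks_inj]
  refine ⟨?_, ?_, ?_, ?_⟩ <;>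
    · ext r s
      rcases eq_or_ne r i with rfl | hr <;> rcases eq_or_ne s r with rfl | hs
      all_goals simp_all [Matrix.one_apply, Matrix.single_apply, Matrix.diagonal_apply, Function.update_apply, Ne.symm]
      all_goals (try split_ifs)
      all_goals (try simp_all)
      all_goals (try field_simp)
      all_goals ring

/-- Vectors in the span of the first `k` basis vectors. -/
def InV (k : ℕ) (x : Fin m ⊕ Fin m → F) : Prop :=
  (∀ l, x (Sum.inr l) = 0) ∧ ∀ l : Fin m, k ≤ (l : ℕ) → x (Sum.inl l) = 0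

theorem Sg_mulVec (B : Mm) (h : Bᵀ = B) (y : Fin m ⊕ Fin m → F) (r : Fin m) :
    ((Sg B h).1 *ᵥ y - y) (Sum.inl r) = ∑ j, B r j * y (Sum.inr j) := by
  rw [Sg_val, Matrix.fromBlocks_mulVec]
  simp [Matrix.mulVec, dotProduct]

theorem flag {g : Sp} (hg : ∀ u ∈ UT F m, g⁻¹ * u * g ∈ UT F m) :
    ∀ k, k ≤ m → ∀ x, InV k x → InV k (g.1 *ᵥ x) := by
  intro k
  induction k with
  | zero =>
    intro _ x hx
    have : x = 0 := funext fun a => by
      rcases a with l | l
      · exact hx.2 l (Nat.zero_le _)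
      · exact hx.1 l
    rw [this, Matrix.mulVec_zero]
    exact ⟨fun _ => rfl, fun _ _ => rfl⟩
  | succ k ih =>
    intro hk x hx
    set y := g.1 *ᵥ x with hy
    have hact : ∀ u ∈ UT F m, InV k (u.1 *ᵥ y - y) := by
      intro u hu
      obtain ⟨A, hA, B, hB, e⟩ := hg u hu
      have e1 : u.1 *ᵥ y - y = g.1 *ᵥ ((Lv (SpecialLinearGroup.toGL A) * Sg B hB).1 *ᵥ x - x) := by
        rw [← e, Matrix.mulVec_sub, Matrix.mulVec_mulVec, hy, Matrix.mulVec_mulVec]
        congr 2
        show (u * g).1 = (g * (g⁻¹ * u * g)).1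
        rw [← mul_assoc, mul_inv_cancel_left]
      rw [e1]
      refine ih (by omega) _ ⟨fun l => ?_, fun l hl => ?_⟩
      · rw [Pi.sub_apply, UT_val, Matrix.fromBlocks_mulVec]
        rw [show x ∘ Sum.inr = 0 from funext hx.1, Matrix.mulVec_zero]
        simp [hx.1]
      · rw [Pi.sub_apply, UT_val, Matrix.fromBlocks_mulVec]
        simp only [Sum.elim_inl, Pi.add_apply]
        rw [show x ∘ Sum.inr = 0 from funext hx.1, Matrix.mulVec_zero, Pi.zero_apply, add_zero, Matrix.mulVec,
          dotProduct, Finset.sum_eq_single l]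
        · rw [hA l l le_rfl, Matrix.one_apply_eq, one_mul, Function.comp_apply, sub_self]
        · intro j _ hj
          rcases lt_or_gt_of_ne hj with h | h
          · rw [hA l j h.le, Matrix.one_apply_ne h.ne', zero_mul]
          · rw [Function.comp_apply, hx.2 j (by rw [Fin.lt_def] at h; omega), mul_zero]
        · simp
    have hk' : k < m := hk
    set kk : Fin m := ⟨k, hk'⟩
    have hf : ∀ l, y (Sum.inr l) = 0 := by
      intro l
      rcases Nat.lt_or_ge (l : ℕ) k with hl | hl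
      · have h := (hact _ (Sg_mem (sE l kk 1) (sE_symm _ _ _))).2 kk le_rfl
        rw [Sg_mulVec] at h
        have hne : l ≠ kk := fun e => by rw [e] at hl; simp [kk] at hl
        simpa [sE, Matrix.single_apply, hne, hne.symm] using h
      · have h := (hact _ (Sg_mem (dE l 1) (dE_symm _ _))).2 l hl
        rw [Sg_mulVec] at h
        simpa [dE, Matrix.single_apply] using h
    refine ⟨hf, fun l hl => ?_⟩
    have hlt : kk < l := by rw [Fin.lt_def]; exact hl
    have h := (hact _ (xG_mem hlt 1)).2 kk le_rfl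
    rw [Pi.sub_apply, Lv_val, Matrix.fromBlocks_mulVec] at h
    simp only [Sum.elim_inl, Pi.add_apply, Matrix.zero_mulVec, Pi.zero_apply, add_zero, xG_val, Matrix.add_mulVec,
      Matrix.one_mulVec, Function.comp_apply, add_sub_cancel_left] at h
    simpa [Matrix.single_mulVec] using h

theorem normalizer_le (hm : 2 ≤ m) :
    Subgroup.normalizer (((sylowU (F := F) (m := m) p (by omega) : Sylow p PS) : Subgroup PS) : Set PS) ≤
      Subgroup.closure {g | Gen (sylowU (F := F) (m := m) p (by omega)) g} := by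
  classical
  set U : Sylow p PS := sylowU (F := F) (m := m) p (by omega) with hU
  set K := Subgroup.closure {g | Gen U g}
  have hUK : ∀ u ∈ UT F m, π u ∈ K := by
    intro u hu
    have hu' : π u ∈ (U : Subgroup PS) := ⟨u, hu, rfl⟩
    obtain ⟨k, hk⟩ := IsPGroup.iff_orderOf.mp U.2 ⟨π u, hu'⟩
    exact Subgroup.subset_closure ⟨Subgroup.le_normalizer hu', U, le_rfl, Subgroup.le_normalizer, inf_le_left,
      Subgroup.subset_closure ⟨Subgroup.le_normalizer hu', k, by rw [← hk]; exact (Subgroup.orderOf_mk _ _).symm⟩⟩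
  have hdN : ∀ v : Fin m → Fˣ, π (Lv (dG v)) ∈ Subgroup.normalizer ((U : Subgroup PS) : Set PS) := by
    intro v
    refine map_normalizer (UT F m) ?_
    rintro _ ⟨A, hA, B, h, rfl⟩
    refine ⟨PSLn.conjSL (dG v) A, fun k l hkl => ?_, _, conj_symm (dG v).1 h, ?_⟩
    · rw [PSLn.coe_conjSL, ← map_inv, dG_val, dG_val, Matrix.mul_diagonal, Matrix.diagonal_mul, hA k l hkl]
      rcases eq_or_ne k l with rfl | hne
      · simp
      · simp [Matrix.one_apply_ne hne]
    · rw [← Lv_Sg (dG v) h,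
        show SpecialLinearGroup.toGL (PSLn.conjSL (dG v) A) = dG v * SpecialLinearGroup.toGL A * (dG v)⁻¹ from
          Units.ext rfl, map_mul, map_mul, map_inv]
      group
  set o : Fin m := ⟨0, by omega⟩
  set i : Fin m := ⟨1, by omega⟩
  have hoi : o ≠ i := by simp [o, i, Fin.ext_iff]
  -- determinant one
  have hS : ∀ v : Fin m → Fˣ, ∀ D : SLm, SpecialLinearGroup.toGL D = dG v → π (Lv (dG v)) ∈ K := by
    intro v D hD
    refine Subgroup.subset_closure ⟨hdN v, (R1 F m).map π, Subgroup.map_mono ?_, ?_, ?_, ?_⟩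
    · rintro _ ⟨B, h, rfl⟩; exact Sg_mem B h
    · rintro _ ⟨u, ⟨A, hA, B, h, rfl⟩, rfl⟩
      refine map_normalizer (R1 F m) ?_
      rintro _ ⟨B', h', rfl⟩
      have e : Lv (SpecialLinearGroup.toGL A) * Sg B h * Sg B' h' * (Lv (SpecialLinearGroup.toGL A) * Sg B h)⁻¹ =
          Lv (SpecialLinearGroup.toGL A) * Sg B' h' * (Lv (SpecialLinearGroup.toGL A))⁻¹ := by
        rw [mul_assoc _ (Sg B h), Sg_mul, Sg_congr _ (add_symm h' h) (add_comm B B'), ← Sg_mul h' h]
        group
      rw [e]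
      exact R1_conj _ ⟨B', h', rfl⟩
    · rintro _ ⟨⟨u, hu, rfl⟩, hC⟩
      obtain ⟨A, hA, B, h, rfl⟩ := hu
      have hA1 : A = 1 := eq_one_of_commute (by omega) hA h fun k =>
        commute_UT (by omega) ⟨A, hA, B, h, rfl⟩ (Sg_mem _ _)
          (Subgroup.mem_centralizer_iff.mp hC _ ⟨_, ⟨_, dE_symm k 1, rfl⟩, rfl⟩).symm
      exact ⟨Sg B h, ⟨B, h, rfl⟩, by rw [hA1, map_one, map_one, one_mul]⟩
    · rw [← hD]
      have htr : ∀ (a b : Fin m) (hab : a ≠ b) (c : F),
          π (Lv (SpecialLinearGroup.toGL (SpecialLinearGroup.transvection hab c : SLm))) ∈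
            Subgroup.closure {x : PS | x ∈ Subgroup.normalizer (((R1 F m).map π : Subgroup PS) : Set PS) ∧
              ∃ k : ℕ, orderOf x = p ^ k} := fun a b hab c =>
        Subgroup.subset_closure ⟨map_normalizer _ fun x hx => R1_conj _ hx, orderOf_map p (by
          rw [← map_pow, ← map_pow, show (SpecialLinearGroup.transvection hab c : SLm) = PSLn.xx a b hab c from rfl,
            PSLn.xx_pow, CharP.cast_eq_zero F p, zero_mul, PSLn.xx_zero, map_one, map_one])⟩
      haveI : Nontrivial (Fin m) := Fin.nontrivial_iff_two_le.mpr hm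
      refine SpecialLinearGroup.diagonal_transvection_induction'
        (fun A => π (Lv (SpecialLinearGroup.toGL A)) ∈ _) D (fun a b hab c hc => ?_) htr
        (fun A A' h h' => by
          show π (Lv (SpecialLinearGroup.toGL (A * A'))) ∈ _
          rw [map_mul, map_mul, map_mul]; exact mul_mem h h')
      show π (Lv (SpecialLinearGroup.toGL _)) ∈ _
      rw [SLPerfect.diag2n_eq hab hc]
      simp only [map_mul]
      exact mul_mem (mul_mem (mul_mem (mul_mem (htr _ _ _ _) (htr _ _ _ _)) (htr _ _ _ _)) (htr _ _ _ _)) (htr _ _ _ _)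
  -- the torus at `i`
  have hI : ∀ t : Fˣ, π (Lv (dG (Function.update 1 i t))) ∈ K := by
    intro t
    refine Subgroup.subset_closure ⟨hdN _, (R2 o).map π, Subgroup.map_mono (R2_le_UT rfl), ?_, ?_, ?_⟩
    · rintro _ ⟨u, hu, rfl⟩
      exact map_normalizer _ fun x hx => R2_conj (UT_le_Par rfl hu) hx
    · rintro _ ⟨⟨u, hu, rfl⟩, hC⟩
      refine ⟨u, ?_, rfl⟩
      have hP := UT_le_Par (o := o) rfl hu
      obtain ⟨A, hA, B, h, rfl⟩ := hu
      have hle : ∀ k : Fin m, o ≤ k := fun k => Nat.zero_le _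
      have hcm : ∀ y ∈ R2 o, Lv (SpecialLinearGroup.toGL A) * Sg B h * y =
          y * (Lv (SpecialLinearGroup.toGL A) * Sg B h) := fun y hy =>
        commute_UT (by omega) ⟨A, hA, B, h, rfl⟩ (R2_le_UT rfl hy)
          (Subgroup.mem_centralizer_iff.mp hC _ ⟨y, hy, rfl⟩).symm
      have hmemS : ∀ l, l ≠ o → Sg (sE o l (1 : F)) (sE_symm _ _ _) ∈ R2 o := fun l hl => by
        refine ⟨UT_le_Par rfl (Sg_mem _ _), by simp [Sg_val], fun x y hx hy => ?_⟩
        obtain ⟨hx1, hx2⟩ := hx
        obtain ⟨hy1, hy2⟩ := hy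
        rcases x with a | a <;> rcases y with b | b <;>
          simp [Sg_val, Matrix.one_apply, sE, Matrix.single_apply] at hx1 hx2 hy1 hy2 ⊢
        all_goals intros
        all_goals simp_all [Ne.symm, eq_comm]
      have hrow : ∀ k, k ≠ o → ∀ l, A.1 k l = (1 : Mm) k l := by
        intro k hk l
        rcases eq_or_ne l o with rfl | hl
        · exact hA k o (hle k)
        have e := hcm _ (hmemS l hl)
        rw [mul_assoc, Sg_mul, Sg_congr _ (add_symm (sE_symm o l (1 : F)) h) (add_comm B _),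
          ← Sg_mul (sE_symm o l 1) h, ← mul_assoc, ← mul_assoc, mul_left_inj,
          ← mul_inv_eq_iff_eq_mul, Lv_Sg] at e
        have e' := congrFun (congrFun (Matrix.fromBlocks_inj.mp (congrArg Subtype.val e)).2.1 k) o
        rw [sE, Matrix.mul_add, Matrix.add_mul, Matrix.add_apply, single_conj, single_conj] at e'
        simp [Matrix.vecMulVec_apply, toGL_val, hA k o (hle k), hA o o le_rfl, Matrix.one_apply, hk] at e'
        rw [e']
        simp [Matrix.single_apply, Matrix.one_apply, hk.symm, eq_comm]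
      have hrowI : ∀ k, k ≠ o → ∀ l, (A⁻¹).1 k l = (1 : Mm) k l := by
        intro k hk l
        have e : (A.1 * (A⁻¹).1) k l = (1 : Mm) k l := by
          show (A * A⁻¹ : SLm).1 k l = _
          rw [mul_inv_cancel]; rfl
        rwa [Matrix.mul_apply, Finset.sum_eq_single k (fun b _ hb => by
          rw [hrow k hk b, Matrix.one_apply_ne hb.symm, zero_mul]) (by simp), hrow k hk k, Matrix.one_apply_eq,
          one_mul] at e
      have hrowB : ∀ k, k ≠ o → ∀ l, l ≠ o → (A.1 * B) k l = 0 := by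
        intro k hk l hl
        have hlt : o < l := lt_of_le_of_ne (hle l) hl.symm
        have hmem : Lv (xG o l hlt.ne (1 : F)) ∈ R2 o := by
          refine ⟨UT_le_Par rfl (xG_mem hlt _), by simp [Lv_val, xG_val, hlt.ne'], fun x y hx hy => ?_⟩
          obtain ⟨hx1, hx2⟩ := hx
          obtain ⟨hy1, hy2⟩ := hy
          rcases x with a | a <;> rcases y with b | b <;>
            simp [Lv_val, xG_inv, xG_val, Matrix.one_apply, Matrix.single_apply] at hx1 hx2 hy1 hy2 ⊢
          all_goals intros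
          all_goals simp_all [Ne.symm, eq_comm]
        have e := congrArg Subtype.val (hcm _ hmem)
        change (Lv (SpecialLinearGroup.toGL A) * Sg B h).1 * (Lv (xG o l hlt.ne (1 : F))).1 =
          (Lv (xG o l hlt.ne (1 : F))).1 * (Lv (SpecialLinearGroup.toGL A) * Sg B h).1 at e
        rw [UT_val, Lv_val, Matrix.fromBlocks_multiply, Matrix.fromBlocks_multiply, Matrix.fromBlocks_inj] at e
        have e' := congrFun (congrFun e.2.1 k) o
        simp only [Matrix.mul_zero, Matrix.zero_mul, zero_add, add_zero, xG_inv, xG_val, Matrix.transpose_add,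
          Matrix.transpose_one, Matrix.transpose_single, Matrix.mul_add, Matrix.add_mul, Matrix.mul_one,
          Matrix.one_mul, Matrix.add_apply] at e'
        rw [Matrix.mul_single_apply_same, Matrix.single_mul_apply_of_ne (h := hk)] at e'
        simpa using e'
      refine ⟨hP, by rw [UT_val, Matrix.fromBlocks_apply₁₁, hA o o le_rfl, Matrix.one_apply_eq],
        fun x y hx hy => ?_⟩
      obtain ⟨hx1, hx2⟩ := hx
      obtain ⟨hy1, hy2⟩ := hy
      rw [UT_val]
      rcases x with a | a <;> rcases y with b | b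
      · rw [Matrix.fromBlocks_apply₁₁, hrow a (fun e => hx1 (by rw [e]))]; simp [Matrix.one_apply]
      · rw [Matrix.fromBlocks_apply₁₂, hrowB a (fun e => hx1 (by rw [e])) b (fun e => hy2 (by rw [e]))]; simp
      · simp
      · rw [Matrix.fromBlocks_apply₂₂, Matrix.transpose_apply, hrowI b (fun e => hy2 (by rw [e]))]
        simp [Matrix.one_apply, eq_comm]
    · have hio : Sum.inl i ≠ (Sum.inl o : Fin m ⊕ Fin m) := by simpa using hoi.symm
      have hup : ∀ c : F, π (Sg (dE i c) (dE_symm i c)) ∈ Subgroup.closure {x : PS |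
          x ∈ Subgroup.normalizer (((R2 o).map π : Subgroup PS) : Set PS) ∧ ∃ k : ℕ, orderOf x = p ^ k} := fun c =>
        Subgroup.subset_closure ⟨map_normalizer _ fun x hx => R2_conj (UT_le_Par rfl (Sg_mem _ _)) hx,
          orderOf_map p (by rw [Sg_pow, ← Sg_zero]; exact Sg_congr _ _ (by simp))⟩
      have hlo : ∀ c : F, π (Lo i c) ∈ Subgroup.closure {x : PS |
          x ∈ Subgroup.normalizer (((R2 o).map π : Subgroup PS) : Set PS) ∧ ∃ k : ℕ, orderOf x = p ^ k} := fun c => by
        have hP : Lo i c ∈ Par o := by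
          constructor
          · intro x hx
            rcases x with a | a
            · simp only [Lo, Matrix.fromBlocks_apply₁₁]
              rw [Matrix.one_apply_ne (fun e => hx (by rw [e]))]
            · simp [Lo, dE, Matrix.single_apply, hoi.symm]
          · intro y hy
            rcases y with b | b
            · simp [Lo, dE, Matrix.single_apply, hoi.symm]
            · simp only [Lo, Matrix.fromBlocks_apply₂₂]
              rw [Matrix.one_apply_ne (fun e => hy (by rw [e]))]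
        exact Subgroup.subset_closure ⟨map_normalizer _ fun x hx => R2_conj hP hx,
          orderOf_map p (by rw [Lo_pow, CharP.cast_eq_zero F p, zero_mul]; exact Subtype.ext (by simp [Lo, dE]))⟩
      rw [← torus_eq]
      simp only [map_mul]
      exact mul_mem (mul_mem (mul_mem (mul_mem (hup _) (hlo _)) (hup _)) (hlo _)) (hup _)
  intro x hx
  obtain ⟨g, rfl⟩ := QuotientGroup.mk'_surjective _ x
  have hgu : ∀ u ∈ UT F m, g⁻¹ * u * g ∈ UT F m := by
    intro u hu
    obtain ⟨k, hk⟩ := isPGroup_UT (F := F) (m := m) p ⟨u, hu⟩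
    have hk' : u ^ p ^ k = 1 := congrArg Subtype.val hk
    refine mem_UT_of_map p (by omega) (k := k) ?_ ?_
    · rw [show g⁻¹ * u * g = g⁻¹ * u * g⁻¹⁻¹ by rw [inv_inv], conj_pow, hk', mul_one, mul_inv_cancel]
    · rw [map_mul, map_mul, map_inv]
      exact (Subgroup.mem_normalizer_iff''.mp hx _).mp ⟨u, hu, rfl⟩
  have hflag := flag hgu
  have hcol : ∀ (a : Fin m ⊕ Fin m) (l : Fin m), g.1 a (Sum.inl l) = (g.1 *ᵥ Pi.single (Sum.inl l) 1) a := by
    intro a l; rw [Matrix.mulVec_single_one]; rfl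
  have hV : ∀ l : Fin m, InV ((l : ℕ) + 1) (g.1 *ᵥ Pi.single (Sum.inl l) 1) := fun l =>
    hflag _ l.2 _ ⟨fun a => by simp, fun a ha => by
      rw [Pi.single_eq_of_ne]
      intro e
      simp at e
      rw [e] at ha
      omega⟩
  have hC : g.1.toBlocks₂₁ = 0 := by
    ext a l
    exact (hcol _ l).trans ((hV l).1 a)
  have htri : ∀ a l : Fin m, l < a → g.1.toBlocks₁₁ a l = 0 := fun a l h =>
    (hcol _ l).trans ((hV l).2 a h)
  have hdet : g.1.toBlocks₁₁.det ≠ 0 := by
    obtain ⟨gA, hgA⟩ : ∃ X, g.1.toBlocks₁₁ = X := ⟨_, rfl⟩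
    have hmem := g.2
    rw [← Matrix.fromBlocks_toBlocks g.1, mem_blocks] at hmem
    have h3 := hmem.2.2.1
    rw [hC, Matrix.zero_mul, sub_zero] at h3
    intro h0
    have := congrArg Matrix.det h3
    rw [Matrix.det_mul, Matrix.det_transpose, h0, mul_zero, Matrix.det_one] at this
    exact zero_ne_one this
  have hdiag : ∀ k, g.1.toBlocks₁₁ k k ≠ 0 := by
    intro k h0
    refine hdet ?_
    rw [Matrix.det_of_upperTriangular (fun a l h => htri a l h)]
    exact Finset.prod_eq_zero (Finset.mem_univ k) h0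
  let v : Fin m → Fˣ := fun k => Units.mk0 _ (hdiag k)
  have hrest : (Lv (dG v))⁻¹ * g ∈ UT F m := by
    refine mem_UT_of_blocks ?_ ?_ <;>
      rw [← map_inv, ← map_inv, show ((Lv (dG v⁻¹)) * g).1 = (Lv (dG v⁻¹)).1 * g.1 from rfl, Lv_val,
        ← Matrix.fromBlocks_toBlocks g.1, Matrix.fromBlocks_multiply, hC]
    · simp
    · intro k l hkl
      simp only [Matrix.toBlocks_fromBlocks₁₁, Matrix.zero_mul, add_zero, dG_val, Matrix.diagonal_mul]
      rcases eq_or_lt_of_le hkl with rfl | hlt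
      · simp [v, hdiag]
      · rw [htri k l hlt, mul_zero, Matrix.one_apply_ne hlt.ne']
  have hv : π (Lv (dG v)) ∈ K := by
    let w : Fin m → Fˣ := Function.update 1 i (∏ k, v k)
    have hprod : ∏ k, (v * w⁻¹) k = 1 := by
      simp only [Pi.mul_apply, Pi.inv_apply, Finset.prod_mul_distrib, Finset.prod_inv_distrib]
      rw [show ∏ k, w k = ∏ k, v k by simp [w, Finset.prod_update_of_mem (Finset.mem_univ i)], mul_inv_cancel]
    let D : SLm := ⟨Matrix.diagonal fun k => (((v * w⁻¹) k : Fˣ) : F), by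
      rw [Matrix.det_diagonal, ← Units.coe_prod, hprod, Units.val_one]⟩
    have h1 := hS (v * w⁻¹) D (Units.ext rfl)
    rw [show v = v * w⁻¹ * w by rw [inv_mul_cancel_right], map_mul, map_mul, map_mul]
    exact mul_mem h1 (hI _)
  rw [show g = Lv (dG v) * ((Lv (dG v))⁻¹ * g) by rw [mul_inv_cancel_left], map_mul]
  exact mul_mem hv (hUK _ hrest)

/-- The fusion system of `PSp(2m,q)` in the defining characteristic is simple. -/
theorem isSimple (hm : 2 ≤ m) (hex : m = 2 → 3 ≤ Fintype.card F) (S : Sylow p PS) :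
    (Cfsg.groupFusionSystem (S : Subgroup PS)).IsSimple p := by
  refine CfsgLib.GroupSimple.isSimple_group (sylowU (F := F) (m := m) p (by omega)) S (fun h => ?_)
    (fun T hT h1 => closed_eq p hm hex T hT h1) (normalizer_le p hm)
  have hc := congrArg (fun H : Subgroup PS => Nat.card H) h
  rw [show Nat.card ((sylowU (F := F) (m := m) p (by omega) : Sylow p PS) : Subgroup PS) = _ from
    (card_map_UT (F := F) (m := m) (by omega)).trans card_UT, Subgroup.card_bot] at hc
  exact absurd hc (Nat.one_lt_pow (by positivity) Fintype.one_lt_card).ne'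

end CfsgLib.PSpBorel
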