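import Cfsg.Agent.Lib.Fusion.PSUBorel
import Cfsg.Agent.Lib.Fusion.PSpCharPSimple

/-!
The `p`-fusion system of a central quotient of `SU(n,q)`, `n ≥ 4`, in the defining characteristic is simple.
-/

set_option autoImplicit false
set_option linter.unusedSectionVars false
set_option maxHeartbeats 800000

namespace CfsgLib.PSUBorel

open Matrix
open CfsgLib.GroupSimple (FusionClosed Gen)

variable {F : Type*} [Field F] [Fintype F] {n k : ℕ} (c : Conj F)

local notation "Mn" => Matrix (Fin n) (Fin n) F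

theorem single_zero' (i j : Fin n) : Matrix.single i j (0 : F) = 0 := Matrix.single_zero i j

/-! ### Orders -/

theorem coe_pow (A : SUs c k) (N : ℕ) : (A ^ N).1.1 = A.1.1 ^ N := by
  induction N with
  | zero => simp [coe_one]
  | succ N ih => rw [pow_succ, coe_mul, ih, pow_succ]

theorem emb_pow_eq_one (p : ℕ) [Fact p.Prime] [CharP F p] {f : Fin k → Fin n} (hf : RevEmb f) (X : SUs c k)
    (h : (X.1.1 - 1) ^ 3 = 0) : emb c hf X ^ p ^ 2 = 1 := by
  rw [← map_pow, show X ^ p ^ 2 = 1 from SUs_ext c (by rw [coe_pow, pow_eq_one_of_cube p h]; rfl), map_one]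

/-- Lower long root matrices. -/
def r2l (b : F) (hb : c.σ b = -b) : SUs c 2 :=
  ⟨⟨!![1, 0; b, 1], by simp⟩, by
    show Cond c (!![1, 0; b, 1] : Matrix (Fin 2) (Fin 2) F)
    ext i j
    rw [Matrix.mul_apply]
    simp only [mul_aJ]
    fin_cases i <;> fin_cases j <;> simp [aJ, Fin.sum_univ_two, hb, Fin.rev]⟩

/-- Lower middle root matrices. -/
def r3l (u v : F) (hv : v + c.σ v + u * c.σ u = 0) : SUs c 3 :=
  ⟨⟨!![1, 0, 0; u, 1, 0; v, -c.σ u, 1], by simp [Matrix.det_fin_three]⟩, by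
    show Cond c (!![1, 0, 0; u, 1, 0; v, -c.σ u, 1] : Matrix (Fin 3) (Fin 3) F)
    ext i j
    rw [Matrix.mul_apply]
    simp only [mul_aJ]
    fin_cases i <;> fin_cases j <;> simp [aJ, Fin.sum_univ_three, c.invol, Fin.rev]
    linear_combination hv⟩

/-- Lower short root matrices. -/
def r4l (x : F) : SUs c 4 :=
  ⟨⟨!![1, 0, 0, 0; x, 1, 0, 0; 0, 0, 1, 0; 0, 0, -c.σ x, 1], by
      simp [Matrix.det_succ_row_zero, Fin.sum_univ_succ, Fin.succAbove]⟩, by
    show Cond c (!![1, 0, 0, 0; x, 1, 0, 0; 0, 0, 1, 0; 0, 0, -c.σ x, 1] : Matrix (Fin 4) (Fin 4) F)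
    ext i j
    rw [Matrix.mul_apply]
    simp only [mul_aJ]
    fin_cases i <;> fin_cases j <;> simp [aJ, Fin.sum_univ_four, c.invol, Fin.rev]⟩

theorem r2_cube (b : F) (hb : c.σ b = -b) :
    ((r2 c b hb).1.1 - 1) ^ 3 = 0 ∧ ((r2l c b hb).1.1 - 1) ^ 3 = 0 := by
  constructor <;> rw [pow_succ, pow_two] <;> ext i j <;> fin_cases i <;> fin_cases j <;>
    simp [r2, r2l, m2, Matrix.mul_apply, Fin.sum_univ_two]

theorem r3_cube (a b : F) (hb : b + c.σ b + a * c.σ a = 0) :
    ((r3 c a b hb).1.1 - 1) ^ 3 = 0 ∧ ((r3l c a b hb).1.1 - 1) ^ 3 = 0 := by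
  constructor <;> rw [pow_succ, pow_two] <;> ext i j <;> fin_cases i <;> fin_cases j <;>
    simp [r3, r3l, m3, Matrix.mul_apply, Fin.sum_univ_three]

theorem r4_cube (x : F) : ((r4 c x).1.1 - 1) ^ 3 = 0 ∧ ((r4l c x).1.1 - 1) ^ 3 = 0 := by
  constructor <;> rw [pow_succ, pow_two] <;> ext i j <;> fin_cases i <;> fin_cases j <;>
    simp [r4, r4l, m4, Matrix.mul_apply, Fin.sum_univ_four]

/-! ### Tori as products of root elements -/

theorem h4_val (t : Fˣ) :
    (r4 c (t : F) * r4l c (-(t : F)⁻¹) * r4 c ((t : F) - 1) * r4l c 1 * r4 c (-1)).1.1 =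
      !![(t : F), 0, 0, 0; 0, (t : F)⁻¹, 0, 0; 0, 0, c.σ (t : F), 0; 0, 0, 0, (c.σ (t : F))⁻¹] := by
  have ht : (t : F) ≠ 0 := t.ne_zero
  have hs : c.σ (t : F) ≠ 0 := (map_ne_zero c.σ).mpr ht
  simp only [coe_mul]
  ext i j
  fin_cases i <;> fin_cases j <;>
    simp [r4, r4l, m4, Matrix.mul_apply, Fin.sum_univ_four, map_sub, map_neg, map_inv₀] <;>
    (try field_simp) <;> (try ring)

theorem h2_val {b b' : F} (hb : c.σ b = -b) (hb' : c.σ b' = -b') (h0 : b ≠ 0) (h0' : b' ≠ 0)
    (hi : c.σ (-b⁻¹) = -(-b⁻¹)) (hi' : c.σ (-b'⁻¹) = -(-b'⁻¹)) :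
    (r2 c b hb * r2l c (-b⁻¹) hi * r2 c b hb * (r2 c b' hb' * r2l c (-b'⁻¹) hi' * r2 c b' hb')).1.1 =
      !![-b / b', 0; 0, -b' / b] := by
  simp only [coe_mul]
  ext i j
  fin_cases i <;> fin_cases j <;> simp [r2, r2l, m2, Matrix.mul_apply, Fin.sum_univ_two] <;>
    (try field_simp) <;> (try ring)

theorem exists_w3 (v : F) (hv : v ≠ 0) : ∃ (u : F) (a a' b : F) (hu : v + c.σ v + u * c.σ u = 0)
    (ha : b + c.σ b + a * c.σ a = 0) (ha' : b + c.σ b + a' * c.σ a' = 0),
    (r3 c a b ha * r3l c u v hu * r3 c a' b ha').1.1 =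
      !![0, 0, (c.σ v)⁻¹; 0, -c.σ v / v, 0; v, 0, 0] := by
  have hsv : c.σ v ≠ 0 := (map_ne_zero c.σ).mpr hv
  obtain ⟨u, hu⟩ := c.exists_norm (d := -(v + c.σ v)) (by rw [map_neg, map_add, c.invol, add_comm])
  have hu' : v + c.σ v + u * c.σ u = 0 := by rw [hu]; ring
  refine ⟨u, c.σ u / c.σ v, c.σ u / v, (c.σ v)⁻¹, hu', ?_, ?_, ?_⟩
  · rw [map_inv₀, map_div₀, c.invol, c.invol]
    field_simp
    linear_combination hu'
  · rw [map_inv₀, map_div₀, c.invol, c.invol]
    field_simp
    linear_combination hu'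
  simp only [coe_mul]
  ext i j
  fin_cases i <;> fin_cases j <;> simp [r3, r3l, m3, Matrix.mul_apply, Fin.sum_univ_three, map_div₀, c.invol] <;>
    (try field_simp) <;> first | ring1 | linear_combination hu' | linear_combination -hu' |
      linear_combination v * hu' | linear_combination -v * hu' | linear_combination u * hu' |
      linear_combination -u * hu' | linear_combination c.σ u * hu' | linear_combination -(c.σ u) * hu'

/-! ### Monomial elements -/

/-- Permutation elements. -/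
def Wp (π : Equiv.Perm (Fin n)) (hπ : ∀ a : Fin n, π a.rev = (π a).rev) (hs : Equiv.Perm.sign π = 1) : SUs c n :=
  ⟨⟨Matrix.of fun i j => if i = π j then (1 : F) else 0, by
    rw [show (Matrix.of fun i j => if i = π j then (1 : F) else 0) = Equiv.Perm.permMatrix F π⁻¹ by
      ext i j
      simp only [Matrix.of_apply, PEquiv.toMatrix_apply, Equiv.toPEquiv, Equiv.Perm.permMatrix, PEquiv.coe_mk, Function.comp_apply, Option.mem_def, Option.some.injEq]
      exact if_congr ⟨fun e => by simp [e], fun e => by simp [← e]⟩ rfl rfl,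
      Matrix.det_permutation, Equiv.Perm.sign_inv, hs]
    simp⟩, by
    show Cond c (Matrix.of fun i j => if i = π j then (1 : F) else 0)
    ext a b
    rw [Matrix.mul_apply, Finset.sum_eq_single (π.symm b)]
    · rw [mul_aJ]
      simp [aJ, hπ, Matrix.map_apply]
      exact if_congr ⟨fun e => by rw [e, Fin.rev_rev], fun e => by rw [e, Fin.rev_rev]⟩ rfl rfl
    · intro l _ hl
      simp only [Matrix.transpose_apply, Matrix.map_apply, Matrix.of_apply]
      rw [if_neg (fun e : b = π l => hl (by rw [e, Equiv.symm_apply_apply])), map_zero, mul_zero]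
    · simp⟩

theorem Wp_emb (π : Equiv.Perm (Fin n)) (hπ : ∀ a : Fin n, π a.rev = (π a).rev) (hs : Equiv.Perm.sign π = 1)
    {f g : Fin k → Fin n} (hf : RevEmb f) (hg : RevEmb g) (e : ∀ a, π (f a) = g a) (X : SUs c k) :
    Wp c π hπ hs * emb c hf X * (Wp c π hπ hs)⁻¹ = emb c hg X := by
  rw [mul_inv_eq_iff_eq_mul]
  refine SUs_ext c ?_
  rw [coe_mul, coe_mul, emb_val, emb_val]
  set P : Mn := Matrix.of fun i j => if i = π j then (1 : F) else 0 with hP
  show P * _ = _ * P
  have h1 : P * incl F f = incl F g := by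
    ext i a
    rw [Matrix.mul_apply, Finset.sum_eq_single (f a)]
    · simp [hP, incl, e]
    · intro l _ hl; simp [incl, hl]
    · simp
  have h2 : (incl F g)ᵀ * P = (incl F f)ᵀ := by
    ext a j
    rw [Matrix.mul_apply, Finset.sum_eq_single (π j)]
    · simp [hP, incl, ← e, π.injective.eq_iff]
    · intro l _ hl
      simp [hP, hl]
    · simp
  rw [Matrix.mul_add, Matrix.mul_one, Matrix.add_mul, Matrix.one_mul, ← Matrix.mul_assoc, ← Matrix.mul_assoc, h1,
    Matrix.mul_assoc _ _ P, h2]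

theorem exists_perm {o i : Fin n} (ho : o < o.rev) (hi : i < i.rev) (hne : o ≠ i) :
    ∃ (π : Equiv.Perm (Fin n)) (hπ : ∀ a : Fin n, π a.rev = (π a).rev) (_ : Equiv.Perm.sign π = 1),
      π o = i ∧ π o.rev = i.rev ∧ (∀ a : Fin n, a.rev = a → π a = a) := by
  have h1 : o.rev ≠ i.rev := fun e => hne (Fin.rev_injective e)
  have h2 : o ≠ i.rev := by
    intro e
    rw [Fin.lt_def] at ho hi
    have hv := congrArg Fin.val e
    simp [Fin.val_rev] at ho hi hv
    omega
  have h3 : o.rev ≠ i := fun e => h2 (by rw [← e, Fin.rev_rev])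
  have hoo := ho.ne
  have hii := hi.ne
  refine ⟨Equiv.swap o i * Equiv.swap o.rev i.rev, fun a => ?_, ?_, ?_, ?_, fun a ha => ?_⟩
  · simp only [Equiv.Perm.mul_apply, Equiv.swap_apply_def]
    have := Fin.rev_rev a
    have := Fin.rev_rev o
    have := Fin.rev_rev i
    grind
  · rw [Equiv.Perm.sign_mul, Equiv.Perm.sign_swap hne, Equiv.Perm.sign_swap h1]
    rfl
  · rw [Equiv.Perm.mul_apply, Equiv.swap_apply_of_ne_of_ne hoo h2, Equiv.swap_apply_left]
  · rw [Equiv.Perm.mul_apply, Equiv.swap_apply_left, Equiv.swap_apply_of_ne_of_ne h2.symm hii.symm]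
  · rw [Equiv.Perm.mul_apply]
    have e1 : a ≠ o := fun e => hoo (by rw [e] at ha; exact ha.symm)
    have e2 : a ≠ i := fun e => hii (by rw [e] at ha; exact ha.symm)
    have e3 : a ≠ o.rev := fun e => e1 (by rw [← ha, e, Fin.rev_rev])
    have e4 : a ≠ i.rev := fun e => e2 (by rw [← ha, e, Fin.rev_rev])
    rw [Equiv.swap_apply_of_ne_of_ne e3 e4, Equiv.swap_apply_of_ne_of_ne e1 e2]

/-- The Weyl element of a long root. -/
def w2 (α : F) (h0 : α ≠ 0) (hα : c.σ α = -α) : SUs c 2 :=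
  ⟨⟨!![0, α; -α⁻¹, 0], by simp [h0]⟩, by
    show Cond c (!![0, α; -α⁻¹, 0] : Matrix (Fin 2) (Fin 2) F)
    ext i j
    rw [Matrix.mul_apply]
    simp only [mul_aJ]
    fin_cases i <;> fin_cases j <;> simp [aJ, Fin.sum_univ_two, hα, map_inv₀, Fin.rev, h0] <;> field_simp⟩

/-! ### Lifting and the Sylow subgroup -/

/-- A central quotient of `SU(n,q)` of order prime to `p`. -/
structure Cover (p : ℕ) {G : Type*} [Group G] (φ : SUs c n →* G) where
  surj : Function.Surjective φ
  central : φ.ker ≤ Subgroup.center (SUs c n)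
  m : ℕ
  cop : Nat.Coprime m p
  pow_m : ∀ z ∈ φ.ker, z ^ m = 1

variable (p : ℕ) [Fact p.Prime] [CharP F p] {G : Type*} [Group G] {φ : SUs c n →* G}

theorem isPGroup_UU : IsPGroup p (UU c n) := by
  obtain ⟨f, -, hf⟩ := FiniteField.card F p
  have hU : IsPGroup p (PSLn.upper F n) := IsPGroup.of_card (n := ∑ j : Fin n, (f : ℕ) * (j : ℕ)) (by
    rw [PSLn.card_upper, ← Finset.prod_pow_eq_pow_sum]
    exact Finset.prod_congr rfl fun j _ => by rw [hf, pow_mul])
  let ι : UU c n →* PSLn.upper F n :=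
    { toFun := fun A => ⟨A.1.1, fun i j hij => by
        rcases hij.eq_or_lt with rfl | h
        · exact A.2.2 j j rfl
        · rw [UU_below c A.2 h, Matrix.one_apply_ne h.ne']⟩
      map_one' := rfl
      map_mul' := fun _ _ => rfl }
  exact hU.of_injective ι fun A B h => Subtype.ext (Subtype.ext (congrArg (fun x : PSLn.upper F n => x.1) h))

theorem pow_m_pow_eq_one (hc : Cover c p φ) {z : SUs c n} (hz : z ∈ φ.ker) {N : ℕ} (hN : z ^ p ^ N = 1) : z = 1 := by
  have := pow_gcd_eq_one.mpr ⟨hc.pow_m z hz, hN⟩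
  rwa [(hc.cop.pow_right N).gcd_eq_one, pow_one] at this

theorem eq_of_map (hc : Cover c p φ) {x y : SUs c n} (hy : y ∈ UU c n) {N : ℕ} (hx : x ^ p ^ N = 1)
    (h : φ x = φ y) : x = y := by
  obtain ⟨j, hj⟩ := isPGroup_UU c p ⟨y, hy⟩
  have hj' : y ^ p ^ j = 1 := congrArg Subtype.val hj
  have hz : y⁻¹ * x ∈ φ.ker := by rw [MonoidHom.mem_ker, map_mul, map_inv, h, inv_mul_cancel]
  obtain ⟨z, hz', rfl⟩ : ∃ z ∈ φ.ker, x = y * z := ⟨_, hz, (mul_inv_cancel_left y x).symm⟩
  have hcm : Commute y z := Subgroup.mem_center_iff.mp (hc.central hz') y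
  have : z = 1 := pow_m_pow_eq_one c p hc hz' (N := j + N) (by
    calc z ^ p ^ (j + N) = y ^ p ^ (j + N) * z ^ p ^ (j + N) := by rw [pow_add p, pow_mul y, hj', one_pow, one_mul]
      _ = 1 := by rw [← hcm.mul_pow, pow_add p, mul_comm, pow_mul, hx, one_pow])
  rw [this, mul_one]

theorem mem_UU_of_map (hc : Cover c p φ) {x : SUs c n} {N : ℕ} (hx : x ^ p ^ N = 1) (h : φ x ∈ (UU c n).map φ) :
    x ∈ UU c n := by
  obtain ⟨y, hy, e⟩ := h
  rwa [eq_of_map c p hc hy hx e.symm]

theorem commute_UU (hc : Cover c p φ) {x y : SUs c n} (hx : x ∈ UU c n) (hy : y ∈ UU c n)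
    (h : φ x * φ y = φ y * φ x) : x * y = y * x := by
  obtain ⟨j, hj⟩ := isPGroup_UU c p ⟨x * y, mul_mem hx hy⟩
  exact eq_of_map c p hc (mul_mem hy hx) (congrArg Subtype.val hj) (by rw [map_mul, map_mul, h])

theorem mulVec_single_add {a b : Fin n} (x : F) (v : Fin n → F) (r : Fin n) :
    (Matrix.single a b x *ᵥ v) r = if a = r then x * v b else 0 := by
  rw [Matrix.mulVec, dotProduct, Finset.sum_eq_single b]
  · simp [Matrix.single_apply]
  · intro l _ hl; simp [Matrix.single_apply, hl.symm]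
  · simp

theorem triangular {g : SUs c n} (hg : ∀ u ∈ UU c n, g⁻¹ * u * g ∈ UU c n) :
    g ∈ Par c fun i : Fin n => (i : ℕ) := by
  obtain ⟨b₀, hb0, hb₀⟩ := c.exists_antifixed
  obtain ⟨e, he⟩ := c.exists_trace_one
  have hbm : -e + c.σ (-e) + 1 * c.σ 1 = 0 := by rw [map_neg, map_one]; linear_combination -he
  suffices key : ∀ k, k ≤ n → ∀ x : Fin n → F, (∀ l : Fin n, k ≤ (l : ℕ) → x l = 0) →
      ∀ l : Fin n, k ≤ (l : ℕ) → (g.1.1 *ᵥ x) l = 0 by
    intro i j hij
    have := key ((j : ℕ) + 1) j.2 (Pi.single j 1) (fun l hl => by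
      rw [Pi.single_eq_of_ne (fun e => by rw [e] at hl; omega)]) i hij
    rw [Matrix.mulVec_single_one] at this
    exact this
  intro k
  induction k with
  | zero =>
    intro _ x hx l _
    rw [show x = 0 from funext fun a => hx a (Nat.zero_le _), Matrix.mulVec_zero]
    rfl
  | succ k ih =>
    intro hk x hx
    set y := g.1.1 *ᵥ x with hy
    set kk : Fin n := ⟨k, hk⟩
    have hact : ∀ u ∈ UU c n, (u.1.1 *ᵥ y) kk - y kk = 0 := by
      intro u hu
      have hu' := hg u hu
      have e1 : u.1.1 *ᵥ y - y = g.1.1 *ᵥ ((g⁻¹ * u * g).1.1 *ᵥ x - x) := by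
        rw [Matrix.mulVec_sub, Matrix.mulVec_mulVec, hy, Matrix.mulVec_mulVec, ← coe_mul, ← coe_mul,
          ← mul_assoc, ← mul_assoc, mul_inv_cancel, one_mul]
      have h0 : ∀ l : Fin n, k ≤ (l : ℕ) → ((g⁻¹ * u * g).1.1 *ᵥ x - x) l = 0 := by
        intro l hl
        rw [Pi.sub_apply, Matrix.mulVec, dotProduct, Finset.sum_eq_single l]
        · rw [UU_diag c hu', one_mul, sub_self]
        · intro j _ hj
          rcases lt_or_gt_of_ne hj with h | h
          · rw [UU_below c hu' h, zero_mul]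
          · rw [hx j (by rw [Fin.lt_def] at h; omega), mul_zero]
        · simp
      have := ih (by omega) _ h0 kk le_rfl
      rwa [← e1, Pi.sub_apply] at this
    have hrev : kk < kk.rev → y kk.rev = 0 := by
      intro h
      have := hact _ (L2_mem_UU c h b₀ hb₀)
      rw [L2_val, Matrix.add_mulVec, Matrix.one_mulVec, Pi.add_apply, mulVec_single_add, if_pos rfl,
        add_sub_cancel_left] at this
      exact (mul_eq_zero.mp this).resolve_left hb0
    intro l hl
    have hlt : kk < l := hl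
    by_cases h1 : l = kk.rev
    · exact h1 ▸ hrev (h1 ▸ hlt)
    by_cases hμ : kk.rev = kk
    · have hil : l.rev < kk := by rw [← hμ]; exact Fin.rev_lt_rev.mpr hlt
      have hi : l.rev.rev ≠ l.rev := by rw [Fin.rev_rev]; exact (hil.trans hlt).ne'
      have := hact _ (L3_mem_UU c hμ hil hi 1 (-e) hbm)
      rw [L3_val, Matrix.add_mulVec, Matrix.one_mulVec, Matrix.add_mulVec, Matrix.add_mulVec, Pi.add_apply,
        Pi.add_apply, Pi.add_apply, mulVec_single_add, mulVec_single_add, mulVec_single_add, if_neg hil.ne,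
        if_pos rfl, if_neg hil.ne, Fin.rev_rev, zero_add, add_zero, add_sub_cancel_left, map_one, neg_one_mul,
        neg_eq_zero] at this
      exact this
    by_cases hμl : l.rev = l
    · have hk' : kk < kk.rev := hlt.trans (by rw [← hμl]; exact Fin.rev_lt_rev.mpr hlt)
      have := hact _ (L3_mem_UU c hμl hlt hk'.ne' 1 (-e) hbm)
      rw [L3_val, Matrix.add_mulVec, Matrix.one_mulVec, Matrix.add_mulVec, Matrix.add_mulVec, Pi.add_apply,
        Pi.add_apply, Pi.add_apply, mulVec_single_add, mulVec_single_add, mulVec_single_add, if_pos rfl,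
        if_neg hlt.ne', if_pos rfl, one_mul, hrev hk', mul_zero, add_zero, add_zero, add_sub_cancel_left] at this
      exact this
    have hk2 : kk ≠ l.rev := fun e => h1 (by rw [e, Fin.rev_rev])
    have := hact _ (L4_mem_UU c hμ hμl hlt hk2 1)
    rw [L4_val, Matrix.add_mulVec, Matrix.one_mulVec, Matrix.add_mulVec, Pi.add_apply,
      Pi.add_apply, mulVec_single_add, mulVec_single_add, if_pos rfl, if_neg hk2.symm, one_mul, add_zero,
      add_sub_cancel_left] at this
    exact this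

theorem diag_mul {A B : SUs c n} (hA : A ∈ Par c fun i : Fin n => (i : ℕ)) (hB : B ∈ Par c fun i : Fin n => (i : ℕ))
    (i : Fin n) : (A * B).1.1 i i = A.1.1 i i * B.1.1 i i := by
  rw [mul_level c hA hB rfl, Finset.sum_eq_single i]
  · rw [if_pos rfl]
  · intro l _ hl; rw [if_neg (fun e => hl (Fin.ext e))]
  · simp

theorem diag_pow {A : SUs c n} (hA : A ∈ Par c fun i : Fin n => (i : ℕ)) (i : Fin n) (N : ℕ) :
    (A ^ N).1.1 i i = (A.1.1 i i) ^ N := by
  induction N with
  | zero => simp [coe_one]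
  | succ N ih => rw [pow_succ, diag_mul c (pow_mem hA N) hA, ih, pow_succ]

theorem mem_UU_of_diag {A : SUs c n} (hA : A ∈ Par c fun i : Fin n => (i : ℕ)) (h : ∀ i, A.1.1 i i = 1) :
    A ∈ UU c n :=
  ⟨hA, fun i j e => by
    obtain rfl := Fin.ext e
    rw [h, Matrix.one_apply_eq]⟩

theorem normalizer_lift (hc : Cover c p φ) {g : SUs c n}
    (hg : φ g ∈ Subgroup.normalizer (((UU c n).map φ : Subgroup G) : Set G)) :
    g ∈ Par c fun i : Fin n => (i : ℕ) := by
  refine triangular c fun u hu => ?_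
  obtain ⟨N, hN⟩ := isPGroup_UU c p ⟨u, hu⟩
  have hN' : u ^ p ^ N = 1 := congrArg Subtype.val hN
  refine mem_UU_of_map c p hc (N := N) ?_ ?_
  · rw [show g⁻¹ * u * g = g⁻¹ * u * g⁻¹⁻¹ by rw [inv_inv], conj_pow, hN', mul_one, mul_inv_cancel]
  · rw [map_mul, map_mul, map_inv]
    exact (Subgroup.mem_normalizer_iff''.mp hg _).mp ⟨u, hu, rfl⟩

theorem exists_sylow [Finite G] (hc : Cover c p φ) : ∃ U : Sylow p G, (U : Subgroup G) = (UU c n).map φ := by
  obtain ⟨P, hP⟩ := ((isPGroup_UU c p).map φ).exists_le_sylow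
  refine ⟨P, (le_antisymm hP ?_).symm⟩
  by_contra hcon
  haveI : Group.IsNilpotent (P : Subgroup G) := P.2.isNilpotent
  have hlt : ((UU c n).map φ).subgroupOf (P : Subgroup G) < ⊤ :=
    lt_top_iff_ne_top.mpr (fun h => hcon (Subgroup.subgroupOf_eq_top.mp h))
  obtain ⟨x, hxN, hxU⟩ := SetLike.exists_of_lt (Group.normalizerCondition_of_isNilpotent _ hlt)
  have hxG : (x : G) ∈ Subgroup.normalizer (((UU c n).map φ : Subgroup G) : Set G) := by
    refine PSpBorel.mem_normalizer_of_conj _ fun y hy => ?_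
    exact (Subgroup.mem_normalizer_iff.mp hxN ⟨y, hP hy⟩).mp hy
  obtain ⟨g, hgx⟩ := hc.surj (x : G)
  rw [← hgx] at hxG
  have hgB := normalizer_lift c p hc hxG
  obtain ⟨N, hN⟩ := P.2 x
  have hN' : (x : G) ^ p ^ N = 1 := congrArg Subtype.val hN
  have hker : g ^ p ^ N ∈ φ.ker := by rw [MonoidHom.mem_ker, map_pow, hgx, hN']
  have hgm : g ^ hc.m ∈ UU c n := by
    refine mem_UU_of_diag c (pow_mem hgB _) fun i => ?_
    rw [diag_pow c hgB]
    have h1 : ((g.1.1 i i) ^ hc.m) ^ p ^ N = 1 := by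
      rw [← pow_mul, mul_comm, pow_mul, ← diag_pow c hgB, ← diag_pow c (pow_mem hgB _), hc.pow_m _ hker, coe_one,
        Matrix.one_apply_eq]
    haveI : ExpChar F p := ExpChar.prime Fact.out
    have h3 : ((g.1.1 i i) ^ hc.m - 1) ^ p ^ N = 0 := by rw [sub_pow_char_pow, h1, one_pow, sub_self]
    exact sub_eq_zero.mp (eq_zero_of_pow_eq_zero h3)
  refine hxU ?_
  show (x : G) ∈ (UU c n).map φ
  have hxm : (x : G) ^ hc.m ∈ (UU c n).map φ := ⟨_, hgm, by rw [map_pow, hgx]⟩
  obtain ⟨a, ha⟩ : ∃ a : ℕ, (x : G) = ((x : G) ^ hc.m) ^ a := by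
    obtain ⟨j, -, hj⟩ := (Nat.dvd_prime_pow (Fact.out : p.Prime)).mp (orderOf_dvd_of_pow_eq_one hN')
    obtain ⟨a, ha⟩ := exists_pow_eq_self_of_coprime (x := (x : G)) (n := hc.m) (by rw [hj]; exact hc.cop.pow_right j)
    exact ⟨a, ha.symm⟩
  rw [ha]
  exact pow_mem hxm a

/-! ### Commutation facts -/

theorem col_trivial {z : SUs c n} (hz : z ∈ UU c n) {k : Fin n} (hk : k < k.rev) {b : F} (hb : c.σ b = -b)
    (hb0 : b ≠ 0) (h : z * L2 c k hk.ne' b hb = L2 c k hk.ne' b hb * z) :
    (∀ i, z.1.1 i k = (1 : Mn) i k) ∧ ∀ l, z.1.1 k.rev l = (1 : Mn) k.rev l := by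
  have e : z.1.1 * Matrix.single k k.rev b = Matrix.single k k.rev b * z.1.1 := by
    have e := congrArg (fun x : SUs c n => x.1.1) h
    simp only [coe_mul, L2_val, Matrix.mul_add, Matrix.add_mul, Matrix.mul_one, Matrix.one_mul] at e
    exact add_left_cancel e
  constructor
  · intro i
    have e1 := congrFun (congrFun e i) k.rev
    rw [Matrix.mul_single_apply_same] at e1
    rcases eq_or_ne i k with rfl | hi
    · rw [UU_diag c hz, Matrix.one_apply_eq]
    · rw [Matrix.single_mul_apply_of_ne (h := hi)] at e1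
      rw [Matrix.one_apply_ne hi]
      exact (mul_eq_zero.mp e1).resolve_right hb0
  · intro l
    have e1 := congrFun (congrFun e k) l
    rw [Matrix.single_mul_apply_same] at e1
    rcases eq_or_ne l k.rev with rfl | hl
    · rw [UU_diag c hz, Matrix.one_apply_eq]
    · rw [Matrix.mul_single_apply_of_ne (hbj := hl)] at e1
      rw [Matrix.one_apply_ne hl.symm]
      exact (mul_eq_zero.mp e1.symm).resolve_left hb0

theorem row_short {z : SUs c n} (hz : z ∈ UU c n) {i j : Fin n} (hi : i.rev ≠ i) (hj : j.rev ≠ j) (hij : i < j)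
    (hij' : i ≠ j.rev) (x : F) (h : z * L4 c i j hi hj hij.ne hij' x = L4 c i j hi hj hij.ne hij' x * z) (l : Fin n) :
    x * z.1.1 j l = (if l = j then x * z.1.1 i i else 0) + if l = i.rev then z.1.1 i j.rev * (-c.σ x) else 0 := by
  have e := congrArg (fun X : SUs c n => X.1.1 i l) h
  simp only [coe_mul, L4_val, Matrix.mul_add, Matrix.add_mul, Matrix.mul_one, Matrix.one_mul, Matrix.add_apply] at e
  rw [Matrix.single_mul_apply_same, Matrix.single_mul_apply_of_ne (h := hij'), add_zero] at e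
  have e' := add_left_cancel e
  rw [← e']
  congr 1
  · split_ifs with hl
    · rw [hl, Matrix.mul_single_apply_same, mul_comm]
    · rw [Matrix.mul_single_apply_of_ne (hbj := hl)]
  · split_ifs with hl
    · rw [hl, Matrix.mul_single_apply_same]
    · rw [Matrix.mul_single_apply_of_ne (hbj := hl)]

theorem row_middle {z : SUs c n} (hz : z ∈ UU c n) {i μ : Fin n} (hμ : μ.rev = μ) (hi : i < μ) (hir : i.rev ≠ i)
    (b : F) (hb : b + c.σ b + 1 * c.σ 1 = 0)
    (h : z * L3 c i μ hμ hir 1 b hb = L3 c i μ hμ hir 1 b hb * z) (l : Fin n) (hl : l ≠ i.rev) :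
    z.1.1 μ l + b * z.1.1 i.rev l = if l = μ then z.1.1 i i else 0 := by
  have e := congrArg (fun X : SUs c n => X.1.1 i l) h
  simp only [coe_mul, L3_val, Matrix.mul_add, Matrix.add_mul, Matrix.mul_one, Matrix.one_mul, Matrix.add_apply] at e
  rw [Matrix.single_mul_apply_same, Matrix.single_mul_apply_same, Matrix.single_mul_apply_of_ne (h := hi.ne),
    add_zero, one_mul, Matrix.mul_single_apply_of_ne (hbj := hl), Matrix.mul_single_apply_of_ne (hbj := hl), add_zero,
    add_zero] at e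
  rw [← add_left_cancel e]
  split_ifs with hlμ
  · rw [hlμ, Matrix.mul_single_apply_same, mul_one]
  · rw [Matrix.mul_single_apply_of_ne (hbj := hlμ)]

/-- The levels of the stabiliser of a maximal totally isotropic subspace. -/
def lev1 (a : Fin n) : ℕ := if a < a.rev then 0 else if a = a.rev then 1 else 2

/-- The levels of the stabiliser of an isotropic line. -/
def lev2 (a : Fin n) : ℕ := if (a : ℕ) = 0 then 0 else if (a : ℕ) + 1 = n then 2 else 1

theorem lev1_mono : Monotone (lev1 : Fin n → ℕ) := by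
  intro a b h
  unfold lev1
  simp only [Fin.lt_def, Fin.ext_iff, Fin.val_rev]
  rw [Fin.le_def] at h
  split_ifs <;> omega

theorem lev2_mono : Monotone (lev2 : Fin n → ℕ) := by
  intro a b h
  unfold lev2
  rw [Fin.le_def] at h
  have := b.2
  split_ifs <;> omega

theorem lev2_middle {a : Fin n} (h0 : (a : ℕ) ≠ 0) (h1 : (a : ℕ) + 1 ≠ n) : lev2 a = 1 := by
  simp [lev2, h0, h1]

theorem centralizer_lev1 {z : SUs c n} (hz : z ∈ UU c n) {b : F} (hb : c.σ b = -b) (hb0 : b ≠ 0)
    (h : ∀ (k : Fin n) (hk : k < k.rev), z * L2 c k hk.ne' b hb = L2 c k hk.ne' b hb * z) : z ∈ Rad c lev1 := by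
  refine ⟨UU_le_Par c lev1_mono hz, fun i j hij => ?_⟩
  unfold lev1 at hij
  by_cases hj : j < j.rev
  · exact (col_trivial c hz hj hb hb0 (h j hj)).1 i
  by_cases hj2 : j = j.rev
  · rw [if_neg hj, if_pos hj2] at hij
    have hi : i = i.rev := by
      by_contra hi
      rw [if_neg hi] at hij
      split_ifs at hij <;> omega
    have : i = j := by
      apply Fin.ext
      simp only [Fin.ext_iff, Fin.val_rev] at hi hj2
      omega
    rw [this, UU_diag c hz, Matrix.one_apply_eq]
  · rw [if_neg hj, if_neg hj2] at hij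
    have hi : ¬ i < i.rev ∧ ¬ i = i.rev := by
      constructor <;> intro hi
      · rw [if_pos hi] at hij; omega
      · rw [if_neg (fun h : i < i.rev => h.ne hi), if_pos hi] at hij; omega
    have hi' : i.rev < i.rev.rev := by
      rw [Fin.rev_rev]
      exact lt_of_le_of_ne (not_lt.mp hi.1) (Ne.symm hi.2)
    have := (col_trivial c hz hi' hb hb0 (h _ hi')).2 j
    rwa [Fin.rev_rev] at this

theorem rows_middle {z : SUs c n} (hz : z ∈ UU c n) {o : Fin n} (ho : (o : ℕ) = 0) (hoo : o < o.rev)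
    {b : F} (hb : b + c.σ b + 1 * c.σ 1 = 0)
    (h4 : ∀ (j : Fin n) (hj : j.rev ≠ j) (hoj : o < j) (hoj' : o ≠ j.rev),
      z * L4 c o j hoo.ne' hj hoj.ne hoj' 1 = L4 c o j hoo.ne' hj hoj.ne hoj' 1 * z)
    (h3 : ∀ (μ : Fin n) (hμ : μ.rev = μ),
      z * L3 c o μ hμ hoo.ne' 1 b hb = L3 c o μ hμ hoo.ne' 1 b hb * z)
    (j l : Fin n) (hj0 : (j : ℕ) ≠ 0) (hj1 : (j : ℕ) + 1 ≠ n) (hl : l ≠ o.rev) :
    z.1.1 j l = (1 : Mn) j l := by
  have hoj : o < j := by rw [Fin.lt_def]; omega
  by_cases hj : j.rev = j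
  · have := row_middle c hz hj hoj hoo.ne' b hb (h3 j hj) l hl
    have hlt : l < o.rev := by
      rw [Fin.lt_def]
      rw [Ne, Fin.ext_iff] at hl
      simp [Fin.val_rev, ho] at hl ⊢
      have := l.2
      omega
    rw [UU_below c hz hlt, mul_zero, add_zero, UU_diag c hz] at this
    rw [this, Matrix.one_apply]
    exact if_congr eq_comm rfl rfl
  · have hoj' : o ≠ j.rev := by
      rw [Ne, Fin.ext_iff, Fin.val_rev, ho]
      have := j.2
      omega
    have := row_short c hz hoo.ne' hj hoj hoj' 1 (h4 j hj hoj hoj') l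
    rw [one_mul, if_neg hl, add_zero, one_mul, UU_diag c hz] at this
    rw [this, Matrix.one_apply]
    exact if_congr eq_comm rfl rfl

theorem centralizer_lev2 {z : SUs c n} (hz : z ∈ UU c n) {o : Fin n} (ho : (o : ℕ) = 0) (hoo : o < o.rev)
    {b : F} (hb : b + c.σ b + 1 * c.σ 1 = 0)
    (h4 : ∀ (j : Fin n) (hj : j.rev ≠ j) (hoj : o < j) (hoj' : o ≠ j.rev),
      z * L4 c o j hoo.ne' hj hoj.ne hoj' 1 = L4 c o j hoo.ne' hj hoj.ne hoj' 1 * z)
    (h3 : ∀ (μ : Fin n) (hμ : μ.rev = μ),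
      z * L3 c o μ hμ hoo.ne' 1 b hb = L3 c o μ hμ hoo.ne' 1 b hb * z) : z ∈ Rad c lev2 := by
  refine ⟨UU_le_Par c lev2_mono hz, fun i j hij => ?_⟩
  unfold lev2 at hij
  by_cases hi0 : (i : ℕ) = 0
  · have : i = j := by
      apply Fin.ext
      split_ifs at hij <;> omega
    rw [← this, UU_diag c hz, Matrix.one_apply_eq]
  by_cases hi1 : (i : ℕ) + 1 = n
  · have : i = j := by
      apply Fin.ext
      split_ifs at hij <;> omega
    rw [← this, UU_diag c hz, Matrix.one_apply_eq]
  have hj : (j : ℕ) ≠ 0 ∧ (j : ℕ) + 1 ≠ n := by split_ifs at hij <;> omega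
  exact rows_middle c hz ho hoo hb h4 h3 i j hi0 hi1 (by
    rw [Ne, Fin.ext_iff, Fin.val_rev, ho]
    have := j.2
    omega)

/-! ### Closed subgroups -/

theorem center_eq (hn : 4 ≤ n) {z : SUs c n} (hz : z ∈ UU c n) (hcomm : ∀ y ∈ UU c n, z * y = y * z) :
    ∃ (b : F) (hb : c.σ b = -b) (hoo : (⟨0, by omega⟩ : Fin n) < (⟨0, by omega⟩ : Fin n).rev),
      z = L2 c ⟨0, by omega⟩ hoo.ne' b hb := by
  obtain ⟨b₀, hb0, hb₀⟩ := c.exists_antifixed
  obtain ⟨e, he⟩ := c.exists_trace_one
  have hbm : -e + c.σ (-e) + 1 * c.σ 1 = 0 := by rw [map_neg, map_one]; linear_combination -he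
  set o : Fin n := ⟨0, by omega⟩ with hodef
  set i : Fin n := ⟨1, by omega⟩ with hidef
  have hoo : o < o.rev := by simp [o, Fin.lt_def, Fin.val_rev]; omega
  have hii : i < i.rev := by simp [i, Fin.lt_def, Fin.val_rev]; omega
  have hoi : o < i := by simp [o, i, Fin.lt_def]
  have hcol := fun (k : Fin n) (hk : k < k.rev) => col_trivial c hz hk hb₀ hb0 (hcomm _ (L2_mem_UU c hk b₀ hb₀))
  have hmid : ∀ j l : Fin n, (j : ℕ) ≠ 0 → (j : ℕ) + 1 ≠ n → l ≠ o.rev → z.1.1 j l = (1 : Mn) j l :=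
    rows_middle c hz rfl hoo hbm (fun j hj hoj hoj' => hcomm _ (L4_mem_UU c hoo.ne' hj hoj hoj' 1))
      (fun μ hμ => hcomm _ (L3_mem_UU c hμ (by
        have := μ.2
        have h := congrArg Fin.val hμ
        simp [o, Fin.lt_def, Fin.val_rev] at h ⊢
        omega) hoo.ne' 1 _ hbm))
  -- the form relates the first row and the last column
  have hrel : ∀ j : Fin n, (j : ℕ) ≠ 0 → (j : ℕ) + 1 ≠ n →
      z.1.1 o j + c.σ (z.1.1 j.rev o.rev) = 0 := by
    intro j hj0 hj1
    have hne : j ≠ o := fun e => hj0 (by rw [e])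
    have hjr0 : (j.rev : ℕ) ≠ 0 := by rw [Fin.val_rev]; omega
    have hjr1 : (j.rev : ℕ) + 1 ≠ n := by rw [Fin.val_rev]; omega
    have h := cond_apply c z.2 o j.rev
    rw [if_neg (fun e => hne (Fin.rev_injective e))] at h
    rw [Finset.sum_eq_add_of_mem j o (Finset.mem_univ _) (Finset.mem_univ _) hne] at h
    · rw [hmid j.rev j.rev hjr0 hjr1 (fun e => hne (Fin.rev_injective e)), Matrix.one_apply_eq, map_one, mul_one,
        UU_diag c hz, one_mul] at h
      exact h
    · intro l _ hl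
      rw [hmid j.rev l.rev hjr0 hjr1 (fun e => hl.2 (Fin.rev_injective e)),
        Matrix.one_apply_ne (fun e => hl.1 (Fin.rev_injective e).symm), map_zero, mul_zero]
  have hi0 : (i : ℕ) ≠ 0 := by simp [i]
  have hi1 : (i : ℕ) + 1 ≠ n := by simp [i]; omega
  have hw : z.1.1 i o.rev = 0 := by
    have key : ∀ t : F, t * z.1.1 i o.rev = c.σ (z.1.1 i o.rev) * c.σ t := by
      intro t
      have hoi' : o ≠ i.rev := by simp [o, i, Fin.ext_iff, Fin.val_rev]; omega
      have h := row_short c hz hoo.ne' hii.ne' hoi hoi' t (hcomm _ (L4_mem_UU c hoo.ne' hii.ne' hoi hoi' t)) o.rev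
      have hr := hrel i.rev (by rw [Fin.val_rev]; simp [i]; omega) (by rw [Fin.val_rev]; simp [i]; omega)
      rw [Fin.rev_rev] at hr
      rw [if_neg (by simp [o, i, Fin.ext_iff, Fin.val_rev]; omega), if_pos rfl, zero_add] at h
      rw [h]
      linear_combination (-c.σ t) * hr
    have h1 := key 1
    rw [one_mul, map_one, mul_one] at h1
    obtain ⟨t, ht⟩ := c.exists_moved
    have h2 := key t
    rw [← h1] at h2
    by_contra hne
    exact ht (mul_right_cancel₀ hne (by linear_combination -h2))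
  have hlast : ∀ j : Fin n, (j : ℕ) ≠ 0 → (j : ℕ) + 1 ≠ n → z.1.1 j o.rev = 0 := by
    intro j hj0 hj1
    rcases eq_or_ne j i with rfl | hji
    · exact hw
    rcases eq_or_ne j i.rev with rfl | hji'
    · rw [(hcol i hii).2, Matrix.one_apply_ne (fun e => hoi.ne (Fin.rev_injective e).symm)]
    have hij : i < j := by
      rw [Ne, Fin.ext_iff] at hji
      simp [i, Fin.lt_def] at hji ⊢
      omega
    have hio : o.rev ≠ i.rev := fun e => hoi.ne (Fin.rev_injective e)
    by_cases hj : j.rev = j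
    · have h := row_middle c hz hj hij hii.ne' _ hbm (hcomm _ (L3_mem_UU c hj hij hii.ne' 1 _ hbm)) o.rev hio
      rw [(hcol i hii).2 o.rev, Matrix.one_apply_ne hio.symm, mul_zero, add_zero,
        if_neg (fun e => hj0 (by rw [← hj, ← e, Fin.rev_rev])) ] at h
      exact h
    · have hij' : i ≠ j.rev := fun e => hji' (by rw [e, Fin.rev_rev])
      have h := row_short c hz hii.ne' hj hij hij' 1 (hcomm _ (L4_mem_UU c hii.ne' hj hij hij' 1)) o.rev
      rw [one_mul, if_neg (fun e => hj1 (by rw [← e]; simp [o, Fin.val_rev]; omega)), if_neg hio, add_zero] at h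
      exact h
  have hfirst : ∀ j : Fin n, (j : ℕ) ≠ 0 → (j : ℕ) + 1 ≠ n → z.1.1 o j = 0 := by
    intro j hj0 hj1
    have h := hrel j hj0 hj1
    rwa [hlast j.rev (by rw [Fin.val_rev]; omega) (by rw [Fin.val_rev]; omega), map_zero, add_zero] at h
  have hb : c.σ (z.1.1 o o.rev) = -z.1.1 o o.rev := by
    have h := cond_apply c z.2 o o
    rw [if_neg hoo.ne, Finset.sum_eq_add_of_mem o o.rev (Finset.mem_univ _) (Finset.mem_univ _) hoo.ne] at h
    · rw [Fin.rev_rev, UU_diag c hz, map_one, one_mul, mul_one] at h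
      linear_combination h
    · intro l _ hl
      rw [hfirst l ?_ ?_, zero_mul]
      · intro e
        exact hl.1 (Fin.ext e)
      · intro e
        exact hl.2 (Fin.ext (by simp [o, Fin.val_rev]; omega))
  refine ⟨z.1.1 o o.rev, hb, hoo, SUs_ext c ?_⟩
  rw [L2_val]
  ext a l
  rw [Matrix.add_apply, Matrix.single_apply]
  rcases lt_trichotomy l a with h | rfl | h
  · rw [UU_below c hz h, Matrix.one_apply_ne h.ne', if_neg, zero_add]
    rintro ⟨rfl, rfl⟩
    exact lt_asymm hoo h
  · rw [UU_diag c hz, Matrix.one_apply_eq, if_neg, add_zero]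
    rintro ⟨rfl, e⟩
    exact hoo.ne e.symm
  · rw [Matrix.one_apply_ne h.ne, zero_add]
    have hl0 : (l : ℕ) ≠ 0 := by rw [Fin.lt_def] at h; omega
    by_cases ha0 : (a : ℕ) = 0
    · have hao : a = o := Fin.ext ha0
      subst hao
      by_cases hl1 : (l : ℕ) + 1 = n
      · have hlo : l = o.rev := Fin.ext (by simp [o, Fin.val_rev]; omega)
        rw [hlo, if_pos ⟨rfl, rfl⟩]
      · rw [hfirst l hl0 hl1, if_neg (fun e => hl1 (by rw [← e.2]; simp [o, Fin.val_rev]; omega))]
    · rw [if_neg (fun e => ha0 (by rw [← e.1]))]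
      have ha1 : (a : ℕ) + 1 ≠ n := by rw [Fin.lt_def] at h; omega
      rcases eq_or_ne l o.rev with rfl | hl
      · exact hlast a ha0 ha1
      · rw [hmid a l ha0 ha1 hl, Matrix.one_apply_ne h.ne]

theorem comm_long {i j : Fin n} (hi : i < i.rev) (hj : j < j.rev) (hij : i < j) (hij' : i ≠ j.rev) (hij'' : i ≠ j.rev.rev)
    (x b : F) (hb : c.σ b = -b) (hbb : c.σ (x * c.σ x * b) = -(x * c.σ x * b)) :
    L4 c i j hi.ne' hj.ne' hij.ne hij' x * L2 c j hj.ne' b hb =
      L4 c i j.rev hi.ne' (by rw [Fin.rev_rev]; exact hj.ne) hij' hij'' (x * b) * L2 c j hj.ne' b hb *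
        L2 c i hi.ne' (x * c.σ x * b) hbb * L4 c i j hi.ne' hj.ne' hij.ne hij' x := by
  have a1 : i.rev ≠ j := fun e => hij' (by rw [← e, Fin.rev_rev])
  have a2 : i.rev ≠ j.rev := fun e => hij.ne (Fin.rev_injective e)
  refine SUs_ext c ?_
  simp only [coe_mul, L4_val, L2_val, Fin.rev_rev, Matrix.mul_add, Matrix.add_mul, Matrix.mul_one, Matrix.one_mul,
    Matrix.single_mul_single_same, Matrix.single_mul_single_of_ne, Matrix.mul_zero, Matrix.zero_mul, add_zero, zero_add,
    hi.ne, hi.ne', hj.ne, hj.ne', hij.ne, hij.ne', hij', hij'.symm, a1, a1.symm, a2, a2.symm, ne_eq, not_false_eq_true,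
    map_mul, hb]
  ext r s
  simp [Matrix.single_apply]
  split_ifs <;> ring

theorem weyl_short {i j : Fin n} (hi : i.rev ≠ i) (hj : j.rev ≠ j) (hij : i ≠ j) (hij' : i ≠ j.rev)
    (hij'' : i ≠ j.rev.rev) (hjr : j.rev.rev ≠ j.rev) (x α : F) (h0 : α ≠ 0) (hα : c.σ α = -α) :
    emb c (rev_f2 hj) (w2 c α h0 hα) * L4 c i j.rev hi hjr hij' hij'' x * (emb c (rev_f2 hj) (w2 c α h0 hα))⁻¹ =
      L4 c i j hi hj hij hij' (x / α) := by
  have a1 : i.rev ≠ j := fun e => hij' (by rw [← e, Fin.rev_rev])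
  have a2 : i.rev ≠ j.rev := fun e => hij (Fin.rev_injective e)
  rw [mul_inv_eq_iff_eq_mul]
  refine SUs_ext c ?_
  rw [coe_mul, coe_mul, emb_val, show (w2 c α h0 hα).1.1 - 1 = Matrix.single 0 0 (-1) + Matrix.single 0 1 α +
      Matrix.single 1 0 (-α⁻¹) + Matrix.single 1 1 (-1) by
    ext r s; fin_cases r <;> fin_cases s <;> simp [w2]]
  simp only [Matrix.mul_add, Matrix.add_mul, incl_single]
  simp only [L4_val, Fin.rev_rev, f2, Matrix.cons_val_zero, Matrix.cons_val_one, Matrix.mul_add, Matrix.add_mul,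
    Matrix.mul_one, Matrix.one_mul, Matrix.single_mul_single_same, Matrix.single_mul_single_of_ne, Matrix.mul_zero,
    Matrix.zero_mul, add_zero, zero_add, hj, hj.symm, hij, hij.symm, hij', hij'.symm, a1, a1.symm, a2, a2.symm, ne_eq,
    not_false_eq_true, map_div₀, hα]
  ext r s
  simp [Matrix.single_apply]
  split_ifs <;> field_simp <;> ring

/-- Matrix units. -/
def mu (a b : Fin n) : Mn := Matrix.single a b 1

theorem single_eq_mu (a b : Fin n) (x : F) : Matrix.single a b x = x • (mu a b : Mn) := by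
  rw [mu, Matrix.smul_single, smul_eq_mul, mul_one]

theorem mu_mul_same (a b d : Fin n) : (mu a b : Mn) * mu b d = mu a d := by
  rw [mu, mu, Matrix.single_mul_single_same, one_mul]; rfl

theorem mu_mul_ne {a b b' d : Fin n} (h : b ≠ b') : (mu a b : Mn) * mu b' d = 0 :=
  Matrix.single_mul_single_of_ne (h := h) ..

theorem comm_middle {i j μ : Fin n} (hμ : μ.rev = μ) (hi : i < j) (hj : j < μ) (hir : i.rev ≠ i) (hjr : j.rev ≠ j)
    (hij' : i ≠ j.rev) (hij'' : i ≠ j.rev.rev) (hjr' : j.rev.rev ≠ j.rev) (a b : F)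
    (hb : b + c.σ b + a * c.σ a = 0) :
    L4 c i j hir hjr hi.ne hij' 1 * L3 c j μ hμ hjr a b hb =
      L4 c i j.rev hir hjr' hij' hij'' (-c.σ b) * L3 c i μ hμ hir a b hb * L3 c j μ hμ hjr a b hb *
        L4 c i j hir hjr hi.ne hij' 1 := by
  have hiμ := (hi.trans hj).ne
  have a1 : i.rev ≠ j := fun e => hij' (by rw [← e, Fin.rev_rev])
  have a2 : i.rev ≠ j.rev := fun e => hi.ne (Fin.rev_injective e)
  have a3 : i.rev ≠ μ := fun e => hiμ (by rw [← Fin.rev_rev i, e, hμ])
  have a4 : j.rev ≠ μ := fun e => hj.ne (by rw [← Fin.rev_rev j, e, hμ])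
  refine SUs_ext c ?_
  simp only [coe_mul, L4_val, L3_val, Fin.rev_rev, single_eq_mu, Matrix.mul_add, Matrix.add_mul, Matrix.mul_one,
    Matrix.one_mul, Matrix.smul_mul, Matrix.mul_smul, smul_smul, mu_mul_same, mu_mul_ne, smul_zero, Matrix.mul_zero,
    Matrix.zero_mul, add_zero, zero_add, hi.ne, hi.ne', hj.ne, hj.ne', hiμ, hiμ.symm, hir, hir.symm, hjr, hjr.symm,
    hij', hij'.symm, a1, a1.symm, a2, a2.symm, a3, a3.symm, a4, a4.symm, ne_eq, not_false_eq_true, map_one, map_neg,
    c.invol]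
  match_scalars <;> first | ring1 | linear_combination hb | linear_combination -hb

theorem h2diag_mem {o : Fin n} (ho : o < o.rev) (T' : Subgroup (SUs c n))
    (hcl : ∀ y ∈ T', ∀ g : SUs c n, g * y * g⁻¹ ∈ UU c n → g * y * g⁻¹ ∈ T') {i : Fin n} (hi : i < i.rev)
    (hne : o ≠ i) (hio : i ≠ o.rev) (hio' : o ≠ i.rev) {b b' : F} (hb : c.σ b = -b) (hb' : c.σ b' = -b') (h0 : b ≠ 0)
    (h : L2 c o ho.ne' b hb ∈ T') : L2 c o ho.ne' b' hb' ∈ T' := by
  rcases eq_or_ne b' 0 with rfl | h0'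
  · rw [show L2 c o ho.ne' (0 : F) hb' = 1 from SUs_ext c (by simp [L2_val, coe_one])]
    exact one_mem T'
  obtain ⟨u, hu⟩ := c.exists_norm (d := b' / b) (by rw [map_div₀, hb, hb', neg_div_neg_eq])
  have hu0 : u ≠ 0 := fun e => by
    rw [e, zero_mul] at hu
    exact div_ne_zero h0' h0 hu.symm
  let g : SUs c n := emb c (rev_f4 ho.ne' hi.ne' hne hio')
    (r4 c u * r4l c (-u⁻¹) * r4 c (u - 1) * r4l c 1 * r4 c (-1))
  have key : g * L2 c o ho.ne' b hb * g⁻¹ = L2 c o ho.ne' b' hb' := by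
    rw [mul_inv_eq_iff_eq_mul]
    refine SUs_ext c ?_
    have h4 := h4_val c (Units.mk0 u hu0)
    simp only [Units.val_mk0] at h4
    rw [coe_mul, coe_mul, emb_val, h4,
      show (!![u, 0, 0, 0; 0, u⁻¹, 0, 0; 0, 0, c.σ u, 0; 0, 0, 0, (c.σ u)⁻¹] : Matrix (Fin 4) (Fin 4) F) - 1 =
        Matrix.single 0 0 (u - 1) + Matrix.single 1 1 (u⁻¹ - 1) + Matrix.single 2 2 (c.σ u - 1) +
          Matrix.single 3 3 ((c.σ u)⁻¹ - 1) by
        ext r s; fin_cases r <;> fin_cases s <;> simp]
    simp only [Matrix.mul_add, Matrix.add_mul, incl_single]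
    have a1 : o.rev ≠ i.rev := fun e => hne (Fin.rev_injective e)
    simp only [L2_val, f4, Matrix.cons_val_zero, Matrix.cons_val_one, Matrix.cons_val, Matrix.mul_add, Matrix.add_mul,
      Matrix.mul_one, Matrix.one_mul, Matrix.single_mul_single_same, Matrix.single_mul_single_of_ne, Matrix.mul_zero,
      Matrix.zero_mul, add_zero, zero_add, ho.ne, ho.ne', hne, hne.symm, hio, hio.symm, hio', hio'.symm, a1, a1.symm,
      ne_eq, not_false_eq_true]
    have hsu : c.σ u ≠ 0 := (map_ne_zero c.σ).mpr hu0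
    have e : b' = u * c.σ u * b := by rw [hu, div_mul_cancel₀ _ h0]
    ext r s
    simp [Matrix.single_apply, e]
    split_ifs <;> field_simp <;> ring
  rw [← key]
  exact hcl _ h g (by rw [key]; exact L2_mem_UU c ho b' hb')

theorem closed_eq [Finite G] (hn : 4 ≤ n) (hc : Cover c p φ) (U : Sylow p G) (hU : (U : Subgroup G) = (UU c n).map φ)
    (T : Subgroup G) (hT : FusionClosed (U : Subgroup G) T) (h1 : T ≠ ⊥) : (U : Subgroup G) ≤ T := by
  classical
  obtain ⟨hTU, hcl⟩ := hT
  haveI : Group.IsNilpotent (U : Subgroup G) := U.2.isNilpotent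
  haveI : (T.subgroupOf (U : Subgroup G)).Normal := ⟨fun x hx g => hcl _ hx (g : G) (g * x * g⁻¹).2⟩
  have hne : T.subgroupOf (U : Subgroup G) ⊓ Subgroup.center (U : Subgroup G) ≠ ⊥ :=
    CfsgLib.inf_center_ne_bot_of_nilpotent (fun h => h1 (by
      rw [← inf_eq_left.mpr hTU, ← Subgroup.subgroupOf_map_subtype, h, Subgroup.map_bot]))
  obtain ⟨⟨x, hx⟩, hx1⟩ := Subgroup.ne_bot_iff_exists_ne_one.mp hne
  set T' : Subgroup (SUs c n) := T.comap φ with hT'
  have hcl' : ∀ y ∈ T', ∀ g : SUs c n, g * y * g⁻¹ ∈ UU c n → g * y * g⁻¹ ∈ T' := by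
    intro y hy g hg
    show φ (g * y * g⁻¹) ∈ T
    have := hcl (φ y) hy (φ g) (by rw [← map_inv, ← map_mul, ← map_mul, hU]; exact ⟨_, hg, rfl⟩)
    rwa [← map_inv, ← map_mul, ← map_mul] at this
  obtain ⟨z, hzU, hzx⟩ := (hU ▸ x.2 : (x : G) ∈ (UU c n).map φ)
  have hzT : z ∈ T' := by show φ z ∈ T; rw [hzx]; exact hx.1
  obtain ⟨b, hb, hoo, rfl⟩ := center_eq c hn hzU fun y hy => commute_UU c p hc hzU hy (by
    rw [hzx]
    exact (congrArg Subtype.val (Subgroup.mem_center_iff.mp hx.2 ⟨φ y, hU ▸ ⟨y, hy, rfl⟩⟩)).symm)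
  set o : Fin n := ⟨0, by omega⟩ with hodef
  set i₁ : Fin n := ⟨1, by omega⟩ with hidef
  have hii : i₁ < i₁.rev := by simp [i₁, Fin.lt_def, Fin.val_rev]; omega
  have hb0 : b ≠ 0 := fun e => hx1 (Subtype.ext (Subtype.ext (by
    rw [← hzx, show L2 c o hoo.ne' b hb = 1 from SUs_ext c (by simp [L2_val, coe_one, e]), map_one]
    rfl)))
  -- long roots
  have hlongo : ∀ (b' : F) (hb' : c.σ b' = -b'), L2 c o hoo.ne' b' hb' ∈ T' := fun b' hb' =>
    h2diag_mem c hoo T' hcl' hii (by simp [o, i₁, Fin.ext_iff]) (by simp [o, i₁, Fin.ext_iff, Fin.val_rev]; omega)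
      (by simp [o, i₁, Fin.ext_iff, Fin.val_rev]; omega) hb hb' hb0 hzT
  have hlong : ∀ (k : Fin n) (hk : k < k.rev) (b' : F) (hb' : c.σ b' = -b'), L2 c k hk.ne' b' hb' ∈ T' := by
    intro k hk b' hb'
    rcases eq_or_ne o k with rfl | hne
    · exact hlongo b' hb'
    obtain ⟨π, hπ, hs, e1, e2, -⟩ := exists_perm hoo hk hne
    have e := Wp_emb c π hπ hs (rev_f2 hoo.ne') (rev_f2 hk.ne') (fun a => by
      fin_cases a
      · exact e1
      · exact e2) (r2 c b' hb')
    have := hcl' _ (hlongo b' hb') (Wp c π hπ hs) (by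
      show Wp c π hπ hs * emb c _ (r2 c b' hb') * _ ∈ _; rw [e]; exact L2_mem_UU c hk b' hb')
    change Wp c π hπ hs * emb c _ (r2 c b' hb') * _ ∈ T' at this
    rwa [e] at this
  have hnormal : ∀ g ∈ UU c n, ∀ y ∈ T', y ∈ UU c n → g * y * g⁻¹ ∈ T' := fun g hg y hy hyU =>
    hcl' y hy g (mul_mem (mul_mem hg hyU) (inv_mem hg))
  -- short roots between the halves
  have hsieg : ∀ (i j : Fin n) (hi : i < i.rev) (hj : j < j.rev) (hij : i < j) (h' : i ≠ j.rev)
      (h'' : i ≠ j.rev.rev) (hjr : j.rev.rev ≠ j.rev) (y : F), L4 c i j.rev hi.ne' hjr h' h'' y ∈ T' := by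
    intro i j hi hj hij h' h'' hjr y
    have hbb : c.σ (y / b * c.σ (y / b) * b) = -(y / b * c.σ (y / b) * b) := by
      rw [map_mul, map_mul, c.invol, hb]; ring
    have e := comm_long c hi hj hij h' h'' (y / b) b hb hbb
    rw [← mul_inv_eq_iff_eq_mul] at e
    have hX : L4 c i j hi.ne' hj.ne' hij.ne h' (y / b) ∈ UU c n := L4_mem_UU c hi.ne' hj.ne' hij h' _
    have h := hnormal _ hX _ (hlong j hj b hb) (L2_mem_UU c hj b hb)
    rw [e] at h
    have h2 := mul_mem (mul_mem h (inv_mem (hlong i hi _ hbb))) (inv_mem (hlong j hj b hb))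
    rwa [mul_inv_cancel_right, mul_inv_cancel_right, div_mul_cancel₀ _ hb0] at h2
  -- Levi short roots
  have hlevi : ∀ (i j : Fin n) (hi : i < i.rev) (hj : j < j.rev) (hij : i < j) (h' : i ≠ j.rev) (y : F),
      L4 c i j hi.ne' hj.ne' hij.ne h' y ∈ T' := by
    intro i j hi hj hij h' y
    have h'' : i ≠ j.rev.rev := by rw [Fin.rev_rev]; exact hij.ne
    have hjr : j.rev.rev ≠ j.rev := by rw [Fin.rev_rev]; exact hj.ne
    have e := weyl_short c hi.ne' hj.ne' hij.ne h' h'' hjr (y * b) b hb0 hb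
    rw [mul_div_cancel_right₀ _ hb0] at e
    rw [← e]
    exact hcl' _ (hsieg i j hi hj hij h' h'' hjr (y * b)) _ (by rw [e]; exact L4_mem_UU c hi.ne' hj.ne' hij h' y)
  -- middle roots
  have hmiddle : ∀ (μ : Fin n) (hμ : μ.rev = μ) (i : Fin n) (hi : i < i.rev) (a d : F)
      (hd : d + c.σ d + a * c.σ a = 0), L3 c i μ hμ hi.ne' a d hd ∈ T' := by
    intro μ hμ i hi a d hd
    have hμv : 2 * (μ : ℕ) + 1 = n := by
      have h := congrArg Fin.val hμ
      have := μ.2
      simp [Fin.val_rev] at h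
      omega
    have hoμ : o < μ := by simp [o, Fin.lt_def]; omega
    have h1μ : i₁ < μ := by simp [i₁, Fin.lt_def]; omega
    have ho1 : o < i₁ := by simp [o, i₁, Fin.lt_def]
    have hbase : L3 c o μ hμ hoo.ne' a d hd ∈ T' := by
      have h' : o ≠ i₁.rev := by simp [o, i₁, Fin.ext_iff, Fin.val_rev]; omega
      have h'' : o ≠ i₁.rev.rev := by rw [Fin.rev_rev]; exact ho1.ne
      have hjr : i₁.rev.rev ≠ i₁.rev := by rw [Fin.rev_rev]; exact hii.ne
      have e := comm_middle c hμ ho1 h1μ hoo.ne' hii.ne' h' h'' hjr a d hd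
      have hXT := hlevi o i₁ hoo hii ho1 h' 1
      have hMU := L3_mem_UU c hμ h1μ hii.ne' a d hd
      -- `X M = S M' M X` and `M X M⁻¹` lies in `T'`
      have hconj := hnormal _ hMU _ hXT (L4_mem_UU c hoo.ne' hii.ne' ho1 h' 1)
      have h2 : L4 c o i₁.rev hoo.ne' hjr h' h'' (-c.σ d) * L3 c o μ hμ hoo.ne' a d hd *
          (L3 c i₁ μ hμ hii.ne' a d hd * L4 c o i₁ hoo.ne' hii.ne' ho1.ne h' 1 *
            (L3 c i₁ μ hμ hii.ne' a d hd)⁻¹) = L4 c o i₁ hoo.ne' hii.ne' ho1.ne h' 1 := by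
        rw [← mul_assoc, ← mul_assoc, mul_inv_eq_iff_eq_mul, ← e]
      have h3 : L4 c o i₁.rev hoo.ne' hjr h' h'' (-c.σ d) * L3 c o μ hμ hoo.ne' a d hd ∈ T' := by
        rw [eq_mul_inv_iff_mul_eq.mpr h2]
        exact mul_mem hXT (inv_mem hconj)
      have h4 := mul_mem (inv_mem (hsieg o i₁ hoo hii ho1 h' h'' hjr (-c.σ d))) h3
      rwa [inv_mul_cancel_left] at h4
    rcases eq_or_ne o i with rfl | hne
    · exact hbase
    have hiμ : i < μ := by
      rw [Fin.lt_def, Fin.val_rev] at hi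
      rw [Fin.lt_def]
      omega
    obtain ⟨π, hπ, hs, e1, e2, e3⟩ := exists_perm hoo hi hne
    have e := Wp_emb c π hπ hs (rev_f3 hμ hoo.ne') (rev_f3 hμ hi.ne') (fun r => by
      fin_cases r
      · exact e1
      · exact e3 μ hμ
      · exact e2) (r3 c a d hd)
    have := hcl' _ hbase (Wp c π hπ hs) (by
      show Wp c π hπ hs * emb c _ (r3 c a d hd) * _ ∈ _; rw [e]; exact L3_mem_UU c hμ hiμ hi.ne' a d hd)
    change Wp c π hπ hs * emb c _ (r3 c a d hd) * _ ∈ T' at this
    rwa [e] at this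
  obtain ⟨eT, heT⟩ := c.exists_trace_one
  -- elimination
  have hmain : ∀ (r : ℕ) (u : SUs c n), u ∈ UU c n →
      (∀ a l : Fin n, r + (a : ℕ) < n → a < a.rev → u.1.1 a l = (1 : Mn) a l) → r ≤ n → u ∈ T' := by
    intro r
    induction r with
    | zero =>
      intro u hu hrows _
      have : u = 1 := by
        refine SUs_ext c ?_
        rw [coe_one]
        ext a l
        rcases lt_trichotomy l a with h | rfl | h
        · rw [UU_below c hu h, Matrix.one_apply_ne h.ne']
        · rw [UU_diag c hu, Matrix.one_apply_eq]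
        rw [Matrix.one_apply_ne h.ne]
        by_cases ha : a < a.rev
        · rw [hrows a l (by simp) ha, Matrix.one_apply_ne h.ne]
        have hlr : l.rev < l.rev.rev := by
          rw [Fin.rev_rev]
          rw [Fin.lt_def, Fin.val_rev] at ha ⊢
          rw [Fin.lt_def] at h
          omega
        have e := cond_apply c u.2 l.rev a
        rw [Fin.rev_rev, if_neg h.ne, Finset.sum_eq_single l.rev] at e
        · rw [UU_diag c hu, one_mul, Fin.rev_rev, map_eq_zero] at e
          exact e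
        · intro s _ hs
          rw [hrows l.rev s (by have := l.rev.2; omega) hlr, Matrix.one_apply_ne hs.symm, zero_mul]
        · simp
      rw [this]; exact one_mem T'
    | succ r ih =>
      intro u hu hrows hr
      set a : Fin n := ⟨n - r - 1, by omega⟩ with hadef
      by_cases ha : a < a.rev
      swap
      · exact ih u hu (fun a' l h1 h2 => hrows a' l (by
          by_contra hh
          have : a' = a := Fin.ext (by simp [a]; omega)
          exact ha (this ▸ h2)) h2) (by omega)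
      -- clear the row `a` up to column `m`
      have hclear : ∀ m : ℕ, m ≤ (a.rev : ℕ) → ∃ t ∈ T', t ∈ UU c n ∧
          (∀ a' l : Fin n, r + 1 + (a' : ℕ) < n → a' < a'.rev → (u * t).1.1 a' l = (1 : Mn) a' l) ∧
          ∀ l : Fin n, a < l → (l : ℕ) < m → (u * t).1.1 a l = 0 := by
        intro m
        induction m with
        | zero => exact fun _ => ⟨1, one_mem _, one_mem _, by simpa using hrows, fun l _ h => by omega⟩
        | succ m ihm =>
          intro hm
          obtain ⟨t, ht, htU, hrows', hzero⟩ := ihm (by omega)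
          have hmn : m < n := lt_of_lt_of_le hm a.rev.2.le
          set k : Fin n := ⟨m, hmn⟩ with hkdef
          by_cases hak : a < k
          swap
          · refine ⟨t, ht, htU, hrows', fun l hl hlm => ?_⟩
            rcases Nat.lt_succ_iff_lt_or_eq.mp hlm with h | h
            · exact hzero l hl h
            · exact absurd (show a < k by rw [show k = l from Fin.ext h.symm]; exact hl) hak
          have hkr : k < a.rev := hm
          have hvU : u * t ∈ UU c n := mul_mem hu htU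
          obtain ⟨x, hx⟩ : ∃ x, x = (u * t).1.1 a k := ⟨_, rfl⟩
          have hak' : a ≠ k.rev := fun e => hkr.ne (by rw [e, Fin.rev_rev])
          obtain ⟨L, hLT, hLU, hLrow, hLk, hLl⟩ : ∃ L : SUs c n, L ∈ T' ∧ L ∈ UU c n ∧
              (∀ a' l : Fin n, r + 1 + (a' : ℕ) < n → a' < a'.rev → L.1.1 a' l = (1 : Mn) a' l) ∧
              L.1.1 a k = -x ∧ (∀ s l : Fin n, (l : ℕ) ≤ m → ¬ (s = a ∧ l = k) → ¬ (l = a.rev) →
                L.1.1 s l = (1 : Mn) s l) := by
            have hlt_of : ∀ a' : Fin n, r + 1 + (a' : ℕ) < n → a' < a := fun a' h => by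
              rw [Fin.lt_def]; simp [a]; omega
            by_cases hkμ : k.rev = k
            · obtain ⟨d, hd⟩ : ∃ d, d = -(eT * ((-x) * c.σ (-x))) := ⟨_, rfl⟩
              have hd' : d + c.σ d + (-x) * c.σ (-x) = 0 := by
                rw [hd]
                simp only [map_neg, map_mul, c.invol]
                linear_combination (-(x * c.σ x)) * heT
              refine ⟨L3 c a k hkμ ha.ne' (-x) d hd', hmiddle k hkμ a ha _ _ hd', L3_mem_UU c hkμ hak ha.ne' _ _ hd',
                fun a' l h1 h2 => ?_, ?_, fun s l hl hsl hla => ?_⟩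
              · have h3 := hlt_of a' h1
                rw [L3_val]
                simp [Matrix.single_apply, h3.ne', (h3.trans hak).ne']
              · rw [L3_val]
                simp [Matrix.single_apply, hak.ne, hkr.ne']
              · rw [L3_val]
                simp only [Matrix.add_apply, Matrix.single_apply]
                rw [if_neg (fun e => hsl ⟨e.1.symm, e.2.symm⟩), if_neg (fun e => hla e.2.symm),
                  if_neg (fun e => hla e.2.symm)]
                simp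
            · have hkk : k < k.rev ∨ k.rev < k := lt_or_gt_of_ne (Ne.symm hkμ)
              refine ⟨L4 c a k ha.ne' hkμ hak.ne hak' (-x), ?_, L4_mem_UU c ha.ne' hkμ hak hak' _,
                fun a' l h1 h2 => ?_, ?_, fun s l hl hsl hla => ?_⟩
              · rcases hkk with hkk | hkk
                · exact hlevi a k ha hkk hak hak' _
                · have hj : k.rev < k.rev.rev := by rw [Fin.rev_rev]; exact hkk
                  have haj : a < k.rev := by rw [← Fin.rev_rev a]; exact Fin.rev_lt_rev.mpr hkr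
                  have h := hsieg a k.rev ha hj haj (by rw [Fin.rev_rev]; exact hak.ne)
                    (by rw [Fin.rev_rev]; exact hak') (by rw [Fin.rev_rev, Fin.rev_rev]; exact hkμ) (-x)
                  convert h using 2
                  rw [Fin.rev_rev]
              · have h3 := hlt_of a' h1
                have h4 : k.rev ≠ a' := by
                  intro e
                  have : a < k.rev := by rw [← Fin.rev_rev a]; exact Fin.rev_lt_rev.mpr hkr
                  exact lt_asymm h3 (e ▸ this)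
                rw [L4_val]
                simp [Matrix.single_apply, h3.ne', h4]
              · rw [L4_val]
                simp [Matrix.single_apply, hak.ne, Ne.symm hak']
              · rw [L4_val]
                simp only [Matrix.add_apply, Matrix.single_apply]
                rw [if_neg (fun e => hsl ⟨e.1.symm, e.2.symm⟩), if_neg (fun e => hla e.2.symm)]
                simp
          refine ⟨t * L, mul_mem ht hLT, mul_mem htU hLU, fun a' l h1 h2 => ?_, fun l hl hlm => ?_⟩
          · rw [← mul_assoc, coe_mul, Matrix.mul_apply, Finset.sum_eq_single a']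
            · rw [hrows' a' a' h1 h2, Matrix.one_apply_eq, one_mul, hLrow a' l h1 h2]
            · intro s _ hs
              rw [hrows' a' s h1 h2, Matrix.one_apply_ne hs.symm, zero_mul]
            · simp
          · have hla : l ≠ a.rev := fun e => by rw [e] at hlm; omega
            rw [← mul_assoc, coe_mul, Matrix.mul_apply]
            rcases eq_or_ne l k with rfl | hlk
            · rw [Finset.sum_eq_add_of_mem a k (Finset.mem_univ _) (Finset.mem_univ _) hak.ne]
              · rw [UU_diag c hvU, one_mul, hLk, hLl k k le_rfl (fun e => hak.ne e.1.symm) hla, Matrix.one_apply_eq,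
                  mul_one, ← hx, neg_add_cancel]
              · intro s _ hs
                rw [hLl s k le_rfl (fun e => hs.1 e.1) hla, Matrix.one_apply_ne hs.2, mul_zero]
            · have hlm' : (l : ℕ) < m := by
                rw [Ne, Fin.ext_iff] at hlk
                simp [k] at hlk
                omega
              rw [Finset.sum_eq_single l]
              · rw [hzero l hl hlm', zero_mul]
              · intro s _ hs
                rw [hLl s l hlm'.le (fun e => hlk e.2) hla, Matrix.one_apply_ne hs, mul_zero]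
              · simp
      obtain ⟨t, ht, htU, hrows', hzero⟩ := hclear _ le_rfl
      set v := u * t with hv
      have hvU : v ∈ UU c n := mul_mem hu htU
      have hout : ∀ s : Fin n, a.rev < s → v.1.1 a s = 0 := by
        intro s hs
        have hsr : s.rev < a := by rw [← Fin.rev_rev a]; exact Fin.rev_lt_rev.mpr hs
        have hsr' : s.rev < s.rev.rev := by rw [Fin.rev_rev]; exact hsr.trans (ha.trans hs)
        have hsa : r + 1 + (s.rev : ℕ) < n := by
          have h := Fin.lt_def.mp hsr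
          simp [a] at h ⊢
          omega
        have e := cond_apply c v.2 s.rev a
        rw [Fin.rev_rev, if_neg (ne_of_lt (ha.trans hs)), Finset.sum_eq_single s.rev] at e
        · rw [hrows' s.rev s.rev hsa hsr', Matrix.one_apply_eq, one_mul, Fin.rev_rev, map_eq_zero] at e
          exact e
        · intro l _ hl
          rw [hrows' s.rev l hsa hsr', Matrix.one_apply_ne hl.symm, zero_mul]
        · simp
      have hrowa : ∀ s : Fin n, s ≠ a → s ≠ a.rev → v.1.1 a s = 0 := by
        intro s h1 h2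
        rcases lt_or_gt_of_ne h1 with h | h
        · exact UU_below c hvU h
        rcases lt_or_gt_of_ne h2 with h' | h'
        · exact hzero s h h'
        · exact hout s h'
      have hbb : c.σ (v.1.1 a a.rev) = -v.1.1 a a.rev := by
        have e := cond_apply c v.2 a a
        rw [if_neg ha.ne, Finset.sum_eq_add_of_mem a a.rev (Finset.mem_univ _) (Finset.mem_univ _) ha.ne] at e
        · rw [Fin.rev_rev, UU_diag c hvU, map_one, one_mul, mul_one] at e
          linear_combination e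
        · intro l _ hl
          rw [hrowa l hl.1 hl.2, zero_mul]
      have hnb : c.σ (-v.1.1 a a.rev) = -(-v.1.1 a a.rev) := by rw [map_neg, hbb]
      have hfin : v * L2 c a ha.ne' _ hnb ∈ T' := by
        refine ih _ (mul_mem hvU (L2_mem_UU c ha _ hnb)) (fun a' l h1 h2 => ?_) (by omega)
        rw [coe_mul, L2_val, Matrix.mul_add, Matrix.mul_one, Matrix.add_apply]
        by_cases hl : l = a.rev
        swap
        · rw [Matrix.mul_single_apply_of_ne (hbj := hl), add_zero]
          rcases eq_or_ne a' a with rfl | ha'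
          · rcases eq_or_ne l a with rfl | hla
            · rw [UU_diag c hvU, Matrix.one_apply_eq]
            · rw [hrowa l hla hl, Matrix.one_apply_ne hla.symm]
          · exact hrows' a' l (by
              rw [Ne, Fin.ext_iff] at ha'
              simp [a] at ha'
              omega) h2
        · rw [hl, Matrix.mul_single_apply_same]
          rcases eq_or_ne a' a with rfl | ha'
          · rw [UU_diag c hvU, one_mul, add_neg_cancel, Matrix.one_apply_ne ha.ne]
          · have h1' : r + 1 + (a' : ℕ) < n := by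
              rw [Ne, Fin.ext_iff] at ha'
              simp [a] at ha'
              omega
            rw [hrows' a' a.rev h1' h2, hrows' a' a h1' h2, Matrix.one_apply_ne ha', zero_mul, add_zero]
      have h3 := mul_mem (mul_mem hfin (inv_mem (hlong a ha _ hnb))) (inv_mem ht)
      rwa [mul_inv_cancel_right, hv, mul_inv_cancel_right] at h3
  rw [hU]
  rintro _ ⟨u, hu, rfl⟩
  exact hmain n u hu (fun a l h _ => by omega) le_rfl

/-! ### Generation -/

theorem emb_diag {f : Fin k → Fin n} (hf : RevEmb f) (X : SUs c k)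
    (hX : ∀ r s, r ≠ s → X.1.1 r s = 0) :
    emb c hf X ∈ Par c (fun a : Fin n => (a : ℕ)) ∧ (∀ r, (emb c hf X).1.1 (f r) (f r) = X.1.1 r r) ∧
      ∀ a, (∀ r, a ≠ f r) → (emb c hf X).1.1 a a = 1 := by
  refine ⟨emb_mem_Par c hf fun r s h => hX r s (fun e => by rw [e] at h; exact lt_irrefl _ h),
    fun r => embM_apply hf.1 _ r r, fun a ha => ?_⟩
  show embM f X.1.1 a a = 1
  rw [embM_left _ ha, Matrix.one_apply_eq]

theorem normalizer_le [Finite G] (hn : 4 ≤ n) (hc : Cover c p φ) (U : Sylow p G)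
    (hU : (U : Subgroup G) = (UU c n).map φ) :
    Subgroup.normalizer ((U : Subgroup G) : Set G) ≤ Subgroup.closure {g | Gen U g} := by
  classical
  obtain ⟨b₀, hb0, hb₀⟩ := c.exists_antifixed
  obtain ⟨e, he⟩ := c.exists_trace_one
  have hbm : -e + c.σ (-e) + 1 * c.σ 1 = 0 := by rw [map_neg, map_one]; linear_combination -he
  set K := Subgroup.closure {g | Gen U g}
  have hUK : ∀ u ∈ UU c n, φ u ∈ K := by
    intro u hu
    have hu' : φ u ∈ (U : Subgroup G) := hU ▸ ⟨u, hu, rfl⟩
    obtain ⟨k, hk⟩ := IsPGroup.iff_orderOf.mp U.2 ⟨φ u, hu'⟩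
    exact Subgroup.subset_closure ⟨Subgroup.le_normalizer hu', U, le_rfl, Subgroup.le_normalizer, inf_le_left,
      Subgroup.subset_closure ⟨Subgroup.le_normalizer hu', k, by rw [← hk]; exact (Subgroup.orderOf_mk _ _).symm⟩⟩
  have hnorm : ∀ (ℓ : Fin n → ℕ) (y : SUs c n), y ∈ Par c ℓ →
      φ y ∈ Subgroup.normalizer (((Rad c ℓ).map φ : Subgroup G) : Set G) := by
    intro ℓ y hy
    refine PSpBorel.mem_normalizer_of_conj _ ?_
    rintro _ ⟨x, hx, rfl⟩
    exact ⟨_, Rad_conj c hy hx, by rw [map_mul, map_mul, map_inv]⟩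
  have hBN : ∀ y : SUs c n, y ∈ Par c (fun a : Fin n => (a : ℕ)) →
      φ y ∈ Subgroup.normalizer ((U : Subgroup G) : Set G) := fun y hy => by rw [hU]; exact hnorm _ y hy
  have hgen : ∀ (ℓ : Fin n → ℕ) {k : ℕ} {f : Fin k → Fin n} (hf : RevEmb f) (X : SUs c k),
      (∀ r s, ℓ (f s) < ℓ (f r) → X.1.1 r s = 0) → (X.1.1 - 1) ^ 3 = 0 →
      φ (emb c hf X) ∈ Subgroup.closure {x : G | x ∈ Subgroup.normalizer (((Rad c ℓ).map φ : Subgroup G) : Set G) ∧
        ∃ k : ℕ, orderOf x = p ^ k} := by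
    intro ℓ k f hf X hP h3
    refine Subgroup.subset_closure ⟨hnorm ℓ _ (emb_mem_Par c hf hP), ?_⟩
    obtain ⟨j, -, hj⟩ := (Nat.dvd_prime_pow (Fact.out : p.Prime)).mp
      (show orderOf (φ (emb c hf X)) ∣ p ^ 2 from
        orderOf_dvd_of_pow_eq_one (by rw [← map_pow, emb_pow_eq_one c p hf X h3, map_one]))
    exact ⟨j, hj⟩
  have hRU : ∀ ℓ : Fin n → ℕ, Monotone ℓ → (Rad c ℓ).map φ ≤ (U : Subgroup G) := fun ℓ hℓ => by
    rw [hU]; exact Subgroup.map_mono (Rad_le_UU c hℓ)
  have hUN : ∀ ℓ : Fin n → ℕ, Monotone ℓ →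
      (U : Subgroup G) ≤ Subgroup.normalizer (((Rad c ℓ).map φ : Subgroup G) : Set G) := fun ℓ hℓ => by
    rw [hU]
    rintro _ ⟨u, hu, rfl⟩
    exact hnorm ℓ u (UU_le_Par c hℓ hu)
  have hC1 : (U : Subgroup G) ⊓ Subgroup.centralizer (((Rad c lev1).map φ : Subgroup G) : Set G) ≤
      (Rad c lev1).map φ := by
    rintro _ ⟨hxU, hxC⟩
    rw [SetLike.mem_coe, hU] at hxU
    obtain ⟨u, hu, rfl⟩ := hxU
    refine ⟨u, centralizer_lev1 c hu hb₀ hb0 fun k hk => ?_, rfl⟩
    have hmem : L2 c k hk.ne' b₀ hb₀ ∈ Rad c lev1 := L2_mem c hk (by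
      unfold lev1
      rw [if_pos hk, if_neg (by rw [Fin.rev_rev]; exact hk.asymm), if_neg (by rw [Fin.rev_rev]; exact hk.ne')]
      omega) _ _
    exact commute_UU c p hc hu (L2_mem_UU c hk _ _)
      (Subgroup.mem_centralizer_iff.mp hxC _ ⟨_, hmem, rfl⟩).symm
  set o : Fin n := ⟨0, by omega⟩ with hodef
  set i₁ : Fin n := ⟨1, by omega⟩ with hidef
  have hoo : o < o.rev := by simp [o, Fin.lt_def, Fin.val_rev]; omega
  have hii : i₁ < i₁.rev := by simp [i₁, Fin.lt_def, Fin.val_rev]; omega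
  have hlo : lev2 o = 0 := by simp [lev2, o]
  have hlo' : lev2 o.rev = 2 := by
    unfold lev2; rw [if_neg (by simp [o, Fin.val_rev]; omega), if_pos (by simp [o, Fin.val_rev]; omega)]
  have hC2 : (U : Subgroup G) ⊓ Subgroup.centralizer (((Rad c lev2).map φ : Subgroup G) : Set G) ≤
      (Rad c lev2).map φ := by
    rintro _ ⟨hxU, hxC⟩
    rw [SetLike.mem_coe, hU] at hxU
    obtain ⟨u, hu, rfl⟩ := hxU
    have hcm : ∀ y ∈ Rad c lev2, u * y = y * u := fun y hy =>
      commute_UU c p hc hu (Rad_le_UU c lev2_mono hy) (Subgroup.mem_centralizer_iff.mp hxC _ ⟨_, hy, rfl⟩).symm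
    refine ⟨u, centralizer_lev2 c hu rfl hoo hbm (fun j hj hoj hoj' => hcm _ (L4_mem c hoo.ne' hj hoj.ne hoj' ?_ ?_ 1))
      (fun μ hμ => hcm _ (L3_mem c hμ hoo.ne' ?_ ?_ 1 _ hbm)), rfl⟩
    all_goals
      first
        | (have h1 := Fin.lt_def.mp hoj
           rw [Ne, Fin.ext_iff, Fin.val_rev] at hoj'
           have := j.2
           simp [o, lev2, Fin.val_rev] at h1 hoj' ⊢
           split_ifs <;> omega)
        | (have h1 := congrArg Fin.val hμ
           have := μ.2
           simp [o, lev2, Fin.val_rev] at h1 ⊢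
           split_ifs <;> omega)
  -- torus elements
  have hH4 : ∀ (i : Fin n), i < i.rev → i₁ ≠ i → ∀ t : Fˣ, ∃ h ∈ Par c (fun a : Fin n => (a : ℕ)), φ h ∈ K ∧
      h.1.1 i i = (t : F)⁻¹ ∧ ∀ a, a ≠ i → a ≠ i₁ → a < a.rev → h.1.1 a a = 1 := by
    intro i hi hne t
    have h' : i₁ ≠ i.rev := by
      intro e
      have h1 := congrArg Fin.val e
      rw [Fin.lt_def, Fin.val_rev] at hi
      simp [i₁, Fin.val_rev] at h1
      omega
    have hf := rev_f4 hii.ne' hi.ne' hne h'
    set X := r4 c (t : F) * r4l c (-(t : F)⁻¹) * r4 c ((t : F) - 1) * r4l c 1 * r4 c (-1) with hX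
    have hval := h4_val c t
    rw [← hX] at hval
    obtain ⟨hP, hd, ho⟩ := emb_diag c hf X (fun r s hrs => by
      rw [hval]; fin_cases r <;> fin_cases s <;> simp at hrs ⊢)
    have hlev : ∀ r : Fin 4, lev1 (f4 i₁ i r) = ![0, 0, 2, 2] r := by
      intro r
      fin_cases r
      · simp [f4, lev1, hii]
      · simp [f4, lev1, hi]
      · simp [f4, lev1, hi.ne', hi.asymm]
      · simp [f4, lev1, hii.ne', hii.asymm]
    have hup : ∀ x : F, φ (emb c hf (r4 c x)) ∈ _ := fun x => hgen lev1 hf (r4 c x) (fun r s h => by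
      rw [hlev, hlev] at h
      fin_cases r <;> fin_cases s <;> simp [r4, m4] at h ⊢) (r4_cube c x).1
    have hlow : ∀ x : F, φ (emb c hf (r4l c x)) ∈ _ := fun x => hgen lev1 hf (r4l c x) (fun r s h => by
      rw [hlev, hlev] at h
      fin_cases r <;> fin_cases s <;> simp [r4l] at h ⊢) (r4_cube c x).2
    refine ⟨emb c hf X, hP, Subgroup.subset_closure ⟨hBN _ hP, _, hRU _ lev1_mono, hUN _ lev1_mono, hC1, ?_⟩,
      ?_, fun a h1 h2 h3 => ?_⟩
    · rw [hX]
      simp only [map_mul]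
      exact mul_mem (mul_mem (mul_mem (mul_mem (hup _) (hlow _)) (hup _)) (hlow _)) (hup _)
    · have := hd 1
      rw [hval] at this
      simpa [f4] using this
    · refine ho a fun r => ?_
      fin_cases r
      · exact h2
      · exact h1
      · intro e
        rw [e] at h3
        simp [f4] at h3
        exact lt_asymm hi h3
      · intro e
        rw [e] at h3
        simp [f4] at h3
        exact lt_asymm hii h3
  have hlev2 : ∀ a : Fin n, a ≠ o → a ≠ o.rev → lev2 a = 1 := fun a h1 h2 =>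
    lev2_middle (fun h => h1 (Fin.ext h)) (fun h => h2 (Fin.ext (by simp [o, Fin.val_rev]; omega)))
  have hi1o : i₁ ≠ o ∧ i₁ ≠ o.rev := ⟨by simp [o, i₁, Fin.ext_iff], by simp [o, i₁, Fin.ext_iff, Fin.val_rev]; omega⟩
  have hi1o' : i₁.rev ≠ o ∧ i₁.rev ≠ o.rev :=
    ⟨fun e => hi1o.2 (by rw [← e, Fin.rev_rev]), fun e => hi1o.1 (Fin.rev_injective e)⟩
  have hH1 : ∀ t : Fˣ, ((∃ μ : Fin n, μ.rev = μ) ∨ c.σ (t : F) = t) →
      ∃ h ∈ Par c (fun a : Fin n => (a : ℕ)), φ h ∈ K ∧
      h.1.1 i₁ i₁ = (t : F) ∧ ∀ a, a ≠ i₁ → a < a.rev → h.1.1 a a = 1 := by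
    intro t ht
    by_cases hodd : ∃ μ : Fin n, μ.rev = μ
    · obtain ⟨μ, hμ⟩ := hodd
      have hf := rev_f3 hμ hii.ne'
      have hμo : μ ≠ o ∧ μ ≠ o.rev :=
        ⟨fun e => hoo.ne' (e ▸ hμ), fun e => hoo.ne' (by rw [e, Fin.rev_rev] at hμ; exact hμ.symm)⟩
      have hlev : ∀ r : Fin 3, lev2 (f3 i₁ μ r) = 1 := by
        intro r
        fin_cases r
        · exact hlev2 _ hi1o.1 hi1o.2
        · exact hlev2 _ hμo.1 hμo.2
        · exact hlev2 _ hi1o'.1 hi1o'.2
      have hv0 : (c.σ (t : F))⁻¹ ≠ 0 := inv_ne_zero ((map_ne_zero c.σ).mpr t.ne_zero)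
      obtain ⟨u, a, a', b, hu, ha, ha', hw⟩ := exists_w3 c _ hv0
      obtain ⟨u₁, a₁, a₁', b₁, hu₁, ha₁, ha₁', hw₁⟩ := exists_w3 c (1 : F) one_ne_zero
      set X := r3 c a b ha * r3l c u _ hu * r3 c a' b ha' * (r3 c a₁ b₁ ha₁ * r3l c u₁ 1 hu₁ * r3 c a₁' b₁ ha₁')
        with hX
      have hval : X.1.1 = !![(t : F), 0, 0; 0, c.σ (t : F) / t, 0; 0, 0, (c.σ (t : F))⁻¹] := by
        rw [hX, coe_mul, hw, hw₁]
        have ht0 : (t : F) ≠ 0 := t.ne_zero
        have hst : c.σ (t : F) ≠ 0 := (map_ne_zero c.σ).mpr ht0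
        ext r s
        fin_cases r <;> fin_cases s <;> simp [Matrix.mul_apply, Fin.sum_univ_three, map_inv₀, c.invol] <;> field_simp
      obtain ⟨hP, hd, ho⟩ := emb_diag c hf X (fun r s hrs => by
        rw [hval]; fin_cases r <;> fin_cases s <;> simp at hrs ⊢)
      have hh : ∀ (Y : SUs c 3), (Y.1.1 - 1) ^ 3 = 0 → φ (emb c hf Y) ∈ _ := fun Y hY =>
        hgen lev2 hf Y (fun r s h => absurd h (by rw [hlev, hlev]; exact lt_irrefl _)) hY
      refine ⟨emb c hf X, hP, Subgroup.subset_closure ⟨hBN _ hP, _, hRU _ lev2_mono, hUN _ lev2_mono, hC2, ?_⟩,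
        ?_, fun q h1 h2 => ?_⟩
      · rw [hX]
        simp only [map_mul]
        exact mul_mem (mul_mem (mul_mem (hh _ (r3_cube c _ _ ha).1) (hh _ (r3_cube c _ _ hu).2))
          (hh _ (r3_cube c _ _ ha').1)) (mul_mem (mul_mem (hh _ (r3_cube c _ _ ha₁).1) (hh _ (r3_cube c _ _ hu₁).2))
          (hh _ (r3_cube c _ _ ha₁').1))
      · have := hd 0
        rw [hval] at this
        simpa [f3] using this
      · refine ho q fun r => ?_
        fin_cases r
        · exact h1
        · intro e; rw [e] at h2; simp [f3, hμ] at h2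
        · intro e; rw [e] at h2; simp [f3] at h2; exact lt_asymm hii h2
    · have ht' : c.σ (t : F) = t := ht.resolve_left hodd
      have hf := rev_f2 hii.ne'
      have hlev : ∀ r : Fin 2, lev2 (f2 i₁ r) = 1 := by
        intro r
        fin_cases r
        · exact hlev2 _ hi1o.1 hi1o.2
        · exact hlev2 _ hi1o'.1 hi1o'.2
      have ht0 : (t : F) ≠ 0 := t.ne_zero
      have hb' : c.σ (-b₀ / t) = -(-b₀ / t) := by rw [map_div₀, map_neg, hb₀, ht']; ring
      have hi0 : ∀ y : F, c.σ y = -y → c.σ (-y⁻¹) = -(-y⁻¹) := fun y hy => by rw [map_neg, map_inv₀, hy, inv_neg]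
      set X := r2 c b₀ hb₀ * r2l c (-b₀⁻¹) (hi0 _ hb₀) * r2 c b₀ hb₀ *
        (r2 c (-b₀ / t) hb' * r2l c (-(-b₀ / (t : F))⁻¹) (hi0 _ hb') * r2 c (-b₀ / t) hb') with hX
      have hval := h2_val c hb₀ hb' hb0 (div_ne_zero (neg_ne_zero.mpr hb0) ht0) (hi0 _ hb₀) (hi0 _ hb')
      rw [← hX] at hval
      obtain ⟨hP, hd, ho⟩ := emb_diag c hf X (fun r s hrs => by
        rw [hval]; fin_cases r <;> fin_cases s <;> simp at hrs ⊢)
      have hh : ∀ (Y : SUs c 2), (Y.1.1 - 1) ^ 3 = 0 → φ (emb c hf Y) ∈ _ := fun Y hY =>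
        hgen lev2 hf Y (fun r s h => absurd h (by rw [hlev, hlev]; exact lt_irrefl _)) hY
      refine ⟨emb c hf X, hP, Subgroup.subset_closure ⟨hBN _ hP, _, hRU _ lev2_mono, hUN _ lev2_mono, hC2, ?_⟩,
        ?_, fun q h1 h2 => ?_⟩
      · rw [hX]
        simp only [map_mul]
        exact mul_mem (mul_mem (mul_mem (hh _ (r2_cube c _ _).1) (hh _ (r2_cube c _ _).2)) (hh _ (r2_cube c _ _).1))
          (mul_mem (mul_mem (hh _ (r2_cube c _ _).1) (hh _ (r2_cube c _ _).2)) (hh _ (r2_cube c _ _).1))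
      · have := hd 0
        rw [hval] at this
        simp [f2] at this
        refine this.trans ?_
        field_simp
      · refine ho q fun r => ?_
        fin_cases r
        · exact h1
        · intro e; rw [e] at h2; simp [f2] at h2; exact lt_asymm hii h2
  -- reduce the diagonal
  have hsym : ∀ g : SUs c n, g ∈ Par c (fun a : Fin n => (a : ℕ)) → ∀ a : Fin n,
      g.1.1 a a * c.σ (g.1.1 a.rev a.rev) = 1 := by
    intro g hg a
    have h := cond_apply c g.2 a a.rev
    rw [if_pos rfl, Finset.sum_eq_single a] at h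
    · exact h
    · intro l _ hl
      rcases lt_or_gt_of_ne hl with h' | h'
      · rw [hg a l h', zero_mul]
      · rw [hg a.rev l.rev (Fin.rev_lt_rev.mpr h'), map_zero, mul_zero]
    · simp
  have hstep : ∀ (s : Finset (Fin n)) (g : SUs c n), g ∈ Par c (fun a : Fin n => (a : ℕ)) →
      (∀ a : Fin n, a < a.rev → a ≠ i₁ → a ∉ s → g.1.1 a a = 1) → φ g ∈ K := by
    intro s
    induction s using Finset.induction with
    | empty =>
      intro g hg hs
      have hs' : ∀ a : Fin n, a ≠ i₁ → a ≠ i₁.rev → a.rev ≠ a → g.1.1 a a = 1 := by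
        intro a h1 h2 h3
        rcases lt_or_gt_of_ne h3 with h | h
        · have h' := hsym g hg a
          rw [hs a.rev (by rw [Fin.rev_rev]; exact h) (fun e => h2 (by rw [← e, Fin.rev_rev])) (Finset.notMem_empty _),
            map_one, mul_one] at h'
          exact h'
        · exact hs a h h1 (Finset.notMem_empty _)
      have hd0 : g.1.1 i₁ i₁ ≠ 0 := left_ne_zero_of_mul_eq_one (hsym g hg i₁)
      have hdet : ∏ a, g.1.1 a a = 1 := by
        rw [← Matrix.det_of_upperTriangular (fun a l h => hg a l h)]; exact g.1.2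
      have hrr : g.1.1 i₁.rev i₁.rev = (c.σ (g.1.1 i₁ i₁))⁻¹ := by
        have h' := hsym g hg i₁.rev
        rw [Fin.rev_rev] at h'
        exact eq_inv_of_mul_eq_one_left h'
      obtain ⟨h, hh, hhK, hh1, hhs⟩ := hH1 ((Units.mk0 _ hd0)⁻¹) (by
        by_cases hodd : ∃ μ : Fin n, μ.rev = μ
        · exact Or.inl hodd
        right
        push Not at hodd
        rw [Finset.prod_eq_mul (f := fun a => g.1.1 a a) i₁ i₁.rev hii.ne (fun a _ ha => hs' a ha.1 ha.2 (hodd a))
          (by simp) (by simp), hrr] at hdet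
        have hst : c.σ (g.1.1 i₁ i₁) ≠ 0 := (map_ne_zero c.σ).mpr hd0
        field_simp at hdet
        simp only [Units.val_inv_eq_inv_val, Units.val_mk0, map_inv₀]
        rw [← hdet])
      have hg' := mul_mem hg hh
      have hd : ∀ a, a < a.rev → (g * h).1.1 a a = 1 := by
        intro a ha
        rw [diag_mul c hg hh]
        rcases eq_or_ne a i₁ with rfl | hne
        · rw [hh1, Units.val_inv_eq_inv_val, Units.val_mk0, mul_inv_cancel₀ hd0]
        · rw [hs a ha hne (Finset.notMem_empty _), hhs a hne ha, one_mul]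
      have hd' : ∀ a, a.rev ≠ a → (g * h).1.1 a a = 1 := by
        intro a ha
        rcases lt_or_gt_of_ne ha with h1 | h1
        · have h' := hsym _ hg' a
          rw [hd a.rev (by rw [Fin.rev_rev]; exact h1), map_one, mul_one] at h'
          exact h'
        · exact hd a h1
      have hU' : g * h ∈ UU c n := by
        refine mem_UU_of_diag c hg' fun a => ?_
        by_cases ha : a.rev = a
        swap
        · exact hd' a ha
        have hdet' : ∏ l, (g * h).1.1 l l = 1 := by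
          rw [← Matrix.det_of_upperTriangular (fun a l hl => hg' a l hl)]; exact (g * h).1.2
        rw [Finset.prod_eq_single a (fun l _ hl => hd' l (fun hl' => hl (by
          have e1 := congrArg Fin.val hl'
          have e2 := congrArg Fin.val ha
          apply Fin.ext
          simp [Fin.val_rev] at e1 e2
          omega))) (by simp)] at hdet'
        exact hdet'
      have := mul_mem (hUK _ hU') (inv_mem hhK)
      rwa [map_mul, mul_inv_cancel_right] at this
    | insert i s hi ih =>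
      intro g hg hs
      by_cases hgood : i < i.rev ∧ i₁ ≠ i
      swap
      · exact ih g hg fun a h1 h2 h3 => hs a h1 h2 (fun h => by
          rcases Finset.mem_insert.mp h with rfl | h
          · exact hgood ⟨h1, Ne.symm h2⟩
          · exact h3 h)
      have hd0 : g.1.1 i i ≠ 0 := left_ne_zero_of_mul_eq_one (hsym g hg i)
      obtain ⟨h, hh, hhK, hhi, hho⟩ := hH4 i hgood.1 hgood.2 (Units.mk0 _ hd0)
      have := ih (g * h) (mul_mem hg hh) fun a h1 h2 h3 => by
        rw [diag_mul c hg hh]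
        rcases eq_or_ne a i with rfl | hne
        · rw [hhi, Units.val_mk0, mul_inv_cancel₀ hd0]
        · rw [hs a h1 h2 (fun h => (Finset.mem_insert.mp h).elim hne h3), hho a hne h2 h1, one_mul]
      have := mul_mem this (inv_mem hhK)
      rwa [map_mul, mul_inv_cancel_right] at this
  intro x hx
  obtain ⟨g, rfl⟩ := hc.surj x
  exact hstep Finset.univ g (normalizer_lift c p hc (hU ▸ hx)) (fun a _ _ h => absurd (Finset.mem_univ a) h)

/-- The fusion system of a central quotient of `SU(n,q)` in the defining characteristic is simple. -/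
theorem isSimple [Finite G] (hn : 4 ≤ n) (hc : Cover c p φ) (S : Sylow p G) :
    (Cfsg.groupFusionSystem (S : Subgroup G)).IsSimple p := by
  obtain ⟨U, hU⟩ := exists_sylow c p hc
  refine CfsgLib.GroupSimple.isSimple_group U S (fun h => ?_) (fun T hT h1 => closed_eq c p hn hc U hU T hT h1)
    (normalizer_le c p hn hc U hU)
  obtain ⟨b, hb0, hb⟩ := c.exists_antifixed
  have hoo : (⟨0, by omega⟩ : Fin n) < (⟨0, by omega⟩ : Fin n).rev := by simp [Fin.lt_def, Fin.val_rev]; omega
  have hu := L2_mem_UU c hoo b hb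
  have hm : φ (L2 c _ hoo.ne' b hb) ∈ (U : Subgroup G) := hU ▸ ⟨_, hu, rfl⟩
  rw [h, Subgroup.mem_bot] at hm
  obtain ⟨j, hj⟩ := isPGroup_UU c p ⟨_, hu⟩
  have e := eq_of_map c p hc (one_mem (UU c n)) (congrArg Subtype.val hj) (hm.trans (map_one φ).symm)
  have e' := congrArg (fun X : SUs c n => X.1.1 ⟨0, by omega⟩ (⟨0, by omega⟩ : Fin n).rev) e
  simp only [L2_val, coe_one, Matrix.add_apply, Matrix.single_apply_same, Matrix.one_apply_ne hoo.ne, zero_add] at e'
  exact hb0 e'

end CfsgLib.PSUBorel
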