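import Cfsg.Agent.Lib.Fusion.PSUCharPSimple

/-!
The standard Hermitian form is split: the passage from `SU(n,q)` of the antidiagonal form to that of the sum form.
-/

set_option autoImplicit false
set_option linter.unusedSectionVars false

namespace CfsgLib.PSUBorel

open Matrix

variable {F : Type*} [Field F] [Fintype F] {n : ℕ} (c : Conj F)

local notation "Mn" => Matrix (Fin n) (Fin n) F

theorem exists_split : ∃ M : Mn, M * (M.map c.σ)ᵀ = aJ F n := by
  classical
  obtain ⟨l, hl⟩ := c.exists_norm (d := (-1 : F)) (by rw [map_neg, map_one])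
  obtain ⟨e, he⟩ := c.exists_trace_one
  let α : Fin n → F := fun i => if i < i.rev then 1 else if i.rev < i then -(e * l) else 1
  let β : Fin n → F := fun i => if i < i.rev then l else if i.rev < i then 1 - e else 0
  refine ⟨Matrix.of fun a b => (if b = a then α a else 0) + (if b = a.rev then β a else 0), ?_⟩
  ext a b
  rw [Matrix.mul_apply]
  simp only [Matrix.of_apply, Matrix.transpose_apply, Matrix.map_apply, add_mul, ite_mul, zero_mul,
    Finset.sum_add_distrib, Finset.sum_ite_eq', Finset.mem_univ, if_true, aJ]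
  by_cases hab : a = b ∨ a = b.rev
  swap
  · push Not at hab
    have h1 : a.rev ≠ b := fun h => hab.2 (by rw [← h, Fin.rev_rev])
    have h2 : a.rev ≠ b.rev := fun h => hab.1 (Fin.rev_injective h)
    rw [if_neg h1.symm]
    simp [hab.1, hab.2, h1, h2]
  rcases lt_trichotomy a a.rev with h | h | h
  · have hn := h.ne
    have hn' := h.not_gt
    rcases hab with rfl | hab
    · simp [α, β, h, hn, hn.symm]
      linear_combination hl
    · obtain rfl : b = a.rev := by rw [hab, Fin.rev_rev]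
      simp [α, β, h, hn, hn.symm, hn', map_mul]
      linear_combination (-(c.σ e)) * hl
  · obtain rfl : b = a := by
      rcases hab with rfl | hab
      · rfl
      · exact Fin.rev_injective (by rw [← hab]; exact h)
    simp [α, β, ← h]
  · have hn := h.ne
    have hn' := h.not_gt
    rcases hab with rfl | hab
    · simp [α, β, h, hn, hn.symm, hn', map_mul]
      linear_combination (e * c.σ e) * hl - he
    · obtain rfl : b = a.rev := by rw [hab, Fin.rev_rev]
      simp [α, β, h, hn, hn.symm, hn']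
      linear_combination -e * hl

theorem hermForm_eq (u v : Fin n → F) : Cfsg.hermForm n F c.q u v = u ⬝ᵥ fun i => c.σ (v i) := by
  simp only [Cfsg.hermForm, dotProduct, c.hσ]

theorem map_mulVec' (g : Mn) (v : Fin n → F) : (fun i => c.σ ((g *ᵥ v) i)) = g.map c.σ *ᵥ fun i => c.σ (v i) := by
  funext i
  exact RingHom.map_mulVec c.σ g v i

theorem mem_SU_iff (g : SpecialLinearGroup (Fin n) F) :
    g ∈ Cfsg.SU n F c.q ↔ g.1ᵀ * g.1.map c.σ = 1 := by
  constructor
  · intro h
    ext a b
    have e := h (Pi.single a 1) (Pi.single b 1)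
    change Cfsg.hermForm n F c.q (g.1 *ᵥ _) (g.1 *ᵥ _) = _ at e
    simp only [hermForm_eq, Matrix.mulVec_single_one, Matrix.col_apply, single_dotProduct, one_mul] at e
    rw [Matrix.mul_apply]
    simp only [Matrix.transpose_apply, Matrix.map_apply]
    exact e.trans (by simp [Pi.single_apply, Matrix.one_apply, apply_ite c.σ])
  · intro h u v
    change Cfsg.hermForm n F c.q (g.1 *ᵥ u) (g.1 *ᵥ v) = _
    rw [hermForm_eq, hermForm_eq, map_mulVec', Matrix.dotProduct_mulVec, ← Matrix.vecMul_transpose, Matrix.vecMul_vecMul, h,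
      Matrix.vecMul_one]

theorem cond_iff {M N : Mn} (hM : M * (M.map c.σ)ᵀ = aJ F n) (hNM : N * M = 1) (X : Mn) :
    Cond c X ↔ (N * X * M)ᵀ * (N * X * M).map c.σ = 1 := by
  have hMN : M * N = 1 := mul_eq_one_comm.mp hNM
  have hs : (M.map c.σ)ᵀ * (N.map c.σ)ᵀ = 1 := by
    rw [← Matrix.transpose_mul, ← Matrix.map_mul, hNM, Matrix.map_one _ (map_zero _) (map_one _),
      Matrix.transpose_one]
  have hs' : (N.map c.σ)ᵀ * (M.map c.σ)ᵀ = 1 := mul_eq_one_comm.mp hs
  have key : (N * X * M) * ((N * X * M).map c.σ)ᵀ = N * (X * aJ F n * (X.map c.σ)ᵀ) * (N.map c.σ)ᵀ := by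
    rw [← hM, Matrix.map_mul, Matrix.map_mul, Matrix.transpose_mul, Matrix.transpose_mul]
    simp only [Matrix.mul_assoc]
  have hJ : N * aJ F n * (N.map c.σ)ᵀ = 1 := by
    rw [← hM, ← Matrix.mul_assoc, hNM, Matrix.one_mul, hs]
  have e1 : ∀ g : Mn, g * (g.map c.σ)ᵀ = 1 ↔ gᵀ * g.map c.σ = 1 := fun g => by
    rw [mul_eq_one_comm, ← Matrix.transpose_inj, Matrix.transpose_mul, Matrix.transpose_transpose,
      Matrix.transpose_one]
  rw [← e1, key]
  constructor
  · intro h
    rw [show X * aJ F n * (X.map c.σ)ᵀ = aJ F n from h, hJ]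
  · intro h
    show X * aJ F n * (X.map c.σ)ᵀ = aJ F n
    calc X * aJ F n * (X.map c.σ)ᵀ
        = (M * N) * (X * aJ F n * (X.map c.σ)ᵀ) * ((N.map c.σ)ᵀ * (M.map c.σ)ᵀ) := by
          rw [hMN, hs', Matrix.one_mul, Matrix.mul_one]
      _ = M * (N * (X * aJ F n * (X.map c.σ)ᵀ) * (N.map c.σ)ᵀ) * (M.map c.σ)ᵀ := by simp only [Matrix.mul_assoc]
      _ = aJ F n := by rw [h, Matrix.mul_one, hM]

/-- `SU(n,q)` of the split form is `SU(n,q)` of the sum form. -/
theorem exists_iso : Nonempty (SUs c n ≃* Cfsg.SU n F c.q) := by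
  obtain ⟨M, hM⟩ := exists_split c (n := n)
  have hu : IsUnit M.det := by
    refine IsUnit.of_mul_eq_one ((M.map c.σ)ᵀ.det * (aJ F n).det) ?_
    rw [← mul_assoc, ← Matrix.det_mul, hM, ← Matrix.det_mul, aJ_sq, Matrix.det_one]
  obtain ⟨N, hNM⟩ : ∃ N : Mn, N * M = 1 := ⟨M⁻¹, Matrix.nonsing_inv_mul M hu⟩
  have hMN : M * N = 1 := mul_eq_one_comm.mp hNM
  have hd : N.det * M.det = 1 := by rw [← Matrix.det_mul, hNM, Matrix.det_one]
  refine ⟨{
    toFun := fun A => ⟨⟨N * A.1.1 * M, by rw [Matrix.det_mul, Matrix.det_mul, A.1.2, mul_one, hd]⟩,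
      (mem_SU_iff c _).mpr ((cond_iff c hM hNM A.1.1).mp A.2)⟩
    invFun := fun g => ⟨⟨M * g.1.1 * N, by rw [Matrix.det_mul, Matrix.det_mul, g.1.2, mul_one, mul_comm, hd]⟩, by
      show Cond c (M * g.1.1 * N)
      rw [cond_iff c hM hNM, show N * (M * g.1.1 * N) * M = g.1.1 by
        simp only [Matrix.mul_assoc, hNM, Matrix.mul_one]; rw [← Matrix.mul_assoc, hNM, Matrix.one_mul]]
      exact (mem_SU_iff c g.1).mp g.2⟩
    left_inv := fun A => SUs_ext c (by
      show M * (N * A.1.1 * M) * N = A.1.1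
      simp only [Matrix.mul_assoc, hMN, Matrix.mul_one]; rw [← Matrix.mul_assoc, hMN, Matrix.one_mul])
    right_inv := fun g => Subtype.ext (Subtype.ext (by
      show N * (M * g.1.1 * N) * M = g.1.1
      simp only [Matrix.mul_assoc, hNM, Matrix.mul_one]; rw [← Matrix.mul_assoc, hNM, Matrix.one_mul]))
    map_mul' := fun A B => Subtype.ext (Subtype.ext (by
      show N * (A.1.1 * B.1.1) * M = (N * A.1.1 * M) * (N * B.1.1 * M)
      simp only [Matrix.mul_assoc]
      rw [← Matrix.mul_assoc M N, hMN, Matrix.one_mul])) }⟩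

theorem psu_isSimple (p : ℕ) [Fact p.Prime] [CharP F p] (hn : 4 ≤ n) (S : Sylow p (Cfsg.PSU n F c.q)) :
    (Cfsg.groupFusionSystem (S : Subgroup (Cfsg.PSU n F c.q))).IsSimple p := by
  classical
  obtain ⟨E⟩ := exists_iso c (n := n)
  refine isSimple c p (φ := (QuotientGroup.mk' (Subgroup.center (Cfsg.SU n F c.q))).comp E.toMonoidHom) hn ?_ S
  have hker : ∀ z ∈ ((QuotientGroup.mk' (Subgroup.center (Cfsg.SU n F c.q))).comp E.toMonoidHom).ker,
      E z ∈ Subgroup.center (Cfsg.SU n F c.q) := fun z hz => (QuotientGroup.eq_one_iff (E z)).mp hz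
  refine ⟨(QuotientGroup.mk'_surjective _).comp E.surjective, fun z hz => ?_, Nat.gcd n (c.q + 1), ?_, fun z hz => ?_⟩
  · exact Subgroup.mem_center_iff.mpr fun x => E.injective (by
      rw [map_mul, map_mul]; exact Subgroup.mem_center_iff.mp (hker z hz) (E x))
  · have hpq : p ∣ c.q := by
      obtain ⟨f, hp, hf⟩ := FiniteField.card F p
      refine hp.dvd_of_dvd_pow (n := 2) ?_
      rw [← c.card, hf]
      exact dvd_pow_self p f.pos.ne'
    refine ((Fact.out : p.Prime).coprime_iff_not_dvd.mpr fun h => ?_).symm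
    have h1 := Nat.dvd_sub (h.trans (Nat.gcd_dvd_right n (c.q + 1))) hpq
    rw [Nat.add_sub_cancel_left] at h1
    exact (Fact.out : p.Prime).not_dvd_one h1
  · apply E.injective
    rw [map_pow, map_one, ← Cfsg.Agent.S0280.center_card c.card n (by omega)]
    exact congrArg Subtype.val (pow_card_eq_one' (x := (⟨E z, hker z hz⟩ : Subgroup.center (Cfsg.SU n F c.q))))

end CfsgLib.PSUBorel
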