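import Cfsg.Prelude.Def_Classical
import Cfsg.Agent.Lib.SL2Orders

/-!
`Sp(4,F)` as `2 × 2` matrices over `2 × 2` matrices, and quaternion units inside `SL(2,F)`.
-/

set_option autoImplicit false
set_option linter.unusedSectionVars false

namespace CfsgLib.PSpFour

open Matrix

variable {F : Type*} [Field F]

local notation "M2" => Matrix (Fin 2) (Fin 2) F
local notation "M4" => Matrix (Fin 2 ⊕ Fin 2) (Fin 2 ⊕ Fin 2) F
local notation "SL2" => SpecialLinearGroup (Fin 2) F
local notation "Sp4" => Matrix.symplecticGroup (Fin 2) F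

/-- The matrix with `2 × 2` blocks `A B C D` in the hyperbolic pairs `(inl 0, inr 0)`, `(inl 1, inr 1)`. -/
def bE (A B C D : M2) : M4 :=
  Matrix.fromBlocks !![A 0 0, B 0 0; C 0 0, D 0 0] !![A 0 1, B 0 1; C 0 1, D 0 1]
    !![A 1 0, B 1 0; C 1 0, D 1 0] !![A 1 1, B 1 1; C 1 1, D 1 1]

theorem bE_mul (A B C D A' B' C' D' : M2) : bE A B C D * bE A' B' C' D' =
    bE (A * A' + B * C') (A * B' + B * D') (C * A' + D * C') (C * B' + D * D') := by
  rw [bE, bE, bE, Matrix.fromBlocks_multiply]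
  congr 1 <;> ext i j <;> fin_cases i <;> fin_cases j <;>
    simp [Matrix.mul_apply, Fin.sum_univ_two] <;> ring

theorem bE_one : bE (1 : M2) 0 0 1 = 1 := by
  rw [bE, ← Matrix.fromBlocks_one]
  congr 1 <;> ext i j <;> fin_cases i <;> fin_cases j <;> simp

theorem bE_neg (A B C D : M2) : -bE A B C D = bE (-A) (-B) (-C) (-D) := by
  rw [bE, bE, Matrix.fromBlocks_neg]
  congr 1 <;> ext i j <;> fin_cases i <;> fin_cases j <;> simp

theorem bE_transpose (A B C D : M2) : (bE A B C D)ᵀ = bE Aᵀ Cᵀ Bᵀ Dᵀ := by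
  rw [bE, bE, Matrix.fromBlocks_transpose]
  congr 1 <;> ext i j <;> fin_cases i <;> fin_cases j <;> simp

theorem bE_inj {A B C D A' B' C' D' : M2} :
    bE A B C D = bE A' B' C' D' ↔ A = A' ∧ B = B' ∧ C = C' ∧ D = D' := by
  refine ⟨fun h => ?_, fun ⟨h1, h2, h3, h4⟩ => by rw [h1, h2, h3, h4]⟩
  obtain ⟨h1, h2, h3, h4⟩ := Matrix.fromBlocks_inj.mp h
  refine ⟨?_, ?_, ?_, ?_⟩
  · ext i j
    fin_cases i <;> fin_cases j
    exacts [congrFun (congrFun h1 0) 0, congrFun (congrFun h2 0) 0, congrFun (congrFun h3 0) 0,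
      congrFun (congrFun h4 0) 0]
  · ext i j
    fin_cases i <;> fin_cases j
    exacts [congrFun (congrFun h1 0) 1, congrFun (congrFun h2 0) 1, congrFun (congrFun h3 0) 1,
      congrFun (congrFun h4 0) 1]
  · ext i j
    fin_cases i <;> fin_cases j
    exacts [congrFun (congrFun h1 1) 0, congrFun (congrFun h2 1) 0, congrFun (congrFun h3 1) 0,
      congrFun (congrFun h4 1) 0]
  · ext i j
    fin_cases i <;> fin_cases j
    exacts [congrFun (congrFun h1 1) 1, congrFun (congrFun h2 1) 1, congrFun (congrFun h3 1) 1,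
      congrFun (congrFun h4 1) 1]

theorem exists_bE (X : M4) : ∃ A B C D : M2, X = bE A B C D := by
  refine ⟨!![X (.inl 0) (.inl 0), X (.inl 0) (.inr 0); X (.inr 0) (.inl 0), X (.inr 0) (.inr 0)],
    !![X (.inl 0) (.inl 1), X (.inl 0) (.inr 1); X (.inr 0) (.inl 1), X (.inr 0) (.inr 1)],
    !![X (.inl 1) (.inl 0), X (.inl 1) (.inr 0); X (.inr 1) (.inl 0), X (.inr 1) (.inr 0)],
    !![X (.inl 1) (.inl 1), X (.inl 1) (.inr 1); X (.inr 1) (.inl 1), X (.inr 1) (.inr 1)], ?_⟩
  ext i j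
  rcases i with i | i <;> rcases j with j | j <;> fin_cases i <;> fin_cases j <;> simp [bE]

/-- The symplectic form in dimension two. -/
def jM : M2 := !![0, -1; 1, 0]

theorem J_eq : Matrix.J (Fin 2) F = bE jM 0 0 jM := by
  ext i j
  rcases i with i | i <;> rcases j with j | j <;> fin_cases i <;> fin_cases j <;>
    simp [bE, jM, Matrix.J]

theorem mul_jM (A : M2) : A * jM * Aᵀ = A.det • jM := by
  ext i j
  fin_cases i <;> fin_cases j <;> simp [jM, Matrix.mul_apply, Fin.sum_univ_two, Matrix.det_fin_two] <;> ring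

theorem mem_Sp {A B C D : M2}
    (h1 : A * jM * Aᵀ + B * jM * Bᵀ = jM) (h2 : A * jM * Cᵀ + B * jM * Dᵀ = 0)
    (h3 : C * jM * Aᵀ + D * jM * Bᵀ = 0) (h4 : C * jM * Cᵀ + D * jM * Dᵀ = jM) : bE A B C D ∈ Sp4 := by
  rw [SymplecticGroup.mem_iff, J_eq, bE_transpose, bE_mul, bE_mul]
  simp only [mul_zero, zero_mul, add_zero, zero_add, Matrix.mul_assoc] at h1 h2 h3 h4 ⊢
  rw [h1, h2, h3, h4]

/-- The diagonal embedding. -/
def dg : SL2 × SL2 →* Sp4 where
  toFun p := ⟨bE p.1.1 0 0 p.2.1, mem_Sp (by simp [mul_jM, p.1.2]) (by simp) (by simp) (by simp [mul_jM, p.2.2])⟩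
  map_one' := Subtype.ext bE_one
  map_mul' p p' := Subtype.ext (by
    show bE (p.1.1 * p'.1.1) 0 0 (p.2.1 * p'.2.1) = bE p.1.1 0 0 p.2.1 * bE p'.1.1 0 0 p'.2.1
    simp [bE_mul])

theorem dg_val (a b : SL2) : (dg (a, b)).1 = bE a.1 0 0 b.1 := rfl

/-- The exchange of the two pairs. -/
def sw : Sp4 := ⟨bE 0 1 1 0, mem_Sp (by simp) (by simp) (by simp) (by simp)⟩

theorem sw_val : (sw (F := F)).1 = bE 0 1 1 0 := rfl

theorem sw_sq : (sw : Sp4) * sw = 1 := Subtype.ext (by
  show bE (0 : M2) 1 1 0 * bE 0 1 1 0 = 1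
  simp [bE_mul, bE_one])

theorem sw_dg (a b : SL2) : (sw : Sp4) * dg (a, b) = dg (b, a) * sw := Subtype.ext (by
  show bE 0 1 1 0 * bE a.1 0 0 b.1 = bE b.1 0 0 a.1 * bE 0 1 1 0
  simp [bE_mul])

theorem dg_injective : Function.Injective (dg (F := F)) := fun p p' h => by
  obtain ⟨h1, -, -, h4⟩ := bE_inj.mp (congrArg Subtype.val h)
  exact Prod.ext (Subtype.ext h1) (Subtype.ext h4)

theorem dg_ne_dg_sw (a b a' b' : SL2) : dg (a, b) ≠ dg (a', b') * sw := fun h => by
  have h' : bE a.1 0 0 b.1 = bE a'.1 0 0 b'.1 * bE 0 1 1 0 := congrArg Subtype.val h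
  rw [bE_mul] at h'
  obtain ⟨h1, -, -, -⟩ := bE_inj.mp h'
  simp at h1
  have := a.2
  rw [h1] at this
  simp at this

/-- The rotation `[[M, M], [M, -M]]`. -/
def kM (M : M2) (h2 : (2 : F) ≠ 0) (hM : M.det = 2⁻¹) : Sp4 :=
  have e : (2⁻¹ : F) • (jM : M2) + (2⁻¹ : F) • jM = jM := by
    rw [← add_smul, ← two_mul, mul_inv_cancel₀ h2, one_smul]
  ⟨bE M M M (-M), mem_Sp (by rw [mul_jM, hM, e]) (by simp) (by simp)
    (by simp [mul_jM, hM, e])⟩

theorem kM_val (M : M2) (h2 : (2 : F) ≠ 0) (hM : M.det = 2⁻¹) : (kM M h2 hM).1 = bE M M M (-M) := rfl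

theorem diag_mem_iff {A D : M2} (h : bE A 0 0 D ∈ Sp4) : A.det = 1 ∧ D.det = 1 := by
  rw [SymplecticGroup.mem_iff, J_eq, bE_transpose, bE_mul, bE_mul] at h
  simp only [mul_zero, zero_mul, add_zero, zero_add, Matrix.transpose_zero, mul_jM] at h
  obtain ⟨h1, -, -, h4⟩ := bE_inj.mp h
  exact ⟨by simpa [jM] using congrFun (congrFun h1 1) 0, by simpa [jM] using congrFun (congrFun h4 1) 0⟩

/-! ### Square roots of `-1` in `SL(2,F)` -/

theorem sq_of_trace_zero {A : M2} (h : A.trace = 0) : A * A = -A.det • (1 : M2) := by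
  rw [Matrix.trace_fin_two] at h
  ext i j
  fin_cases i <;> fin_cases j <;> simp [Matrix.mul_apply, Fin.sum_univ_two, Matrix.det_fin_two]
  · linear_combination A 0 0 * h
  · linear_combination A 0 1 * h
  · linear_combination A 1 0 * h
  · linear_combination A 1 1 * h

theorem det_of_sq {A : M2} (h : A.trace = 0) {c : F} (hc : A * A = c • (1 : M2)) : A.det = -c := by
  rw [sq_of_trace_zero h] at hc
  have := congrFun (congrFun hc 0) 0
  simp at this
  linear_combination -this

theorem det_scalar_add {A : M2} (h : A.trace = 0) (s : F) : (s • (1 : M2) + A).det = s ^ 2 + A.det := by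
  rw [Matrix.trace_fin_two] at h
  simp [Matrix.det_fin_two]
  linear_combination s * h

theorem trace_eq_zero_of_sq {a : SL2} (h : a * a = -1) : a.1.trace = 0 := by
  have h1 := SL2Orders.sq_eq a
  have h' : a.1 * a.1 = -1 := congrArg Subtype.val h
  rw [h', eq_sub_iff_add_eq, neg_add_cancel, eq_comm, smul_eq_zero] at h1
  rcases h1 with h1 | h1
  · exact h1
  · have := a.2
    rw [h1] at this
    simp at this

theorem sq_neg_one_of_trace {a : SL2} (h : a.1.trace = 0) : a * a = -1 := by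
  refine Subtype.ext ?_
  show a.1 * a.1 = -1
  rw [sq_of_trace_zero h, a.2, neg_smul, one_smul]

theorem anticomm {A B : M2} (hA : A.trace = 0) (hB : B.trace = 0) :
    A * B + B * A = (A * B).trace • (1 : M2) := by
  rw [Matrix.trace_fin_two] at hA hB
  have hA' : A 1 1 = -A 0 0 := by linear_combination hA
  have hB' : B 1 1 = -B 0 0 := by linear_combination hB
  ext i j
  fin_cases i <;> fin_cases j <;>
    simp [Matrix.mul_apply, Fin.sum_univ_two, Matrix.trace_fin_two, hA', hB'] <;> ring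

/-- The centraliser of two anticommuting square roots of `-1` consists of scalars. -/
theorem scalar_of_commute (h2 : (2 : F) ≠ 0) {i j c : SL2} (hi : i * i = -1) (hji : j * i = -(i * j))
    (hci : c * i = i * c) (hcj : c * j = j * c) : c = 1 ∨ c = -1 := by
  set A : M2 := c.1 - (c.1.trace / 2) • (1 : M2) with hA
  have htA : A.trace = 0 := by
    simp [hA, Matrix.trace_sub, Matrix.trace_smul, Matrix.trace_one]
    field_simp
    ring
  have hti := trace_eq_zero_of_sq hi
  have hci' : c.1 * i.1 = i.1 * c.1 := congrArg Subtype.val hci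
  have hcj' : c.1 * j.1 = j.1 * c.1 := congrArg Subtype.val hcj
  have hAi : A * i.1 = i.1 * A := by
    rw [hA, sub_mul, mul_sub, hci', smul_mul_assoc, one_mul, mul_smul_comm, mul_one]
  have hAj : A * j.1 = j.1 * A := by
    rw [hA, sub_mul, mul_sub, hcj', smul_mul_assoc, one_mul, mul_smul_comm, mul_one]
  have hanti := anticomm htA hti
  rw [← hAi, ← two_smul F] at hanti
  obtain ⟨l, hl⟩ : ∃ l : F, A = l • i.1 := by
    have hii : i.1 * i.1 = -1 := congrArg Subtype.val hi
    refine ⟨-((A * i.1).trace / 2), ?_⟩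
    have h3 : A * i.1 * i.1 = ((A * i.1).trace / 2) • (1 : M2) * i.1 := by
      congr 1
      rw [div_eq_inv_mul, ← smul_smul, ← hanti, smul_smul, inv_mul_cancel₀ h2, one_smul]
    rw [mul_assoc, hii, mul_neg, mul_one, smul_mul_assoc, one_mul, neg_eq_iff_eq_neg] at h3
    conv_lhs => rw [h3]
    rw [neg_smul]
  have hl0 : l = 0 := by
    by_contra hl0
    rw [hl, smul_mul_assoc, mul_smul_comm] at hAj
    have hcomm : i.1 * j.1 = j.1 * i.1 := smul_right_injective M2 hl0 hAj
    have hji' : j.1 * i.1 = -(i.1 * j.1) := congrArg Subtype.val hji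
    rw [hji', eq_neg_iff_add_eq_zero, ← two_smul F, smul_eq_zero] at hcomm
    rcases hcomm with h | h
    · exact h2 h
    · have := (i * j).2
      rw [show (i * j).1 = i.1 * j.1 from rfl, h] at this
      simp at this
  rw [hl0, zero_smul, hA, sub_eq_zero] at hl
  have hd := c.2
  rw [hl, Matrix.det_smul, Matrix.det_one, mul_one, Fintype.card_fin, sq] at hd
  rcases mul_self_eq_one_iff.mp hd with e | e <;> rw [e] at hl
  · exact Or.inl (Subtype.ext (by simpa using hl))
  · exact Or.inr (Subtype.ext (by simpa using hl))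

variable [Fintype F]

/-- All square roots of `-1` in `SL(2,F)` are conjugate. -/
theorem exists_conj (hodd : Fintype.card F % 2 = 1) {a b : SL2} (ha : a * a = -1) (hb : b * b = -1) :
    ∃ c : SL2, c * a * c⁻¹ = b := by
  classical
  have h2 : (2 : F) ≠ 0 := SL2Orders.two_ne_zero_of_odd (Nat.odd_iff.mpr hodd)
  suffices h : ∀ a : SL2, a * a = -1 → ∃ c : SL2, a.1 * c.1 = c.1 * jM by
    obtain ⟨c, hc⟩ := h a ha
    obtain ⟨d, hd⟩ := h b hb
    refine ⟨d * c⁻¹, ?_⟩
    let J₀ : SL2 := ⟨jM, by simp [jM]⟩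
    have e : a * c = c * J₀ := Subtype.ext hc
    have e' : b * d = d * J₀ := Subtype.ext hd
    rw [_root_.mul_inv_rev, inv_inv, show d * c⁻¹ * a * (c * d⁻¹) = d * (c⁻¹ * (a * c)) * d⁻¹ by group, e,
      inv_mul_cancel_left, ← e', mul_inv_cancel_right]
  intro a ha
  have ht := trace_eq_zero_of_sq ha
  rw [Matrix.trace_fin_two] at ht
  have hd : a.1 0 0 * a.1 1 1 - a.1 0 1 * a.1 1 0 = 1 := by rw [← Matrix.det_fin_two]; exact a.2
  set α := a.1 0 0
  set β := a.1 0 1
  set γ := a.1 1 0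
  have hδ : a.1 1 1 = -α := by linear_combination ht
  rw [hδ] at hd
  -- a vector `v` with `det [v, a v] = 1`
  obtain ⟨x, y, hxy⟩ : ∃ x y : F, γ * x ^ 2 - 2 * α * x * y - β * y ^ 2 = 1 := by
    by_cases hγ : γ = 0
    · have hα : α ≠ 0 := fun h0 => by rw [h0, hγ] at hd; simp at hd
      refine ⟨-(1 + β) / (2 * α), 1, ?_⟩
      rw [hγ]
      field_simp
      ring
    · obtain ⟨u, v, huv⟩ := FiniteField.exists_root_sum_quadratic
        (f := (Polynomial.C γ * Polynomial.X ^ 2 : Polynomial F))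
        (g := (Polynomial.C γ⁻¹ * Polynomial.X ^ 2 + Polynomial.C (-1) : Polynomial F))
        (by rw [Polynomial.degree_C_mul hγ, Polynomial.degree_X_pow]; rfl)
        (by
          rw [Polynomial.degree_add_eq_left_of_degree_lt] <;>
            rw [Polynomial.degree_C_mul (inv_ne_zero hγ), Polynomial.degree_X_pow]
          · rfl
          · exact lt_of_le_of_lt Polynomial.degree_C_le (by norm_num))
        (Nat.odd_iff.mp (Nat.odd_iff.mpr hodd))
      simp at huv
      refine ⟨u + α * v / γ, v, ?_⟩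
      field_simp at huv ⊢
      linear_combination huv + (-1 : F) * v ^ 2 * hd * 0 + v ^ 2 * hd
  refine ⟨⟨!![x, α * x + β * y; y, γ * x - α * y], by
    rw [Matrix.det_fin_two_of]; linear_combination hxy⟩, ?_⟩
  ext r s
  fin_cases r <;> fin_cases s <;>
    simp [jM, Matrix.mul_apply, Fin.sum_univ_two, hδ, α, β, γ] <;> simp only [α, β, γ] at hd <;>
    first | ring1 | linear_combination x * hd | linear_combination y * hd | linear_combination -x * hd | linear_combination -y * hd

/-- The elements of order three and the reflection normalising a quaternion group. -/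
theorem exists_rot (hodd : Fintype.card F % 2 = 1) {i j : SL2} (hi : i * i = -1) (hj : j * j = -1)
    (hji : j * i = -(i * j)) :
    ∃ (t : SL2) (r : M2), r.det = 2 ∧ r * r = (-2 : F) • (1 : M2) ∧ t * i = i * j * t ∧ t * j = i * t ∧
      t * t * t = 1 ∧ r * t.1 = (t * t).1 * r ∧ r * i.1 = (-j).1 * r ∧ r * j.1 = (-i).1 * r := by
  have h2 : (2 : F) ≠ 0 := SL2Orders.two_ne_zero_of_odd (Nat.odd_iff.mpr hodd)
  obtain ⟨I, hI⟩ : ∃ I, i.1 = I := ⟨_, rfl⟩
  obtain ⟨J, hJ⟩ : ∃ J, j.1 = J := ⟨_, rfl⟩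
  obtain ⟨K, hK⟩ : ∃ K, I * J = K := ⟨_, rfl⟩
  have II : I * I = -1 := by rw [← hI]; exact congrArg Subtype.val hi
  have JJ : J * J = -1 := by rw [← hJ]; exact congrArg Subtype.val hj
  have JI : J * I = -K := by rw [← hK, ← hI, ← hJ]; exact congrArg Subtype.val hji
  have IK : I * K = -J := by rw [← hK, ← mul_assoc, II, neg_one_mul]
  have KJ : K * J = -I := by rw [← hK, mul_assoc, JJ, mul_neg_one]
  have KI : K * I = J := by rw [← hK, mul_assoc, JI, mul_neg, IK, neg_neg]
  have JK : J * K = I := by rw [← hK, ← mul_assoc, JI, neg_mul, KJ, neg_neg]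
  have KK : K * K = -1 := by
    calc K * K = K * (I * J) := by rw [hK]
      _ = -1 := by rw [← mul_assoc, KI, JJ]
  have tI : I.trace = 0 := hI ▸ trace_eq_zero_of_sq hi
  have tJ : J.trace = 0 := hJ ▸ trace_eq_zero_of_sq hj
  have tK : K.trace = 0 := by
    have h := Matrix.trace_mul_comm I J
    rw [hK, JI, Matrix.trace_neg] at h
    exact (mul_eq_zero.mp (show (2 : F) * K.trace = 0 by linear_combination h)).resolve_left h2
  have dr : (I - J).det = 2 := by
    rw [det_of_sq (c := (-2 : F)) (by simp [tI, tJ])]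
    · ring
    · simp only [mul_sub, sub_mul, II, JJ, JI, hK]
      module
  have dA : (I + J + K).det = 3 := by
    rw [det_of_sq (c := (-3 : F)) (by simp [tI, tJ, tK])]
    · ring
    · simp only [mul_add, add_mul, II, JJ, KK, IK, KI, JK, KJ, JI, hK]
      module
  set c : F := 2⁻¹ with hc
  let T : M2 := (-c) • (1 : M2) + c • (I + J + K)
  have hT : T.det = 1 := by
    rw [det_scalar_add (by simp [tI, tJ, tK]), Matrix.det_smul, dA, Fintype.card_fin, hc]
    field_simp
    ring
  have TT : T * T = (-c) • (1 : M2) - c • (I + J + K) := by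
    simp only [T, smul_add, mul_add, add_mul, smul_mul_assoc, mul_smul_comm, one_mul, mul_one, II, JJ, KK, IK, KI,
      JK, KJ, JI, hK, smul_neg, smul_smul]
    match_scalars <;> (rw [hc]; field_simp; ring)
  refine ⟨⟨T, hT⟩, I - J, dr, ?_, ?_, ?_, ?_, ?_, ?_, ?_⟩
  · simp only [mul_sub, sub_mul, II, JJ, JI, hK]
    module
  · refine Subtype.ext ?_
    show T * i.1 = i.1 * j.1 * T
    rw [hI, hJ, hK]
    simp only [T, smul_add, mul_add, add_mul, smul_mul_assoc, mul_smul_comm, one_mul, mul_one, II, JJ, KK, IK, KI,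
      JK, KJ, JI, hK]
    module
  · refine Subtype.ext ?_
    show T * j.1 = i.1 * T
    rw [hI, hJ]
    simp only [T, smul_add, mul_add, add_mul, smul_mul_assoc, mul_smul_comm, one_mul, mul_one, II, JJ, KK, IK, KI,
      JK, KJ, JI, hK]
    module
  · refine Subtype.ext ?_
    show T * T * T = 1
    rw [TT]
    simp only [T, smul_add, sub_mul, mul_add, add_mul, smul_mul_assoc, mul_smul_comm, one_mul, mul_one, II, JJ, KK,
      IK, KI, JK, KJ, JI, hK, smul_neg, smul_smul]
    match_scalars <;> (rw [hc]; field_simp; ring)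
  · show (I - J) * T = T * T * (I - J)
    rw [TT]
    simp only [T, smul_add, sub_mul, mul_sub, mul_add, add_mul, smul_mul_assoc, mul_smul_comm, one_mul, mul_one, II,
      JJ, KK, IK, KI, JK, KJ, JI, hK]
    module
  · rw [SpecialLinearGroup.coe_neg, hI, hJ]
    simp only [mul_sub, sub_mul, neg_mul, II, JJ, JI, hK]
    module
  · rw [SpecialLinearGroup.coe_neg, hI, hJ]
    simp only [mul_sub, sub_mul, neg_mul, II, JJ, JI, hK]
    module

end CfsgLib.PSpFour
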