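import Cfsg.Agent.Lib.Fusion.Normal
import Cfsg.Agent.Lib.Fusion.Quotient
import Cfsg.Prelude.Def_PLocal
import Mathlib.Algebra.CharP.Lemmas
import Mathlib.RingTheory.Nilpotent.Basic
import Mathlib.Algebra.Polynomial.Inductions
import Mathlib.Algebra.Polynomial.AlgebraMap

/-!
Powers of central elements in saturated fusion systems over groups of small class.
-/

set_option autoImplicit false

namespace Cfsg

open Polynomial in
theorem exists_one_add_X_pow_prime {p : ℕ} (hp : p.Prime) :
    ∃ c : ℤ[X], (1 + X) ^ p = 1 + (p : ℤ[X]) * X * (1 + X * c) + X ^ p := by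
  obtain ⟨r, hr⟩ := exists_add_pow_prime_eq hp (X : ℤ[X]) 1
  rw [mul_one, one_pow] at hr
  have h1 := congrArg (fun f : ℤ[X] => f.coeff 1) hr
  have hp1 : p ≠ 1 := hp.ne_one
  have hcoeff : ((p : ℤ[X]) * X * r).coeff 1 = (p : ℤ) * r.coeff 0 := by
    rw [← C_eq_natCast, mul_assoc, coeff_C_mul, coeff_X_mul]
  simp only [coeff_add, coeff_one, hcoeff, coeff_X_pow] at h1
  rw [coeff_X_add_one_pow] at h1
  simp [hp1.symm] at h1
  have hr0 : r.coeff 0 = 1 := by
    have hpz : (p : ℤ) ≠ 0 := Int.natCast_ne_zero.mpr hp.ne_zero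
    exact mul_left_cancel₀ hpz (by rw [mul_one]; exact h1.symm)
  refine ⟨r.divX, ?_⟩
  have hdec := X_mul_divX_add r
  rw [hr0, map_one] at hdec
  rw [add_comm (1 : ℤ[X]) X, hr]
  linear_combination -((p : ℤ[X]) * X) * hdec

/-- If `(1 + x)^p` fixes `z` and `x^m = 0`, powers of `p` kill `x • z`. -/
theorem pow_smul_smul_eq_zero {R M : Type*} [Ring R] [AddCommGroup M] [Module R M] {p : ℕ}
    (hp : p.Prime) {x : R} {z : M} {m : ℕ} (hx : x ^ m = 0) (hz : (1 + x) ^ p • z = z) :
    ∀ k j : ℕ, 1 ≤ j → m ≤ j + k * (p - 1) → ((p : R) ^ k * x ^ j) • z = 0 := by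
  intro k
  induction k with
  | zero =>
    intro j _ hj
    have hxj : x ^ j = 0 := pow_eq_zero_of_le (by simpa using hj) hx
    simp [hxj]
  | succ k ih =>
    intro j hj hjm
    obtain ⟨c, hc⟩ := exists_one_add_X_pow_prime hp
    have hc' := congrArg (Polynomial.aeval x) hc
    simp only [map_pow, map_add, map_one, map_mul, Polynomial.aeval_X, map_natCast] at hc'
    generalize hy : Polynomial.aeval x c = y at hc'
    have hxy : Commute x y := by
      subst hy
      have := congrArg (Polynomial.aeval x) (mul_comm Polynomial.X c)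
      simp only [map_mul, Polynomial.aeval_X] at this
      exact this
    have hu : IsUnit (1 + x * y) := by
      refine IsNilpotent.isUnit_one_add ?_
      exact hxy.isNilpotent_mul_right ⟨m, hx⟩
    have h0 : ((p : R) * x * (1 + x * y) + x ^ p) • z = 0 := by
      have : ((1 + x) ^ p - 1) • z = 0 := by rw [sub_smul, hz, one_smul, sub_self]
      rwa [hc', add_assoc, add_sub_cancel_left] at this
    have h1 : ((p : R) ^ k * x ^ (j - 1)) • (((p : R) * x * (1 + x * y) + x ^ p) • z) = 0 := by
      rw [h0, smul_zero]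
    have h2 : ((p : R) ^ k * x ^ (j - 1 + p)) • z = 0 := by
      have := hp.two_le
      refine ih _ (by omega) ?_
      have e : (k + 1) * (p - 1) = k * (p - 1) + (p - 1) := by ring
      omega
    have hP : ∀ a : R, Commute (p : R) a := fun a => Nat.cast_commute p a
    have e : (p : R) ^ k * x ^ (j - 1) * ((p : R) * x * (1 + x * y) + x ^ p) =
        (1 + x * y) * ((p : R) ^ (k + 1) * x ^ j) + (p : R) ^ k * x ^ (j - 1 + p) := by
      have c1 : Commute (1 + x * y) ((p : R) ^ (k + 1) * x ^ j) :=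
        Commute.mul_right ((hP _).symm.pow_right _)
          (((Commute.one_left _).add_left ((Commute.refl x).mul_left hxy.symm)).pow_right _)
      rw [c1.eq, mul_add, pow_add x (j - 1) p, mul_assoc ((p : R) ^ k) (x ^ (j - 1)) (x ^ p)]
      congr 1
      rw [← mul_assoc, ← mul_assoc, pow_succ (p : R) k]
      congr 1
      rw [mul_assoc ((p : R) ^ k) (x ^ (j - 1)), ← (hP (x ^ (j - 1))).eq, ← mul_assoc, mul_assoc,
        ← pow_succ x (j - 1), Nat.sub_add_cancel hj]
    rw [← mul_smul, e, add_smul, h2, add_zero, mul_smul] at h1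
    exact hu.smul_eq_zero.mp h1

/-- Let a finite group act on an abelian group, all elements of a Sylow `p`-subgroup being unipotent of
degree `n(p-1)+1`. Then the `p^n`-th multiple of a fixed point of that Sylow subgroup is fixed by all of
them. -/
theorem sylow_fix_pow_smul {A M : Type*} [Group A] [Finite A] [AddCommGroup M] [DistribMulAction A M]
    {p : ℕ} [Fact p.Prime] (n : ℕ) (T : Sylow p A)
    (hT : ∀ t ∈ T, (DistribMulAction.toAddMonoidEnd A M t - 1) ^ (n * (p - 1) + 1) = 0)
    {z : M} (hz : ∀ t ∈ T, t • z = z) (T' : Sylow p A) : ∀ t ∈ T', t • (p ^ n • z) = p ^ n • z := by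
  have hp : p.Prime := Fact.out
  let ρ := DistribMulAction.toAddMonoidEnd A M
  let w := p ^ n • z
  let H : Subgroup A := MulAction.stabilizer A w
  suffices h : (T' : Subgroup A) ≤ H from fun t ht => h ht
  by_contra hne
  let good : Sylow p A → Prop := fun U => ∃ u : M, p ^ n • u = w ∧ ∀ t ∈ U, t • u = u
  let pairs : Set (Sylow p A × Sylow p A) := {q | good q.1 ∧ ¬ (q.2 : Subgroup A) ≤ H}
  obtain ⟨⟨U, U'⟩, ⟨⟨u, huw, hu⟩, hU'⟩, hmax⟩ := Set.exists_max_image pairs
    (fun q => Nat.card ((q.1 : Subgroup A) ⊓ (q.2 : Subgroup A) : Subgroup A)) (Set.toFinite _)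
    ⟨(T, T'), ⟨z, rfl, hz⟩, hne⟩
  let D : Subgroup A := (U : Subgroup A) ⊓ (U' : Subgroup A)
  have hUH : (U : Subgroup A) ≤ H := fun t ht => by
    show t • w = w
    rw [← huw, smul_comm, hu t ht]
  have hDlt : D < (U' : Subgroup A) :=
    lt_of_le_of_ne inf_le_right fun e => hU' ((e.ge.trans inf_le_left).trans hUH)
  have hU'p : IsPGroup p (U' : Subgroup A) := U'.2
  have : Group.IsNilpotent (U' : Subgroup A) := hU'p.isNilpotent
  have hN := Group.normalizerCondition_of_isNilpotent (G := (U' : Subgroup A))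
    (D.subgroupOf (U' : Subgroup A)) (by
      rw [lt_top_iff_ne_top, Ne, Subgroup.subgroupOf_eq_top]
      exact not_le_of_gt hDlt)
  obtain ⟨g₀, hg₀N, hg₀D⟩ := SetLike.exists_of_lt hN
  -- a power whose `p`-th power lies in `D`
  obtain ⟨e, he⟩ := hU'p g₀
  have hex : ∃ k, g₀ ^ p ^ k ∈ D.subgroupOf (U' : Subgroup A) := ⟨e, by rw [he]; exact one_mem _⟩
  classical
  have hk0 : Nat.find hex ≠ 0 := fun h => hg₀D (by
    have := Nat.find_spec hex
    rwa [h, pow_zero, pow_one] at this)
  obtain ⟨k, hk⟩ := Nat.exists_eq_succ_of_ne_zero hk0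
  let g : (U' : Subgroup A) := g₀ ^ p ^ k
  have hgD : g ∉ D.subgroupOf (U' : Subgroup A) := Nat.find_min hex (by omega)
  have hgp : g ^ p ∈ D.subgroupOf (U' : Subgroup A) := by
    rw [← pow_mul, ← pow_succ]
    have := Nat.find_spec hex
    rwa [hk] at this
  have hgN : g ∈ Subgroup.normalizer (D.subgroupOf (U' : Subgroup A) : Set _) := pow_mem hg₀N _
  -- `g` fixes `w`
  obtain ⟨a, ha⟩ := MulAction.exists_smul_eq A T U'
  have hgmem : (g : A) ∈ ((a • T : Sylow p A) : Subgroup A) := by rw [ha]; exact g.2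
  rw [Sylow.coe_subgroup_smul, Subgroup.mem_pointwise_smul_iff_inv_smul_mem] at hgmem
  have hgnil : (ρ g - 1) ^ (n * (p - 1) + 1) = 0 := by
    have h1 := hT _ hgmem
    have e1 : ρ g - 1 = ρ a * (ρ ((MulAut.conj a)⁻¹ • (g : A)) - 1) * ρ a⁻¹ := by
      rw [mul_sub, sub_mul, ← map_mul, ← map_mul, mul_one, ← map_mul, mul_inv_cancel, map_one]
      congr 2
      simp [mul_assoc]
    have key : ∀ (y : AddMonoid.End M) (i : ℕ), (ρ a * y * ρ a⁻¹) ^ i = ρ a * y ^ i * ρ a⁻¹ := by
      intro y i
      induction i with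
      | zero => rw [pow_zero, pow_zero, mul_one, ← map_mul, mul_inv_cancel, map_one]
      | succ i ih =>
        rw [pow_succ, ih, pow_succ]
        have h2 : ρ a⁻¹ * ρ a = 1 := by rw [← map_mul, inv_mul_cancel, map_one]
        simp only [mul_assoc]
        rw [← mul_assoc (ρ a⁻¹) (ρ a), h2, one_mul]
    rw [e1, key, h1, mul_zero, zero_mul]
  have hgz : (1 + (ρ g - 1)) ^ p • u = u := by
    rw [add_sub_cancel, ← map_pow]
    show ((g : A) ^ p) • u = u
    exact hu _ (show ((g ^ p : (U' : Subgroup A)) : A) ∈ D from hgp).1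
  have h0 := pow_smul_smul_eq_zero hp hgnil hgz n 1 le_rfl (by omega)
  have hgH : (g : A) ∈ H := by
    show (g : A) • w = w
    rw [← huw, smul_comm, ← sub_eq_zero, ← smul_sub]
    rw [pow_one, ← Nat.cast_pow, mul_smul] at h0
    rw [Nat.cast_smul_eq_nsmul] at h0
    exact h0
  -- so `D⟨g⟩` lies in a good Sylow subgroup
  let X : Subgroup A := (D.subgroupOf (U' : Subgroup A) ⊔ Subgroup.zpowers g).map (U' : Subgroup A).subtype
  have hXU' : X ≤ (U' : Subgroup A) := Subgroup.map_subtype_le _
  have hXH : X ≤ H := by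
    rw [Subgroup.map_le_iff_le_comap]
    exact sup_le (fun d hd => hUH hd.1) (Subgroup.zpowers_le.mpr hgH)
  have hDX : D < X := by
    refine lt_of_le_of_ne (fun d hd => ⟨⟨d, hd.2⟩, Subgroup.mem_sup_left hd, rfl⟩) fun e1 => hgD ?_
    exact (e1.ge ⟨g, Subgroup.mem_sup_right (Subgroup.mem_zpowers g), rfl⟩ : (g : A) ∈ D)
  have hXp : IsPGroup p X := hU'p.to_le hXU'
  obtain ⟨b, hb⟩ := exists_conj_mem_sylow (U.subtype hUH)
    (hXp.of_equiv (Subgroup.subgroupOfEquivOfLe hXH).symm)
  let U'' : Sylow p A := (b : A)⁻¹ • U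
  have hmem : ∀ t : A, (b : A) * t * (b : A)⁻¹ ∈ (U : Subgroup A) → t ∈ (U'' : Subgroup A) := by
    intro t ht
    rw [Sylow.coe_subgroup_smul, Subgroup.mem_pointwise_smul_iff_inv_smul_mem]
    simpa [mul_assoc] using ht
  have hgood : good U'' := by
    refine ⟨(b : A)⁻¹ • u, ?_, fun t ht => ?_⟩
    · rw [← smul_comm, huw]
      exact H.inv_mem b.2
    · change t ∈ (U'' : Subgroup A) at ht
      rw [Sylow.coe_subgroup_smul, Subgroup.mem_pointwise_smul_iff_inv_smul_mem] at ht
      have h1 := hu _ ht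
      calc t • (b : A)⁻¹ • u = (b : A)⁻¹ • (((MulAut.conj (b : A)⁻¹)⁻¹ • t) • u) := by
            rw [← mul_smul, ← mul_smul]
            congr 1
            simp [mul_assoc]
        _ = (b : A)⁻¹ • u := by rw [h1]
  have hXU'' : X ≤ (U'' : Subgroup A) := fun x hx => hmem x (hb ⟨x, hXH hx⟩ hx)
  have h2 := hmax (U'', U') ⟨hgood, hU'⟩
  have h3 : Nat.card D < Nat.card ((U'' : Subgroup A) ⊓ (U' : Subgroup A) : Subgroup A) := by
    have h4 : D < (U'' : Subgroup A) ⊓ (U' : Subgroup A) := hDX.trans_le (le_inf hXU'' hXU')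
    exact lt_of_le_of_ne (Subgroup.card_le_of_le h4.le)
      fun e1 => h4.ne (Subgroup.eq_of_le_of_card_ge h4.le e1.ge)
  exact absurd h2 (not_le.mpr h3)

end Cfsg

namespace Cfsg

namespace FusionSystem

variable {Ω : Type*} [Group Ω] {S : Subgroup Ω} {F : FusionSystem S} {p : ℕ}

/-- For `S` of class at most `n(p-1)+1`, the `p^n`-th powers of the central elements generate a normal
subgroup. -/
theorem IsSaturated.isNormal_powerClosure_center [Fact p.Prime] [Finite S] (hF : F.IsSaturated p)
    (hS : IsPGroup p S) (n : ℕ) (hcl : Subgroup.lowerCentralSeries S (n * (p - 1) + 1) = ⊥) :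
    F.IsNormal (powerClosure p n (S ⊓ Subgroup.centralizer (S : Set Ω))) := by
  let Z : Subgroup Ω := S ⊓ Subgroup.centralizer (S : Set Ω)
  let W : Subgroup Ω := powerClosure p n Z
  have hWZ : W ≤ Z := by
    refine (Subgroup.closure_le _).mpr ?_
    rintro _ ⟨x, hx, rfl⟩
    exact pow_mem hx _
  have hZS : Z ≤ S := inf_le_left
  refine hF.isNormal_of_invariant' hS (hWZ.trans hZS) fun P hP hbig => ?_
  rcases hP with rfl | hP
  · refine ⟨hWZ.trans hZS, fun α _ => ?_⟩
    have key : ∀ (β : MulAut P) (x : P), (x : Ω) ∈ W → ((β x : P) : Ω) ∈ W := by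
      intro β
      have hle : W ≤ ((W.subgroupOf P).comap β.toMonoidHom).map P.subtype := by
        refine (Subgroup.closure_le _).mpr ?_
        rintro _ ⟨y, hy, rfl⟩
        refine ⟨⟨y, hy.1⟩ ^ p ^ n, ?_, by simp⟩
        refine Subgroup.subset_closure ⟨((β ⟨y, hy.1⟩ : P) : Ω), ⟨SetLike.coe_mem _,
          Subgroup.mem_centralizer_iff.mpr fun s hs => ?_⟩,
          by show ((β (⟨y, hy.1⟩ ^ p ^ n) : P) : Ω) = _; rw [map_pow]; rfl⟩
        have h1 : β.symm ⟨s, hs⟩ * ⟨y, hy.1⟩ = ⟨y, hy.1⟩ * β.symm ⟨s, hs⟩ :=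
          Subtype.ext (Subgroup.mem_centralizer_iff.mp hy.2 _ (SetLike.coe_mem _))
        have h2 := congrArg (fun u => ((β u : P) : Ω)) h1
        simpa using h2
      intro x hx
      obtain ⟨x', hx', he⟩ := hle hx
      obtain rfl := Subtype.ext he
      exact hx'
    ext x
    exact ⟨fun ⟨y, hy, he⟩ => he ▸ key α y hy,
      fun hx => ⟨α⁻¹ x, key α⁻¹ x hx, by simp⟩⟩
  have hPS := hP.lt hS hF
  have hZP : Z ≤ P := fun z hz => hP.1.centralizerIn_le_self
    ⟨hz.1, Subgroup.centralizer_le hPS.le hz.2⟩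
  refine ⟨hWZ.trans hZP, ?_⟩
  have hfin := finite_autGroup (F := F) hPS.le
  have hfn := hP.2.1
  obtain ⟨-, T, hT⟩ := hF.isFullyAutomized_of_isFullyNormalized hS hfn
  have hrec := hF.isReceptive_of_isFullyNormalized hS hfn
  -- the action on the centre of `P`
  have hmap : ∀ (α : MulAut P) (v : Subgroup.center P), α (v : P) ∈ Subgroup.center P := fun α v =>
    (Subgroup.characteristic_iff_map_eq.mp inferInstance α).le ⟨v, v.2, rfl⟩
  let _ : CommGroup (Subgroup.center P) :=
    { (inferInstance : Group (Subgroup.center P)) with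
      mul_comm := fun a b => Subtype.ext (Subgroup.mem_center_iff.mp b.2 a) }
  let _ : DistribMulAction (F.autGroup P) (Additive (Subgroup.center P)) :=
    { smul := fun α v => Additive.ofMul ⟨(α : MulAut P) (Additive.toMul v).val, hmap _ _⟩
      one_smul := fun v => rfl
      mul_smul := fun a b v => rfl
      smul_zero := fun a => congrArg Additive.ofMul (Subtype.ext (map_one (a : MulAut P)))
      smul_add := fun a u v => congrArg Additive.ofMul (Subtype.ext
        (map_mul (a : MulAut P) (Additive.toMul u).val (Additive.toMul v).val)) }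
  let c : Additive (Subgroup.center P) → Ω := fun v => (Additive.toMul v).val.val
  have hnil : ∀ t ∈ T,
      (DistribMulAction.toAddMonoidEnd (F.autGroup P) (Additive (Subgroup.center P)) t - 1) ^
        (n * (p - 1) + 1) = 0 := by
    intro t ht
    obtain ⟨s, hs, -, hse⟩ := mem_autInducedBy_iff.mp (Subgroup.mem_subgroupOf.mp (hT.le ht))
    have key : ∀ (i : ℕ) (v : Additive (Subgroup.center P)),
        c (((DistribMulAction.toAddMonoidEnd (F.autGroup P) (Additive (Subgroup.center P)) t - 1) ^ i) v) ∈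
          Subgroup.lowerCentralSeries S i := by
      intro i
      induction i with
      | zero => exact fun v => hPS.le (SetLike.coe_mem _)
      | succ i ih =>
        intro v
        rw [pow_succ']
        have hu := ih v
        change c (t • (((DistribMulAction.toAddMonoidEnd (F.autGroup P) (Additive (Subgroup.center P)) t - 1) ^ i) v) - (((DistribMulAction.toAddMonoidEnd (F.autGroup P) (Additive (Subgroup.center P)) t - 1) ^ i) v)) ∈ _
        generalize ((DistribMulAction.toAddMonoidEnd (F.autGroup P) (Additive (Subgroup.center P)) t - 1) ^ i) v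
          = u at hu ⊢
        have hc : c (t • u - u) = s * c u * s⁻¹ * (c u)⁻¹ := by
          rw [sub_eq_add_neg]
          show (((t : F.autGroup P) : MulAut P) (Additive.toMul u).val : Ω) * (c u)⁻¹ = _
          rw [hse]
        rw [hc]
        have h := Subgroup.inv_mem _ (Subgroup.commutator_mem_commutator hu hs)
        rw [Subgroup.lowerCentralSeries_succ]
        simpa [commutatorElement_def, mul_assoc] using h
    ext v
    have h := key (n * (p - 1) + 1) v
    rw [hcl, Subgroup.mem_bot] at h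
    exact h
  intro α hα
  let K : Subgroup (F.autGroup P) := Subgroup.closure {a | ∃ T' : Sylow p (F.autGroup P), a ∈ T'}
  have hKn : K.Normal := by
    rw [← Subgroup.normalizer_eq_top_iff, eq_top_iff]
    intro g _
    have hinv : ∀ g : F.autGroup P, ∀ a ∈ K, g * a * g⁻¹ ∈ K := by
      intro g a ha
      have hle : K ≤ K.comap (MulAut.conj g).toMonoidHom := by
        refine (Subgroup.closure_le _).mpr ?_
        rintro x ⟨T', hx⟩
        refine Subgroup.subset_closure ⟨g • T', ?_⟩
        change g * x * g⁻¹ ∈ ((g • T' : Sylow p (F.autGroup P)) : Subgroup _)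
        rw [Sylow.coe_subgroup_smul]
        exact Subgroup.smul_mem_pointwise_smul x (MulAut.conj g) _ hx
      exact hle ha
    refine Subgroup.mem_normalizer_iff.mpr fun a => ⟨hinv g a, fun ha => ?_⟩
    simpa [mul_assoc] using hinv g⁻¹ _ ha
  let H : Subgroup (F.autGroup P) :=
    { carrier := {a | ∀ x : P, (x : Ω) ∈ W ↔ (((a : MulAut P) x : P) : Ω) ∈ W}
      one_mem' := fun x => Iff.rfl
      mul_mem' := fun {a b} ha hb x => (hb x).trans (ha _)
      inv_mem' := fun {a} ha x => by
        have := ha ((a : MulAut P)⁻¹ x)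
        simpa using this.symm }
  have hKH : K ≤ H := by
    refine (Subgroup.closure_le _).mpr ?_
    rintro a ⟨T', ha⟩
    have hfix : ∀ x : P, (x : Ω) ∈ W → (a : MulAut P) x = x := by
      have hle : W ≤ (MonoidHom.eqLocus ((a : MulAut P).toMonoidHom) (MonoidHom.id P)).map P.subtype := by
        refine (Subgroup.closure_le _).mpr ?_
        rintro _ ⟨y, hy, rfl⟩
        have hyV : (⟨y, hZP hy⟩ : P) ∈ Subgroup.center P := Subgroup.mem_center_iff.mpr fun x =>
          Subtype.ext (Subgroup.mem_centralizer_iff.mp hy.2 x (hPS.le x.2))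
        have hfx : ∀ t ∈ T, t • Additive.ofMul (⟨_, hyV⟩ : Subgroup.center P) =
            Additive.ofMul (⟨_, hyV⟩ : Subgroup.center P) := by
          intro t ht
          obtain ⟨s, hs, -, hse⟩ := mem_autInducedBy_iff.mp (Subgroup.mem_subgroupOf.mp (hT.le ht))
          refine congrArg Additive.ofMul (Subtype.ext (Subtype.ext ((hse _).trans ?_)))
          show s * y * s⁻¹ = y
          rw [Subgroup.mem_centralizer_iff.mp hy.2 s hs, mul_inv_cancel_right]
        have h := sylow_fix_pow_smul n T hnil hfx T' a ha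
        refine ⟨⟨y, hZP hy⟩ ^ p ^ n, ?_, by simp⟩
        have h' := congrArg (fun v : Additive (Subgroup.center P) => (Additive.toMul v).val) h
        simp only [toMul_nsmul, SubgroupClass.coe_pow] at h'
        exact h'
      intro x hx
      obtain ⟨x', hx', he⟩ := hle hx
      obtain rfl := Subtype.ext he
      exact hx'
    intro x
    refine ⟨fun hx => by rwa [hfix x hx], fun hx => ?_⟩
    have h := hfix _ hx
    rwa [(a : MulAut P).injective h] at hx
  have hgen := Sylow.normalizer_sup_eq_top' (N := K) T (fun t ht => Subgroup.subset_closure ⟨T, ht⟩)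
  have hmem : (⟨α, hα⟩ : F.autGroup P) ∈ H := by
    refine (?_ : (⊤ : Subgroup (F.autGroup P)) ≤ H) (Subgroup.mem_top _)
    rw [← hgen]
    refine sup_le (fun γ hγ => ?_) hKH
    obtain ⟨ψ, hψ, hψe⟩ := exists_extension_of_normalizes hrec γ.2 (le_refl (normalizerIn S P)) (by
      intro g hg hgN
      let d : F.autGroup P := ⟨P.normalizerMonoidHom ⟨g, hgN⟩,
        autInducedBy_le_autGroup hPS.le (mem_autInducedBy_iff.mpr ⟨g, hg.1, hgN, fun _ => rfl⟩)⟩
      have hd : d ∈ (T : Subgroup (F.autGroup P)) :=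
        hT.ge (mem_autInducedBy_iff.mpr ⟨g, hg.1, hgN, fun _ => rfl⟩)
      exact hT.le ((Subgroup.mem_normalizer_iff.mp hγ d).mp hd))
    have := finite_of_le (sup_le hPS.le normalizerIn_le : P ⊔ normalizerIn S P ≤ S)
    have hW := hbig _ ψ hψ ((hWZ.trans hZP).trans le_sup_left)
      (card_lt_of_lt (lt_of_lt_of_le (lt_normalizerIn (p := p) hS hPS) le_sup_right))
    intro x
    rw [← hψe]
    constructor
    · intro hx
      exact hW.le ⟨⟨x, Subgroup.mem_sup_left x.2⟩, hx, rfl⟩
    · intro hx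
      obtain ⟨y, hy, hye⟩ := hW.ge hx
      rwa [← show (y : Ω) = x from congrArg Subtype.val (F.injective_of_mem hψ hye)]
  ext x
  exact ⟨fun ⟨y, hy, he⟩ => he ▸ (hmem y).mp hy,
    fun hx => ⟨α⁻¹ x, (H.inv_mem hmem x).mp hx, by simp⟩⟩

end FusionSystem

end Cfsg
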