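import Cfsg.Agent.Lib.Fusion.StableLocal
import Cfsg.Agent.Lib.Fusion.QdFree

/-!
`p`-stability is detected in the normalizer systems of centric radical subgroups.
-/

set_option autoImplicit false
set_option linter.unusedSectionVars false

namespace Cfsg.FusionSystem

universe u
variable {Ω : Type u} [Group Ω] {S : Subgroup Ω} [Finite S] {p : ℕ} [Fact p.Prime]

/-- Every automorphism of `Q` in the system extends to one of `R`. -/
def AutExtends (F : FusionSystem S) (Q R : Subgroup Ω) : Prop :=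
  ∃ h : Q ≤ R, ∀ α ∈ F.autGroup Q, ∃ β ∈ F.autGroup R,
    ∀ x : Q, ((β (Subgroup.inclusion h x) : R) : Ω) = ((α x : Q) : Ω)

variable {F : FusionSystem S}

theorem AutExtends.trans {Q R C : Subgroup Ω} (h : F.AutExtends Q R) (h' : F.AutExtends R C) :
    F.AutExtends Q C := by
  obtain ⟨hQR, hA⟩ := h
  obtain ⟨hRC, hB⟩ := h'
  refine ⟨hQR.trans hRC, fun α hα => ?_⟩
  obtain ⟨β, hβ, hβe⟩ := hA α hα
  obtain ⟨γ, hγ, hγe⟩ := hB β hβ
  exact ⟨γ, hγ, fun x => (hγe (Subgroup.inclusion hQR x)).trans (hβe x)⟩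

theorem AutExtends.transport {Q R R' : Subgroup Ω} (h : F.AutExtends Q R) {φ : R →* Ω}
    (hφ : φ ∈ F.Hom R) (hr : φ.range = R') :
    ∃ Q' : Subgroup Ω, F.IsConj Q Q' ∧ F.AutExtends Q' R' := by
  obtain ⟨hQR, hA⟩ := h
  set φQ := φ.comp (Subgroup.inclusion hQR) with hφQdef
  have hφQ : φQ ∈ F.Hom Q := F.restrict_mem hφ hQR
  have hQ'R : φQ.range ≤ R' := by
    rintro _ ⟨x, rfl⟩
    exact hr.le ⟨_, rfl⟩
  refine ⟨φQ.range, ⟨φQ, hφQ, rfl⟩, hQ'R, fun α' hα' => ?_⟩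
  rw [← F.autGroup_map_congr hφQ rfl] at hα'
  obtain ⟨α, hα, rfl⟩ := hα'
  obtain ⟨β, hβ, hβe⟩ := hA α hα
  refine ⟨MulAut.congr (F.isoOf hφ hr) β, (F.autGroup_map_congr hφ hr).le ⟨β, hβ, rfl⟩, fun y => ?_⟩
  obtain ⟨x, rfl⟩ := (F.isoOf hφQ rfl).surjective y
  have he : Subgroup.inclusion hQ'R (F.isoOf hφQ rfl x) = F.isoOf hφ hr (Subgroup.inclusion hQR x) := by
    refine Subtype.ext ?_
    rw [coe_isoOf hφ hr]
    exact coe_isoOf hφQ rfl x
  rw [he]
  show ((F.isoOf hφ hr (β ((F.isoOf hφ hr).symm (F.isoOf hφ hr (Subgroup.inclusion hQR x)))) : R') : Ω) =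
    ((F.isoOf hφQ rfl (α ((F.isoOf hφQ rfl).symm (F.isoOf hφQ rfl x))) : φQ.range) : Ω)
  rw [MulEquiv.symm_apply_apply, MulEquiv.symm_apply_apply, coe_isoOf hφ hr, coe_isoOf hφQ rfl]
  show φ _ = φ (Subgroup.inclusion hQR (α x))
  exact congrArg φ (Subtype.ext (hβe x))

theorem IsSaturated.autExtends_centralizer (hF : F.IsSaturated p) (hS : IsPGroup p S) {Q : Subgroup Ω}
    (hQ : F.IsFullyNormalized Q) :
    F.AutExtends Q (Q ⊔ centralizerIn S Q) ∧ F.IsCentric (Q ⊔ centralizerIn S Q) := by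
  have hrec := hF.isReceptive_of_isFullyNormalized hS hQ
  have hfc := hF.isFullyCentralized_of_isFullyNormalized hS hQ
  haveI := finite_centralizerIn (S := S) (P := Q)
  have hR : Q ⊔ centralizerIn S Q ≤ S := sup_le hQ.1 centralizerIn_le
  haveI : Finite ↥(Q ⊔ centralizerIn S Q) := finite_of_le hR
  refine ⟨⟨le_sup_left, fun α hα => ?_⟩, hR, ?_⟩
  · obtain ⟨φ, hφ, hr, he⟩ := F.exists_map_of_mem_autGroup hQ.1 hα
    obtain ⟨ψ, hψ, hψe⟩ := hrec.2 Q φ hφ hr
    have hle : Q ⊔ centralizerIn S Q ≤ extender S Q φ :=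
      sup_le (le_extender hQ.1 (F.apply_mem hφ)) (centralizerIn_le_extender (F.apply_mem hφ))
    set χ := ψ.comp (Subgroup.inclusion hle) with hχdef
    have hχ : χ ∈ F.Hom _ := F.restrict_mem hψ hle
    have hχe : ∀ x : Q, χ ⟨x, le_sup_left (b := centralizerIn S Q) x.2⟩ = φ x := fun x =>
      hψe (x : Ω) x.2 (hle (le_sup_left (b := centralizerIn S Q) x.2))
    have hrange : χ.range ≤ Q ⊔ centralizerIn S Q := by
      rw [MonoidHom.range_eq_map, ← Subgroup.subgroupOf_self (Q ⊔ centralizerIn S Q),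
        Subgroup.subgroupOf_sup (le_sup_left (b := centralizerIn S Q)) (le_sup_right (a := Q)), Subgroup.map_sup]
      refine sup_le_sup ?_ ?_
      · rintro _ ⟨⟨x, hx⟩, hxQ, rfl⟩
        exact hr.le ⟨⟨x, hxQ⟩, (hχe ⟨x, hxQ⟩).symm⟩
      · rintro _ ⟨g, hg, rfl⟩
        exact ⟨F.apply_mem hχ g, apply_mem_centralizer le_sup_left hχe hr g
          (show (g : Ω) ∈ centralizerIn S Q from hg).2⟩
    have hreq : χ.range = Q ⊔ centralizerIn S Q := Subgroup.eq_of_le_of_card_ge hrange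
      (Nat.card_congr (MonoidHom.ofInjective (F.injective_of_mem hχ)).toEquiv).le
    refine ⟨F.isoOf hχ hreq, F.isoOf_mem_autGroup hχ hreq, fun x => ?_⟩
    rw [coe_isoOf hχ hreq, ← he x]
    exact hχe x
  · rintro R' ⟨ψ, hψ, rfl⟩ g hg
    set φ := ψ.comp (Subgroup.inclusion (le_sup_left (b := centralizerIn S Q) (a := Q))) with hφdef
    have hφ : φ ∈ F.Hom Q := F.restrict_mem hψ le_sup_left
    have hbound := hfc.2 φ.range ⟨φ, hφ, rfl⟩
    haveI := finite_centralizerIn (S := S) (P := φ.range)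
    let f : centralizerIn S Q → centralizerIn S φ.range := fun c =>
      ⟨ψ ⟨c, le_sup_right (a := Q) c.2⟩, F.apply_mem hψ _,
        apply_mem_centralizer le_sup_left (fun _ => rfl) rfl _ c.2.2⟩
    have hinj : Function.Injective f := fun a b h => by
      have h1 := F.injective_of_mem hψ (congrArg Subtype.val h)
      exact Subtype.ext (by simpa using congrArg Subtype.val h1)
    obtain ⟨c, hc⟩ := (hinj.bijective_of_nat_card_le hbound).2
      ⟨g, hg.1, Subgroup.centralizer_le (show (φ.range : Set Ω) ⊆ ψ.range from by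
        rintro _ ⟨x, rfl⟩; exact ⟨_, rfl⟩) hg.2⟩
    exact ⟨_, congrArg Subtype.val hc⟩

theorem IsSaturated.exists_radical_autExtends (hF : F.IsSaturated p) (hS : IsPGroup p S) {Q : Subgroup Ω}
    (hQ : F.IsFullyNormalized Q) :
    ∃ Q' R : Subgroup Ω, F.IsConj Q Q' ∧ F.AutExtends Q' R ∧ F.IsFullyNormalized R ∧ F.IsCentric R ∧
      F.IsRadical p R := by
  classical
  set good : Set (Subgroup Ω) := {R | F.IsFullyNormalized R ∧ F.IsCentric R ∧
    ∃ Q' : Subgroup Ω, F.IsConj Q Q' ∧ F.AutExtends Q' R} with hgood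
  have hfin : good.Finite := (finite_setOf_le S).subset fun R hR => hR.1.1
  have hmove : ∀ Q' C : Subgroup Ω, F.IsConj Q Q' → F.IsCentric C → F.AutExtends Q' C →
      ∃ C' ∈ good, F.IsConj C C' := by
    intro Q' C hQQ' hC hA
    obtain ⟨C', ⟨φ, hφ, hr⟩, hC'⟩ := F.exists_isFullyNormalized hC.1
    obtain ⟨Q'', h1, h2⟩ := hA.transport hφ hr
    exact ⟨C', ⟨hC', hC.of_isConj ⟨φ, hφ, hr⟩, Q'', hQQ'.trans h1, h2⟩, φ, hφ, hr⟩
  have hne : good.Nonempty := by
    obtain ⟨hA, hC⟩ := hF.autExtends_centralizer hS hQ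
    obtain ⟨C', hC', -⟩ := hmove Q _ (F.isConj_refl hQ.1) hC hA
    exact ⟨C', hC'⟩
  obtain ⟨R, ⟨hfn, hc, Q', hQQ', hA⟩, hmax⟩ := Set.exists_max_image good (fun R => Nat.card R) hfin hne
  refine ⟨Q', R, hQQ', hA, hfn, hc, ?_⟩
  by_contra hrad
  haveI := finite_normalizerIn (S := S) (P := R)
  set N := F.normalizerSystem R hfn.1 with hN
  have hNn : N.IsNormal R := (F.normalizerSystem_isNormalizerSystem R hfn.1).isNormal hfn.1
  set C := N.core with hC
  have hCn : N.IsNormal C := isNormal_core N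
  have hCS : C ≤ S := hCn.1.trans normalizerIn_le
  haveI : Finite C := finite_of_le hCS
  have hlt : R < C :=
    lt_of_le_of_ne hNn.le_core fun e => hrad (hF.isRadical_of_core_normalizer hS hfn hc e.symm)
  have hRC : F.AutExtends R C := by
    refine ⟨hlt.le, fun α hα => ?_⟩
    obtain ⟨φ, hφ, hr, he⟩ := F.exists_map_of_mem_autGroup hfn.1 hα
    have hRN : R ≤ normalizerIn S R := le_normalizerIn hfn.1
    have hφN : φ ∈ N.Hom R := by
      refine ⟨hφ, hRN, fun x => hRN (hr.le ⟨x, rfl⟩), φ.comp (Subgroup.inclusion (sup_le le_rfl le_rfl)),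
        F.restrict_mem hφ _, fun _ => rfl, ?_⟩
      apply le_antisymm
      · rintro _ ⟨x, -, rfl⟩
        exact hr.le ⟨_, rfl⟩
      · intro y hy
        obtain ⟨x, rfl⟩ := hr.ge hy
        exact ⟨⟨x, Subgroup.mem_sup_left x.2⟩, x.2, rfl⟩
    obtain ⟨ψ, hψ, hψe, hψC⟩ := hCn.2 R φ hφN
    set χ := ψ.comp (Subgroup.inclusion (le_sup_right (a := R) (b := C))) with hχdef
    have hχ : χ ∈ F.Hom C := F.restrict_mem hψ.1 le_sup_right
    have hreq : χ.range = C := by
      refine le_antisymm ?_ fun y hy => ?_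
      · rintro _ ⟨x, rfl⟩
        exact hψC.le ⟨_, x.2, rfl⟩
      · obtain ⟨z, hz, rfl⟩ := hψC.ge hy
        exact ⟨⟨z, hz⟩, rfl⟩
    refine ⟨F.isoOf hχ hreq, F.isoOf_mem_autGroup hχ hreq, fun x => ?_⟩
    rw [coe_isoOf hχ hreq, ← he x, ← hψe x]
    rfl
  obtain ⟨C', hC', hconj⟩ := hmove Q' C hQQ' (isCentric_of_le hc hlt.le hCS) (hA.trans hRC)
  have h1 := hmax C' hC'
  rw [← hconj.card_eq] at h1
  exact hlt.ne (Subgroup.eq_of_le_of_card_ge hlt.le h1)

theorem IsSaturated.stable_radical_iff (hF : F.IsSaturated p) (hS : IsPGroup p S) :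
    (∀ Q : Subgroup Ω, F.IsFullyNormalized Q → F.StableAt p Q) ↔
      ∀ R : Subgroup Ω, F.IsFullyNormalized R → F.IsCentric R → F.IsRadical p R →
        ∀ N : FusionSystem (normalizerIn S R), F.IsNormalizerSystem R N →
          ∀ Q : Subgroup Ω, N.IsFullyNormalized Q → N.StableAt p Q := by
  constructor
  · intro h R hR _ _ N hN Q hQ χ hχ hquad
    have hQN : Q ≤ normalizerIn S R := hQ.1
    have hQS : Q ≤ S := hQN.trans inf_le_left
    haveI := finite_mulAut_of_le (S := S) hQS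
    have hle : N.autGroup Q ≤ F.autGroup Q := fun α hα => (F.mem_autGroup_iff hQS).mpr (by
      have h1 := (N.mem_autGroup_iff hQN).mp hα
      rw [hN] at h1
      exact h1.1)
    obtain ⟨Q', hconj, hQ'⟩ := exists_isFullyNormalized (F := F) hQS
    obtain ⟨φ, hφ, hr⟩ := hconj
    obtain ⟨c, hc, hce⟩ := stableAt_transport F hφ hr (h Q' hQ') χ (hle hχ) hquad
    refine ⟨⟨χ, hχ⟩, mem_pCore_of_injective (Subgroup.inclusion hle) (Subgroup.inclusion_injective hle) ?_, rfl⟩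
    rwa [show Subgroup.inclusion hle ⟨χ, hχ⟩ = c from Subtype.ext hce.symm]
  · intro h Q hQ
    obtain ⟨Q', R, ⟨φ, hφ, hr⟩, ⟨hQR, hA⟩, hfn, hc, hrad⟩ := hF.exists_radical_autExtends hS hQ
    refine stableAt_transport F hφ hr ?_
    haveI := finite_normalizerIn (S := S) (P := R)
    set N := F.normalizerSystem R hfn.1
    have hRN : R ≤ normalizerIn S R := le_normalizerIn hfn.1
    have hQN : Q' ≤ normalizerIn S R := hQR.trans hRN
    have hQS : Q' ≤ S := hQR.trans hfn.1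
    haveI := finite_mulAut_of_le (S := S) hQS
    have hle : F.autGroup Q' ≤ N.autGroup Q' := fun α hα => (N.mem_autGroup_iff hQN).mpr (by
      obtain ⟨β, hβ, hβe⟩ := hA α hα
      obtain ⟨b, hb, hbr, hbe⟩ := F.exists_map_of_mem_autGroup hfn.1 hβ
      have hsub : Q' ⊔ R ≤ R := sup_le hQR le_rfl
      refine ⟨(F.mem_autGroup_iff hQS).mp hα, hQN, fun x => hQN (α x).2, b.comp (Subgroup.inclusion hsub),
        F.restrict_mem hb hsub, fun x => ?_, ?_⟩
      · exact (hbe (Subgroup.inclusion hQR x)).trans (hβe x)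
      · refine le_antisymm ?_ fun y hy => ?_
        · rintro _ ⟨z, -, rfl⟩
          exact hbr.le ⟨_, rfl⟩
        · obtain ⟨z, rfl⟩ := hbr.ge hy
          exact ⟨⟨z, Subgroup.mem_sup_right z.2⟩, z.2, rfl⟩)
    obtain ⟨Q'', hconj, hQ''⟩ := exists_isFullyNormalized (F := N) hQN
    obtain ⟨ω, hω, hωr⟩ := hconj
    have hst := stableAt_transport N hω hωr (h R hfn hc hrad N (fun _ => rfl) Q'' hQ'')
    intro χ hχ hquad
    obtain ⟨c, hc', hce⟩ := hst χ (hle hχ) hquad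
    refine ⟨⟨χ, hχ⟩, mem_pCore_of_injective (Subgroup.inclusion hle) (Subgroup.inclusion_injective hle) ?_, rfl⟩
    rwa [show Subgroup.inclusion hle ⟨χ, hχ⟩ = c from Subtype.ext hce.symm]

end Cfsg.FusionSystem
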