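import Cfsg.Agent.Lib.Fusion.Normal
import Cfsg.Agent.Lib.Fusion.Center
import Cfsg.Agent.Lib.Fusion.Factor
import Cfsg.Agent.Lib.Fusion.Quotient
import Cfsg.Agent.S5132
import Cfsg.Agent.S5133
import Cfsg.Agent.S5134
import Mathlib.GroupTheory.Nilpotent
import Mathlib.GroupTheory.PGroup

/-!
Solvable fusion systems: abelian series of strongly closed subgroups; solvable systems are constrained.
-/

set_option autoImplicit false
set_option linter.unusedSectionVars false

namespace Cfsg.FusionSystem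

open scoped commutatorElement

universe u v
variable {Ω : Type u} [Group Ω] {S : Subgroup Ω} [Finite S] {F : FusionSystem S}

theorem StronglyClosed.inf_left {A B : Subgroup Ω} (hA : F.StronglyClosed A) (hB : F.StronglyClosed B) :
    F.StronglyClosed (A ⊓ B) :=
  ⟨inf_le_left.trans hA.1, fun R hR φ hφ x => Subgroup.mem_inf.mpr
    ⟨hA.2 R (hR.trans inf_le_left) φ hφ x, hB.2 R (hR.trans inf_le_right) φ hφ x⟩⟩

theorem StronglyClosed.subgroupOf_normal {R : Subgroup Ω} (hR : F.StronglyClosed R) :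
    (R.subgroupOf S).Normal :=
  (Subgroup.normal_subgroupOf_iff_le_normalizer hR.1).mpr hR.le_normalizer

section factor
variable {p : ℕ} [Fact p.Prime] {Ω' : Type v} [Group Ω'] {S' : Subgroup Ω'} {θ : S →* Ω'} {E : FusionSystem S'}
  {S₀ : Subgroup Ω}

theorem stronglyClosed_imageAlong (hF : F.IsSaturated p) (hS : IsPGroup p S) (hE : F.IsFactorSystem S₀ θ E)
    (hS₀ : F.StronglyClosed S₀) {T : Subgroup Ω} (hT : F.StronglyClosed T) :
    E.StronglyClosed (imageAlong θ T) := by
  obtain ⟨hle, hker, hr, hE'⟩ := hE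
  refine ⟨by rintro _ ⟨s, -, rfl⟩; exact hr.le ⟨s, rfl⟩, fun R' hR' φ' hφ' y => ?_⟩
  obtain ⟨hR'S, φ, hφ, hind⟩ := (hE' R' φ').mp hφ'
  obtain ⟨z, hz, hzS, hze⟩ := exists_mem_preimageAlong (θ := θ) (P' := R') (hr ▸ hR'S) y
  have h1 : θ ⟨z, hzS⟩ ∈ R' := hze ▸ y.2
  rw [show y = ⟨θ ⟨z, hzS⟩, h1⟩ from Subtype.ext hze.symm, inducedAlong_apply_mem hφ hind ⟨z, hz⟩ h1]
  have hsup := StronglyClosed.sup hF hS hT hS₀
  have hpre : preimageAlong θ R' ≤ T ⊔ S₀ := by
    intro w hw
    obtain ⟨hwS, hw'⟩ := mem_preimageAlong.mp hw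
    obtain ⟨t, ht, hte⟩ := hR' hw'
    have h2 : ((t : S) : Ω)⁻¹ * w ∈ S₀ := (hker (t⁻¹ * ⟨w, hwS⟩)).mp (by
      rw [map_mul, map_inv, hte, inv_mul_cancel])
    have h3 := Subgroup.mul_mem_sup (show (t : Ω) ∈ T from ht) h2
    rwa [mul_inv_cancel_left] at h3
  have h4 := hsup.2 _ hpre φ hφ ⟨z, hz⟩
  obtain ⟨t, ht, s, hs, hts⟩ : ∃ t ∈ T, ∃ s ∈ S₀, t * s = φ ⟨z, hz⟩ := by
    have hn : S₀ ≤ Subgroup.normalizer (T : Set Ω) := hS₀.1.trans hT.le_normalizer
    rw [← SetLike.mem_coe, Subgroup.coe_mul_of_right_le_normalizer_left T S₀ hn] at h4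
    exact h4
  refine ⟨⟨t, hT.1 ht⟩, ht, ?_⟩
  rw [← mul_one (θ ⟨t, _⟩), ← (hker ⟨s, hle hs⟩).mpr hs, ← map_mul]
  exact congrArg θ (Subtype.ext hts)

theorem stronglyClosed_preimageAlong (hF : F.IsSaturated p) (hS : IsPGroup p S) (hE : F.IsFactorSystem S₀ θ E)
    (hS₀ : F.StronglyClosed S₀) {T : Subgroup Ω'} (hT : E.StronglyClosed T) :
    F.StronglyClosed (preimageAlong θ T) := by
  refine ⟨preimageAlong_le, fun R hR φ hφ x => ?_⟩
  obtain ⟨φ', hφ', hRS, hφS, hmem, hind⟩ :=
    (Cfsg.Agent.S5134.result p hS F hF S₀ hS₀ θ E hE).1.2 R φ hφ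
  have hle : imageAlong θ R ≤ T := by
    rintro _ ⟨s, hs, rfl⟩
    exact (mem_preimageAlong.mp (hR hs)).2
  refine mem_preimageAlong.mpr ⟨hφS x, ?_⟩
  rw [← hind x]
  exact hT.2 _ hle φ' hφ' _

end factor

variable {p : ℕ} [Fact p.Prime]

/-- The forward direction: an abelian series of strongly closed subgroups from `R` up to `S`. -/
theorem exists_abelian_series (hS : IsPGroup p S) (hF : F.IsSaturated p) (h : F.IsSolvableSystem) :
    ∀ R : Subgroup Ω, F.StronglyClosed R → ∃ (n : ℕ) (T : Fin (n + 1) → Subgroup Ω), T 0 = R ∧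
      T (Fin.last n) = S ∧ Monotone T ∧ (∀ i, F.StronglyClosed (T i)) ∧
      ∀ i : Fin n, ⁅T i.succ, T i.succ⁆ ≤ T (Fin.castSucc i) := by
  intro R
  induction hm : Nat.card S - Nat.card R using Nat.strong_induction_on generalizing R with
  | _ m ih =>
  intro hR
  by_cases hRS : R = S
  · exact ⟨0, fun _ => R, rfl, hRS, monotone_const, fun _ => hR, fun i => i.elim0⟩
  haveI := hR.subgroupOf_normal
  obtain ⟨E, hE⟩ := Cfsg.Agent.S5132.result p hS F R hR
  have hcore : E.core ≠ ⊥ := h R hR hRS E hE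
  have hZchar : (((Subgroup.center ↥E.core).map E.core.subtype).subgroupOf E.core).Characteristic := by
    rw [show ((Subgroup.center ↥E.core).map E.core.subtype).subgroupOf E.core = Subgroup.center ↥E.core from
      Subgroup.comap_map_eq_self_of_injective (Subgroup.subtype_injective _) _]
    infer_instance
  have hZn := (isNormal_core E).of_characteristic (Subgroup.map_subtype_le _) hZchar
  set Z := (Subgroup.center ↥E.core).map E.core.subtype with hZ
  set θ := QuotientGroup.mk' (R.subgroupOf S) with hθ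
  set R' := preimageAlong θ Z with hR'
  have hR'sc : F.StronglyClosed R' := stronglyClosed_preimageAlong hF hS hE hR hZn.stronglyClosed
  have hRR' : R ≤ R' := le_preimageAlong hE.2.1 hR.1
  have hlt : R < R' := by
    refine lt_of_le_of_ne hRR' fun e => ?_
    haveI : Nontrivial ↥E.core := (Subgroup.nontrivial_iff_ne_bot _).mpr hcore
    haveI : Nontrivial (Subgroup.center ↥E.core) :=
      ((hS.to_quotient (R.subgroupOf S)).to_subgroup E.core).center_nontrivial
    obtain ⟨z, hz⟩ := exists_ne (1 : Subgroup.center ↥E.core)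
    obtain ⟨s, hs⟩ := QuotientGroup.mk'_surjective (R.subgroupOf S) ((z : ↥E.core) : S ⧸ R.subgroupOf S)
    have h1 : (s : Ω) ∈ R' := mem_preimageAlong.mpr ⟨s.2, by
      show θ s ∈ Z
      rw [hθ, hs]
      exact ⟨z, z.2, rfl⟩⟩
    have h2 := (hE.2.1 s).mpr (e ▸ h1)
    rw [hs] at h2
    exact hz (Subtype.ext (Subtype.ext h2))
  haveI : Finite R' := Finite.of_injective _ (Subgroup.inclusion_injective hR'sc.1)
  have hc1 : Nat.card R < Nat.card R' := card_lt_of_lt hlt
  have hc2 : Nat.card R' ≤ Nat.card S := Nat.card_le_card_of_injective _ (Subgroup.inclusion_injective hR'sc.1)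
  obtain ⟨n, T, h0, hlast, hmono, hsc, hab⟩ := ih (Nat.card S - Nat.card R') (by omega) R' rfl hR'sc
  refine ⟨n + 1, Fin.cons R T, rfl, ?_, Fin.monotone_iff_le_succ.mpr ?_, ?_, ?_⟩
  · rw [← Fin.succ_last, Fin.cons_succ, hlast]
  · intro i
    induction i using Fin.cases with
    | zero => rw [Fin.castSucc_zero, Fin.cons_zero, Fin.cons_succ, h0]; exact hRR'
    | succ i =>
      rw [← Fin.succ_castSucc, Fin.cons_succ, Fin.cons_succ]
      exact hmono (Fin.castSucc_lt_succ).le
  · intro i
    induction i using Fin.cases with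
    | zero => exact hR
    | succ i => exact hsc i
  · intro i
    induction i using Fin.cases with
    | zero =>
      rw [Fin.castSucc_zero, Fin.cons_zero, Fin.cons_succ, h0, Subgroup.commutator_le]
      intro a ha b hb
      obtain ⟨haS, hθa⟩ := mem_preimageAlong.mp ha
      obtain ⟨hbS, hθb⟩ := mem_preimageAlong.mp hb
      refine (hE.2.1 ⁅(⟨a, haS⟩ : S), ⟨b, hbS⟩⁆).mp ?_
      rw [map_commutatorElement, commutatorElement_eq_one_iff_mul_comm]
      obtain ⟨za, hza, hza'⟩ := hθa
      obtain ⟨zb, -, hzb'⟩ := hθb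
      rw [← hza', ← hzb', ← map_mul, ← map_mul, Subgroup.mem_center_iff.mp hza zb]
    | succ i =>
      rw [← Fin.succ_castSucc, Fin.cons_succ, Fin.cons_succ]
      exact hab i

theorem isSolvableSystem_iff (hS : IsPGroup p S) (hF : F.IsSaturated p) :
    F.IsSolvableSystem ↔ ∃ (n : ℕ) (T : Fin (n + 1) → Subgroup Ω), T 0 = ⊥ ∧ T (Fin.last n) = S ∧
      Monotone T ∧ (∀ i, F.StronglyClosed (T i)) ∧ ∀ i : Fin n, ⁅T i.succ, T i.succ⁆ ≤ T (Fin.castSucc i) := by
  constructor
  · intro h
    exact exists_abelian_series hS hF h ⊥ isNormal_bot.stronglyClosed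
  · rintro ⟨n, T, h0, hlast, hmono, hsc, hab⟩ R hR hRS _ E hE
    obtain ⟨i, hi, hi'⟩ : ∃ i : Fin n, T i.castSucc ≤ R ∧ ¬ T i.succ ≤ R := by
      by_contra h
      push Not at h
      have key : ∀ i : Fin (n + 1), T i ≤ R := by
        intro i
        induction i using Fin.induction with
        | zero => rw [h0]; exact bot_le
        | succ i ih => exact h i ih
      exact hRS (le_antisymm hR.1 (hlast ▸ key (Fin.last n)))
    set θ := QuotientGroup.mk' (R.subgroupOf S) with hθ
    have hEs : E.IsSaturated p :=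
      Cfsg.Agent.S5133.result p hS F hF E θ (Cfsg.Agent.S5134.result p hS F hF R hR θ E hE)
    set A := imageAlong θ (T i.succ) with hA
    have hAsc := stronglyClosed_imageAlong hF hS hE hR (hsc i.succ)
    have hS' : IsPGroup p (⊤ : Subgroup (S ⧸ R.subgroupOf S)) := (hS.to_quotient _).to_subgroup ⊤
    have hAab : ⁅A, A⁆ ≤ ⊥ := by
      rw [Subgroup.commutator_le]
      rintro _ ⟨a, ha, rfl⟩ _ ⟨b, hb, rfl⟩
      rw [Subgroup.mem_bot, ← map_commutatorElement, hE.2.1]
      exact hi (hab i (Subgroup.commutator_mem_commutator ha hb))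
    have hAn : E.IsNormal A := hEs.isNormal_of_series hS' (n := 1) ![⊥, A] rfl rfl
      (Fin.monotone_iff_le_succ.mpr fun j => by
        rw [Fin.fin_one_eq_zero j]
        exact bot_le)
      (fun j => by
        rw [Fin.fin_one_eq_zero j]
        exact ⟨hAsc, hAab⟩)
    intro hcore
    refine hi' fun t ht => ?_
    have h1 : θ ⟨t, (hsc i.succ).1 ht⟩ ∈ E.core := hAn.le_core ⟨_, ht, rfl⟩
    rw [hcore, Subgroup.mem_bot] at h1
    exact (hE.2.1 _).mp h1

theorem IsSolvableSystem.isConstrained (hS : IsPGroup p S) (hF : F.IsSaturated p) (h : F.IsSolvableSystem) :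
    F.IsConstrained p := by
  obtain ⟨n, T, h0, hlast, hmono, hsc, hab⟩ := (isSolvableSystem_iff hS hF).mp h
  set Q := F.core with hQdef
  have hQn : F.IsNormal Q := isNormal_core F
  haveI : Finite Q := Finite.of_injective _ (Subgroup.inclusion_injective hQn.1)
  haveI : Group.IsNilpotent Q := (hS.of_injective _ (Subgroup.inclusion_injective hQn.1)).isNilpotent
  set C := centralizerIn S Q with hC
  set M := Q ⊔ C with hM
  have hMsc : F.StronglyClosed M := StronglyClosed.sup_centralizerIn hF hS hQn.stronglyClosed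
  have hCN : C ≤ Subgroup.normalizer (Q : Set Ω) := inf_le_left.trans hQn.stronglyClosed.le_normalizer
  let L : ℕ → Subgroup Ω := fun k => ((⊤ : Subgroup Q).lowerCentralSeries k).map Q.subtype
  have hL0 : L 0 = Q := by simp [L, ← MonoidHom.range_eq_map]
  have hLle : ∀ k, L k ≤ Q := fun k => Subgroup.map_subtype_le _
  have hLn : ∀ k, F.IsNormal (L k) := fun k => hQn.of_characteristic (hLle k) (by
    rw [show (L k).subgroupOf Q = (⊤ : Subgroup Q).lowerCentralSeries k from
      Subgroup.comap_map_eq_self_of_injective (Subgroup.subtype_injective _) _]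
    infer_instance)
  have hMcomm : ∀ k, ⁅M, L k⁆ ≤ L (k + 1) := fun k => by
    rw [Subgroup.commutator_le]
    rintro m hm _ ⟨l, hl, rfl⟩
    rw [← SetLike.mem_coe, hM, Subgroup.coe_mul_of_right_le_normalizer_left Q C hCN] at hm
    obtain ⟨q, hq, c, hc, rfl⟩ := hm
    have hcl : c * (l : Ω) = l * c := (Subgroup.mem_centralizer_iff.mp hc.2 l l.2).symm
    have e : ⁅q * c, (l : Ω)⁆ = ⁅q, (l : Ω)⁆ := by
      rw [commutatorElement_def, commutatorElement_def]
      calc q * c * (l : Ω) * (q * c)⁻¹ * (l : Ω)⁻¹ = q * (c * l) * c⁻¹ * q⁻¹ * (l : Ω)⁻¹ := by group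
        _ = q * (l * c) * c⁻¹ * q⁻¹ * (l : Ω)⁻¹ := by rw [hcl]
        _ = _ := by group
    show ⁅q * c, Q.subtype l⁆ ∈ _
    rw [Subgroup.coe_subtype, e, show ⁅q, (l : Ω)⁆ = ((⁅(⟨q, hq⟩ : Q), l⁆ : Q) : Ω) from rfl]
    have hmem : ⁅(⟨q, hq⟩ : Q), l⁆ ∈ (⊤ : Subgroup Q).lowerCentralSeries (k + 1) := by
      rw [Subgroup.lowerCentralSeries_succ, Subgroup.commutator_comm]
      exact Subgroup.commutator_mem_commutator (Subgroup.mem_top _) hl
    exact Subgroup.mem_map_of_mem Q.subtype hmem
  have key : ∀ i : Fin (n + 1), T i ⊓ M ≤ Q := by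
    intro i
    induction i using Fin.induction with
    | zero => rw [h0]; exact inf_le_left.trans bot_le
    | succ i ih =>
      set A := T i.succ ⊓ M with hA
      have hAsc : F.StronglyClosed A := (hsc i.succ).inf_left hMsc
      have hAQ : F.StronglyClosed (A ⊔ Q) := StronglyClosed.sup hF hS hAsc hQn.stronglyClosed
      obtain ⟨N, hN⟩ := Subgroup.nilpotent_iff_lowerCentralSeries.mp (inferInstance : Group.IsNilpotent Q)
      have hLN : L N = ⊥ := by
        show ((⊤ : Subgroup Q).lowerCentralSeries N).map Q.subtype = ⊥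
        rw [hN, Subgroup.map_bot]
      have hanti : ∀ a b, a ≤ b → L b ≤ L a := fun a b hab' =>
        Subgroup.map_mono ((Subgroup.lowerCentralSeries_antitone (S := (⊤ : Subgroup Q)) hab'))
      let Qs : Fin (N + 1 + 1) → Subgroup Ω := fun k => if (k : ℕ) ≤ N then L (N - k) else A ⊔ Q
      have hn : F.IsNormal (A ⊔ Q) := by
        refine hF.isNormal_of_series hS Qs (by simp [Qs, hLN]) (by simp [Qs]) ?_ ?_
        · intro a b hab'
          have hab'' : (a : ℕ) ≤ b := hab'
          simp only [Qs]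
          split_ifs with ha hb hb
          · exact hanti _ _ (by omega)
          · exact (hLle _).trans le_sup_right
          · omega
          · exact le_rfl
        · intro k
          have hk := k.2
          simp only [Qs, Fin.val_succ, Fin.val_castSucc, if_pos (show (k : ℕ) ≤ N by omega)]
          split_ifs with h1
          · refine ⟨(hLn _).stronglyClosed, ?_⟩
            refine (Subgroup.commutator_mono (sup_le inf_le_right le_sup_left) le_rfl).trans ?_
            exact (hMcomm _).trans (hanti _ _ (by omega))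
          · refine ⟨hAQ, ?_⟩
            rw [show N - (k : ℕ) = 0 by omega, hL0, Subgroup.commutator_le]
            have hAQN : A ⊔ Q ≤ Subgroup.normalizer (Q : Set Ω) :=
              hAQ.1.trans hQn.stronglyClosed.le_normalizer
            intro g hg g' hg'
            let π := QuotientGroup.mk' (Q.subgroupOf (Subgroup.normalizer (Q : Set Ω)))
            have hπ : ∀ (g : Ω) (hg : g ∈ A ⊔ Q), ∃ a, ∃ ha : a ∈ A,
                π ⟨g, hAQN hg⟩ = π ⟨a, hAQN (Subgroup.mem_sup_left ha)⟩ := by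
              intro g hg
              have hg' := hg
              rw [← SetLike.mem_coe, Subgroup.coe_mul_of_left_le_normalizer_right A Q
                (le_sup_left.trans hAQN)] at hg'
              obtain ⟨a, ha, q, hq, rfl⟩ := hg'
              refine ⟨a, ha, ?_⟩
              rw [show (⟨a * q, hAQN hg⟩ : ↥(Subgroup.normalizer (Q : Set Ω))) =
                ⟨a, hAQN (Subgroup.mem_sup_left ha)⟩ * ⟨q, Subgroup.le_normalizer hq⟩ from rfl, map_mul,
                show π (⟨q, Subgroup.le_normalizer hq⟩ : ↥(Subgroup.normalizer (Q : Set Ω))) = 1 from (QuotientGroup.eq_one_iff _).mpr hq, mul_one]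
            obtain ⟨a, ha, ea⟩ := hπ g hg
            obtain ⟨a', ha', ea'⟩ := hπ g' hg'
            refine (QuotientGroup.eq_one_iff (N := Q.subgroupOf (Subgroup.normalizer (Q : Set Ω)))
              (⁅(⟨g, hAQN hg⟩ : ↥(Subgroup.normalizer (Q : Set Ω))),
                (⟨g', hAQN hg'⟩ : ↥(Subgroup.normalizer (Q : Set Ω)))⁆)).mp ?_
            show π _ = 1
            rw [map_commutatorElement, ea, ea', ← map_commutatorElement]
            refine (QuotientGroup.eq_one_iff _).mpr (ih (Subgroup.mem_inf.mpr ⟨?_, ?_⟩))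
            · exact hab i (Subgroup.commutator_mem_commutator (Subgroup.mem_inf.mp ha).1 (Subgroup.mem_inf.mp ha').1)
            · have h1 := (Subgroup.mem_inf.mp ha).2
              have h2 := (Subgroup.mem_inf.mp ha').2
              exact mul_mem (mul_mem (mul_mem h1 h2) (InvMemClass.inv_mem h1)) (InvMemClass.inv_mem h2)
      exact le_sup_left.trans hn.le_core
  have hCQ : C ≤ Q := fun c hc => key (Fin.last n) (Subgroup.mem_inf.mpr
    ⟨hlast.symm ▸ hc.1, Subgroup.mem_sup_right hc⟩)
  refine ⟨hF, Q, hQn, hQn.1, fun Q' hQQ' => ?_⟩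
  obtain ⟨φ, hφ, rfl⟩ := hQQ'
  have he : φ.range = Q := by
    refine Subgroup.eq_of_le_of_card_ge ?_ (Nat.card_congr (MonoidHom.ofInjective (F.injective_of_mem hφ)).toEquiv).le
    rintro _ ⟨x, rfl⟩
    exact hQn.stronglyClosed.2 Q le_rfl φ hφ x
  rw [he]
  exact hCQ

end Cfsg.FusionSystem
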