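import Cfsg.Agent.Lib.Fusion.PPowerIndex
import Cfsg.Agent.Lib.Fusion.Hyperfocal
import Cfsg.Agent.Lib.Fusion.Normal
import Cfsg.Prelude.Def_FusionReduction

/-!
Residual limits: uniqueness, and invariance under passing to a subsystem of `p`-power index.
-/

set_option autoImplicit false
set_option linter.unusedSectionVars false

namespace Cfsg.FusionSystem

universe u
variable {Ω : Type u} [Group Ω] {S T U U' V : Subgroup Ω} {p : ℕ} [Fact p.Prime]

/-- A strongly closed subgroup containing the hyperfocal subgroup computes it in any subsystem of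
`p`-power index over it. -/
theorem hyperfocalSubgroup_eq_of_pPowerIndex [Finite S] (hS : IsPGroup p S) {F : FusionSystem S}
    {E : FusionSystem T} (hT : F.StronglyClosed T) (hidx : E.HasPPowerIndexIn F p) :
    E.hyperfocalSubgroup p = F.hyperfocalSubgroup p := by
  have hTS : T ≤ S := hT.1
  apply le_antisymm
  · rw [hyperfocalSubgroup_le_iff]
    intro P hP α hα hp x
    exact hyperfocal_gen_mem (hP.trans hTS) ((F.mem_autGroup_iff (hP.trans hTS)).mpr
      (hidx.1 P ((E.mem_autGroup_iff hP).mp hα))) hp x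
  rw [hyperfocalSubgroup_le_iff]
  intro P hP α hα hp x
  obtain ⟨φ, hφ, hr, he⟩ := F.exists_map_of_mem_autGroup hP hα
  set Q := P ⊓ T with hQ
  haveI : Finite P := finite_of_le hP
  haveI : Finite ↥Q := Finite.of_injective _ (Subgroup.inclusion_injective (inf_le_left : Q ≤ P))
  have hmap : ∀ a : Q, ((α (Subgroup.inclusion inf_le_left a) : P) : Ω) ∈ Q := fun a => ⟨(α _).2, by
    have h1 := hT.2 Q inf_le_right _ (F.restrict_mem hφ (inf_le_left : Q ≤ P)) a
    rw [← he]; exact h1⟩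
  let f : Q →* Q := ((P.subtype.comp α.toMonoidHom).comp (Subgroup.inclusion inf_le_left)).codRestrict Q hmap
  have hinj : Function.Injective f := fun a b h => by
    have h0 := congrArg (fun z : Q => (z : Ω)) h
    have h1 : α (Subgroup.inclusion inf_le_left a) = α (Subgroup.inclusion inf_le_left b) := Subtype.ext h0
    exact Subgroup.inclusion_injective _ (α.injective h1)
  let β : MulAut Q := MulEquiv.ofBijective f (Finite.injective_iff_bijective.mp hinj)
  have hβpow : ∀ (k : ℕ) (a : Q), (((β ^ k) a : Q) : Ω) = (((α ^ k) (Subgroup.inclusion inf_le_left a) : P) : Ω) := by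
    intro k
    induction k with
    | zero => intro a; rfl
    | succ k ih =>
      intro a
      rw [pow_succ', pow_succ', MulAut.mul_apply, MulAut.mul_apply]
      show ((α (Subgroup.inclusion inf_le_left ((β ^ k) a)) : P) : Ω) = _
      rw [show Subgroup.inclusion inf_le_left ((β ^ k) a) = (α ^ k) (Subgroup.inclusion inf_le_left a) from
        Subtype.ext (ih a)]
  have hβp : (orderOf β).Coprime p := by
    refine hp.coprime_dvd_left (orderOf_dvd_of_pow_eq_one (MulEquiv.ext fun a => Subtype.ext ?_))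
    rw [hβpow, pow_orderOf_eq_one]
    rfl
  have hβF : β ∈ F.autGroup Q :=
    F.mem_autGroup_of_map (F.restrict_mem hφ (inf_le_left : Q ≤ P)) fun a => (he _).symm
  have hβE : β ∈ E.autGroup Q := hidx.2.2 Q inf_le_right
    ⟨⟨β, hβF⟩, CfsgLib.Transfer.mem_pResidual_of_coprime (by rwa [← Subgroup.orderOf_coe]), rfl⟩
  have hgen : ∀ a : Q, (a : Ω)⁻¹ * (β a : Q) ∈ E.hyperfocalSubgroup p :=
    hyperfocal_gen_mem inf_le_right hβE hβp
  set K : Subgroup Q := Subgroup.closure (Set.range fun a : Q => a⁻¹ * β a) with hK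
  have hKle : K.map Q.subtype ≤ E.hyperfocalSubgroup p := by
    rw [hK, MonoidHom.map_closure, Subgroup.closure_le]
    rintro _ ⟨_, ⟨a, rfl⟩, rfl⟩
    exact hgen a
  haveI hKn : K.Normal := by
    refine ⟨fun k hk b => ?_⟩
    induction hk using Subgroup.closure_induction with
    | mem k hk =>
      obtain ⟨a, rfl⟩ := hk
      have : b * (a⁻¹ * β a) * b⁻¹ = ((a * b⁻¹)⁻¹ * β (a * b⁻¹)) * ((b⁻¹)⁻¹ * β b⁻¹)⁻¹ := by
        simp only [map_mul, mul_inv_rev, inv_inv]; group
      rw [this]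
      exact mul_mem (Subgroup.subset_closure ⟨_, rfl⟩) (InvMemClass.inv_mem (Subgroup.subset_closure ⟨_, rfl⟩))
    | one => simp
    | mul u v _ _ hu hv => rw [← conj_mul]; exact mul_mem hu hv
    | inv u _ hu =>
      rw [show b * u⁻¹ * b⁻¹ = (b * u * b⁻¹)⁻¹ by group]
      exact InvMemClass.inv_mem hu
  -- the displacement of `x` lies in `Q`
  have hyQ : (x : Ω)⁻¹ * (α x : P) ∈ Q :=
    ⟨P.mul_mem (P.inv_mem x.2) (α x).2, hidx.2.1 (hyperfocal_gen_mem hP hα hp x)⟩
  set y : Q := ⟨_, hyQ⟩ with hy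
  have hβk : ∀ (k : ℕ) (a : Q), a⁻¹ * (β ^ k) a ∈ K := by
    intro k
    induction k with
    | zero => intro a; simp
    | succ k ih =>
      intro a
      rw [pow_succ', MulAut.mul_apply,
        show a⁻¹ * β ((β ^ k) a) = (a⁻¹ * (β ^ k) a) * (((β ^ k) a)⁻¹ * β ((β ^ k) a)) by group]
      exact mul_mem (ih a) (Subgroup.subset_closure ⟨_, rfl⟩)
  have hprod : ∀ k : ℕ, ∃ z : Q, (y ^ k)⁻¹ * z ∈ K ∧ (z : Ω) = (x : Ω)⁻¹ * ((α ^ k) x : P) := by
    intro k
    induction k with
    | zero => exact ⟨1, by simp, by simp⟩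
    | succ k ih =>
      obtain ⟨z, hz, hze⟩ := ih
      refine ⟨z * (β ^ k) y, ?_, ?_⟩
      · have h1 : (y ^ (k + 1))⁻¹ * (z * (β ^ k) y) =
            (y⁻¹ * ((y ^ k)⁻¹ * z) * y⁻¹⁻¹) * (y⁻¹ * (β ^ k) y) := by
          rw [pow_succ]; group
        rw [h1]
        exact mul_mem (hKn.conj_mem _ hz _) (hβk k y)
      · rw [Subgroup.coe_mul, hze, hβpow, show Subgroup.inclusion inf_le_left y = x⁻¹ * α x from Subtype.ext rfl,
          map_mul, map_inv, pow_succ (α) k, MulAut.mul_apply]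
        simp only [Subgroup.coe_mul, Subgroup.coe_inv]
        group
  obtain ⟨z, hz, hze⟩ := hprod (orderOf α)
  have hz1 : z = 1 := Subtype.ext (by rw [hze, pow_orderOf_eq_one]; simp)
  rw [hz1, mul_one, Subgroup.inv_mem_iff] at hz
  have hyK : y ∈ K := by
    obtain ⟨n, hn⟩ := IsPGroup.iff_orderOf.mp (hS.to_le ((inf_le_left : Q ≤ P).trans hP)) y
    have hcop : (orderOf α).Coprime (orderOf y) := by rw [hn]; exact hp.pow_right n
    obtain ⟨j, hj⟩ := exists_pow_eq_self_of_coprime hcop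
    rw [← hj]
    exact pow_mem hz j
  exact hKle ⟨y, hyK, rfl⟩

theorem pResidual_unique [Finite S] (hS : IsPGroup p S) {F : FusionSystem S} {D : FusionSystem U}
    {D' : FusionSystem U'} (hU : U = U') (hUS : U ≤ S) (hD : D.IsSaturated p) (hD' : D'.IsSaturated p)
    (h : D.HasPPowerIndexIn F p) (h' : D'.HasPPowerIndexIn F p) : ∀ P, D.Hom P = D'.Hom P := by
  subst hU
  haveI : Finite U := finite_of_le hUS
  exact fun P => Set.Subset.antisymm (hD.le_pPowerIndex ‹_› hS h.1 hUS le_rfl D' h' P)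
    (hD'.le_pPowerIndex ‹_› hS h'.1 hUS le_rfl D h P)

theorem pPrimeResidual_unique {D : FusionSystem U} {D₁ : FusionSystem U'} (hU : U = U')
    (hD : ∀ P, D.Hom P = D₁.Hom P) {D' : FusionSystem U} {D₁' : FusionSystem U'}
    (h : D.IsPPrimeResidual p D') (h₁ : D₁.IsPPrimeResidual p D₁') : ∀ P, D'.Hom P = D₁'.Hom P := by
  subst hU
  obtain rfl : D = D₁ := hom_ext hD
  exact fun P => Set.Subset.antisymm (h.2.2 D₁' h₁.1 h₁.2.1 P) (h₁.2.2 D' h.1 h.2.1 P)

theorem hasPPowerIndexIn_self [Finite S] (F : FusionSystem S) : F.HasPPowerIndexIn F p :=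
  ⟨fun _ _ h => h, hyperfocalSubgroup_le, fun _ _ => Subgroup.map_subtype_le _⟩

theorem stable_transport {W W' : Subgroup Ω} {F : FusionSystem W} {G' : FusionSystem W'} (hW : W' = W)
    (hG : ∀ P, G'.Hom P = F.Hom P) (hh : F.hyperfocalSubgroup p = W) (hres : F.IsPPrimeResidual p F) :
    G'.hyperfocalSubgroup p = W' ∧ G'.IsPPrimeResidual p G' := by
  subst hW
  obtain rfl : G' = F := hom_ext hG
  exact ⟨hh, hres⟩

theorem limit_of_stable {S' : Subgroup Ω} {G : FusionSystem S'} {E : FusionSystem V} {q : ℕ}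
    (hE : E.IsResidualLimitOf G q) :
    Fact q.Prime → Finite S' → IsPGroup q S' → G.IsSaturated q → G.hyperfocalSubgroup q = S' →
      G.IsPPrimeResidual q G → ∀ P, E.Hom P = G.Hom P := by
  induction hE with
  | stable F q hh hp => exact fun _ _ _ _ _ _ P => rfl
  | step F q D D' hD hD' hlim ih =>
    intro hq hfin hS hF hh hres P
    have hDF : ∀ P, D.Hom P = F.Hom P :=
      pResidual_unique hS hh hyperfocalSubgroup_le hD.1 hF hD.2 (hasPPowerIndexIn_self F)
    have hD'F : ∀ P, D'.Hom P = F.Hom P := pPrimeResidual_unique hh hDF hD' hres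
    haveI : Finite ↥(F.hyperfocalSubgroup q) := finite_of_le hyperfocalSubgroup_le
    obtain ⟨h1, h2⟩ := stable_transport (p := q) hh hD'F hh hres
    rw [ih hq ‹_› (hS.to_le hyperfocalSubgroup_le) hD'.1 h1 h2 P]
    exact hD'F P

theorem residualLimit_unique {E₁ : FusionSystem V} {G₁ : FusionSystem S} {q : ℕ}
    (h₁ : E₁.IsResidualLimitOf G₁ q) :
    ∀ {W S₂ : Subgroup Ω} (E₂ : FusionSystem W) (G₂ : FusionSystem S₂), E₂.IsResidualLimitOf G₂ q →
      S₂ = S → (∀ P, G₂.Hom P = G₁.Hom P) → Fact q.Prime → Finite S → IsPGroup q S → G₁.IsSaturated q →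
      ∀ P, E₁.Hom P = E₂.Hom P := by
  induction h₁ with
  | stable F q hh hp =>
    intro W S₂ E₂ G₂ h₂ hS2 hG hq hfin hS hF P
    subst hS2
    obtain rfl : G₂ = F := hom_ext hG
    exact (limit_of_stable h₂ hq hfin hS hF hh hp P).symm
  | step F q D D' hD hD' hlim ih =>
    intro W S₂ E₂ G₂ h₂ hS2 hG hq hfin hS hF P
    subst hS2
    obtain rfl : G₂ = F := hom_ext hG
    cases h₂ with
    | stable _ _ hh hp => exact limit_of_stable (.step _ _ D D' hD hD' hlim) hq hfin hS hF hh hp P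
    | step _ _ D₂ D₂' hD₂ hD₂' hlim₂ =>
      haveI : Finite ↥(G₂.hyperfocalSubgroup q) := finite_of_le hyperfocalSubgroup_le
      refine ih E₂ D₂' hlim₂ rfl ?_ hq ‹_› (hS.to_le hyperfocalSubgroup_le) hD'.1 P
      exact pPrimeResidual_unique rfl
        (pResidual_unique hS rfl hyperfocalSubgroup_le hD₂.1 hD.1 hD₂.2 hD.2) hD₂' hD'

theorem residualLimit_eq_of_pPowerIndex [Finite S] (hS : IsPGroup p S) {F : FusionSystem S}
    (hF : F.IsSaturated p) {E : FusionSystem T} (hE : E.IsSaturated p) (hT : F.StronglyClosed T)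
    (hidx : E.HasPPowerIndexIn F p) {Finf : FusionSystem U} (hFinf : Finf.IsResidualLimitOf F p)
    {Einf : FusionSystem V} (hEinf : Einf.IsResidualLimitOf E p) : ∀ P, Finf.Hom P = Einf.Hom P := by
  haveI : Finite T := finite_of_le hT.1
  have hhyp := hyperfocalSubgroup_eq_of_pPowerIndex hS hT hidx
  cases hFinf with
  | stable _ _ hh hp =>
    have hTS : T = S := le_antisymm hT.1 (hh.ge.trans hidx.2.1)
    have hEF : ∀ P, E.Hom P = F.Hom P :=
      pResidual_unique hS hTS hT.1 hE hF hidx (hasPPowerIndexIn_self F)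
    intro P
    exact residualLimit_unique (.stable F p hh hp) Einf E hEinf hTS hEF ‹_› ‹_› hS hF P
  | step _ _ D D' hD hD' hlim =>
    haveI : Finite ↥(F.hyperfocalSubgroup p) := finite_of_le hyperfocalSubgroup_le
    have hD'p : IsPGroup p ↥(F.hyperfocalSubgroup p) := hS.to_le hyperfocalSubgroup_le
    have hDE : D.IsSubsystemOf E := hD.1.le_pPowerIndex ‹_› hS hD.2.1 hyperfocalSubgroup_le hidx.2.1 E hidx
    intro P
    cases hEinf with
    | stable _ _ hh hp =>
      have hTU : T = F.hyperfocalSubgroup p := hh.symm.trans hhyp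
      have hDE' : ∀ P, E.Hom P = D.Hom P := pResidual_unique hS hTU hT.1 hE hD.1 hidx hD.2
      have hD'E : ∀ P, D'.Hom P = E.Hom P :=
        pPrimeResidual_unique hTU.symm (fun P => (hDE' P).symm) hD' hp
      exact residualLimit_unique hlim _ _ (.stable E p hh hp) hTU (fun P => (hD'E P).symm) ‹_› ‹_› hD'p hD'.1 P
    | step _ _ D₂ D₂' hD₂ hD₂' hlim₂ =>
      have hsub : D₂.IsSubsystemOf F := fun P φ hφ => hidx.1 P (hD₂.2.1 P hφ)
      have hU2 : E.hyperfocalSubgroup p ≤ T := hyperfocalSubgroup_le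
      haveI : Finite ↥(E.hyperfocalSubgroup p) := finite_of_le hU2
      have hD2D : D₂.IsSubsystemOf D := hD₂.1.le_pPowerIndex ‹_› hS hsub (hU2.trans hT.1) hhyp.le D hD.2
      have hDD2 : D.IsSubsystemOf D₂ :=
        hD.1.le_pPowerIndex ‹_› (hS.to_le hT.1) hDE (hhyp.ge.trans hU2) hhyp.ge D₂ hD₂.2
      have hD2' : ∀ P, D₂'.Hom P = D'.Hom P :=
        pPrimeResidual_unique hhyp (fun P => Set.Subset.antisymm (hD2D P) (hDD2 P)) hD₂' hD'
      exact residualLimit_unique hlim Einf D₂' hlim₂ hhyp hD2' ‹_› ‹_› hD'p hD'.1 P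

end Cfsg.FusionSystem
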