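import Cfsg.Agent.Lib.Fusion.Center
import Cfsg.Agent.Lib.Fusion.Factor
import Cfsg.Agent.Lib.Fusion.Saturation
import Mathlib.GroupTheory.PGroup
import Mathlib.GroupTheory.Sylow

/-!
A perfect saturated fusion system has trivial centre modulo its centre.
-/

set_option autoImplicit false
set_option linter.unusedSectionVars false

namespace Cfsg.FusionSystem

open scoped commutatorElement

variable {Ω : Type*} [Group Ω] {S : Subgroup Ω} [Finite S] {F : FusionSystem S}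

theorem center_fixed {x : Ω} (hx : x ∈ F.center) {P : Subgroup Ω} {φ : P →* Ω} (hφ : φ ∈ F.Hom P) (hxP : x ∈ P) :
    φ ⟨x, hxP⟩ = x :=
  apply_eq_self_of_isConjElt hφ hxP fun _ hy => IsCentral.isConjElt_eq (isCentral_center F) hx hy

theorem center_stronglyClosed : F.StronglyClosed F.center :=
  ⟨(isCentral_center F).1, fun R hR φ hφ x => by
    rw [show φ x = (x : Ω) from center_fixed (hR x.2) hφ x.2]; exact hR x.2⟩

variable {Ω' : Type*} [Group Ω'] {S' : Subgroup Ω'} [Finite S'] {θ : S →* Ω'} {E : FusionSystem S'}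

/-- Maps extend to elements that are central modulo the centre. -/
theorem exists_lift_center (hE : F.IsFactorSystem F.center θ E) {x : S} (hx : θ x ∈ E.center)
    {P : Subgroup Ω} {φ : P →* Ω} (hφ : φ ∈ F.Hom P) (a : P) :
    ∃ (R : Subgroup Ω) (ψ : R →* Ω) (_ : ψ ∈ F.Hom R) (hxR : (x : Ω) ∈ R) (haR : (a : Ω) ∈ R),
      (x : Ω)⁻¹ * ψ ⟨x, hxR⟩ ∈ F.center ∧ (φ a)⁻¹ * ψ ⟨a, haR⟩ ∈ F.center := by
  obtain ⟨hZS, hker, hrange, hhom⟩ := hE
  obtain ⟨ψ, hψ, hψe, -⟩ := (isCentral_center F).2 P φ hφ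
  have hle : preimageAlong θ (imageAlong θ (P ⊔ F.center)) ≤ P ⊔ F.center := by
    intro s hs
    obtain ⟨hsS, t, ht, hts⟩ := mem_preimageAlong.mp hs
    have h1 : θ (t⁻¹ * ⟨s, hsS⟩) = 1 := by rw [map_mul, map_inv, hts, inv_mul_cancel]
    have h2 := Subgroup.mul_mem _ (ht : (t : Ω) ∈ P ⊔ F.center)
      (Subgroup.mem_sup_right ((hker _).mp h1))
    simpa [Subgroup.mem_subgroupOf] using h2
  obtain ⟨φ'', hPS, hψS, hmem, hind⟩ := exists_inducedAlong hker center_stronglyClosed hψ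
  have hφ'' : φ'' ∈ E.Hom (imageAlong θ (P ⊔ F.center)) := (hhom _ φ'').mpr
    ⟨by rintro _ ⟨t, -, rfl⟩; exact hrange ▸ ⟨t, rfl⟩, _, F.restrict_mem hψ hle,
      preimageAlong_le, fun y => hψS _, fun y => hmem ⟨y, hle y.2⟩, fun y => hind ⟨y, hle y.2⟩⟩
  obtain ⟨ψ', hψ', hψ'e, hψ'Z⟩ := (isCentral_center E).2 _ φ'' hφ''
  obtain ⟨-, φ₂, hφ₂, hRS, hφ₂S, hmem₂, hind₂⟩ := (hhom _ ψ').mp hψ'
  have hxR : (x : Ω) ∈ preimageAlong θ (imageAlong θ (P ⊔ F.center) ⊔ E.center) :=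
    mem_preimageAlong.mpr ⟨x.2, Subgroup.mem_sup_right hx⟩
  have haS : (a : Ω) ∈ S := F.source_le hφ a.2
  have haI : θ ⟨a, haS⟩ ∈ imageAlong θ (P ⊔ F.center) :=
    ⟨⟨a, haS⟩, (Subgroup.mem_sup_left a.2 : (a : Ω) ∈ P ⊔ F.center), rfl⟩
  have haR : (a : Ω) ∈ preimageAlong θ (imageAlong θ (P ⊔ F.center) ⊔ E.center) :=
    mem_preimageAlong.mpr ⟨haS, Subgroup.mem_sup_left haI⟩
  refine ⟨_, φ₂, hφ₂, hxR, haR, ?_, ?_⟩
  · have h1 := hind₂ ⟨x, hxR⟩
    have h2 : θ x = θ ⟨φ₂ ⟨x, hxR⟩, hφ₂S _⟩ := (hψ'Z ⟨θ x, hx⟩).symm.trans h1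
    exact (hker (x⁻¹ * ⟨φ₂ ⟨x, hxR⟩, hφ₂S _⟩)).mp (by rw [map_mul, map_inv, ← h2, inv_mul_cancel])
  · have h1 := hind₂ ⟨a, haR⟩
    have h3 := hind ⟨a, Subgroup.mem_sup_left a.2⟩
    have h2 : θ ⟨ψ ⟨a, Subgroup.mem_sup_left a.2⟩, hψS _⟩ = θ ⟨φ₂ ⟨a, haR⟩, hφ₂S _⟩ :=
      (h3.symm.trans (hψ'e ⟨θ ⟨a, haS⟩, haI⟩).symm).trans h1
    have h4 := (hker (⟨ψ ⟨a, Subgroup.mem_sup_left a.2⟩, hψS _⟩⁻¹ * ⟨φ₂ ⟨a, haR⟩, hφ₂S _⟩)).mp
      (by rw [map_mul, map_inv, ← h2, inv_mul_cancel])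
    rw [← hψe a]
    exact h4

theorem center_factor_eq_bot {p : ℕ} [Fact p.Prime] (hS : IsPGroup p S) (hF : F.IsSaturated p)
    (hperf : F.hyperfocalSubgroup p = S) (hE : F.IsFactorSystem F.center θ E) : E.center = ⊥ := by
  classical
  rw [eq_bot_iff]
  intro w hw
  obtain ⟨hZS, hker, hrange, hhom⟩ := id hE
  obtain ⟨x, rfl⟩ : w ∈ θ.range := hrange ▸ (isCentral_center E).1 hw
  suffices key : ∀ u : S, θ u ∈ E.center → ∀ y : Ω, F.IsConjElt u y → y = u by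
    have hcen : F.IsCentral (Subgroup.zpowers (x : Ω)) := by
      refine isCentral_of_isConjElt_eq hF (Subgroup.zpowers_le.mpr x.2) ?_
      rintro _ ⟨k, rfl⟩ y hy
      exact key (x ^ k) (by rw [map_zpow]; exact zpow_mem hw k) y (by simpa using hy)
    exact Subgroup.mem_bot.mpr ((hker x).mpr (hcen.le_center (Subgroup.mem_zpowers _)))
  clear hw x
  intro x hw
  set Z := F.center with hZ
  have hZc : ∀ z ∈ Z, ∀ s ∈ S, s * z = z * s := fun z hz s hs => by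
    have h := center_fixed hz (F.conj_mem ((isCentral_center F).1 : Z ≤ S) hs) hz
    exact mul_inv_eq_iff_eq_mul.mp h
  -- `[x, s] ∈ Z`
  have hxs : ∀ s ∈ S, ⁅(x : Ω), s⁆ ∈ Z := by
    intro s hs
    obtain ⟨R, ψ, hψ, hxR, haR, h1, h2⟩ := exists_lift_center hE hw
      (F.conj_mem (P := S) le_rfl x.2) ⟨s, hs⟩
    have h3 : θ ⟨s, hs⟩ ∈ S' := hrange ▸ ⟨_, rfl⟩
    have hfix : ∀ y : ↥S', Commute (θ x) y := fun y => by
      have h := center_fixed hw (E.conj_mem (P := S') le_rfl y.2) ((isCentral_center E).1 hw)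
      exact ((mul_inv_eq_iff_eq_mul.mp h).symm : θ x * y = y * θ x)
    refine (hker ⟨_, mul_mem (mul_mem (mul_mem x.2 hs) (InvMemClass.inv_mem x.2)) (InvMemClass.inv_mem hs)⟩).mp ?_
    have h4 : (⟨_, mul_mem (mul_mem (mul_mem x.2 hs) (InvMemClass.inv_mem x.2)) (InvMemClass.inv_mem hs)⟩ : S) =
        x * ⟨s, hs⟩ * x⁻¹ * ⟨s, hs⟩⁻¹ := Subtype.ext (by simp [commutatorElement_def])
    rw [h4, map_mul, map_mul, map_mul, map_inv, map_inv,
      (hfix ⟨_, h3⟩).eq, mul_inv_cancel_right, mul_inv_cancel]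
  -- `[x, φ a] = [x, a]`
  have hinv : ∀ {P : Subgroup Ω} {φ : P →* Ω}, φ ∈ F.Hom P → ∀ a : P, ⁅(x : Ω), φ a⁆ = ⁅(x : Ω), (a : Ω)⁆ := by
    intro P φ hφ a
    obtain ⟨R, ψ, hψ, hxR, haR, h1, h2⟩ := exists_lift_center hE hw hφ a
    have hin : ∀ z ∈ Z, ∀ u ∈ S, ∀ v ∈ S, ⁅u * z, v⁆ = ⁅u, v⁆ ∧ ⁅u, v * z⁆ = ⁅u, v⁆ := by
      intro z hz u hu v hv
      constructor
      · rw [commutatorElement_def, commutatorElement_def]
        calc u * z * v * (u * z)⁻¹ * v⁻¹ = u * (z * v) * z⁻¹ * u⁻¹ * v⁻¹ := by group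
          _ = u * (v * z) * z⁻¹ * u⁻¹ * v⁻¹ := by rw [hZc z hz v hv]
          _ = u * v * u⁻¹ * v⁻¹ := by group
      · rw [commutatorElement_def, commutatorElement_def]
        calc u * (v * z) * u⁻¹ * (v * z)⁻¹ = u * v * (z * u⁻¹) * z⁻¹ * v⁻¹ := by group
          _ = u * v * (u⁻¹ * z) * z⁻¹ * v⁻¹ := by rw [hZc z hz u⁻¹ (InvMemClass.inv_mem hu)]
          _ = u * v * u⁻¹ * v⁻¹ := by group
    have haS := F.source_le hφ a.2
    have key : ψ ⟨_, mul_mem (mul_mem (mul_mem hxR haR) (InvMemClass.inv_mem hxR)) (InvMemClass.inv_mem haR)⟩ = ⁅(x : Ω), (a : Ω)⁆ :=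
      center_fixed (hxs a haS) hψ _
    have h5 : ψ ⟨_, mul_mem (mul_mem (mul_mem hxR haR) (InvMemClass.inv_mem hxR)) (InvMemClass.inv_mem haR)⟩ =
        ⁅ψ ⟨x, hxR⟩, ψ ⟨a, haR⟩⁆ := by
      rw [← map_commutatorElement]; rfl
    rw [← key, h5, show ψ ⟨x, hxR⟩ = x * ((x : Ω)⁻¹ * ψ ⟨x, hxR⟩) by group,
      show ψ ⟨a, haR⟩ = φ a * ((φ a)⁻¹ * ψ ⟨a, haR⟩) by group,
      (hin _ h1 _ x.2 _ (mul_mem (F.apply_mem hφ a) ((isCentral_center F).1 h2))).1,
      (hin _ h2 _ x.2 _ (F.apply_mem hφ a)).2]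
  -- `x` is central in `S`
  have hxS : ∀ s ∈ S, s * (x : Ω) = x * s := by
    intro s hs
    have hle : F.hyperfocalSubgroup p ≤ Subgroup.centralizer ({(x : Ω)} : Set Ω) := by
      rw [hyperfocalSubgroup, Subgroup.closure_le]
      rintro y ⟨P, α, a, hPS, -, rfl⟩
      obtain ⟨φ, hφ, -, hφe⟩ := F.exists_map_of_mem_autGroup hPS α.2
      rw [← hφe]
      have hc := hinv hφ a
      have hcz := hxs a (hPS a.2)
      rw [SetLike.mem_coe, Subgroup.mem_centralizer_singleton_iff]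
      have e : ⁅(x : Ω), φ a⁆ = ⁅(x : Ω), (a : Ω)⁆ * ((a : Ω) * ⁅(x : Ω), (a : Ω)⁻¹ * φ a⁆ * (a : Ω)⁻¹) := by
        rw [commutatorElement_def, commutatorElement_def, commutatorElement_def]; group
      rw [hc, left_eq_mul, mul_inv_eq_one, mul_eq_left, commutatorElement_eq_one_iff_mul_comm] at e
      exact e.symm
    exact Subgroup.mem_centralizer_singleton_iff.mp (hle (hperf.symm ▸ hs))
  -- `Aut_F(S)` fixes `x`
  have hAutS : ∀ α ∈ F.autGroup S, ((α x : S) : Ω) = x := by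
    obtain ⟨Q, hSQ, hQa, -⟩ := hF S le_rfl
    have hQS : Q = S := by
      have h := hSQ.card_eq
      haveI : Finite Q := Finite.of_injective _ (Subgroup.inclusion_injective hQa.1)
      exact Subgroup.eq_of_le_of_card_ge hQa.1 h.le
    rw [hQS] at hQa
    obtain ⟨-, R, hR⟩ := hQa
    have hz : ∀ α : F.autGroup S, (x : Ω)⁻¹ * (((α : MulAut S) x : S) : Ω) ∈ Z := fun α => by
      obtain ⟨φ, hφ, -, hφe⟩ := F.exists_map_of_mem_autGroup le_rfl α.2
      obtain ⟨R', ψ, hψ, hxR, haR, h1, h2⟩ := exists_lift_center hE hw hφ x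
      have h3 := mul_mem h1 (InvMemClass.inv_mem h2)
      rw [← hφe]
      simpa [mul_assoc] using h3
    let f : F.autGroup S →* Z := MonoidHom.mk' (fun α => ⟨_, hz α⟩) fun α β => Subtype.ext (by
      obtain ⟨φ, hφ, -, hφe⟩ := F.exists_map_of_mem_autGroup le_rfl α.2
      show (x : Ω)⁻¹ * (((α : MulAut S) ((β : MulAut S) x) : S) : Ω) = _
      have hfix := center_fixed (hz β) hφ (mul_mem (InvMemClass.inv_mem x.2) ((β : MulAut S) x).2)
      have h1 : φ ((β : MulAut S) x) = φ x * ((x : Ω)⁻¹ * (((β : MulAut S) x : S) : Ω)) := by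
        conv_rhs => rw [← hfix, ← map_mul]
        congr 1
        exact Subtype.ext (by simp)
      rw [← hφe, h1, hφe, ← mul_assoc]
      rfl)
    have hker' : (R : Subgroup (F.autGroup S)) ≤ f.ker := by
      intro α hα
      rw [hR] at hα
      obtain ⟨g, hg, -, hge⟩ := mem_autInducedBy_iff.mp hα
      refine Subtype.ext ?_
      have hge' : (((α : MulAut S) x : S) : Ω) = g * x * g⁻¹ := hge x
      show (x : Ω)⁻¹ * (((α : MulAut S) x : S) : Ω) = 1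
      rw [hge', hxS g hg, mul_inv_cancel_right, inv_mul_cancel]
    have hZp : IsPGroup p Z := hS.of_injective _ (Subgroup.inclusion_injective (isCentral_center F).1)
    haveI : Finite Z := Finite.of_injective _ (Subgroup.inclusion_injective (isCentral_center F).1)
    obtain ⟨n, hn⟩ := IsPGroup.iff_card.mp (hZp.to_subgroup f.range)
    have hdvd : f.ker.index ∣ (R : Subgroup (F.autGroup S)).index := Subgroup.index_dvd_of_le hker'
    rw [Subgroup.index_ker, hn] at hdvd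
    have hn0 : n = 0 := by
      by_contra h
      exact R.not_dvd_index ((dvd_pow_self p h).trans hdvd)
    rw [hn0, pow_zero, Subgroup.card_eq_one] at hn
    intro α hα
    have h1 : f ⟨α, hα⟩ = 1 := Subgroup.mem_bot.mp (hn ▸ ⟨_, rfl⟩)
    exact (inv_mul_eq_one.mp (congrArg Subtype.val h1)).symm
  -- `x` is fixed
  rintro y ⟨φ, hφ, rfl⟩
  obtain ⟨R', ψ, hψ, hxR, haR, h1, h2⟩ := exists_lift_center hE hw hφ ⟨x, Subgroup.mem_zpowers _⟩
  have hy : (x : Ω)⁻¹ * φ ⟨x, Subgroup.mem_zpowers _⟩ ∈ Z := by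
    have h3 := mul_mem h1 (InvMemClass.inv_mem h2)
    simpa [mul_assoc] using h3
  set y := φ ⟨x, Subgroup.mem_zpowers _⟩ with hydef
  have hyc : ∀ s ∈ S, s * y = y * s := fun s hs => by
    rw [show y = x * ((x : Ω)⁻¹ * y) by group]
    exact (Commute.mul_right (hxS s hs : Commute s (x : Ω)) (hZc _ hy s hs)).eq
  have hXS : (Subgroup.zpowers (x : Ω)) ≤ S := Subgroup.zpowers_le.mpr x.2
  have hfc : F.IsFullyCentralized (Subgroup.zpowers (x : Ω)) := by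
    refine ⟨hXS, fun Q hQ => ?_⟩
    haveI : Finite (centralizerIn S (Subgroup.zpowers (x : Ω))) :=
      Finite.of_injective _ (Subgroup.inclusion_injective (inf_le_left : _ ≤ S))
    refine Subgroup.card_le_of_le (K := centralizerIn S (Subgroup.zpowers (x : Ω))) fun s hs => Subgroup.mem_inf.mpr ⟨hs.1, ?_⟩
    rintro _ ⟨k, rfl⟩
    exact ((Commute.zpow_right (hxS s hs.1 : Commute s (x : Ω)) k).symm).eq
  have hrec := hF.isReceptive_of_isFullyCentralized hS hfc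
  obtain ⟨φi, hφi, hφir, hφil, -⟩ := F.exists_inv hφ rfl
  obtain ⟨χ, hχ, hχe⟩ := hrec.2 _ φi hφi hφir
  have hle : S ≤ extender S φ.range φi := fun s hs => Subgroup.subset_closure
    ⟨hs, Subgroup.mem_normalizer_iff.mpr (fun z => by
      have hall : ∀ z ∈ φ.range, s * z = z * s := by
        rintro _ ⟨⟨w, k, rfl⟩, rfl⟩
        rw [show (⟨(x : Ω) ^ k, ⟨k, rfl⟩⟩ : (Subgroup.zpowers (x : Ω))) = (⟨(x : Ω), Subgroup.mem_zpowers _⟩ : (Subgroup.zpowers (x : Ω))) ^ k from rfl, map_zpow]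
        exact (Commute.zpow_right (hyc s hs : Commute s y) k).eq
      constructor
      · intro hz; rwa [hall z hz, mul_inv_cancel_right]
      · intro hz
        have h := hall _ hz
        have h' : s * z * s⁻¹ = z := by
          have := congrArg (fun w => s⁻¹ * w) h
          simpa [mul_assoc] using this
        rwa [h'] at hz), 1, one_mem _, fun z hz => by
      rw [one_mul, inv_one, mul_one]
      congr 1
      obtain ⟨_, ⟨k, rfl⟩, hzk⟩ : ∃ w, ∃ hw : w ∈ (Subgroup.zpowers (x : Ω)), φ ⟨w, hw⟩ = (z : Ω) := by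
        obtain ⟨⟨w, hw⟩, h⟩ := z.2
        exact ⟨w, hw, h⟩
      refine Subtype.ext ?_
      show s * (z : Ω) * s⁻¹ = z
      rw [← hzk, show (⟨(x : Ω) ^ k, _⟩ : (Subgroup.zpowers (x : Ω))) = (⟨(x : Ω), Subgroup.mem_zpowers _⟩ : (Subgroup.zpowers (x : Ω))) ^ k from rfl, map_zpow,
        (Commute.zpow_right (hyc s hs : Commute s y) k).eq, mul_inv_cancel_right]⟩
  have hyS : y ∈ S := F.apply_mem hφ _
  have hye : χ ⟨y, hle hyS⟩ = x :=
    (hχe y ⟨_, rfl⟩ (hle hyS)).trans (hφil ⟨x, Subgroup.mem_zpowers _⟩ ⟨_, rfl⟩)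
  obtain ⟨χ', hχ', hχ'e⟩ : ∃ χ' ∈ F.Hom S, ∀ s : S, χ' s = χ ⟨s, hle s.2⟩ :=
    ⟨_, F.restrict_mem hχ hle, fun _ => rfl⟩
  have hr : χ'.range = S := by
    refine le_antisymm (F.range_le hχ') ?_
    have hinj := F.injective_of_mem hχ'
    haveI : Finite χ'.range := Finite.of_injective _ (Subgroup.inclusion_injective (F.range_le hχ'))
    exact (Subgroup.eq_of_le_of_card_ge (F.range_le hχ')
      (Nat.card_congr (MonoidHom.ofInjective hinj).toEquiv).le).ge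
  have h4 := hAutS _ (F.isoOf_mem_autGroup hχ' hr)
  rw [coe_isoOf, hχ'e] at h4
  exact congrArg Subtype.val ((F.injective_of_mem hχ) (hye.trans h4.symm))

end Cfsg.FusionSystem
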