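import Cfsg.Agent.Lib.Fusion.Transport
import Cfsg.Agent.Lib.Fusion.GroupMinimal
import Cfsg.Agent.Lib.Fusion.PSolvable

/-!
Simple realisable systems are realised by simple groups.
-/

set_option autoImplicit false

universe u

namespace Cfsg

namespace FusionSystem

variable {Ω : Type u} [Group Ω] {S : Subgroup Ω} {F : FusionSystem S} {p : ℕ} [Fact p.Prime]

theorem IsSimple.of_isRealizedBy [Finite S] (hS : IsPGroup p S) (hF : F.IsSimple p) {G : Type u} [Group G]
    [Finite G] {ι : S →* G} (h : F.IsRealizedBy ι) (T : Sylow p G) (hT : (T : Subgroup G) = ι.range) :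
    (groupFusionSystem (T : Subgroup G)).IsSimple p := by
  obtain ⟨β, hβ, -⟩ := h.isFactorSystem hT
  have hT1 : (T : Subgroup G) ≠ ⊥ := fun e => hF.2.1 <| by
    rw [← hβ.2.2.1, MonoidHom.range_eq_map]
    have : (⊤ : Subgroup (T : Subgroup G)) = ⊥ := (Subgroup.eq_bot_iff_forall _).mpr fun x _ =>
      Subtype.ext (Subgroup.mem_bot.mp (e ▸ x.2 : (x : G) ∈ (⊥ : Subgroup G)))
    rw [this, Subgroup.map_bot]
  refine ⟨groupFusionSystem_isSaturated T, hT1, fun U E hE => ?_⟩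
  obtain ⟨E', hU, hE'n, hE'⟩ := hβ.exists_isNormalIn T.2 hE
  rcases hF.2.2 _ E' hE'n with h0 | ⟨h1, heq⟩
  · left
    refine (Subgroup.eq_bot_iff_forall _).mpr fun x hx => ?_
    have h2 : β ⟨x, hU hx⟩ ∈ imageAlong β U := ⟨⟨x, hU hx⟩, hx, rfl⟩
    rw [h0, Subgroup.mem_bot, map_eq_one_iff β hβ.injective] at h2
    exact congrArg Subtype.val h2
  · right
    have hUT : U = (T : Subgroup G) := le_antisymm hU fun x hx =>
      (mem_imageAlong_iff hβ.injective hx).mp (h1.ge (hβ.apply_mem ⟨x, hx⟩))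
    refine ⟨hUT, fun P => Set.Subset.antisymm (hE.1.2.2.1 P) fun φ hφ => ?_⟩
    have hPT : P ≤ (T : Subgroup G) := (groupFusionSystem (T : Subgroup G)).source_le hφ
    obtain ⟨φ', hφ', he'⟩ := hβ.up hφ
    rw [← heq] at hφ'
    obtain ⟨ψ, hψ, hψe⟩ := hE'.down hφ'
    have hle : P ≤ preimageAlong (β.comp (Subgroup.inclusion hU)) (imageAlong β P) := fun x hx =>
      mem_preimageAlong.mpr ⟨hUT.ge (hPT hx), ⟨⟨x, hPT hx⟩, hx, rfl⟩⟩
    refine E.mem_of_restrict hψ hle fun x hx => ?_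
    have hm : β ⟨x, hPT hx⟩ ∈ imageAlong β P := ⟨⟨x, hPT hx⟩, hx, rfl⟩
    have h3 := (hψe ⟨x, hle hx⟩ (hUT.ge (hPT hx)) hm).symm.trans (he' ⟨x, hx⟩ (hPT hx) hm)
    exact (congrArg (fun z : (T : Subgroup G) => (z : G)) (hβ.injective h3)).symm

theorem IsSimple.exists_simple_realizer [Finite S] (hS : IsPGroup p S) (hF : F.IsSimple p)
    (hreal : F.IsRealizable p) :
    ∃ (G : Type u) (_ : Group G) (_ : Finite G) (_ : IsSimpleGroup G) (ι : ↥S →* G),
      F.IsRealizedBy ι ∧ ∃ T : Sylow p G, (T : Subgroup G) = ι.range := by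
  classical
  have hex : ∃ n : ℕ, ∃ (G : Type u) (_ : Group G) (_ : Finite G) (ι : S →* G),
      F.IsRealizedBy ι ∧ (∃ T : Sylow p G, (T : Subgroup G) = ι.range) ∧ Nat.card G = n := by
    obtain ⟨G, hG, hfin, ι, h, hT⟩ := hreal
    exact ⟨_, G, hG, hfin, ι, h, hT, rfl⟩
  obtain ⟨G, hG, hfin, ι, h, ⟨T, hT⟩, hcard⟩ := Nat.find_spec hex
  refine ⟨G, hG, hfin, ?_, ι, h, T, hT⟩
  refine isSimpleGroup_of_isSimple T (hF.of_isRealizedBy hS h T hT) ?_ ?_
  · by_contra hne
    set K := pPrimeCore p G with hK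
    have hKp : (Nat.card K).Coprime p := CfsgLib.card_pPrimeCore_coprime p
    have h' := h.quotient hS K hKp
    have hlt : Nat.card (G ⧸ K) < Nat.card G := by
      rw [Subgroup.card_eq_card_quotient_mul_card_subgroup K]
      refine lt_mul_of_one_lt_right Nat.card_pos ?_
      exact Subgroup.one_lt_card_iff_ne_bot K |>.mpr hne
    refine Nat.find_min hex (hcard ▸ hlt) ⟨_, _, inferInstance, _, h',
      ⟨T.mapSurjective (QuotientGroup.mk'_surjective K), ?_⟩, rfl⟩
    rw [Sylow.coe_mapSurjective, hT, MonoidHom.range_comp]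
  · intro H hSH hne
    by_contra hall
    push Not at hall
    have hι : ∀ s : S, ι s ∈ H := fun s => hSH (hT.ge ⟨s, rfl⟩)
    have hlt : Nat.card H < Nat.card G := by
      refine lt_of_le_of_ne (Subgroup.card_le_card_group H) fun e => hne (Subgroup.eq_top_of_card_eq H e)
    refine Nat.find_min hex (hcard ▸ hlt) ⟨H, _, inferInstance, ι.codRestrict H hι,
      ⟨fun a b e => h.1 (congrArg Subtype.val e), fun P hP φ hφ => ?_⟩,
      ⟨T.subtype hSH, ?_⟩, rfl⟩
    · rw [h.2 P hP φ hφ]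
      constructor
      · rintro ⟨g, hg⟩
        let P₀ : Subgroup G := (P.subgroupOf S).map ι
        have hP₀ : P₀ ≤ (T : Subgroup G) := by
          rintro _ ⟨s, -, rfl⟩
          exact hT.ge ⟨s, rfl⟩
        have hmap : conjHom P₀ g ∈ (groupFusionSystem (T : Subgroup G)).Hom P₀ := by
          refine conjHom_mem_groupFusionSystem hP₀ ?_
          rintro _ ⟨s, hs, rfl⟩
          rw [← hg ⟨s, hs⟩]
          exact hT.ge ⟨_, rfl⟩
        rw [← hall P₀] at hmap
        obtain ⟨-, -, k, hk, hke⟩ := hmap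
        refine ⟨⟨k, hk⟩, fun x => Subtype.ext ?_⟩
        show ι _ = k * ι _ * k⁻¹
        rw [hg x]
        exact hke ⟨_, ⟨(x : Ω), hP x.2⟩, x.2, rfl⟩
      · rintro ⟨g, hg⟩
        exact ⟨g, fun x => congrArg Subtype.val (hg x)⟩
    · rw [Sylow.coe_subtype, MonoidHom.range_eq_map]
      ext y
      constructor
      · intro hy
        obtain ⟨s, hs⟩ := hT.le hy
        exact ⟨s, trivial, Subtype.ext hs⟩
      · rintro ⟨s, -, rfl⟩
        exact hT.ge ⟨s, rfl⟩

end FusionSystem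

end Cfsg
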