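import Cfsg.Agent.Lib.Fusion.Alperin
import Cfsg.Agent.Lib.Fusion.Iso
import Cfsg.Agent.Lib.SmallElements
import Cfsg.Agent.Lib.PGroup.AlperinRelative

/-!
A saturated subsystem agreeing on abelian subgroups of exponent `p` (exponent `4` for `p = 2`) of a
subgroup `H ≤ S` containing all `[x, O^p(Aut_F(P))]` is the whole system.

For `P` fully normalised and centric, let `A` be maximal among the normal such subgroups of `P` in `P ⊓ H`.
By Alperin's lemma only the identity of `p'`-order fixes `A` pointwise. An automorphism `g` of `P` agrees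
on `A` with a map of `E`, which extends to `P`; the rest is strong embedding.
-/

set_option autoImplicit false
set_option linter.unusedSectionVars false
set_option maxHeartbeats 1600000

namespace Cfsg.FusionSystem

open CfsgLib.Small
open scoped Pointwise

universe u

variable {Ω : Type u} [Group Ω] {S H : Subgroup Ω} {E F : FusionSystem S} {p : ℕ} [Fact p.Prime] [Finite S]

/-- `A` is a usable abelian subgroup of `P`. -/
structure IsGoodAbelian {P : Subgroup Ω} (X : Subgroup (MulAut P)) (H : Subgroup Ω) (p : ℕ) (A : Subgroup P) :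
    Prop where
  normal : A.Normal
  le : ∀ a ∈ A, (a : Ω) ∈ H
  comm : ∀ a ∈ A, ∀ b ∈ A, a * b = b * a
  expo : ∀ a ∈ A, a ^ smallExp p = 1
  fix : ∀ x ∈ X, (∀ a ∈ A, x a = a) → (orderOf x).Coprime p → x = 1

theorem mem_pResidual_of_coprime {G : Type*} [Group G] {g : G} (h : (orderOf g).Coprime p) :
    g ∈ pResidual p G := Subgroup.subset_closure h

theorem exists_pow_pGroup {G : Type*} [Group G] [Finite G] (g : G) :
    ∃ k : ℕ, (orderOf (g ^ p ^ k)).Coprime p := by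
  obtain ⟨k, m, hm, hn⟩ := Nat.exists_eq_pow_mul_and_not_dvd (orderOf_pos g).ne' p (Fact.out : p.Prime).ne_one
  refine ⟨k, ?_⟩
  have : orderOf (g ^ p ^ k) ∣ m := orderOf_dvd_of_pow_eq_one (by rw [← pow_mul, ← hn, pow_orderOf_eq_one])
  exact Nat.Coprime.of_dvd_left this ((Nat.Prime.coprime_iff_not_dvd Fact.out).mpr hm).symm

theorem aut_mul_apply {P : Subgroup Ω} (α β : MulAut P) (x : P) : (α * β) x = α (β x) := rfl

/-- A `p`-power exponent. -/
theorem exists_smallExp_pow : ∃ n : ℕ, smallExp p = p ^ n ∧ p ^ n ≠ 2 := by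
  by_cases h : p = 2
  · subst h; exact ⟨2, rfl, by norm_num⟩
  · exact ⟨1, by simp [smallExp, h], by simpa using h⟩

section Fix

variable {P : Subgroup Ω}

/-- `P ⊓ H` is preserved by `Aut_F(P)`. -/
theorem autGroup_apply_mem (hF : F.IsSaturated p) (hS : IsPGroup p S) (hP : F.IsFullyNormalized P)
    (hH1 : ∀ Q : Subgroup Ω, Q ≤ S → ∀ α ∈ pResidual p (F.autGroup Q), ∀ x : Q,
      (x : Ω)⁻¹ * (((α : MulAut Q) x : Q) : Ω) ∈ H)
    (hH2 : ∀ s ∈ S, ∀ h ∈ H, s * h * s⁻¹ ∈ H) {x : MulAut P} (hx : x ∈ F.autGroup P) {y : P}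
    (hy : (y : Ω) ∈ H) : ((x y : P) : Ω) ∈ H := by
  have hfin := finite_autGroup (F := F) hP.1
  obtain ⟨-, T, hT⟩ := hF.isFullyAutomized_of_isFullyNormalized hS hP
  let Stab : Subgroup (F.autGroup P) :=
    { carrier := {a | ∀ y : P, (y : Ω) ∈ H ↔ (((a : MulAut P) y : P) : Ω) ∈ H}
      one_mem' := fun y => Iff.rfl
      mul_mem' := fun {a b} ha hb y => (hb y).trans (ha _)
      inv_mem' := fun {a} ha y => by
        have := ha ((a : MulAut P)⁻¹ y)
        rw [MulAut.apply_inv_self] at this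
        exact this.symm }
  have h1 : pResidual p (F.autGroup P) ≤ Stab := fun a ha z => by
    have hz := hH1 P hP.1 a ha z
    constructor
    · intro h; simpa using H.mul_mem h hz
    · intro h; simpa using H.mul_mem h (H.inv_mem hz)
  have h2 : (T : Subgroup _) ≤ Stab := fun a ha z => by
    rw [hT] at ha
    obtain ⟨s, hs, -, he⟩ := mem_autInducedBy_iff.mp ha
    rw [show (((a : MulAut P) z : P) : Ω) = s * z * s⁻¹ from he z]
    refine ⟨hH2 s hs _, fun h => ?_⟩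
    have := hH2 s⁻¹ (S.inv_mem hs) _ h
    simpa [mul_assoc] using this
  have htop : Stab = ⊤ := by
    set R := pResidual p (F.autGroup P) with hR
    rw [← Subgroup.index_eq_one]
    by_contra hne
    obtain ⟨q, hq, hqd⟩ := Nat.exists_prime_and_dvd hne
    haveI := Fact.mk hq
    by_cases hqp : q = p
    · subst hqp
      exact T.not_dvd_index (hqd.trans (Subgroup.index_dvd_of_le h2))
    · obtain ⟨Q⟩ : Nonempty (Sylow q (F.autGroup P)) := inferInstance
      have hQ : (Q : Subgroup _) ≤ Stab := fun a ha => h1 (mem_pResidual_of_coprime (by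
        obtain ⟨k, hk⟩ := Q.2 ⟨a, ha⟩
        have hd : orderOf a ∣ q ^ k := orderOf_dvd_of_pow_eq_one (congrArg Subtype.val hk)
        exact Nat.Coprime.of_dvd_left hd (((Nat.coprime_primes hq Fact.out).mpr hqp).pow_left k)))
      exact Q.not_dvd_index (hqd.trans (Subgroup.index_dvd_of_le hQ))
  exact ((htop.ge (Subgroup.mem_top ⟨x, hx⟩)) y).mp hy

/-- A good abelian subgroup exists. -/
theorem exists_isGoodAbelian (hF : F.IsSaturated p) (hS : IsPGroup p S) (hP : F.IsFullyNormalized P)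
    (hH1 : ∀ Q : Subgroup Ω, Q ≤ S → ∀ α ∈ pResidual p (F.autGroup Q), ∀ x : Q,
      (x : Ω)⁻¹ * (((α : MulAut Q) x : Q) : Ω) ∈ H)
    (hH2 : ∀ s ∈ S, ∀ h ∈ H, s * h * s⁻¹ ∈ H) :
    ∃ A : Subgroup P, IsGoodAbelian (F.autGroup P) H p A := by
  haveI : Finite P := finite_of_le hP.1
  have hPp : IsPGroup p P := hS.to_le hP.1
  set D : Subgroup P := H.subgroupOf P with hD
  haveI hDn : D.Normal := ⟨fun d hd g => hH2 g (hP.1 g.2) d hd⟩
  let s : Set (Subgroup P) := {A | A.Normal ∧ IsMulCommutative A ∧ (∀ a ∈ A, a ^ smallExp p = 1) ∧ A ≤ D}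
  obtain ⟨A, ⟨hAn, hAc, hAe, hAD⟩, hmax⟩ := Set.exists_max_image s (fun A => Nat.card A) (Set.toFinite _)
    ⟨⊥, inferInstance, inferInstance, fun a ha => by rw [Subgroup.mem_bot.mp ha, one_pow], bot_le⟩
  refine ⟨A, hAn, fun a ha => hAD ha, fun a ha b hb => Subgroup.mul_comm_of_mem_isMulCommutative A ha hb,
    hAe, fun x hx hfix hcop => ?_⟩
  obtain ⟨n, hn, hn2⟩ := exists_smallExp_pow (p := p)
  have hlem := CfsgLib.PGroupAlperin.mem_of_centralizing_in hPp n hn2 D A hAD hAc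
    (fun a ha => hn ▸ hAe a ha)
    (fun B hBn hBc hBe hBD hAB => (Subgroup.eq_of_le_of_card_ge hAB
      (hmax B ⟨hBn, hBc, fun b hb => hn ▸ hBe b hb, hBD⟩)).symm)
  set C : Subgroup P := Subgroup.centralizer (A : Set P) ⊓ D with hC
  have hxD : ∀ y ∈ D, x y ∈ D := fun y hy => autGroup_apply_mem hF hS hP hH1 hH2 hx hy
  have hx'D : ∀ y ∈ D, x⁻¹ y ∈ D := fun y hy => autGroup_apply_mem hF hS hP hH1 hH2 (InvMemClass.inv_mem hx) hy
  have hfix' : ∀ a ∈ A, x⁻¹ a = a := fun a ha => by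
    conv_lhs => rw [← hfix a ha]
    exact MulAut.inv_apply_self _ _ _
  have key : ∀ f : MulAut P, (∀ a ∈ A, f a = a) → (∀ y ∈ D, f y ∈ D) → ∀ y ∈ C, f y ∈ C := by
    intro f hf hfD y hy
    refine ⟨Subgroup.mem_centralizer_iff.mpr fun a ha => ?_, hfD y hy.2⟩
    rw [← hf a ha, ← map_mul, ← map_mul, Subgroup.mem_centralizer_iff.mp hy.1 a ha]
  let xC : MulAut C :=
    { toFun := fun y => ⟨x y, key x hfix hxD y y.2⟩
      invFun := fun y => ⟨x⁻¹ y, key x⁻¹ hfix' hx'D y y.2⟩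
      left_inv := fun y => Subtype.ext (MulAut.inv_apply_self _ _ _)
      right_inv := fun y => Subtype.ext (MulAut.apply_inv_self _ _ _)
      map_mul' := fun y z => Subtype.ext (map_mul x _ _) }
  have hxC : ∀ (m : ℕ) (y : C), (((xC ^ m) y : C) : P) = (x ^ m) y := by
    intro m
    induction m with
    | zero => intro y; rfl
    | succ m ih =>
      intro y
      rw [pow_succ, pow_succ, MulAut.mul_apply, MulAut.mul_apply, ih]
      rfl
  have hdvd : orderOf xC ∣ orderOf x := orderOf_dvd_of_pow_eq_one (MulEquiv.ext fun y => Subtype.ext (by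
    rw [hxC, pow_orderOf_eq_one]; rfl))
  have hC1 : xC = 1 := eq_one_of_fixes_small (hPp.to_subgroup C) (Nat.Coprime.of_dvd_left hdvd hcop)
    fun y hy => Subtype.ext (hfix _ (hlem y y.2 (by
      rw [← hn]; exact (SubmonoidClass.coe_pow y _).symm.trans (congrArg Subtype.val hy))))
  have hfixC : ∀ y ∈ C, x y = y := fun y hy => congrArg (fun f : MulAut C => ((f ⟨y, hy⟩ : C) : P)) hC1
  have hAC : A ≤ C := le_inf (fun a ha b hb => Subgroup.mul_comm_of_mem_isMulCommutative A hb ha) hAD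
  haveI := hAn
  haveI hCn : C.Normal := by
    haveI : (Subgroup.centralizer (A : Set P)).Normal := inferInstance
    exact Subgroup.normal_inf_normal _ _
  have hfixD : ∀ y ∈ D, x y = y := by
    intro y hy
    refine apply_eq_self_of_step hPp hcop (hfixC _ ⟨?_, D.mul_mem (D.inv_mem hy) (hxD y hy)⟩)
    refine Subgroup.mem_centralizer_iff.mpr fun a ha => ?_
    have h1 : y * a * y⁻¹ ∈ C := hCn.conj_mem a (hAC ha) y
    have h2 := hfixC _ h1
    rw [map_mul, map_mul, map_inv, hfix a ha] at h2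
    calc a * (y⁻¹ * x y) = y⁻¹ * (y * a * y⁻¹) * x y := by group
      _ = y⁻¹ * x y * a := by rw [← h2]; group
  refine MulEquiv.ext fun y => apply_eq_self_of_step hPp hcop (hfixD _ ?_)
  have hres : (⟨x, hx⟩ : F.autGroup P) ∈ pResidual p (F.autGroup P) :=
    mem_pResidual_of_coprime (by rwa [Subgroup.orderOf_mk])
  exact hH1 P hP.1 _ hres y

end Fix

/-- The inductive step. -/
theorem autGroup_le_of_small (hS : IsPGroup p S) (hE : E.IsSaturated p) (hF : F.IsSaturated p)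
    (hEF : E.IsSubsystemOf F)
    (hH1 : ∀ Q : Subgroup Ω, Q ≤ S → ∀ α ∈ pResidual p (F.autGroup Q), ∀ x : Q,
      (x : Ω)⁻¹ * (((α : MulAut Q) x : Q) : Ω) ∈ H)
    (hH2 : ∀ s ∈ S, ∀ h ∈ H, s * h * s⁻¹ ∈ H)
    (hagree : ∀ A B : Subgroup Ω, A ≤ S ⊓ H → B ≤ S ⊓ H → (∀ a ∈ A, ∀ b ∈ A, a * b = b * a) →
      (∀ a ∈ A, a ^ smallExp p = 1) → (∀ a ∈ B, ∀ b ∈ B, a * b = b * a) → (∀ a ∈ B, a ^ smallExp p = 1) →
      F.homSet A B ⊆ E.homSet A B)
    {P : Subgroup Ω} (hP : F.IsFullyNormalized P)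
    (hbig : ∀ Q : Subgroup Ω, Q ≤ S → Nat.card P < Nat.card Q → F.Hom Q ⊆ E.Hom Q) :
    F.autGroup P ≤ E.autGroup P := by
  classical
  have hPS : P ≤ S := hP.1
  haveI : Finite P := finite_of_le hPS
  set M := E.autGroup P with hM
  have hfinX := finite_autGroup (F := F) hPS
  have hfinM := finite_autGroup (F := E) hPS
  have hMX : M ≤ F.autGroup P := fun α hα => hEF.isIso_autGroup hPS hα
  have hnE : E.IsFullyNormalized P := ⟨hPS, fun Q hQ => hP.2 Q (by
    obtain ⟨φ, hφ, hr⟩ := hQ; exact ⟨φ, hEF P hφ, hr⟩)⟩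
  have hrec := hF.isReceptive_of_isFullyNormalized hS hP
  have hfc := hF.isFullyCentralized_of_isFullyNormalized hS hP
  have hlt : ∀ Q : Subgroup Ω, P < Q → Q ≤ S → Nat.card P < Nat.card Q := fun Q hQ hQS => by
    haveI := finite_of_le hQS
    exact lt_of_le_of_ne (Subgroup.card_le_of_le hQ.le) fun e => hQ.ne (Subgroup.eq_of_le_of_card_ge hQ.le e.ge)
  have hext : extendableAut F P ≤ M := by
    rw [extendableAut, Subgroup.closure_le]
    rintro α ⟨Q, hPQ, φ, hφ, he⟩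
    have h1 := hbig Q (F.source_le hφ) (hlt Q hPQ (F.source_le hφ)) hφ
    exact E.mem_autGroup_of_map (E.restrict_mem h1 hPQ.le) fun x => (he x).symm
  -- the non-centric case
  by_cases hC : centralizerIn S P ≤ P
  swap
  · intro α hα
    obtain ⟨φ, hφ, hr, hφe⟩ := F.exists_map_of_mem_autGroup hPS hα
    obtain ⟨ψ, hψ, hψe⟩ := hrec.2 P φ hφ hr
    refine hext (Subgroup.subset_closure ⟨_, lt_of_le_of_ne (le_extender hPS (F.apply_mem hφ)) ?_, ψ, hψ,
      fun x => by rw [← hφe x]; exact hψe x x.2 _⟩)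
    intro e
    exact hC ((centralizerIn_le_extender (F.apply_mem hφ)).trans e.ge)
  have hcen : F.IsCentric P := hfc.isCentric hC
  set T := autInducedBy S P with hT
  have hTM : T ≤ M := autInducedBy_le_autGroup hPS
  have hInnM : Inn P ≤ M := (inn_le_autInducedBy hPS).trans hTM
  have hInnX : ∀ {t : MulAut P}, t ∈ Inn P → ∀ g : MulAut P, g * t * g⁻¹ ∈ Inn P := fun {t} ht g => by
    obtain ⟨w, rfl⟩ := ht
    exact ⟨g w, by ext; simp⟩
  -- `p`-elements of `M` are conjugate into `T`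
  have conjT : ∀ {R : Subgroup (MulAut P)}, R ≤ M → IsPGroup p R → ∃ m ∈ M, ∀ r ∈ R, m * r * m⁻¹ ∈ T := by
    intro R hR hRp
    obtain ⟨-, T', hT'⟩ := hE.isFullyAutomized_of_isFullyNormalized hS hnE
    obtain ⟨m, hm⟩ := exists_conj_mem_sylow T' (hRp.of_equiv (Subgroup.subgroupOfEquivOfLe hR).symm)
    refine ⟨m, m.2, fun r hr => ?_⟩
    have := hm ⟨r, hR hr⟩ hr
    rw [hT'] at this
    exact this
  -- strong embedding
  have SE : ∀ t ∈ M, t ∉ Inn P → IsPGroup p (Subgroup.zpowers t) → ∀ g ∈ F.autGroup P, g * t * g⁻¹ ∈ M → g ∈ M := by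
    intro t ht htI htp g hg hgt
    obtain ⟨m, hm, hmT⟩ := conjT (Subgroup.zpowers_le.mpr ht) htp
    have htp' : IsPGroup p (Subgroup.zpowers (g * t * g⁻¹)) := by
      have := htp.map (MulAut.conj g).toMonoidHom
      rwa [MonoidHom.map_zpowers] at this
    obtain ⟨m', hm', hm'T⟩ := conjT (Subgroup.zpowers_le.mpr hgt) htp'
    have h1 : m * t * m⁻¹ ∈ T := hmT t (Subgroup.mem_zpowers t)
    have h2 : m * t * m⁻¹ ∉ Inn P := fun h => htI (by
      have := hInnX h m⁻¹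
      simpa [mul_assoc] using this)
    have h3 : m' * (g * t * g⁻¹) * m'⁻¹ ∈ T := hm'T _ (Subgroup.mem_zpowers _)
    have := hext (mem_extendableAut_of_conj hrec
      (mul_mem (mul_mem (hMX hm') hg) (InvMemClass.inv_mem (hMX hm)) : m' * g * m⁻¹ ∈ F.autGroup P) h1 h2
      (by simpa [mul_assoc] using h3))
    have := mul_mem (mul_mem (InvMemClass.inv_mem hm') this) hm
    simpa [mul_assoc] using this
  -- the pointwise stabiliser in `X` of a subgroup
  let fixer : Subgroup P → Subgroup (MulAut P) := fun A =>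
    { carrier := {x | x ∈ F.autGroup P ∧ ∀ a ∈ A, x a = a}
      one_mem' := ⟨one_mem _, fun a _ => rfl⟩
      mul_mem' := fun {x y} hx hy => ⟨mul_mem hx.1 hy.1, fun a ha => by rw [aut_mul_apply, hy.2 a ha, hx.2 a ha]⟩
      inv_mem' := fun {x} hx => ⟨InvMemClass.inv_mem hx.1, fun a ha => by
        conv_lhs => rw [← hx.2 a ha]
        exact MulAut.inv_apply_self _ _ _⟩ }
  have hfixp : ∀ A, IsGoodAbelian (F.autGroup P) H p A → IsPGroup p (fixer A) := by
    intro A hA x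
    haveI : Finite (fixer A) := Finite.of_injective (fun y : fixer A => (⟨y, y.2.1⟩ : F.autGroup P))
      fun a b h => Subtype.ext (congrArg Subtype.val h :)
    obtain ⟨k, hk⟩ := exists_pow_pGroup (p := p) x
    refine ⟨k, Subtype.ext (hA.fix _ (x ^ p ^ k).2.1 (x ^ p ^ k).2.2 ?_)⟩
    rwa [Subgroup.orderOf_coe]
  -- the choice of `A`
  obtain ⟨A, hA, hout⟩ : ∃ A, IsGoodAbelian (F.autGroup P) H p A ∧
      ((∀ x ∈ fixer A, x ∈ Inn P) ∨ ∃ t ∈ fixer A, t ∈ T ∧ t ∉ Inn P) := by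
    by_cases h : ∃ A, IsGoodAbelian (F.autGroup P) H p A ∧ ∃ x ∈ fixer A, x ∉ Inn P
    · obtain ⟨A, hA, x, hx, hxI⟩ := h
      obtain ⟨-, T', hT'⟩ := hF.isFullyAutomized_of_isFullyNormalized hS hP
      obtain ⟨g, hg⟩ := exists_conj_mem_sylow T' ((hfixp A hA).of_equiv
        (Subgroup.subgroupOfEquivOfLe (show fixer A ≤ F.autGroup P from fun y hy => hy.1)).symm)
      have hgx : (g : MulAut P) * x * (g : MulAut P)⁻¹ ∈ T := by
        have := hg ⟨x, hx.1⟩ hx
        rwa [hT'] at this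
      refine ⟨A.map (g : MulAut P).toMonoidHom, ⟨hA.normal.map _ (g : MulAut P).surjective, ?_, ?_, ?_, ?_⟩,
        Or.inr ⟨_, ⟨mul_mem (mul_mem g.2 hx.1) (InvMemClass.inv_mem g.2), ?_⟩, hgx, fun hI => hxI ?_⟩⟩
      · rintro _ ⟨a, ha, rfl⟩
        exact autGroup_apply_mem hF hS hP hH1 hH2 g.2 (hA.le a ha)
      · rintro _ ⟨a, ha, rfl⟩ _ ⟨b, hb, rfl⟩
        rw [← map_mul, hA.comm a ha b hb, map_mul]
      · rintro _ ⟨a, ha, rfl⟩
        rw [← map_pow, hA.expo a ha, map_one]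
      · intro y hy hyf hcop
        have h1 := hA.fix ((g : MulAut P)⁻¹ * y * g) (mul_mem (mul_mem (InvMemClass.inv_mem g.2) hy) g.2)
          (fun a ha => by
            rw [aut_mul_apply, aut_mul_apply]
            erw [hyf _ ⟨a, ha, rfl⟩]
            exact MulAut.inv_apply_self _ _ _) (by
            rw [show (g : MulAut P)⁻¹ * y * g = MulAut.conj (g : MulAut P)⁻¹ y by simp, MulEquiv.orderOf_eq]
            exact hcop)
        rwa [← conj_eq_one_iff (a := (g : MulAut P)⁻¹), inv_inv]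
      · rintro _ ⟨a, ha, rfl⟩
        show ((g : MulAut P) * x * (g : MulAut P)⁻¹) ((g : MulAut P) a) = (g : MulAut P) a
        rw [aut_mul_apply, aut_mul_apply, MulAut.inv_apply_self, hx.2 a ha]
      · have := hInnX hI (g : MulAut P)⁻¹
        simpa [mul_assoc] using this
    · push Not at h
      obtain ⟨A, hA⟩ := exists_isGoodAbelian hF hS hP hH1 hH2
      exact ⟨A, hA, Or.inl fun x hx => h A hA x hx⟩
  have hKp := hfixp A hA
  intro g hg
  obtain ⟨fg, hfg, hge⟩ := isIso_of_aut hPS hg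
  set A1 : Subgroup Ω := A.map P.subtype with hA1
  set A2 : Subgroup Ω := (A.map (g : MulAut P).toMonoidHom).map P.subtype with hA2
  have hA1P : A1 ≤ P := Subgroup.map_subtype_le _
  have hA2P : A2 ≤ P := Subgroup.map_subtype_le _
  have hA2mem : ∀ y, y ∈ A2 ↔ ∃ x ∈ A1, fg x = y := by
    intro y
    constructor
    · rintro ⟨_, ⟨a, ha, rfl⟩, rfl⟩
      exact ⟨a, ⟨a, ha, rfl⟩, (hge a).symm⟩
    · rintro ⟨_, ⟨a, ha, rfl⟩, rfl⟩
      exact ⟨g a, ⟨a, ha, rfl⟩, hge a⟩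
  have hgF : F.IsIso A1 A2 fg := hfg.restrict' hA1P hA2mem
  have hgE : E.IsIso A1 A2 fg := by
    obtain ⟨φ, hφ, hr, he⟩ := hgF
    refine ⟨φ, (hagree A1 A2 ?_ ?_ ?_ ?_ ?_ ?_ ⟨hφ, fun x => hr.le ⟨x, rfl⟩⟩).1, hr, he⟩
    · rintro _ ⟨a, ha, rfl⟩; exact ⟨hPS a.2, hA.le a ha⟩
    · rintro _ ⟨_, ⟨a, ha, rfl⟩, rfl⟩
      exact ⟨hPS (g a).2, autGroup_apply_mem hF hS hP hH1 hH2 hg (hA.le a ha)⟩
    · rintro _ ⟨a, ha, rfl⟩ _ ⟨b, hb, rfl⟩; rw [← map_mul, hA.comm a ha b hb, map_mul]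
    · rintro _ ⟨a, ha, rfl⟩; rw [← map_pow, hA.expo a ha, map_one]
    · rintro _ ⟨_, ⟨a, ha, rfl⟩, rfl⟩ _ ⟨_, ⟨b, hb, rfl⟩, rfl⟩
      simp only [← map_mul, hA.comm a ha b hb]
    · rintro _ ⟨_, ⟨a, ha, rfl⟩, rfl⟩
      rw [← map_pow, ← map_pow, hA.expo a ha, map_one, map_one]
  have hPN1 : P ≤ Subgroup.normalizer (A1 : Set Ω) := fun u hu => Subgroup.mem_normalizer_iff.mpr fun z => by
    constructor
    · rintro ⟨a, ha, rfl⟩
      exact ⟨⟨u, hu⟩ * a * ⟨u, hu⟩⁻¹, hA.normal.conj_mem a ha _, rfl⟩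
    · rintro ⟨a, ha, hae⟩
      refine ⟨⟨u, hu⟩⁻¹ * a * ⟨u, hu⟩, by simpa using hA.normal.conj_mem a ha (⟨u, hu⟩⁻¹ : P), ?_⟩
      have hae' : (a : Ω) = u * z * u⁻¹ := hae
      show u⁻¹ * (a : Ω) * u = z
      rw [hae']; group
  have hPN2 : P ≤ normalizerIn S A2 := fun u hu => by
    obtain ⟨w, hw, rfl⟩ := hfg.surj hu
    exact ⟨hPS hu, hfg.mem_normalizer hA1P hA2mem hw (hPN1 hw)⟩
  -- the normalised target
  obtain ⟨A0, hA0c, hA0n⟩ := E.exists_isFullyNormalized (hA2P.trans hPS)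
  obtain ⟨φ2, hφ2, hφ2r, ψ2, hψ2, -, hψ2e⟩ := hE.exists_map_to_fullyNormalized hS hA0n hA0c
  set fh := funOf ψ2 with hfh
  have hfhI : E.IsIso (normalizerIn S A2) ψ2.range fh := isIso_funOf hψ2
  have hA0mem : ∀ y, y ∈ A0 ↔ ∃ x ∈ A2, fh x = y := by
    intro y
    rw [← hφ2r]
    constructor
    · rintro ⟨x, rfl⟩
      exact ⟨x, x.2, by rw [← hψ2e x (le_normalizerIn (hA2P.trans hPS) x.2), funOf_apply]⟩
    · rintro ⟨x, hx, rfl⟩
      exact ⟨⟨x, hx⟩, by rw [← hψ2e ⟨x, hx⟩ (le_normalizerIn (hA2P.trans hPS) hx), funOf_apply]⟩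
  have h20 : E.IsIso A2 A0 fh := hfhI.restrict' (le_normalizerIn (hA2P.trans hPS)) hA0mem
  obtain ⟨P2, hP2, -, hP2mem⟩ := hfhI.restrict hPN2
  obtain ⟨fi, hfi, hfil, hfir⟩ := hP2.symm
  have hP2S : P2 ≤ S := hP2.le_right
  haveI : Finite P2 := finite_of_le hP2S
  have hcen2 : centralizerIn S P2 ≤ P2 := hcen.2 P2 (hP2.mono hEF).isConj
  -- a first extension of `g` restricted to `A`
  obtain ⟨φ1, hφ1, hφ1r, hφ1e⟩ := hgE.comp h20
  obtain ⟨ψ1, hψ1, hψ1e⟩ := (hE.isReceptive_of_isFullyNormalized hS hA0n).2 A1 φ1 hφ1 hφ1r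
  set fχ := funOf ψ1 with hfχ
  have hχI : E.IsIso (extender S A1 φ1) ψ1.range fχ := isIso_funOf hψ1
  have hPext : P ≤ extender S A1 φ1 := fun u hu =>
    (mem_extender_iff (E.apply_mem hφ1)).mpr ⟨hPS hu, hPN1 hu, fh (fg u),
      (hP2S (hP2.mem (hfg.mem hu))), fun x hx => by
        rw [hφ1e, hφ1e]
        show fh (fg (u * x * u⁻¹)) = _
        rw [hfg.apply_conj hu (hA1P x.2), hP2.apply_conj (hfg.mem hu) (hfg.mem (hA1P x.2))]⟩
  have hA1ext : A1 ≤ extender S A1 φ1 := hA1P.trans hPext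
  have hχA : ∀ a ∈ A1, fχ a = fh (fg a) := fun a ha => by
    rw [hfχ, ← funOf_apply ψ1 ⟨a, hA1ext ha⟩, hψ1e a ha _, hφ1e]
  have hA0χ : ∀ y, y ∈ A0 ↔ ∃ x ∈ A1, fχ x = y := fun y => by
    rw [hA0mem]
    constructor
    · rintro ⟨x, hx, rfl⟩
      obtain ⟨a, ha, rfl⟩ := (hA2mem x).mp hx
      exact ⟨a, ha, hχA a ha⟩
    · rintro ⟨a, ha, rfl⟩
      exact ⟨fg a, (hA2mem _).mpr ⟨a, ha, rfl⟩, (hχA a ha).symm⟩
  -- the fixed case: an element of `N_S(P2)` outside centralising `A0`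
  by_cases hcase : ∃ u ∈ centralizerIn S A0, u ∈ Subgroup.normalizer (P2 : Set Ω) ∧ u ∉ P2
  · obtain ⟨u, hu, huN, huP⟩ := hcase
    obtain ⟨α, hα, hαe⟩ := ((hP2.comp (isIso_conj_normalizer hP2S hu.1 huN)).comp hfi).toAut
    have hαfix : ∀ a ∈ A, (g⁻¹ * α * g) a = a := by
      intro a ha
      rw [aut_mul_apply, aut_mul_apply]
      suffices α (g a) = g a by rw [this, MulAut.inv_apply_self]
      apply Subtype.ext
      rw [hαe]
      have hm : fh ((g a : P) : Ω) ∈ A0 := (hA0mem _).mpr ⟨_, ⟨g a, ⟨a, ha, rfl⟩, rfl⟩, rfl⟩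
      have hc := Subgroup.mem_centralizer_iff.mp hu.2 _ hm
      show fi (u * fh ((g a : P) : Ω) * u⁻¹) = _
      rw [← hc, mul_inv_cancel_right, hfil _ (g a).2]
    have hαI : α ∉ Inn P := by
      rintro ⟨w, rfl⟩
      refine huP ?_
      have hw : (fh w)⁻¹ * u ∈ centralizerIn S P2 := by
        refine ⟨S.mul_mem (S.inv_mem (hP2S (hP2.mem w.2))) hu.1, Subgroup.mem_centralizer_iff.mpr fun z hz => ?_⟩
        obtain ⟨x, hx, rfl⟩ := (hP2mem z).mp hz
        have h1 : (w : Ω) * x * (w : Ω)⁻¹ = fi (u * fh x * u⁻¹) := hαe ⟨x, hx⟩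
        have h2 := congrArg fh h1
        rw [hfir _ ((Subgroup.mem_normalizer_iff.mp huN _).mp hz), hP2.apply_conj w.2 hx] at h2
        calc fh x * ((fh w)⁻¹ * u) = (fh w)⁻¹ * (fh w * fh x * (fh w)⁻¹) * u := by group
          _ = (fh w)⁻¹ * u * fh x := by rw [h2]; group
      have := P2.mul_mem (hP2.mem w.2) (hcen2 hw)
      rwa [mul_inv_cancel_left] at this
    have hc'' : g⁻¹ * α * g ∈ fixer A := ⟨mul_mem (mul_mem (InvMemClass.inv_mem hg) (hMX hα)) hg, hαfix⟩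
    have hc''I : g⁻¹ * α * g ∉ Inn P := fun h => hαI (by
      have := hInnX h g
      simpa [mul_assoc] using this)
    obtain ⟨t, htK, htT, htI⟩ := hout.resolve_left fun h => hc''I (h _ hc'')
    -- the stabiliser lies in `M`
    have hKM : fixer A ≤ M := by
      by_contra hKM
      haveI : Finite (fixer A) := Finite.of_injective (fun y : fixer A => (⟨y, y.2.1⟩ : F.autGroup P))
        fun a b h => Subtype.ext (congrArg Subtype.val h :)
      haveI := hKp.isNilpotent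
      obtain ⟨k, hkN, hkM⟩ := SetLike.exists_of_lt (Group.normalizerCondition_of_isNilpotent (G := fixer A)
        (M.subgroupOf (fixer A)) (by rwa [lt_top_iff_ne_top, Ne, Subgroup.subgroupOf_eq_top]))
      refine hkM (SE t (hTM htT) htI (hKp.to_le (Subgroup.zpowers_le.mpr htK)) k k.2.1 ?_)
      exact ((Subgroup.mem_normalizer_iff.mp hkN ⟨t, htK⟩).mp (hTM htT) :)
    refine SE (g⁻¹ * α * g) (hKM hc'') hc''I (hKp.to_le (Subgroup.zpowers_le.mpr hc'')) g hg ?_
    simpa [mul_assoc] using hα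
  push Not at hcase
  -- `C_S(A0) ≤ P2`
  have hP2N : P2 ≤ Subgroup.normalizer (A0 : Set Ω) := fun z hz => by
    obtain ⟨x, hx, rfl⟩ := (hP2mem z).mp hz
    exact hfhI.mem_normalizer (le_normalizerIn (hA2P.trans hPS)) hA0mem (hPN2 hx) (hPN2 hx).2
  have hC0 : centralizerIn S A0 ≤ P2 := by
    set C0 := centralizerIn S A0 with hC0def
    have hnorm : P2 ≤ Subgroup.normalizer (C0 : Set Ω) := by
      have key : ∀ z ∈ P2, ∀ c ∈ C0, z * c * z⁻¹ ∈ C0 := by
        intro z hz c hc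
        refine ⟨S.mul_mem (S.mul_mem (hP2S hz) hc.1) (S.inv_mem (hP2S hz)), Subgroup.mem_centralizer_iff.mpr fun a ha => ?_⟩
        have h := Subgroup.mem_centralizer_iff.mp hc.2 _ ((Subgroup.mem_normalizer_iff''.mp (hP2N hz) a).mp ha)
        calc a * (z * c * z⁻¹) = z * ((z⁻¹ * a * z) * c) * z⁻¹ := by group
          _ = z * c * z⁻¹ * a := by rw [h]; group
      refine fun z hz => Subgroup.mem_normalizer_iff.mpr fun c => ⟨key z hz c, fun hc => ?_⟩
      have := key z⁻¹ (P2.inv_mem hz) _ hc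
      simpa [mul_assoc] using this
    by_contra hnot
    have hU : P2 ⊔ C0 ≤ S := sup_le hP2S inf_le_left
    haveI : Finite (P2 ⊔ C0 : Subgroup Ω) := finite_of_le hU
    obtain ⟨w, hw, hwP⟩ := SetLike.exists_of_lt (lt_normalizerIn (hS.to_le hU)
      (lt_of_le_of_ne le_sup_left fun e => hnot (e ▸ le_sup_right)))
    have hw' : w ∈ (P2 : Set Ω) * (C0 : Set Ω) := by
      rw [← Subgroup.coe_mul_of_left_le_normalizer_right P2 C0 hnorm]
      exact hw.1
    obtain ⟨z, hz, c, hc, rfl⟩ := hw'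
    have hcP : c ∈ P2 := hcase c hc (by
      have h1 := (Subgroup.normalizer (P2 : Set Ω)).mul_mem
        ((Subgroup.normalizer (P2 : Set Ω)).inv_mem (Subgroup.le_normalizer hz)) hw.2
      simpa using h1)
    exact hwP (P2.mul_mem hz hcP)
  -- cardinalities
  have hcard : Nat.card (centralizerIn S A0) ≤ Nat.card (centralizerIn P A1) := by
    haveI : Finite (centralizerIn P A1) := finite_of_le inf_le_left
    have hmem : ∀ w : centralizerIn P A1, fh (fg w) ∈ centralizerIn S A0 := fun w =>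
      ⟨hP2S (hP2.mem (hfg.mem w.2.1)), hfhI.mem_centralizer (le_normalizerIn (hA2P.trans hPS)) hA0mem
        (hPN2 (hfg.mem w.2.1)) (hfg.mem_centralizer hA1P hA2mem w.2.1 w.2.2)⟩
    refine Nat.card_le_card_of_surjective (fun w => (⟨fh (fg w), hmem w⟩ : centralizerIn S A0)) fun y => ?_
    obtain ⟨x, hx, hxy⟩ := (hP2mem y).mp (hC0 y.2)
    obtain ⟨w, hw, rfl⟩ := hfg.surj hx
    refine ⟨⟨w, hw, Subgroup.mem_centralizer_iff.mpr fun a ha => ?_⟩, Subtype.ext hxy⟩
    have hy := Subgroup.mem_centralizer_iff.mp y.2.2 (fh (fg a)) ((hA0mem _).mpr ⟨fg a, (hA2mem _).mpr ⟨a, ha, rfl⟩, rfl⟩)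
    rw [← hxy, ← hP2.apply_mul (hfg.mem (hA1P ha)) hx, ← hP2.apply_mul hx (hfg.mem (hA1P ha)),
      ← hfg.apply_mul (hA1P ha) hw, ← hfg.apply_mul hw (hA1P ha)] at hy
    exact hfg.inj (P.mul_mem (hA1P ha) hw) (P.mul_mem hw (hA1P ha))
      (hP2.inj (hfg.mem (P.mul_mem (hA1P ha) hw)) (hfg.mem (P.mul_mem hw (hA1P ha))) hy)
  have hCA : centralizerIn S A1 ≤ P := by
    have hsub : centralizerIn S A1 ≤ extender S A1 φ1 := centralizerIn_le_extender (E.apply_mem hφ1)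
    have h1 : Nat.card (centralizerIn S A1) ≤ Nat.card (centralizerIn S A0) := by
      haveI : Finite (centralizerIn S A0) := finite_centralizerIn
      have hmem : ∀ w : centralizerIn S A1, fχ w ∈ centralizerIn S A0 := fun w =>
        ⟨hχI.le_right (hχI.mem (hsub w.2)), hχI.mem_centralizer hA1ext hA0χ (hsub w.2) w.2.2⟩
      refine Nat.card_le_card_of_injective (fun w => (⟨fχ w, hmem w⟩ : centralizerIn S A0)) ?_
      intro w w' h
      exact Subtype.ext (hχI.inj (hsub w.2) (hsub w'.2) (congrArg Subtype.val h :))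
    haveI : Finite (centralizerIn S A1) := finite_centralizerIn
    have h2 : centralizerIn P A1 = centralizerIn S A1 := Subgroup.eq_of_le_of_card_ge
      (inf_le_inf_right _ hPS) (h1.trans hcard)
    rw [← h2]; exact inf_le_left
  -- the two images agree
  obtain ⟨P1, hP1, -, hP1mem⟩ := hχI.restrict hPext
  have hP12 : P1 = P2 := by
    refine hP1.eq_of_le hP2S (fun z hz => ?_) hP2.card_eq.ge
    obtain ⟨u, hu, rfl⟩ := (hP1mem z).mp hz
    have hk : (fh (fg u))⁻¹ * fχ u ∈ centralizerIn S A0 := by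
      refine ⟨S.mul_mem (S.inv_mem (hP2S (hP2.mem (hfg.mem hu)))) (hP1.le_right (hP1.mem hu)),
        Subgroup.mem_centralizer_iff.mpr fun z hz => ?_⟩
      obtain ⟨a, ha, rfl⟩ := (hA0χ z).mp hz
      have h3 : u * a * u⁻¹ ∈ A1 := (Subgroup.mem_normalizer_iff.mp (hPN1 hu) a).mp ha
      have h4 := hχA _ h3
      rw [hχI.apply_conj (hPext hu) (hA1ext ha), hfg.apply_conj hu (hA1P ha),
        hP2.apply_conj (hfg.mem hu) (hfg.mem (hA1P ha)), ← hχA a ha] at h4
      calc fχ a * ((fh (fg u))⁻¹ * fχ u) = (fh (fg u))⁻¹ * (fh (fg u) * fχ a * (fh (fg u))⁻¹) * fχ u := by group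
        _ = (fh (fg u))⁻¹ * fχ u * fχ a := by rw [← h4]; group
    have := P2.mul_mem (hP2.mem (hfg.mem hu)) (hC0 hk)
    rwa [mul_inv_cancel_left] at this
  subst hP12
  obtain ⟨β, hβ, hβe⟩ := (hP1.comp hfi).toAut
  have hy : β⁻¹ * g ∈ fixer A := by
    refine ⟨mul_mem (InvMemClass.inv_mem (hMX hβ)) hg, fun a ha => ?_⟩
    have h1 : β a = g a := Subtype.ext (by
      rw [hβe, hge]
      show fi (fχ a) = _
      rw [hχA a ⟨a, ha, rfl⟩, hfil _ (hfg.mem a.2)])
    rw [aut_mul_apply, ← h1, MulAut.inv_apply_self]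
  suffices β⁻¹ * g ∈ M by simpa using mul_mem hβ this
  rcases hout with h | ⟨t, htK, htT, htI⟩
  · exact hInnM (h _ hy)
  · exfalso
    obtain ⟨v, hvS, -, hve⟩ := mem_autInducedBy_iff.mp htT
    have hv : v ∈ centralizerIn S A1 := by
      refine ⟨hvS, Subgroup.mem_centralizer_iff.mpr ?_⟩
      rintro _ ⟨a, ha, rfl⟩
      have h1 := hve a
      rw [htK.2 a ha] at h1
      calc (a : Ω) * v = v * a * v⁻¹ * v := by rw [← h1]
        _ = v * (a : Ω) := by group
    exact htI ⟨⟨v, hCA hv⟩, by ext x; rw [hve]; rfl⟩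

/-- **Control by small abelian subgroups.** -/
theorem hom_subset_of_small (hS : IsPGroup p S) (hE : E.IsSaturated p) (hF : F.IsSaturated p)
    (hEF : E.IsSubsystemOf F)
    (hH1 : ∀ Q : Subgroup Ω, Q ≤ S → ∀ α ∈ pResidual p (F.autGroup Q), ∀ x : Q,
      (x : Ω)⁻¹ * (((α : MulAut Q) x : Q) : Ω) ∈ H)
    (hH2 : ∀ s ∈ S, ∀ h ∈ H, s * h * s⁻¹ ∈ H)
    (hagree : ∀ A B : Subgroup Ω, A ≤ S ⊓ H → B ≤ S ⊓ H → (∀ a ∈ A, ∀ b ∈ A, a * b = b * a) →
      (∀ a ∈ A, a ^ smallExp p = 1) → (∀ a ∈ B, ∀ b ∈ B, a * b = b * a) → (∀ a ∈ B, a ^ smallExp p = 1) →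
      F.homSet A B ⊆ E.homSet A B) :
    ∀ P : Subgroup Ω, F.Hom P ⊆ E.Hom P := by
  suffices key : ∀ (n : ℕ) (P : Subgroup Ω), P ≤ S → Nat.card S - Nat.card P = n → F.Hom P ⊆ E.Hom P from
    fun P φ hφ => key _ P (F.source_le hφ) rfl hφ
  intro n
  induction n using Nat.strong_induction_on with
  | _ n ih =>
    intro P hPS hn φ hφ
    have hbig : ∀ Q : Subgroup Ω, Q ≤ S → Nat.card P < Nat.card Q → F.Hom Q ⊆ E.Hom Q := fun Q hQS hlt => by
      have := Subgroup.card_le_of_le hQS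
      exact ih _ (by omega) Q hQS rfl
    obtain ⟨P0, hP0c, hP0n⟩ := F.exists_isFullyNormalized hPS
    have hcard0 : Nat.card P = Nat.card P0 := hP0c.card_eq
    have haut := autGroup_le_of_small hS hE hF hEF hH1 hH2 hagree hP0n (fun Q hQ h => hbig Q hQ (hcard0 ▸ h))
    have toP0 : ∀ R : Subgroup Ω, R ≤ S → F.IsConj R P0 → ∃ f, E.IsIso R P0 f := by
      intro R hRS hR
      have hRc : Nat.card R = Nat.card P := hR.card_eq.trans hcard0.symm
      rcases eq_or_lt_of_le hRS with rfl | hlt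
      · have h1 : P0 = R := Subgroup.eq_of_le_of_card_ge hP0n.1 hR.card_eq.le
        exact ⟨fun x => x, by rw [h1]; exact IsIso.refl E hRS⟩
      · obtain ⟨χ, hχ, hχr, ψ, hψ, -, hψe⟩ := hF.exists_map_to_fullyNormalized hS hP0n hR
        have h1 : Nat.card P < Nat.card (normalizerIn S R) := by
          haveI := finite_normalizerIn (S := S) (P := R)
          have h2 := lt_normalizerIn hS hlt
          rw [← hRc]
          exact lt_of_le_of_ne (Subgroup.card_le_of_le h2.le) fun e => h2.ne (Subgroup.eq_of_le_of_card_ge h2.le e.ge)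
        have hχE : χ ∈ E.Hom R := E.mem_of_restrict (hbig _ inf_le_left h1 hψ) (le_normalizerIn hRS)
          (fun x hx => (hψe ⟨x, hx⟩ _).symm)
        exact ⟨_, hχr ▸ isIso_funOf hχE⟩
    have hR : F.IsConj P φ.range := ⟨φ, hφ, rfl⟩
    obtain ⟨a, ha⟩ := toP0 P hPS hP0c
    obtain ⟨b, hb⟩ := toP0 φ.range hR.le_right (hR.symm.trans hP0c)
    obtain ⟨ai, hai, hail, -⟩ := ha.symm
    obtain ⟨bi, hbi, hbil, -⟩ := hb.symm
    obtain ⟨α, hα, hαe⟩ := (((hai.mono hEF).comp (isIso_funOf hφ)).comp (hb.mono hEF)).toAut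
    obtain ⟨f, hf, hfe⟩ := isIso_of_aut hP0n.1 (haut hα)
    refine mem_hom_of_isIso ((ha.comp hf).comp hbi) fun x => ?_
    show φ x = bi (f (a x))
    rw [← hfe ⟨a x, ha.mem x.2⟩, hαe]
    show φ x = bi (b (funOf φ (ai (a x))))
    rw [hail x x.2, ← funOf_apply φ x, hbil _ ⟨x, rfl⟩]

end Cfsg.FusionSystem
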