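import Cfsg.Agent.Lib.Fusion.Normal
import Cfsg.Agent.Lib.SmallElements

/-!
Automizers stabilizing a series on small elements; a criterion for `S` to be normal in a saturated system.
-/

set_option autoImplicit false

namespace Cfsg

namespace FusionSystem

variable {Ω : Type*} [Group Ω] {S : Subgroup Ω} {F : FusionSystem S} {p : ℕ}

open CfsgLib.Small in
/-- The automorphisms of `P` stabilising a series on the small elements of `P ∩ H` lie in a normal
`p`-subgroup of `Aut_F(P)`, provided `[P, O^p(Aut_F(P))] ≤ H`. -/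
theorem exists_pSubgroup_of_series [Fact p.Prime] [Finite S] (hS : IsPGroup p S) {P : Subgroup Ω}
    (hP : P ≤ S) (H : Subgroup Ω)
    (hinv : ∀ α ∈ F.autGroup P, ∀ x : P, (x : Ω) ∈ H → ((α x : P) : Ω) ∈ H)
    (hfoc : ∀ α ∈ F.autGroup P, (orderOf α).Coprime p → ∀ x : P, (x : Ω)⁻¹ * (α x : P) ∈ H)
    (C : ℕ → Subgroup Ω) (h0 : C 0 = ⊥) {n : ℕ} (hn : P ⊓ H ≤ C n)
    (hC : ∀ α ∈ F.autGroup P, ∀ x : P, (x : Ω) ∈ H → (x : Ω) ^ smallExp p = 1 →
      ∀ i, (x : Ω) ∈ C i → ((α x : P) : Ω) ∈ C i) :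
    ∃ K : Subgroup (MulAut P), K ≤ F.autGroup P ∧ IsPGroup p K ∧
      (∀ a ∈ F.autGroup P, ∀ k ∈ K, a * k * a⁻¹ ∈ K) ∧
      ∀ α ∈ F.autGroup P, (∀ x : P, (x : Ω) ∈ H → (x : Ω) ^ smallExp p = 1 →
        ∀ i, (x : Ω) ∈ C (i + 1) → (x : Ω)⁻¹ * (α x : P) ∈ C i) → α ∈ K := by
  have : Finite P := finite_of_le hP
  let Y : Subgroup P := H.subgroupOf P
  obtain ⟨D, hDch, hDsmall, hDdet⟩ := exists_small_detecting ((hS.to_le hP).to_subgroup Y)
  have hY : ∀ a ∈ F.autGroup P, ∀ y ∈ Y, a y ∈ Y := fun a ha y hy => hinv a ha y hy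
  let res : F.autGroup P →* MulAut Y :=
    { toFun := fun a =>
        { toFun := fun y => ⟨(a : MulAut P) y, hY a a.2 y y.2⟩
          invFun := fun y => ⟨((a⁻¹ : F.autGroup P) : MulAut P) y, hY _ (a⁻¹).2 y y.2⟩
          left_inv := fun y => Subtype.ext (by simp)
          right_inv := fun y => Subtype.ext (by simp)
          map_mul' := fun y z => Subtype.ext (by simp) }
      map_one' := rfl
      map_mul' := fun a b => rfl }
  -- the detecting set
  let InD : P → Prop := fun x => ∃ h : x ∈ Y, (⟨x, h⟩ : Y) ∈ D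
  have hDinv : ∀ (a : F.autGroup P) x, InD x → InD ((a : MulAut P) x) := fun a x ⟨h, hx⟩ =>
    ⟨hY a a.2 x h, CfsgLib.Small.apply_mem_of_char (res a) hx⟩
  have hDmul : ∀ x y, InD x → InD y → InD (x⁻¹ * y) := fun x y ⟨hx, hx'⟩ ⟨hy, hy'⟩ =>
    ⟨mul_mem (InvMemClass.inv_mem hx) hy, D.mul_mem (D.inv_mem hx') hy'⟩
  have hsm : ∀ x, InD x → (x : Ω) ∈ H ∧ (x : Ω) ^ smallExp p = 1 := fun x ⟨h, hx⟩ =>
    ⟨h, by
      have := congrArg (fun z : Y => ((z : P) : Ω)) (hDsmall _ hx)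
      simpa using this⟩
  have hCinv : ∀ (a : F.autGroup P) x, InD x → ∀ i, (x : Ω) ∈ C i → (((a : MulAut P) x : P) : Ω) ∈ C i :=
    fun a x hx => hC a a.2 x (hsm x hx).1 (hsm x hx).2
  let K0 : Subgroup (F.autGroup P) :=
    { carrier := {a | ∀ x, InD x → ∀ i, (x : Ω) ∈ C (i + 1) → (x : Ω)⁻¹ * ((a : MulAut P) x : P) ∈ C i}
      one_mem' := fun x _ i _ => by simp
      mul_mem' := fun {a b} ha hb x hx i hi => by
        have := (C i).mul_mem (hb x hx i hi) (ha _ (hDinv b x hx) i (hCinv b x hx _ hi))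
        rwa [mul_assoc, mul_inv_cancel_left] at this
      inv_mem' := fun {a} ha x hx i hi => by
        have := (C i).inv_mem (ha _ (hDinv a⁻¹ x hx) i (hCinv a⁻¹ x hx _ hi))
        simpa [mul_inv_rev] using this }
  refine ⟨K0.map (F.autGroup P).subtype, Subgroup.map_subtype_le _, ?_, ?_, fun α hα h =>
    ⟨⟨α, hα⟩, fun x hx => h x (hsm x hx).1 (hsm x hx).2, rfl⟩⟩
  · refine IsPGroup.of_equiv ?_ (Subgroup.equivMapOfInjective K0 _ Subtype.val_injective)
    have := finite_autGroup (F := F) hP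
    intro k
    refine ⟨(orderOf k).factorization p, ?_⟩
    let b : K0 := k ^ p ^ (orderOf k).factorization p
    have hb : (orderOf ((b : F.autGroup P) : MulAut P)).Coprime p := by
      rw [Subgroup.orderOf_coe, Subgroup.orderOf_coe]
      show (orderOf (k ^ p ^ _)).Coprime p
      rw [orderOf_pow, Nat.gcd_eq_right (Nat.ordProj_dvd _ _)]
      exact (Nat.coprime_ordCompl Fact.out (orderOf_pos k).ne').symm
    have hfix : ∀ i, ∀ x, InD x → (x : Ω) ∈ C i → ((b : F.autGroup P) : MulAut P) x = x := by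
      intro i
      induction i with
      | zero =>
        intro x _ hx
        rw [h0, Subgroup.mem_bot] at hx
        rw [show x = 1 from Subtype.ext hx, map_one]
      | succ i ih =>
        intro x hx hxi
        exact apply_eq_self_of_step (hS.to_le hP) hb
          (ih _ (hDmul _ _ hx (hDinv b x hx)) (b.2 x hx i hxi))
    have hres : res b = 1 := by
      refine hDdet _ (hb.coprime_dvd_left ?_) fun y hy => Subtype.ext (hfix n y ⟨y.2, hy⟩ (hn ⟨(y : P).2, y.2⟩))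
      rw [Subgroup.orderOf_coe (b : F.autGroup P)]
      exact orderOf_map_dvd res _
    apply Subtype.ext
    apply Subtype.ext
    refine MulEquiv.ext fun x => ?_
    refine apply_eq_self_of_step (hS.to_le hP) hb ?_
    exact congrArg Subtype.val (DFunLike.congr_fun hres ⟨x⁻¹ * ((b : F.autGroup P) : MulAut P) x, hfoc _ (b : F.autGroup P).2 hb x⟩)
  · rintro a ha _ ⟨k, hk, rfl⟩
    refine ⟨⟨a, ha⟩ * k * ⟨a, ha⟩⁻¹, fun x hx i hi => ?_, rfl⟩
    have hx' := hDinv (⟨a, ha⟩⁻¹) x hx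
    have hi' := hCinv (⟨a, ha⟩⁻¹) x hx _ hi
    have h1 := hDmul _ _ hx' (hDinv k _ hx')
    have h2 := hCinv ⟨a, ha⟩ _ h1 i (hk _ hx' i hi')
    simpa using h2

/-- If every essential automiser has a normal `p`-subgroup containing `Aut_S(P)`, then `S` is normal. -/
theorem IsSaturated.isNormal_self_of_pSubgroup [Fact p.Prime] [Finite S] (hF : F.IsSaturated p)
    (hS : IsPGroup p S)
    (h : ∀ P, F.IsEssential p P → ∃ K : Subgroup (MulAut P), K ≤ F.autGroup P ∧ IsPGroup p K ∧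
      (∀ a ∈ F.autGroup P, ∀ k ∈ K, a * k * a⁻¹ ∈ K) ∧ autInducedBy S P ≤ K) :
    F.IsNormal S := by
  refine hF.isNormal_of_invariant hS fun P hP => ?_
  rcases hP with rfl | hP
  · refine ⟨le_rfl, fun α _ => ?_⟩
    rw [Subgroup.subgroupOf_self]
    exact Subgroup.map_top_of_surjective _ α.surjective
  exfalso
  obtain ⟨K, hKle, hKp, hKn, hKS⟩ := h P hP
  have hlt := hP.lt hS hF
  have hKn' : (K.subgroupOf (F.autGroup P)).Normal := ⟨fun k hk a => hKn a a.2 k hk⟩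
  have hK : K ≤ Inn P := by
    intro k hk
    have := CfsgLib.le_pCore (N := K.subgroupOf (F.autGroup P))
      (hKp.of_equiv (Subgroup.subgroupOfEquivOfLe hKle).symm) (x := ⟨k, hKle hk⟩) hk
    exact (hP.isRadical hS hF).2.le ⟨_, this, rfl⟩
  obtain ⟨g, hg, hgP⟩ := SetLike.exists_of_lt (lt_normalizerIn hS hlt)
  obtain ⟨α, hα⟩ : ∃ α : MulAut P, ∀ x : P, ((α x : P) : Ω) = g * (x : Ω) * g⁻¹ :=
    ⟨P.normalizerMonoidHom ⟨g, hg.2⟩, fun _ => rfl⟩
  have h1 : α ∈ autInducedBy P P := by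
    rw [← inn_eq_autInducedBy]
    exact hK (hKS (mem_autInducedBy_iff.mpr ⟨g, hg.1, hg.2, hα⟩))
  obtain ⟨u, hu, -, he⟩ := mem_autInducedBy_iff.mp h1
  refine hgP ?_
  have h2 : u⁻¹ * g ∈ P := hP.1.centralizerIn_le_self ⟨S.mul_mem (S.inv_mem (hlt.le hu)) hg.1,
    Subgroup.mem_centralizer_iff.mpr fun x hx => ?_⟩
  · have := P.mul_mem hu h2
    rwa [mul_inv_cancel_left] at this
  · have h3 : g * x * g⁻¹ = u * x * u⁻¹ := (hα ⟨x, hx⟩).symm.trans (he ⟨x, hx⟩)
    calc x * (u⁻¹ * g) = u⁻¹ * (u * x * u⁻¹) * g := by group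
      _ = u⁻¹ * g * x := by rw [← h3]; group

end FusionSystem

end Cfsg

namespace Cfsg

namespace FusionSystem

variable {Ω : Type*} [Group Ω] {S : Subgroup Ω} {F : FusionSystem S} {p : ℕ}

theorem StronglyClosed.autGroup_apply_mem {H P : Subgroup Ω} (hH : F.StronglyClosed H) (hP : P ≤ S)
    {α : MulAut P} (hα : α ∈ F.autGroup P) (x : P) (hx : (x : Ω) ∈ H) : ((α x : P) : Ω) ∈ H :=
  hH.2 _ (Subgroup.zpowers_le.mpr hx) _
    (F.restrict_mem ((F.mem_autGroup_iff hP).mp hα) (Subgroup.zpowers_le.mpr x.2))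
    ⟨x, Subgroup.mem_zpowers _⟩

variable (S) in
/-- The upper central series of `S`, read in the ambient group. -/
def zSeries (i : ℕ) : Subgroup Ω := (Subgroup.upperCentralSeries S i).map S.subtype

theorem zSeries_zero : zSeries S 0 = ⊥ := by
  rw [zSeries, Subgroup.upperCentralSeries_zero, Subgroup.map_bot]

theorem exists_zSeries_eq (hS : Group.IsNilpotent S) : ∃ n, zSeries S n = S := by
  obtain ⟨n, hn⟩ := Group.IsNilpotent.nilpotent (G := S)
  exact ⟨n, by rw [zSeries, hn, ← MonoidHom.range_eq_map, Subgroup.range_subtype]⟩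

theorem inv_mul_conj_mem_zSeries {x s : Ω} {i : ℕ} (hx : x ∈ zSeries S (i + 1)) (hs : s ∈ S) :
    x⁻¹ * (s * x * s⁻¹) ∈ zSeries S i := by
  obtain ⟨y, hy, rfl⟩ := hx
  have := (Subgroup.mem_upperCentralSeries_succ_iff (G := S)).mp (InvMemClass.inv_mem hy) ⟨s, hs⟩
  refine ⟨_, this, ?_⟩
  simp [commutatorElement_def, mul_assoc]

theorem apply_mem_zSeries (σ : MulAut S) {x : Ω} (hx : x ∈ S) {i : ℕ} (h : x ∈ zSeries S i) :
    ((σ ⟨x, hx⟩ : S) : Ω) ∈ zSeries S i := by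
  obtain ⟨y, hy, rfl⟩ := h
  exact ⟨σ y, CfsgLib.Small.apply_mem_of_char σ hy, rfl⟩

/-- A small element of `P ∩ H` generates a cyclic group of order `p` or `4`. -/
theorem small_cases [Fact p.Prime] [Finite S] (hS : IsPGroup p S) {x : Ω} (hx : x ∈ S)
    (h : x ^ CfsgLib.Small.smallExp p = 1) (hne : x ≠ 1) :
    Nat.card (Subgroup.zpowers x) = p ∨ Nat.card (Subgroup.zpowers x) = 4 := by
  rw [Nat.card_zpowers]
  rcases (CfsgLib.Small.pow_smallExp_eq_one_iff x).mp h with h1 | ⟨rfl, h1⟩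
  · exact Or.inl (orderOf_eq_prime h1 hne)
  · by_cases h2 : x ^ 2 = 1
    · exact Or.inl (orderOf_eq_prime h2 hne)
    · exact Or.inr (orderOf_eq_prime_pow (p := 2) (n := 1) (by simpa using h2) (by simpa using h1))

/-- Hypothesis on small cyclic subgroups turned into an element-wise statement. -/
theorem exists_map_small [Fact p.Prime] [Finite S] (hS : IsPGroup p S) {P H : Subgroup Ω}
    (hH : F.StronglyClosed H) (hP : P ≤ S) {α : MulAut P} (hα : α ∈ F.autGroup P) {x : P}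
    (hx : (x : Ω) ∈ H) (h : (x : Ω) ^ CfsgLib.Small.smallExp p = 1) (hne : (x : Ω) ≠ 1) :
    ∃ A B : Subgroup Ω, A ≤ H ∧ B ≤ H ∧ IsCyclic A ∧ IsCyclic B ∧
      (Nat.card A = p ∨ Nat.card A = 4) ∧ (Nat.card B = p ∨ Nat.card B = 4) ∧
      ∃ hA : (x : Ω) ∈ A, ∃ φ ∈ F.homSet A B, φ ⟨x, hA⟩ = ((α x : P) : Ω) := by
  let y : Ω := ((α x : P) : Ω)
  have hyH : y ∈ H := hH.autGroup_apply_mem hP hα x hx
  have hy : y ^ CfsgLib.Small.smallExp p = 1 := by
    have h1 : x ^ CfsgLib.Small.smallExp p = 1 := Subtype.ext (by simpa using h)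
    show ((α x : P) : Ω) ^ _ = 1
    rw [← Subgroup.coe_pow, ← map_pow, h1, map_one, Subgroup.coe_one]
  have hy1 : y ≠ 1 := fun e => hne (by
    have : α x = 1 := Subtype.ext e
    rw [EmbeddingLike.map_eq_one_iff] at this
    rw [this, Subgroup.coe_one])
  refine ⟨Subgroup.zpowers (x : Ω), Subgroup.zpowers y, Subgroup.zpowers_le.mpr hx,
    Subgroup.zpowers_le.mpr hyH, inferInstance, inferInstance, small_cases hS (hP x.2) h hne,
    small_cases hS (hP (α x).2) hy hy1, Subgroup.mem_zpowers _, _,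
    ⟨F.restrict_mem ((F.mem_autGroup_iff hP).mp hα) (Subgroup.zpowers_le.mpr x.2), ?_⟩, rfl⟩
  rintro ⟨_, n, rfl⟩
  exact ⟨n, by
    show ((α x : P) : Ω) ^ n = _
    rw [← Subgroup.coe_zpow, ← map_zpow]
    rfl⟩

end FusionSystem

end Cfsg
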