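import Cfsg.Agent.Lib.Fusion.SolvableSystem

/-!
Solvability of a fusion system passes to normal subsystems and factor systems, and back.
-/

set_option autoImplicit false
set_option linter.unusedSectionVars false

namespace Cfsg.FusionSystem

open scoped commutatorElement

universe u v
variable {Ω : Type u} [Group Ω] {S : Subgroup Ω} [Finite S] {F : FusionSystem S} {p : ℕ} [Fact p.Prime]

/-- An abelian series of strongly closed subgroups from `R` up to the top. -/
def SeriesFrom (F : FusionSystem S) (R : Subgroup Ω) : Prop :=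
  ∃ (n : ℕ) (T : Fin (n + 1) → Subgroup Ω), T 0 = R ∧ T (Fin.last n) = S ∧ Monotone T ∧
    (∀ i, F.StronglyClosed (T i)) ∧ ∀ i : Fin n, ⁅T i.succ, T i.succ⁆ ≤ T (Fin.castSucc i)

theorem SeriesFrom.cons {R R' : Subgroup Ω} (h : F.SeriesFrom R') (hR : F.StronglyClosed R) (hle : R ≤ R')
    (hab : ⁅R', R'⁆ ≤ R) : F.SeriesFrom R := by
  obtain ⟨n, T, h0, hlast, hmono, hsc, hab'⟩ := h
  refine ⟨n + 1, Fin.cons R T, rfl, ?_, Fin.monotone_iff_le_succ.mpr ?_, ?_, ?_⟩
  · rw [← Fin.succ_last, Fin.cons_succ, hlast]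
  · intro i
    induction i using Fin.cases with
    | zero => rw [Fin.castSucc_zero, Fin.cons_zero, Fin.cons_succ, h0]; exact hle
    | succ i => rw [← Fin.succ_castSucc, Fin.cons_succ, Fin.cons_succ]; exact hmono (Fin.castSucc_lt_succ).le
  · intro i
    induction i using Fin.cases with
    | zero => exact hR
    | succ i => exact hsc i
  · intro i
    induction i using Fin.cases with
    | zero => rw [Fin.castSucc_zero, Fin.cons_zero, Fin.cons_succ, h0]; exact hab
    | succ i => rw [← Fin.succ_castSucc, Fin.cons_succ, Fin.cons_succ]; exact hab' i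

section factor
variable {Ω' : Type v} [Group Ω'] {S' : Subgroup Ω'} [Finite S'] {θ : S →* Ω'} {D : FusionSystem S'}
  {S₀ : Subgroup Ω}

theorem seriesFrom_of_factor (hS : IsPGroup p S) (hF : F.IsSaturated p) (hD : F.IsFactorSystem S₀ θ D)
    (hS₀ : F.StronglyClosed S₀) (hS' : IsPGroup p S') (hDs : D.IsSaturated p) (h : D.IsSolvableSystem) :
    F.SeriesFrom S₀ := by
  obtain ⟨n, T, h0, hlast, hmono, hsc, hab⟩ := (isSolvableSystem_iff hS' hDs).mp h
  refine ⟨n, fun i => preimageAlong θ (T i), ?_, ?_, fun a b hab' x hx => ?_,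
    fun i => stronglyClosed_preimageAlong hF hS hD hS₀ (hsc i), fun i => ?_⟩
  · ext x
    rw [mem_preimageAlong, h0]
    exact ⟨fun ⟨hx, h1⟩ => (hD.2.1 ⟨x, hx⟩).mp (Subgroup.mem_bot.mp h1),
      fun hx => ⟨hD.1 hx, Subgroup.mem_bot.mpr ((hD.2.1 ⟨x, hD.1 hx⟩).mpr hx)⟩⟩
  · ext x
    rw [mem_preimageAlong, hlast]
    exact ⟨fun ⟨hx, _⟩ => hx, fun hx => ⟨hx, hD.2.2.1.le ⟨_, rfl⟩⟩⟩
  · obtain ⟨hxS, hx'⟩ := mem_preimageAlong.mp hx
    exact mem_preimageAlong.mpr ⟨hxS, hmono hab' hx'⟩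
  · rw [Subgroup.commutator_le]
    intro a ha b hb
    obtain ⟨haS, hθa⟩ := mem_preimageAlong.mp ha
    obtain ⟨hbS, hθb⟩ := mem_preimageAlong.mp hb
    refine mem_preimageAlong.mpr ⟨(⁅(⟨a, haS⟩ : S), ⟨b, hbS⟩⁆ : S).2, ?_⟩
    show θ ⁅(⟨a, haS⟩ : S), ⟨b, hbS⟩⁆ ∈ _
    rw [map_commutatorElement]
    exact hab i (Subgroup.commutator_mem_commutator hθa hθb)

end factor

variable {T : Subgroup Ω} {E : FusionSystem T}

theorem stronglyClosed_subsystem (hE : E.IsSubsystemOf F) (hT : T ≤ S) {A : Subgroup Ω} (hA : F.StronglyClosed A) :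
    E.StronglyClosed (A ⊓ T) :=
  ⟨inf_le_right, fun R hR φ hφ x => Subgroup.mem_inf.mpr
    ⟨hA.2 R (hR.trans inf_le_left) φ (hE R hφ) x, E.apply_mem hφ x⟩⟩

/-- The image of a subgroup of `T` under an automorphism of `T`. -/
def mapT (α : MulAut T) (A : Subgroup Ω) : Subgroup Ω := (A.subgroupOf T).map (T.subtype.comp α.toMonoidHom)

theorem stronglyClosed_mapT (h : E.IsInvariantIn F) {α : MulAut T} (hα : α ∈ F.autGroup T) {A : Subgroup Ω}
    (hA : E.StronglyClosed A) : E.StronglyClosed (mapT α A) := by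
  refine ⟨by rintro _ ⟨t, -, rfl⟩; exact (α t).2, fun R hR φ hφ x => ?_⟩
  have hRT : R ≤ T := E.source_le hφ
  obtain ⟨χ, hχ, hχe⟩ := h.2.2.1 R hRT φ hφ α⁻¹ (Subgroup.inv_mem _ hα)
  have hle : (R.subgroupOf T).map (T.subtype.comp (α⁻¹).toMonoidHom) ≤ A := by
    rintro _ ⟨r, hr, rfl⟩
    obtain ⟨t, ht, hte⟩ := hR hr
    have hre : r = α t := Subtype.ext hte.symm
    show ((α⁻¹ r : T) : Ω) ∈ A
    rw [hre, MulAut.inv_apply_self]
    exact ht
  have hmem : ((α⁻¹ ⟨x, hRT x.2⟩ : T) : Ω) ∈ (R.subgroupOf T).map (T.subtype.comp (α⁻¹).toMonoidHom) :=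
    ⟨⟨x, hRT x.2⟩, x.2, rfl⟩
  have h1 := hA.2 _ hle χ hχ ⟨_, hmem⟩
  rw [hχe x (E.apply_mem hφ x) hmem] at h1
  exact ⟨α⁻¹ ⟨φ x, E.apply_mem hφ x⟩, h1, by simp⟩

theorem stronglyClosed_of_invariant_solv (h : E.IsInvariantIn F) {A : Subgroup Ω} (hA : E.StronglyClosed A)
    (hinv : ∀ α ∈ F.autGroup T, ∀ t : T, (t : Ω) ∈ A → ((α t : T) : Ω) ∈ A) : F.StronglyClosed A := by
  refine ⟨hA.1.trans h.2.1.1, fun R hR φ hφ x => ?_⟩
  obtain ⟨α, hα, φ₀, hφ₀, he⟩ := h.2.2.2 R (hR.trans hA.1) φ hφ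
  rw [he x (E.apply_mem hφ₀ x)]
  exact hinv α hα ⟨φ₀ x, E.apply_mem hφ₀ x⟩ (hA.2 R hR φ₀ hφ₀ x)

/-- The next invariant abelian step inside `T`. -/
theorem exists_invariant_step (hS : IsPGroup p S) (hE : E.IsWeaklyNormalIn F p) (hsolv : E.IsSolvableSystem)
    {R : Subgroup Ω} (hR : E.StronglyClosed R)
    (hRinv : ∀ α ∈ F.autGroup T, ∀ t : T, (t : Ω) ∈ R → ((α t : T) : Ω) ∈ R) (hne : R ≠ T) :
    ∃ R' : Subgroup Ω, R < R' ∧ ⁅R', R'⁆ ≤ R ∧ E.StronglyClosed R' ∧
      ∀ α ∈ F.autGroup T, ∀ t : T, (t : Ω) ∈ R' → ((α t : T) : Ω) ∈ R' := by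
  have hTS : T ≤ S := hE.2.2.2.1.1
  haveI : Finite T := Finite.of_injective _ (Subgroup.inclusion_injective hTS)
  have hTp : IsPGroup p T := hS.of_injective _ (Subgroup.inclusion_injective hTS)
  haveI := hR.subgroupOf_normal
  obtain ⟨D, hD⟩ := Cfsg.Agent.S5132.result p hTp E R hR
  set θ := QuotientGroup.mk' (R.subgroupOf T) with hθ
  have hDs : D.IsSaturated p :=
    Cfsg.Agent.S5133.result p hTp E hE.1 D θ (Cfsg.Agent.S5134.result p hTp E hE.1 R hR θ D hD)
  have hQp : IsPGroup p (⊤ : Subgroup (T ⧸ R.subgroupOf T)) := (hTp.to_quotient _).to_subgroup ⊤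
  -- one nontrivial abelian step
  obtain ⟨n, C, h0, hlast, hmono, hsc, hab⟩ := exists_abelian_series hTp hE.1 hsolv R hR
  obtain ⟨i, hi, hi'⟩ : ∃ i : Fin n, C i.castSucc ≤ R ∧ ¬ C i.succ ≤ R := by
    by_contra hcon
    push Not at hcon
    have key : ∀ i : Fin (n + 1), C i ≤ R := by
      intro i
      induction i using Fin.induction with
      | zero => exact h0.le
      | succ i ih => exact hcon i ih
    exact hne (le_antisymm hR.1 (hlast ▸ key (Fin.last n)))
  set A := C i.succ with hA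
  -- its orbit, modulo `R`
  let P : Subgroup Ω → Prop := fun X => E.StronglyClosed X ∧ ⁅X, X⁆ ≤ R
  set J : Subgroup Ω := R ⊔ ⨆ α : F.autGroup T, mapT (α : MulAut T) A with hJ
  have hAP : ∀ α : F.autGroup T, P (mapT (α : MulAut T) A) := fun α => by
    refine ⟨stronglyClosed_mapT hE.2.2 α.2 (hsc _), ?_⟩
    rw [Subgroup.commutator_le]
    rintro _ ⟨a, ha, rfl⟩ _ ⟨b, hb, rfl⟩
    rw [← map_commutatorElement]
    exact hRinv _ α.2 _ (hi (hab i (Subgroup.commutator_mem_commutator ha hb)))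
  have hnorm : ∀ X : Subgroup Ω, P X → D.IsNormal (imageAlong θ X) := fun X hX => by
    have hXsc := stronglyClosed_imageAlong hE.1 hTp hD hR hX.1
    have hXab : ⁅imageAlong θ X, imageAlong θ X⁆ ≤ ⊥ := by
      rw [Subgroup.commutator_le]
      rintro _ ⟨a, ha, rfl⟩ _ ⟨b, hb, rfl⟩
      rw [Subgroup.mem_bot, ← map_commutatorElement, hD.2.1]
      exact hX.2 (Subgroup.commutator_mem_commutator ha hb)
    exact hDs.isNormal_of_series hQp (n := 1) ![⊥, imageAlong θ X] rfl rfl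
      (Fin.monotone_iff_le_succ.mpr fun j => by rw [Fin.fin_one_eq_zero j]; exact bot_le)
      (fun j => by rw [Fin.fin_one_eq_zero j]; exact ⟨hXsc, hXab⟩)
  set K : Subgroup (T ⧸ R.subgroupOf T) := ⨆ α : F.autGroup T, imageAlong θ (mapT (α : MulAut T) A) with hK
  have hKn : D.IsNormal K := by
    let pr : Subgroup (T ⧸ R.subgroupOf T) → Prop := fun X => D.IsNormal X ∧ X ≤ K
    have h1 : pr (sSup {X | pr X}) := sSup_prop_of_le (S := (⊤ : Subgroup (T ⧸ R.subgroupOf T))) pr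
      ⟨isNormal_bot, bot_le⟩ (fun X Y hX hY => ⟨hX.1.sup hY.1, sup_le hX.2 hY.2⟩) (fun _ _ => le_top)
    have h2 : K = sSup {X | pr X} := le_antisymm
      (iSup_le fun α => le_sSup ⟨hnorm _ (hAP α), le_iSup (fun α : F.autGroup T => imageAlong θ (mapT (α : MulAut T) A)) α⟩)
      h1.2
    rw [h2]
    exact h1.1
  set Z : Subgroup (T ⧸ R.subgroupOf T) := (Subgroup.center ↥K).map K.subtype with hZ
  have hZn : D.IsNormal Z := hKn.of_characteristic (Subgroup.map_subtype_le _) (by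
    rw [show ((Subgroup.center ↥K).map K.subtype).subgroupOf K = Subgroup.center ↥K from
      Subgroup.comap_map_eq_self_of_injective (Subgroup.subtype_injective _) _]
    infer_instance)
  -- invariance of `K`
  have hKmem : ∀ t : T, θ t ∈ K → ∀ α ∈ F.autGroup T, θ (α t) ∈ K := by
    intro t ht α hα
    have hker : R.subgroupOf T ≤ ((QuotientGroup.mk' (R.subgroupOf T)).comp α.toMonoidHom).ker := fun r hr =>
      (QuotientGroup.eq_one_iff _).mpr (hRinv α hα r hr)
    let f : T ⧸ R.subgroupOf T →* T ⧸ R.subgroupOf T := QuotientGroup.lift _ _ hker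
    have hf : K ≤ K.comap f := iSup_le fun β => by
      rintro _ ⟨s, ⟨a, ha, hae⟩, rfl⟩
      refine Subgroup.mem_comap.mpr (le_iSup (fun γ : F.autGroup T => imageAlong θ (mapT (γ : MulAut T) A))
        (⟨α, hα⟩ * β) ⟨α s, ⟨a, ha, ?_⟩, rfl⟩)
      have hse : s = (β : MulAut T) a := Subtype.ext hae.symm
      rw [hse]
      rfl
    exact hf ht
  refine ⟨preimageAlong θ Z, ?_, ?_, stronglyClosed_preimageAlong hE.1 hTp hD hR hZn.stronglyClosed, ?_⟩
  · refine lt_of_le_of_ne (le_preimageAlong hD.2.1 hR.1) fun e => ?_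
    have hKne : K ≠ ⊥ := by
      intro hK'
      refine hi' fun a ha => ?_
      have haT := (hsc i.succ).1 ha
      have h1 : θ ⟨a, haT⟩ ∈ K := le_iSup (fun γ : F.autGroup T => imageAlong θ (mapT (γ : MulAut T) A)) 1
        ⟨⟨a, haT⟩, ⟨⟨a, haT⟩, ha, rfl⟩, rfl⟩
      rw [hK', Subgroup.mem_bot] at h1
      exact (hD.2.1 _).mp h1
    haveI : Nontrivial ↥K := (Subgroup.nontrivial_iff_ne_bot _).mpr hKne
    haveI : Nontrivial (Subgroup.center ↥K) := ((hTp.to_quotient (R.subgroupOf T)).to_subgroup K).center_nontrivial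
    obtain ⟨z, hz⟩ := exists_ne (1 : Subgroup.center ↥K)
    obtain ⟨s, hs⟩ := QuotientGroup.mk'_surjective (R.subgroupOf T) ((z : ↥K) : T ⧸ R.subgroupOf T)
    have h1 : (s : Ω) ∈ preimageAlong θ Z := mem_preimageAlong.mpr ⟨s.2, by
      show θ s ∈ Z
      rw [hθ, hs]
      exact ⟨z, z.2, rfl⟩⟩
    have h2 := (hD.2.1 s).mpr (e ▸ h1)
    rw [hs] at h2
    exact hz (Subtype.ext (Subtype.ext h2))
  · rw [Subgroup.commutator_le]
    intro a ha b hb
    obtain ⟨haT, za, hza, hza'⟩ := mem_preimageAlong.mp ha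
    obtain ⟨hbT, zb, -, hzb'⟩ := mem_preimageAlong.mp hb
    refine (hD.2.1 ⁅(⟨a, haT⟩ : T), ⟨b, hbT⟩⁆).mp ?_
    rw [map_commutatorElement, commutatorElement_eq_one_iff_mul_comm, ← hza', ← hzb', ← map_mul, ← map_mul,
      Subgroup.mem_center_iff.mp hza zb]
  · intro α hα t ht
    obtain ⟨htT, z, hz, hzt⟩ := mem_preimageAlong.mp ht
    have hzt' : θ t = (z : T ⧸ R.subgroupOf T) := Eq.symm hzt
    refine mem_preimageAlong.mpr ⟨(α t).2, ⟨θ (α t), hKmem t (hzt' ▸ z.2) α hα⟩, ?_, rfl⟩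
    refine Subgroup.mem_center_iff.mpr fun y => Subtype.ext ?_
    obtain ⟨s, hs⟩ := QuotientGroup.mk'_surjective (R.subgroupOf T) (y : T ⧸ R.subgroupOf T)
    have hs' : θ (α⁻¹ s) ∈ K := hKmem s (by rw [hθ, hs]; exact y.2) α⁻¹ (Subgroup.inv_mem _ hα)
    have h1 : Commute (θ t) (θ (α⁻¹ s)) := by
      rw [hzt']
      exact (congrArg Subtype.val (Subgroup.mem_center_iff.mp hz ⟨_, hs'⟩)).symm
    have h2 : ⁅t, α⁻¹ s⁆ ∈ R.subgroupOf T := (QuotientGroup.eq_one_iff _).mp (by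
      show θ _ = 1
      rw [map_commutatorElement, commutatorElement_eq_one_iff_mul_comm]; exact h1.eq)
    have h3 : ((α ⁅t, α⁻¹ s⁆ : T) : Ω) ∈ R := hRinv α hα _ h2
    have h4 : θ ⁅α t, s⁆ = 1 := by
      refine (hD.2.1 _).mpr ?_
      rwa [map_commutatorElement, MulAut.apply_inv_self] at h3
    rw [map_commutatorElement, commutatorElement_eq_one_iff_mul_comm] at h4
    rw [Subgroup.coe_mul, Subgroup.coe_mul, ← hs]
    exact h4.symm

theorem isSolvableSystem_extension_iff (hS : IsPGroup p S) (hF : F.IsSaturated p) (hE : E.IsWeaklyNormalIn F p)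
    {Ω' : Type v} [Group Ω'] {S' : Subgroup Ω'} {θ : S →* Ω'} {D : FusionSystem S'}
    (hD : F.IsFactorSystem T θ D) : F.IsSolvableSystem ↔ (E.IsSolvableSystem ∧ D.IsSolvableSystem) := by
  have hT : F.StronglyClosed T := hE.2.2.2.1
  haveI : Finite T := Finite.of_injective _ (Subgroup.inclusion_injective hT.1)
  have hTp : IsPGroup p T := hS.of_injective _ (Subgroup.inclusion_injective hT.1)
  have hr := hD.2.2.1
  haveI : Finite S' := Finite.of_surjective (fun s : S => (⟨θ s, hr.le ⟨s, rfl⟩⟩ : S')) fun y => by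
    obtain ⟨s, hs⟩ := hr.ge y.2
    exact ⟨s, Subtype.ext hs⟩
  have hS' : IsPGroup p S' := hS.of_surjective (θ.codRestrict S' fun s => hr.le ⟨s, rfl⟩) fun y => by
    obtain ⟨s, hs⟩ := hr.ge y.2
    exact ⟨s, Subtype.ext hs⟩
  have hDs : D.IsSaturated p :=
    Cfsg.Agent.S5133.result p hS F hF D θ (Cfsg.Agent.S5134.result p hS F hF T hT θ D hD)
  constructor
  · intro h
    obtain ⟨n, C, h0, hlast, hmono, hsc, hab⟩ := (isSolvableSystem_iff hS hF).mp h
    refine ⟨(isSolvableSystem_iff hTp hE.1).mpr ⟨n, fun i => C i ⊓ T, by simp [h0], ?_,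
      fun a b h' => inf_le_inf_right _ (hmono h'), fun i => stronglyClosed_subsystem hE.2.2.1 hT.1 (hsc i),
      fun i => ?_⟩, (isSolvableSystem_iff hS' hDs).mpr ⟨n, fun i => imageAlong θ (C i), ?_, ?_,
      fun a b h' => Subgroup.map_mono (Subgroup.comap_mono (hmono h')),
      fun i => stronglyClosed_imageAlong hF hS hD hT (hsc i), fun i => ?_⟩⟩
    · show C (Fin.last n) ⊓ T = T
      rw [hlast, inf_eq_right.mpr hT.1]
    · exact le_inf ((Subgroup.commutator_mono inf_le_left inf_le_left).trans (hab i))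
        ((Subgroup.commutator_mono inf_le_right inf_le_right).trans (Subgroup.commutator_le_self T))
    · show imageAlong θ (C 0) = ⊥
      rw [h0, eq_bot_iff]
      rintro _ ⟨s, hs, rfl⟩
      rw [Subgroup.mem_bot, show s = 1 from Subtype.ext (Subgroup.mem_bot.mp hs), map_one]
    · show imageAlong θ (C (Fin.last n)) = S'
      rw [hlast, imageAlong, Subgroup.subgroupOf_self, ← MonoidHom.range_eq_map, hr]
    · show ⁅imageAlong θ (C i.succ), imageAlong θ (C i.succ)⁆ ≤ imageAlong θ (C i.castSucc)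
      rw [Subgroup.commutator_le]
      rintro _ ⟨a, ha, rfl⟩ _ ⟨b, hb, rfl⟩
      rw [← map_commutatorElement]
      exact Subgroup.mem_map_of_mem θ (show ((⁅a, b⁆ : S) : Ω) ∈ C i.castSucc from
        hab i (Subgroup.commutator_mem_commutator (show (a : Ω) ∈ C i.succ from ha) (show (b : Ω) ∈ C i.succ from hb)))
  · rintro ⟨hEs, hDsol⟩
    have htop : F.SeriesFrom T := seriesFrom_of_factor hS hF hD hT hS' hDs hDsol
    suffices key : ∀ R : Subgroup Ω, E.StronglyClosed R →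
        (∀ α ∈ F.autGroup T, ∀ t : T, (t : Ω) ∈ R → ((α t : T) : Ω) ∈ R) → F.SeriesFrom R by
      refine (isSolvableSystem_iff hS hF).mpr (key ⊥ isNormal_bot.stronglyClosed fun α _ t ht => ?_)
      rw [Subgroup.mem_bot] at ht ⊢
      rw [show t = 1 from Subtype.ext ht, map_one]
      rfl
    intro R
    induction hm : Nat.card T - Nat.card R using Nat.strong_induction_on generalizing R with
    | _ m ih =>
    intro hR hinv
    by_cases hRT : R = T
    · rw [hRT]; exact htop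
    obtain ⟨R', hlt, hab, hR', hinv'⟩ := exists_invariant_step hS hE hEs hR hinv hRT
    haveI : Finite R' := Finite.of_injective _ (Subgroup.inclusion_injective hR'.1)
    have h1 : Nat.card R < Nat.card R' := card_lt_of_lt hlt
    have h2 : Nat.card R' ≤ Nat.card T := Nat.card_le_card_of_injective _ (Subgroup.inclusion_injective hR'.1)
    exact (ih (Nat.card T - Nat.card R') (by omega) R' rfl hR' hinv').cons
      (stronglyClosed_of_invariant_solv hE.2.2 hR hinv) hlt.le hab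

end Cfsg.FusionSystem
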