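import Cfsg.Agent.Lib.Basic
import Cfsg.Agent.Lib.Fusion.Saturation
import Cfsg.Agent.Lib.Fusion.Systems
import Mathlib.GroupTheory.SpecificGroups.Cyclic

/-!
`p`-stability of a fusion system is detected in normalizer systems.
-/

set_option autoImplicit false
set_option linter.unusedSectionVars false

namespace Cfsg.FusionSystem

universe u
variable {Ω : Type u} [Group Ω] {S : Subgroup Ω}

/-- The quadratic stability condition at one subgroup. -/
def StableAt (F : FusionSystem S) (p : ℕ) (Q : Subgroup Ω) : Prop :=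
  ∀ χ : MulAut ↥Q, χ ∈ F.autGroup Q → (∀ a : ↥Q, (χ a⁻¹) * a * (χ a⁻¹) * (χ (χ a)) = 1) →
    χ ∈ ((pCore p ↥(F.autGroup Q)).map (F.autGroup Q).subtype : Subgroup (MulAut ↥Q))

theorem mem_pCore_of_injective {A B : Type*} [Group A] [Group B] [Finite A] [Finite B] {p : ℕ} (f : A →* B)
    (hf : Function.Injective f) {a : A} (h : f a ∈ pCore p B) : a ∈ pCore p A := by
  have hp : IsPGroup p ↥((pCore p B).comap f) :=
    (CfsgLib.isPGroup_pCore p).comap_of_injective f hf
  exact CfsgLib.le_pCore hp h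

variable [Finite S]

theorem stableAt_transport (F : FusionSystem S) {p : ℕ} {Q Q' : Subgroup Ω} {φ : Q →* Ω} (hφ : φ ∈ F.Hom Q)
    (hr : φ.range = Q') (h : F.StableAt p Q') : F.StableAt p Q := by
  intro χ hχ hquad
  haveI : Finite Q := Finite.of_injective _ (Subgroup.inclusion_injective (F.source_le hφ))
  haveI : Finite Q' := Finite.of_injective _ (Subgroup.inclusion_injective (hr ▸ F.range_le hφ))
  set e := F.isoOf hφ hr
  let f : ↥(F.autGroup Q) →* ↥(F.autGroup Q') :=
    ((MulAut.congr e).toMonoidHom.comp (F.autGroup Q).subtype).codRestrict _ fun α =>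
      (F.autGroup_map_congr hφ hr).le ⟨α, α.2, rfl⟩
  have hf : Function.Injective f := fun a b hab =>
    Subtype.ext ((MulAut.congr e).injective (congrArg Subtype.val hab))
  have h1 := h (f ⟨χ, hχ⟩ : MulAut Q') (f ⟨χ, hχ⟩).2 fun a => by
    obtain ⟨b, rfl⟩ := e.surjective a
    have hc : ∀ x, ((f ⟨χ, hχ⟩ : MulAut Q')) (e x) = e (χ x) := fun x => by
      show e (χ (e.symm (e x))) = _
      rw [e.symm_apply_apply]
    rw [← map_inv e, hc, hc, hc, ← map_mul, ← map_mul, ← map_mul, hquad, map_one]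
  obtain ⟨c, hc, hce⟩ := h1
  haveI : Finite (MulAut Q) := Finite.of_injective (fun a : MulAut Q => (a : Q → Q)) DFunLike.coe_injective
  haveI : Finite (MulAut Q') := Finite.of_injective (fun a : MulAut Q' => (a : Q' → Q')) DFunLike.coe_injective
  exact ⟨⟨χ, hχ⟩, mem_pCore_of_injective f hf (by rwa [← (Subtype.ext hce : c = f ⟨χ, hχ⟩)]), rfl⟩

theorem stable_normalizer_iff {p : ℕ} [Fact p.Prime] (hS : IsPGroup p S) (F : FusionSystem S) :
    (∀ Q : Subgroup Ω, F.IsFullyNormalized Q → F.StableAt p Q) ↔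
      ∀ R : Subgroup Ω, F.IsFullyNormalized R → ¬ IsCyclic ↥R → ∀ N : FusionSystem (normalizerIn S R),
        F.IsNormalizerSystem R N → ∀ Q : Subgroup Ω, N.IsFullyNormalized Q → N.StableAt p Q := by
  constructor
  · intro h R hR _ N hN Q hQ χ hχ hquad
    have hQN : Q ≤ normalizerIn S R := hQ.1
    have hQS : Q ≤ S := hQN.trans inf_le_left
    haveI : Finite Q := Finite.of_injective _ (Subgroup.inclusion_injective hQS)
    haveI : Finite (MulAut Q) := Finite.of_injective (fun a : MulAut Q => (a : Q → Q)) DFunLike.coe_injective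
    have hle : N.autGroup Q ≤ F.autGroup Q := fun α hα => (F.mem_autGroup_iff hQS).mpr (by
      have h1 := (N.mem_autGroup_iff hQN).mp hα
      rw [hN] at h1
      exact h1.1)
    obtain ⟨Q', hconj, hQ'⟩ := exists_isFullyNormalized (F := F) hQS
    obtain ⟨φ, hφ, hr⟩ := hconj
    obtain ⟨c, hc, hce⟩ := stableAt_transport F hφ hr (h Q' hQ') χ (hle hχ) hquad
    refine ⟨⟨χ, hχ⟩, mem_pCore_of_injective (Subgroup.inclusion hle) (Subgroup.inclusion_injective hle) ?_, rfl⟩
    rwa [show Subgroup.inclusion hle ⟨χ, hχ⟩ = c from Subtype.ext hce.symm]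
  · intro h Q hQ χ hχ hquad
    haveI : Finite Q := Finite.of_injective _ (Subgroup.inclusion_injective hQ.1)
    haveI : Finite (MulAut Q) := Finite.of_injective (fun a : MulAut Q => (a : Q → Q)) DFunLike.coe_injective
    by_cases hcyc : IsCyclic Q
    · haveI := hcyc
      letI : CommGroup Q := IsCyclic.commGroup
      have hc : ∀ a : Q, χ (a⁻¹ * χ a) = a⁻¹ * χ a := fun a => by
        have h1 := hquad a
        rw [map_inv] at h1
        have h2 : a * χ (χ a) = χ a * χ a := by
          calc a * χ (χ a) = χ a * χ a * ((χ a)⁻¹ * a * (χ a)⁻¹ * χ (χ a)) := by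
                simp [mul_assoc, mul_comm, mul_left_comm]
            _ = χ a * χ a := by rw [h1, mul_one]
        rw [map_mul, map_inv]
        calc (χ a)⁻¹ * χ (χ a) = (χ a)⁻¹ * a⁻¹ * (a * χ (χ a)) := by group
          _ = (χ a)⁻¹ * a⁻¹ * (χ a * χ a) := by rw [h2]
          _ = a⁻¹ * χ a := by simp [mul_assoc, mul_comm, mul_left_comm]
      have hpow : ∀ (k : ℕ) (a : Q), (χ ^ k) a = a * (a⁻¹ * χ a) ^ k := by
        intro k
        induction k with
        | zero => intro a; simp
        | succ k ih =>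
          intro a
          rw [pow_succ', MulAut.mul_apply, ih, map_mul, map_pow, hc, pow_succ', ← mul_assoc a, mul_inv_cancel_left]
      obtain ⟨m, hm⟩ := IsPGroup.iff_card.mp (hS.of_injective _ (Subgroup.inclusion_injective hQ.1))
      have hord : (⟨χ, hχ⟩ : F.autGroup Q) ^ p ^ m = 1 := by
        refine Subtype.ext (MulEquiv.ext fun a => ?_)
        show (χ ^ p ^ m) a = a
        rw [hpow, ← hm, pow_card_eq_one', mul_one]
      have hcomm : ∀ α β : MulAut Q, α * β = β * α := fun α β => by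
        obtain ⟨g, hg⟩ := IsCyclic.exists_generator (α := Q)
        refine MulEquiv.ext fun a => ?_
        obtain ⟨k, rfl⟩ := hg a
        obtain ⟨i, hi⟩ := hg (α g)
        obtain ⟨j, hj⟩ := hg (β g)
        have hi' : g ^ i = α g := hi
        have hj' : g ^ j = β g := hj
        show α (β (g ^ k)) = β (α (g ^ k))
        rw [map_zpow β, map_zpow α g, ← hj', map_zpow α, map_zpow α, ← hi', map_zpow β, map_zpow β, ← hj',
          zpow_comm g i j]
      haveI : (Subgroup.zpowers (⟨χ, hχ⟩ : F.autGroup Q)).Normal :=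
        ⟨fun n hn g => by rwa [show g * n * g⁻¹ = n from Subtype.ext (by
          show (g : MulAut Q) * n * (g : MulAut Q)⁻¹ = n
          rw [hcomm _ (n : MulAut Q), mul_inv_cancel_right])]⟩
      have hzp : IsPGroup p ↥(Subgroup.zpowers (⟨χ, hχ⟩ : F.autGroup Q)) := by
        intro x
        obtain ⟨k, hk⟩ := x.2
        refine ⟨m, Subtype.ext ?_⟩
        have hk' : (⟨χ, hχ⟩ : F.autGroup Q) ^ k = x := hk
        rw [Subgroup.coe_pow, ← hk', ← zpow_natCast, ← zpow_mul, mul_comm, zpow_mul, zpow_natCast, hord, one_zpow]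
        rfl
      exact ⟨⟨χ, hχ⟩, CfsgLib.le_pCore hzp (Subgroup.mem_zpowers _), rfl⟩
    · set N := F.normalizerSystem Q hQ.1
      have hQN : Q ≤ normalizerIn S Q := le_inf hQ.1 Subgroup.le_normalizer
      have hfn : N.IsFullyNormalized Q := by
        refine ⟨hQN, fun Q' hQ' => ?_⟩
        obtain ⟨φ, ⟨hφ, -, -, ψ, hψ, hψe, hψQ⟩, rfl⟩ := hQ'
        have he : φ.range = Q := by
          refine le_antisymm ?_ ?_
          · rintro _ ⟨x, rfl⟩
            rw [← hψe x]
            exact hψQ.le ⟨_, x.2, rfl⟩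
          · intro y hy
            obtain ⟨z, hz, rfl⟩ := hψQ.ge hy
            exact ⟨⟨z, hz⟩, by rw [← hψe]; rfl⟩
        rw [he]
      have hle : F.autGroup Q ≤ N.autGroup Q := fun α hα => (N.mem_autGroup_iff hQN).mpr (by
        obtain ⟨φ, hφ, hφr, hφe⟩ := F.exists_map_of_mem_autGroup hQ.1 hα
        refine N.mem_of_apply_eq (φ := φ) ⟨hφ, hQN, fun x => hQN (hφr.le ⟨x, rfl⟩),
          φ.comp (Subgroup.inclusion (sup_idem Q).le), F.restrict_mem hφ _, fun x => rfl, ?_⟩ (fun x => (hφe x).symm)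
        refine le_antisymm ?_ ?_
        · rintro _ ⟨z, -, rfl⟩; exact hφr.le ⟨_, rfl⟩
        · intro y hy
          obtain ⟨z, rfl⟩ := hφr.ge hy
          exact ⟨⟨z, Subgroup.mem_sup_left z.2⟩, z.2, rfl⟩)
      obtain ⟨c, hc, hce⟩ := h Q hQ hcyc N (fun _ => rfl) Q hfn χ (hle hχ) hquad
      refine ⟨⟨χ, hχ⟩, mem_pCore_of_injective (Subgroup.inclusion hle) (Subgroup.inclusion_injective hle) ?_, rfl⟩
      rwa [show Subgroup.inclusion hle ⟨χ, hχ⟩ = c from Subtype.ext hce.symm]

end Cfsg.FusionSystem
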