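import Cfsg.Agent.Lib.Fusion.Transport
import Cfsg.Agent.Lib.Fusion.Normal
import Cfsg.Agent.Lib.Fusion.SelfAut
import Cfsg.Agent.Lib.Fusion.SmallControl
import Cfsg.Agent.Lib.Elementary
import Mathlib.GroupTheory.SchurZassenhaus
import Mathlib.GroupTheory.SemidirectProduct
import Mathlib.FieldTheory.Finite.Basic
import Mathlib.Algebra.Module.ZMod

/-!
Supersoluble fusion systems: normality of `S` and abelian automisers.
-/

set_option autoImplicit false
set_option linter.unusedSectionVars false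

universe u

namespace CfsgLib.EigenSubgroup

open Polynomial in
/-- An operator killed by `T ^ p - T` has an eigenvector. -/
theorem exists_eigen {p : ℕ} [Fact p.Prime] {V : Type*} [AddCommGroup V] [Module (ZMod p) V] [Nontrivial V]
    (g : Module.End (ZMod p) V) (hg : g ^ p = g) : ∃ (k : ZMod p) (v : V), v ≠ 0 ∧ g v = k • v := by
  by_contra h
  push Not at h
  have hinj : ∀ s : Finset (ZMod p), Function.Injective (aeval g (∏ k ∈ s, (X - C k)) : Module.End (ZMod p) V) := by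
    intro s
    induction s using Finset.induction with
    | empty => intro a b e; simpa using e
    | insert k s hk ih =>
      rw [Finset.prod_insert hk, map_mul]
      intro a b e
      rw [Module.End.mul_apply, Module.End.mul_apply] at e
      refine ih ?_
      generalize aeval g (∏ x ∈ s, (X - C x)) a = a' at e ⊢
      generalize aeval g (∏ x ∈ s, (X - C x)) b = b' at e ⊢
      by_contra hab
      refine h k (a' - b') (sub_ne_zero.mpr hab) ?_
      have e' := sub_eq_zero.mpr e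
      simp only [map_sub, aeval_X, aeval_C, LinearMap.sub_apply, Module.algebraMap_end_apply] at e'
      rw [map_sub, smul_sub, ← sub_eq_zero, ← e']
      abel
  have hp1 : 1 < p := (Fact.out : p.Prime).one_lt
  have hprod : (∏ k ∈ (Finset.univ : Finset (ZMod p)), (X - C k)) = (X ^ p - X : (ZMod p)[X]) := by
    have hr : ((X ^ p - X : (ZMod p)[X])).roots = Finset.univ.val := by
      have := FiniteField.roots_X_pow_card_sub_X (ZMod p)
      rwa [ZMod.card] at this
    have hmon : (X ^ p - X : (ZMod p)[X]).Monic := monic_X_pow_sub (by rw [degree_X]; exact_mod_cast hp1)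
    rw [← prod_multiset_X_sub_C_of_monic_of_roots_card_eq hmon
      (by rw [hr, FiniteField.X_pow_card_sub_X_natDegree_eq (ZMod p) hp1]; simp), hr]
    rfl
  obtain ⟨v, hv⟩ := exists_ne (0 : V)
  refine hv ((hinj Finset.univ) ?_)
  rw [hprod]
  simp [hg]

/-- Eigenvectors of an endomorphism `g` with `g^p = g` of an abelian group of exponent `p`. -/
theorem exists_eigen_hom {p : ℕ} [Fact p.Prime] {A : Type*} [AddCommGroup A] [Nontrivial A] (hA : ∀ a : A, p • a = 0)
    (g : A →+ A) (hg : ∀ a, (⇑g)^[p] a = g a) : ∃ (k : ℕ) (v : A), v ≠ 0 ∧ g v = k • v := by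
  letI : Module (ZMod p) A := AddCommGroup.zmodModule hA
  obtain ⟨k, v, hv, hk⟩ := exists_eigen (p := p) (g.toZModLinearMap p : Module.End (ZMod p) A)
    (LinearMap.ext fun a => by rw [Module.End.pow_apply]; exact hg a)
  refine ⟨k.val, v, hv, hk.trans ?_⟩
  rw [← ZMod.natCast_zmod_val k, Nat.cast_smul_eq_nsmul, ZMod.natCast_zmod_val k]

/-- A minimal invariant group of exponent `p` under commuting operators of exponent `p - 1` is cyclic. -/
theorem exists_scalar {p : ℕ} [Fact p.Prime] {Q : Type*} [Group Q] (X : Subgroup Q) (hX : X ≠ ⊥)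
    (hcomm : ∀ a ∈ X, ∀ b ∈ X, a * b = b * a) (hexp : ∀ a ∈ X, a ^ p = 1) {ι : Type*} (f : ι → MulAut Q)
    (hinv : ∀ i, ∀ a ∈ X, f i a ∈ X) (hff : ∀ i j, ∀ a ∈ X, f i (f j a) = f j (f i a))
    (hpow : ∀ i, ∀ a ∈ X, ((f i) ^ (p - 1)) a = a)
    (hmin : ∀ Y : Subgroup Q, Y ≤ X → Y ≠ ⊥ → (∀ i, ∀ a ∈ Y, f i a ∈ Y) → Y = X) (i : ι) :
    ∃ k : ℕ, ∀ a ∈ X, f i a = a ^ k := by
  let _ : CommGroup X := { (inferInstance : Group X) with mul_comm := fun a b => Subtype.ext (hcomm a a.2 b b.2) }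
  haveI : Nontrivial X := (Subgroup.nontrivial_iff_ne_bot X).mpr hX
  have hA : ∀ a : Additive X, p • a = 0 := fun a => by
    apply Additive.toMul.injective
    rw [toMul_nsmul, toMul_zero]
    exact Subtype.ext (hexp _ (Additive.toMul a).2)
  let g : Additive X →+ Additive X := MonoidHom.toAdditive
    (((f i).toMonoidHom.comp X.subtype).codRestrict X fun a => hinv i a a.2)
  have hgp : ∀ (n : ℕ) (a : Additive X), (((Additive.toMul ((⇑g)^[n] a) : X)) : Q) = ((f i) ^ n) ((Additive.toMul a : X) : Q) := by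
    intro n
    induction n with
    | zero => intro a; simp
    | succ n ih =>
      intro a
      rw [Function.iterate_succ_apply, pow_succ, ih, MulAut.mul_apply]
      rfl
  have hg : ∀ a, (⇑g)^[p] a = g a := fun a => Additive.toMul.injective (Subtype.ext (by
    rw [hgp, show p = p - 1 + 1 by have := (Fact.out : p.Prime).pos; omega, pow_succ, MulAut.mul_apply]
    exact hpow i _ (hinv i _ (Additive.toMul a).2)))
  obtain ⟨k, v, hv, hk⟩ := exists_eigen_hom hA g hg
  have hk' : f i ((Additive.toMul v : X) : Q) = ((Additive.toMul v : X) : Q) ^ k :=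
    congrArg (fun w : Additive X => ((Additive.toMul w : X) : Q)) hk
  let Y : Subgroup Q :=
    { carrier := {a | a ∈ X ∧ f i a = a ^ k}
      one_mem' := ⟨X.one_mem, by simp⟩
      mul_mem' := fun {a b} ha hb => ⟨X.mul_mem ha.1 hb.1, by
        rw [map_mul, ha.2, hb.2, Commute.mul_pow (hcomm a ha.1 b hb.1)]⟩
      inv_mem' := fun {a} ha => ⟨X.inv_mem ha.1, by rw [map_inv, ha.2, inv_pow]⟩ }
  have hYX : Y ≤ X := fun a ha => ha.1
  have hY : Y = X := by
    refine hmin Y hYX (fun e => hv ?_) fun j a ha => ⟨hinv j a ha.1, by rw [hff i j a ha.1, ha.2, map_pow]⟩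
    have : ((Additive.toMul v : X) : Q) ∈ Y := ⟨(Additive.toMul v).2, hk'⟩
    rw [e, Subgroup.mem_bot] at this
    exact Additive.toMul.injective (Subtype.ext this)
  exact ⟨k, fun a ha => (hY.ge ha).2⟩

end CfsgLib.EigenSubgroup

namespace Cfsg

namespace FusionSystem

open scoped commutatorElement

variable {Ω : Type u} [Group Ω] {S : Subgroup Ω} [Finite S] {F : FusionSystem S} {p : ℕ} [Fact p.Prime]

/-- A chain of strongly closed subgroups with cyclic steps. -/
def IsSupersoluble (F : FusionSystem S) : Prop :=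
  ∃ (m : ℕ) (c : Fin (m + 1) → Subgroup Ω), c 0 = ⊥ ∧ c (Fin.last m) = S ∧ (∀ i : Fin (m + 1), F.StronglyClosed (c i)) ∧
    ∀ i : Fin m, c i.castSucc ≤ c i.succ ∧ ∃ x ∈ S, c i.succ = c i.castSucc ⊔ Subgroup.zpowers x

theorem mem_sup_zpowers_iff {D : Subgroup Ω} (hD : D ≤ S) [(D.subgroupOf S).Normal] (x z : S) :
    (z : Ω) ∈ D ⊔ Subgroup.zpowers (x : Ω) ↔
      QuotientGroup.mk' (D.subgroupOf S) z ∈ Subgroup.zpowers (QuotientGroup.mk' (D.subgroupOf S) x) := by
  have h1 : z ∈ D.subgroupOf S ⊔ Subgroup.zpowers x ↔ (z : Ω) ∈ D ⊔ Subgroup.zpowers (x : Ω) := by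
    rw [← Subgroup.mem_map_iff_mem S.subtype_injective, Subgroup.map_sup, MonoidHom.map_zpowers,
      Subgroup.subgroupOf_map_subtype, inf_eq_left.mpr hD]
    rfl
  rw [← h1, ← MonoidHom.map_zpowers, ← Subgroup.mem_comap, Subgroup.comap_map_eq, QuotientGroup.ker_mk', sup_comm]

theorem IsSupersoluble.exists_step (h : F.IsSupersoluble) (hS : IsPGroup p S) (hF : F.IsSaturated p)
    {D : Subgroup Ω} (hD : F.StronglyClosed D) (hlt : D ≠ S) :
    ∃ y : S, (y : Ω) ∉ D ∧ (y : Ω) ^ p ∈ D ∧ F.StronglyClosed (D ⊔ Subgroup.zpowers (y : Ω)) := by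
  obtain ⟨m, c, h0, hlast, hc, hstep⟩ := h
  obtain ⟨j, hj, hj'⟩ : ∃ j : Fin m, c j.castSucc ≤ D ∧ ¬ c j.succ ≤ D := by
    by_contra hcon
    push Not at hcon
    refine hlt (le_antisymm hD.1 (hlast ▸ ?_))
    have : ∀ i : Fin (m + 1), c i ≤ D := fun i => by
      induction i using Fin.induction with
      | zero => rw [h0]; exact bot_le
      | succ i ih => exact hcon i ih
    exact this _
  obtain ⟨x, hx, hxe⟩ := (hstep j).2
  haveI hn : (D.subgroupOf S).Normal := (Subgroup.normal_subgroupOf_iff_le_normalizer hD.1).mpr hD.le_normalizer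
  set π := QuotientGroup.mk' (D.subgroupOf S)
  have hE : F.StronglyClosed (D ⊔ Subgroup.zpowers x) := by
    have h1 := hD.sup hF hS (hc j.succ)
    rwa [hxe, ← sup_assoc, sup_eq_left.mpr hj] at h1
  have hπ : ∀ z : S, π z = 1 ↔ (z : Ω) ∈ D := fun z => QuotientGroup.eq_one_iff z
  set a := π ⟨x, hx⟩
  have ha : a ≠ 1 := fun e => hj' (by
    rw [hxe]
    exact sup_le hj (Subgroup.zpowers_le.mpr ((hπ _).mp e)))
  obtain ⟨k, hk⟩ := IsPGroup.iff_orderOf.mp (hS.to_quotient _) a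
  have hk0 : k ≠ 0 := fun e => ha (orderOf_eq_one_iff.mp (by rw [hk, e, pow_zero]))
  have hord : orderOf (a ^ p ^ (k - 1)) = p := by
    rw [orderOf_pow_of_dvd (pow_ne_zero _ (Fact.out : p.Prime).ne_zero) (hk ▸ pow_dvd_pow p (Nat.sub_le k 1)), hk,
      Nat.pow_div (Nat.sub_le k 1) (Fact.out : p.Prime).pos, show k - (k - 1) = 1 by omega, pow_one]
  have hy : π ((⟨x, hx⟩ : S) ^ p ^ (k - 1)) = a ^ p ^ (k - 1) := map_pow π _ _
  refine ⟨(⟨x, hx⟩ : S) ^ p ^ (k - 1), fun e => ?_, ?_, sup_le hD.1 (Subgroup.zpowers_le.mpr (SetLike.coe_mem _)), ?_⟩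
  · have h1 := hord
    rw [← hy, (hπ _).mpr e, orderOf_one] at h1
    exact (Fact.out : p.Prime).one_lt.ne h1
  · refine (hπ (((⟨x, hx⟩ : S) ^ p ^ (k - 1)) ^ p)).mp ?_
    rw [map_pow, hy]
    have h1 := pow_orderOf_eq_one (a ^ p ^ (k - 1))
    rwa [hord] at h1
  · intro R hR φ hφ z
    have hzS : (z : Ω) ∈ S := F.source_le hφ z.2
    have h1 := (mem_sup_zpowers_iff hD.1 ((⟨x, hx⟩ : S) ^ p ^ (k - 1)) ⟨z, hzS⟩).mp (hR z.2)
    have hle : D ⊔ Subgroup.zpowers (((⟨x, hx⟩ : S) ^ p ^ (k - 1) : S) : Ω) ≤ D ⊔ Subgroup.zpowers x :=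
      sup_le_sup_left (Subgroup.zpowers_le.mpr (Subgroup.pow_mem _ (Subgroup.mem_zpowers x) _)) _
    have hφE := hE.2 R (hR.trans hle) φ hφ z
    have hzp : (z : Ω) ^ p ∈ D := by
      refine (hπ (⟨z, hzS⟩ ^ p)).mp ?_
      obtain ⟨l, hl⟩ := Subgroup.mem_zpowers_iff.mp h1
      rw [map_pow, ← hl, hy, ← zpow_natCast, ← zpow_mul, mul_comm, zpow_mul, zpow_natCast]
      rw [show (a ^ p ^ (k - 1)) ^ p = 1 by
        have h1 := pow_orderOf_eq_one (a ^ p ^ (k - 1))
        rwa [hord] at h1, one_zpow]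
    have hφp : (φ z) ^ p ∈ D := by
      rw [← map_pow]
      exact hD.apply_mem_of_mem hφ hzp
    refine (mem_sup_zpowers_iff hD.1 ((⟨x, hx⟩ : S) ^ p ^ (k - 1)) ⟨φ z, F.apply_mem hφ z⟩).mpr ?_
    obtain ⟨l, hl⟩ := Subgroup.mem_zpowers_iff.mp ((mem_sup_zpowers_iff hD.1 ⟨x, hx⟩ ⟨φ z, F.apply_mem hφ z⟩).mp hφE)
    have h2 : (orderOf a : ℤ) ∣ l * p := by
      rw [orderOf_dvd_iff_zpow_eq_one, zpow_mul, hl, zpow_natCast, ← map_pow, hπ]
      exact hφp
    obtain ⟨k', rfl⟩ : ∃ k', k = k' + 1 := ⟨k - 1, by omega⟩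
    rw [hk, Nat.cast_pow, pow_succ] at h2
    obtain ⟨t, ht⟩ := Int.dvd_of_mul_dvd_mul_right (by exact_mod_cast (Fact.out : p.Prime).ne_zero) h2
    rw [hy, ← hl, ht, Nat.add_sub_cancel]
    exact Subgroup.mem_zpowers_iff.mpr ⟨t, by rw [← zpow_natCast, ← zpow_mul, Nat.cast_pow]⟩

/-- The refined chain. -/
theorem IsSupersoluble.exists_chain (h : F.IsSupersoluble) (hS : IsPGroup p S) (hF : F.IsSaturated p) :
    ∃ (n : ℕ) (Q : ℕ → Subgroup Ω), Q 0 = ⊥ ∧ Q n = S ∧ Monotone Q ∧ (∀ i, F.StronglyClosed (Q i)) ∧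
      ∀ i, Q (i + 1) = Q i ∨ ∃ y : S, (y : Ω) ∉ Q i ∧ (y : Ω) ^ p ∈ Q i ∧ Q (i + 1) = Q i ⊔ Subgroup.zpowers (y : Ω) := by
  classical
  let next : {D : Subgroup Ω // F.StronglyClosed D} → {D : Subgroup Ω // F.StronglyClosed D} := fun D =>
    if hD : D.1 = S then D else
      ⟨D.1 ⊔ Subgroup.zpowers ((h.exists_step hS hF D.2 hD).choose : Ω), (h.exists_step hS hF D.2 hD).choose_spec.2.2⟩
  let Q : ℕ → {D : Subgroup Ω // F.StronglyClosed D} := fun i => next^[i] ⟨⊥, stronglyClosed_bot⟩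
  have hQs : ∀ i, Q (i + 1) = next (Q i) := fun i => Function.iterate_succ_apply' next i _
  have hnext : ∀ D, (next D).1 = D.1 ∨ ∃ y : S, (y : Ω) ∉ D.1 ∧ (y : Ω) ^ p ∈ D.1 ∧
      (next D).1 = D.1 ⊔ Subgroup.zpowers (y : Ω) := fun D => by
    by_cases hD : D.1 = S
    · left; simp [next, hD]
    · right
      exact ⟨_, (h.exists_step hS hF D.2 hD).choose_spec.1, (h.exists_step hS hF D.2 hD).choose_spec.2.1,
        by simp [next, hD]⟩
  have hmono : Monotone fun i => (Q i).1 := monotone_nat_of_le_succ fun i => by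
    show (Q i).1 ≤ (Q (i + 1)).1
    rw [hQs]
    rcases hnext (Q i) with e | ⟨y, -, -, e⟩ <;> rw [e]
    exact le_sup_left
  have hgrow : ∀ i, (Q i).1 = S ∨ i < Nat.card (Q i).1 := by
    intro i
    induction i with
    | zero =>
      right
      haveI := finite_of_le (Q 0).2.1
      exact Nat.card_pos
    | succ i ih =>
      rw [hQs]
      by_cases hD : (Q i).1 = S
      · left; simp [next, hD]
      · right
        have hi := ih.resolve_left hD
        obtain ⟨hy, -, -⟩ := (h.exists_step hS hF (Q i).2 hD).choose_spec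
        haveI : Finite (next (Q i)).1 := finite_of_le (next (Q i)).2.1
        have hlt : (Q i).1 < (next (Q i)).1 := by
          simp only [next, hD, dite_false]
          exact left_lt_sup.mpr fun hle => hy (hle (Subgroup.mem_zpowers _))
        have := card_lt_of_lt hlt
        omega
  refine ⟨Nat.card S, fun i => (Q i).1, rfl, ?_, hmono, fun i => (Q i).2, fun i => ?_⟩
  · refine (hgrow _).resolve_right fun hlt => ?_
    have := Subgroup.card_le_of_le (Q (Nat.card S)).2.1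
    omega
  · show (Q (i + 1)).1 = _ ∨ _
    simp only [hQs]
    exact hnext (Q i)

theorem isNormal_self_of_supersoluble (h : F.IsSupersoluble) (hS : IsPGroup p S) (hF : F.IsSaturated p) :
    F.IsNormal S := by
  obtain ⟨n, Q, h0, hn, hmono, hsc, hstep⟩ := h.exists_chain hS hF
  refine hF.isNormal_of_series hS (n := n) (fun i => Q i) (by simpa using h0) (by simpa using hn)
    (fun i j hij => hmono hij) fun i => ⟨hsc _, ?_⟩
  refine Subgroup.commutator_le.mpr fun s hs z hz => ?_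
  haveI : ((Q i).subgroupOf S).Normal :=
    (Subgroup.normal_subgroupOf_iff_le_normalizer (hsc _).1).mpr (hsc _).le_normalizer
  set π := QuotientGroup.mk' ((Q i).subgroupOf S)
  have hπ : ∀ w : S, π w = 1 ↔ (w : Ω) ∈ Q i := fun w => QuotientGroup.eq_one_iff w
  have hzS : z ∈ S := (hsc _).1 hz
  suffices hc : π ⟨z, hzS⟩ ∈ Subgroup.center _ by
    have h1 : ((⁅(⟨s, hs⟩ : S), (⟨z, hzS⟩ : S)⁆ : S) : Ω) ∈ Q i := by
      refine (hπ _).mp ?_
      rw [map_commutatorElement]
      exact commutatorElement_eq_one_iff_mul_comm.mpr (Subgroup.mem_center_iff.mp hc _)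
    exact h1
  rcases hstep i with e | ⟨y, hy, hyp, e⟩
  · rw [show π ⟨z, hzS⟩ = 1 from (hπ _).mpr (by
      show z ∈ Q i
      exact e ▸ hz)]
    exact one_mem _
  have hz' : π ⟨z, hzS⟩ ∈ Subgroup.zpowers (π y) :=
    (mem_sup_zpowers_iff (hsc _).1 y ⟨z, hzS⟩).mp (by rw [← e]; exact hz)
  refine (Subgroup.zpowers_le.mpr ?_) hz'
  haveI : Group.IsNilpotent (S ⧸ (Q i).subgroupOf S) := (hS.to_quotient _).isNilpotent
  haveI : (Subgroup.zpowers (π y)).Normal := by
    refine ⟨fun a ha g => ?_⟩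
    obtain ⟨g, rfl⟩ := QuotientGroup.mk'_surjective _ g
    obtain ⟨l, rfl⟩ := Subgroup.mem_zpowers_iff.mp ha
    rw [← conj_zpow, ← map_inv, ← map_mul, ← map_mul]
    refine Subgroup.zpow_mem _ ((mem_sup_zpowers_iff (hsc _).1 y (g * y * g⁻¹)).mp ?_) l
    rw [← e]
    exact (Subgroup.mem_normalizer_iff.mp ((hsc _).le_normalizer g.2) _).mp
      (e ▸ Subgroup.mem_sup_right (Subgroup.mem_zpowers (y : Ω)))
  have hy1 : π y ≠ 1 := fun h1 => hy ((hπ _).mp h1)
  obtain ⟨a, ha, ha1⟩ := (Subgroup.bot_or_exists_ne_one _).resolve_left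
    (CfsgLib.inf_center_ne_bot_of_nilpotent (N := Subgroup.zpowers (π y))
      (fun e => hy1 (Subgroup.zpowers_eq_bot.mp e)))
  have hord : orderOf (π y) = p := orderOf_eq_prime (by
    rw [← map_pow]
    exact (hπ _).mpr hyp) hy1
  have hza : Subgroup.zpowers a = Subgroup.zpowers (π y) := by
    refine Subgroup.eq_of_le_of_card_ge (Subgroup.zpowers_le.mpr ha.1) ?_
    rw [Nat.card_zpowers, Nat.card_zpowers, hord]
    obtain ⟨l, hl⟩ := Subgroup.mem_zpowers_iff.mp ha.1
    have hdvd : orderOf a ∣ p := by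
      rw [← hord, ← hl]
      exact orderOf_dvd_of_mem_zpowers (Subgroup.zpow_mem _ (Subgroup.mem_zpowers _) l)
    rcases (Nat.dvd_prime (Fact.out : p.Prime)).mp hdvd with h1 | h1
    · exact absurd (orderOf_eq_one_iff.mp h1) ha1
    · exact h1.ge
  exact (Subgroup.zpowers_le.mpr ha.2) (hza.ge (Subgroup.mem_zpowers _))

/-- Automorphisms of order prime to `p` in a supersoluble system. -/
theorem pPrime_autos_of_supersoluble (h : F.IsSupersoluble) (hS : IsPGroup p S) (hF : F.IsSaturated p)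
    {H : Subgroup (MulAut S)} (hH : (Nat.card H).Coprime p) (hHF : H ≤ F.autGroup S) :
    IsMulCommutative H ∧ ∀ a ∈ H, a ^ (p - 1) = 1 := by
  obtain ⟨n, Q, h0, hn, hmono, hsc, hstep⟩ := h.exists_chain hS hF
  have hinv : ∀ a ∈ F.autGroup S, ∀ i (z : S), (z : Ω) ∈ Q i → ((a z : S) : Ω) ∈ Q i := fun a ha i z hz =>
    (hsc i).autGroup_apply_mem le_rfl ha z hz
  have hN : ∀ i, ((Q i).subgroupOf S).Normal := fun i =>
    (Subgroup.normal_subgroupOf_iff_le_normalizer (hsc _).1).mpr (hsc _).le_normalizer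
  have hscal : ∀ a ∈ F.autGroup S, ∀ i, ∃ m : ℕ, m ^ (p - 1) ≡ 1 [MOD p] ∧
      ∀ z : S, (z : Ω) ∈ Q (i + 1) → (z ^ m)⁻¹ * a z ∈ (Q i).subgroupOf S ∧ z ^ p ∈ (Q i).subgroupOf S := by
    intro a ha i
    haveI := hN i
    set π := QuotientGroup.mk' ((Q i).subgroupOf S)
    have hπ : ∀ w : S, π w = 1 ↔ (w : Ω) ∈ Q i := fun w => QuotientGroup.eq_one_iff w
    rcases hstep i with e | ⟨y, hy, hyp, e⟩
    · refine ⟨1, by simp [Nat.ModEq], fun z hz => ⟨?_, ?_⟩⟩
      · exact mul_mem (InvMemClass.inv_mem (pow_mem (show z ∈ (Q i).subgroupOf S from e ▸ hz) 1))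
          (hinv a ha i z (e ▸ hz))
      · exact pow_mem (show z ∈ (Q i).subgroupOf S from e ▸ hz) p
    have hyQ : (y : Ω) ∈ Q (i + 1) := e ▸ Subgroup.mem_sup_right (Subgroup.mem_zpowers _)
    have hy1 : π y ≠ 1 := fun h1 => hy ((hπ _).mp h1)
    have hord : orderOf (π y) = p := orderOf_eq_prime (by
      rw [← map_pow]
      exact (hπ _).mpr hyp) hy1
    have h1 : π (a y) ∈ Subgroup.zpowers (π y) :=
      (mem_sup_zpowers_iff (hsc i).1 y (a y)).mp (e ▸ hinv a ha (i + 1) y hyQ)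
    obtain ⟨m, hm⟩ : ∃ m : ℕ, (π y) ^ m = π (a y) :=
      ((orderOf_pos_iff.mp (by rw [hord]; exact (Fact.out : p.Prime).pos)).mem_powers_iff_mem_zpowers).mpr h1
    refine ⟨m, ?_, fun z hz => ?_⟩
    · have hmp : ¬ p ∣ m := fun hd => by
        obtain ⟨t, rfl⟩ := hd
        have h3 : π (a y) = 1 := by
          rw [← hm, pow_mul, ← map_pow, show π (y ^ p) = 1 from (hπ _).mpr hyp, one_pow]
        refine hy ?_
        have h4 := hinv a⁻¹ ((F.autGroup S).inv_mem ha) i (a y) ((hπ _).mp h3)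
        rwa [MulAut.inv_apply_self] at h4
      have := Nat.ModEq.pow_totient ((Nat.Prime.coprime_iff_not_dvd Fact.out).mpr hmp).symm
      rwa [Nat.totient_prime Fact.out] at this
    · obtain ⟨l, hl⟩ := Subgroup.mem_zpowers_iff.mp
        ((mem_sup_zpowers_iff (hsc i).1 y z).mp (e ▸ hz))
      have hz0 : ((y ^ l)⁻¹ * z) ∈ (Q i).subgroupOf S := by
        refine Subgroup.mem_subgroupOf.mpr ((hπ _).mp ?_)
        rw [map_mul, map_inv, map_zpow, hl, inv_mul_cancel]
      have h5 : π (a z) = (π z) ^ m := by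
        have h6 : π (a ((y ^ l)⁻¹ * z)) = 1 := (hπ _).mpr (hinv a ha i _ hz0)
        rw [map_mul, map_inv, map_zpow, map_mul, map_inv, map_zpow, ← hm] at h6
        rw [← inv_mul_eq_one.mp h6, ← hl, ← zpow_natCast, ← zpow_natCast, ← zpow_mul, ← zpow_mul, mul_comm]
      refine ⟨Subgroup.mem_subgroupOf.mpr ((hπ _).mp ?_), Subgroup.mem_subgroupOf.mpr ((hπ _).mp ?_)⟩
      · rw [map_mul, map_inv, map_pow, h5, inv_mul_cancel]
      · rw [map_pow, ← hl, ← zpow_natCast, ← zpow_mul, mul_comm, zpow_mul, zpow_natCast, ← map_pow,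
          show π (y ^ p) = 1 from (hπ _).mpr hyp, one_zpow]
  -- stabilisers of the chain of order prime to `p` are trivial
  have hstab : ∀ a : MulAut S, (orderOf a).Coprime p →
      (∀ i (z : S), (z : Ω) ∈ Q (i + 1) → z⁻¹ * a z ∈ (Q i).subgroupOf S) → a = 1 := fun a ha hst =>
    mulAut_eq_one_of_stabilises hS (fun i : Fin (n + 1) => (Q i).subgroupOf S)
      (by simp [h0]) (by simp [hn]) ha fun i z hz => hst i z hz
  have hord : ∀ a ∈ H, (orderOf a).Coprime p := fun a ha =>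
    hH.coprime_dvd_left (Subgroup.orderOf_dvd_natCard H ha)
  constructor
  · refine ⟨⟨fun a b => Subtype.ext ?_⟩⟩
    rw [← mul_inv_eq_one]
    refine hstab _ (hord _ (mul_mem (mul_mem a.2 b.2) (InvMemClass.inv_mem (mul_mem b.2 a.2)))) fun i z hz => ?_
    haveI := hN i
    set π := QuotientGroup.mk' ((Q i).subgroupOf S)
    obtain ⟨m, -, hm⟩ := hscal a (hHF a.2) i
    obtain ⟨m', -, hm'⟩ := hscal b (hHF b.2) i
    have hπa : ∀ w : S, (w : Ω) ∈ Q (i + 1) → π ((a : MulAut S) w) = π w ^ m := fun w hw => by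
      rw [← map_pow, eq_comm, ← inv_mul_eq_one, ← map_inv, ← map_mul]
      exact (QuotientGroup.eq_one_iff _).mpr (hm w hw).1
    have hπb : ∀ w : S, (w : Ω) ∈ Q (i + 1) → π ((b : MulAut S) w) = π w ^ m' := fun w hw => by
      rw [← map_pow, eq_comm, ← inv_mul_eq_one, ← map_inv, ← map_mul]
      exact (QuotientGroup.eq_one_iff _).mpr (hm' w hw).1
    set w := ((b : MulAut S) * (a : MulAut S))⁻¹ z with hwdef
    have hw : (w : Ω) ∈ Q (i + 1) :=
      hinv _ ((F.autGroup S).inv_mem (mul_mem (hHF b.2) (hHF a.2))) (i + 1) z hz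
    have hz' : z = (b : MulAut S) ((a : MulAut S) w) := (MulAut.apply_inv_self S ((b : MulAut S) * a) z).symm
    refine (QuotientGroup.eq_one_iff _).mp (show π _ = 1 from ?_)
    rw [map_mul, map_inv, inv_mul_eq_one]
    show π z = π ((a : MulAut S) ((b : MulAut S) w))
    rw [hz', hπb _ (hinv _ (hHF a.2) _ w hw), hπa w hw, hπa _ (hinv _ (hHF b.2) _ w hw), hπb w hw, ← pow_mul,
      ← pow_mul, mul_comm]
  · intro a ha
    refine hstab _ (hord _ (pow_mem ha _)) fun i z hz => ?_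
    haveI := hN i
    set π := QuotientGroup.mk' ((Q i).subgroupOf S)
    obtain ⟨m, hm1, hm⟩ := hscal a (hHF ha) i
    have hk : ∀ k : ℕ, ((((a ^ k) z : S) : Ω) ∈ Q (i + 1)) ∧ π ((a ^ k) z) = π z ^ (m ^ k) := by
      intro k
      induction k with
      | zero => exact ⟨by simpa using hz, by simp⟩
      | succ k ih =>
        rw [pow_succ', MulAut.mul_apply]
        refine ⟨hinv a (hHF ha) _ _ ih.1, ?_⟩
        have h7 : π (a ((a ^ k) z)) = π ((a ^ k) z) ^ m := by
          rw [← map_pow, eq_comm, ← inv_mul_eq_one, ← map_inv, ← map_mul]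
          exact (QuotientGroup.eq_one_iff _).mpr (hm _ ih.1).1
        rw [h7, ih.2, ← pow_mul, ← pow_succ]
    refine (QuotientGroup.eq_one_iff _).mp (show π _ = 1 from ?_)
    rw [map_mul, map_inv, inv_mul_eq_one, (hk (p - 1)).2]
    have hzp : orderOf (π z) ∣ p := orderOf_dvd_of_pow_eq_one (by
      rw [← map_pow]; exact (QuotientGroup.eq_one_iff _).mpr (hm z hz).2)
    calc π z = π z ^ 1 := (pow_one _).symm
      _ = π z ^ (m ^ (p - 1)) := pow_eq_pow_iff_modEq.mpr (hm1.symm.of_dvd hzp)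

/-- A group of automorphisms of order prime to `p` occurs in a saturated system. -/
theorem exists_saturated_containing (hS : IsPGroup p S) (H : Subgroup (MulAut S)) (hH : (Nat.card H).Coprime p) :
    ∃ F : FusionSystem S, F.IsSaturated p ∧ H ≤ F.autGroup S := by
  haveI : Finite (MulAut S) := finite_mulAut_of_le le_rfl
  let G := S ⋊[H.subtype] H
  haveI : Finite G := Finite.of_equiv _ SemidirectProduct.equivProd.symm
  let ι : S →* G := SemidirectProduct.inl
  have hιp : IsPGroup p ι.range := hS.of_surjective ι.rangeRestrict ι.rangeRestrict_surjective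
  have hidx : ¬ p ∣ ι.range.index := by
    have h1 : ι.range.index = Nat.card H := by
      rw [show ι.range = (SemidirectProduct.rightHom : G →* H).ker from SemidirectProduct.range_inl_eq_ker_rightHom,
        Subgroup.index_ker, MonoidHom.range_eq_top.mpr SemidirectProduct.rightHom_surjective, Subgroup.card_top]
    rw [h1]
    exact (Nat.Prime.coprime_iff_not_dvd Fact.out).mp hH.symm
  let T : Sylow p G := hιp.toSylow hidx
  let e : S ≃* ι.range := MonoidHom.ofInjective SemidirectProduct.inl_injective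
  let β : ι.range →* Ω := S.subtype.comp e.symm.toMonoidHom
  have hβr : β.range = S := by
    rw [MonoidHom.range_comp, MonoidHom.range_eq_top.mpr e.symm.surjective, ← MonoidHom.range_eq_map,
      Subgroup.range_subtype]
  obtain ⟨F, hF⟩ := exists_isFactorSystem_bot (groupFusionSystem (T : Subgroup G)) β
    (S.subtype_injective.comp e.symm.injective) hβr
  refine ⟨F, hF.isSaturated T.2 (groupFusionSystem_isSaturated T), fun a ha => ?_⟩
  have hβe : ∀ s : S, β (e s) = (s : Ω) := fun s => congrArg Subtype.val (e.symm_apply_apply s)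
  have hval : ∀ s : S, SemidirectProduct.inr ⟨a, ha⟩ * ι s * (SemidirectProduct.inr (⟨a, ha⟩ : H))⁻¹ = ι (a s) :=
    fun s => by
      rw [← map_inv]
      exact (SemidirectProduct.inl_aut (φ := H.subtype) ⟨a, ha⟩ s).symm
  obtain ⟨χ, hχ, hχe⟩ := hF.up (conjHom_mem_groupFusionSystem (g := (SemidirectProduct.inr ⟨a, ha⟩ : G))
    (le_refl (T : Subgroup G)) (by
      rintro _ ⟨s, rfl⟩
      exact ⟨a s, (hval s).symm⟩))
  have hle : S ≤ imageAlong β (T : Subgroup G) := fun x hx => ⟨e ⟨x, hx⟩, (e ⟨x, hx⟩).2, hβe ⟨x, hx⟩⟩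
  refine (F.mem_autGroup_iff le_rfl).mpr (F.mem_of_restrict hχ hle fun x hx => ?_)
  have hm : β (e ⟨x, hx⟩) ∈ imageAlong β (T : Subgroup G) := ⟨e ⟨x, hx⟩, (e ⟨x, hx⟩).2, rfl⟩
  refine Eq.symm ((congrArg χ (Subtype.ext (hβe ⟨x, hx⟩).symm)).trans ((hχe (e ⟨x, hx⟩) (e ⟨x, hx⟩).2 hm).trans ?_))
  refine Eq.trans ?_ (hβe (a ⟨x, hx⟩))
  exact congrArg β (Subtype.ext (hval ⟨x, hx⟩))

/-- A resistant `S` with abelian automisers of exponent dividing `p - 1` gives supersoluble systems. -/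
theorem supersoluble_of_normal (hS : IsPGroup p S) (hF : F.IsSaturated p) (hN : F.IsNormal S)
    (hab : ∀ H : Subgroup (MulAut ↥S), (Nat.card ↥H).Coprime p → IsMulCommutative ↥H ∧ ∀ h ∈ H, h ^ (p - 1) = 1) :
    F.IsSupersoluble := by
  haveI := finite_autGroup (F := F) (le_refl S)
  -- a complement to the inner automorphisms
  have hInn : Inn S ≤ F.autGroup S := inn_le_autGroup le_rfl
  obtain ⟨-, T, hT⟩ := hF.isFullyAutomized_of_isFullyNormalized hS (isFullyNormalized_self (F := F))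
  have hTI : (T : Subgroup (F.autGroup S)) = (Inn S).subgroupOf (F.autGroup S) := by rw [hT, inn_eq_autInducedBy]
  have hcop : (Nat.card ((Inn S).subgroupOf (F.autGroup S))).Coprime ((Inn S).subgroupOf (F.autGroup S)).index := by
    rw [← hTI]
    exact T.card_coprime_index
  obtain ⟨K, hK⟩ := Subgroup.exists_right_complement'_of_coprime hcop
  have hKp : (Nat.card (K.map (F.autGroup S).subtype)).Coprime p := by
    rw [Subgroup.card_map_of_injective (F.autGroup S).subtype_injective, ← hK.symm.index_eq_card, ← hTI]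
    exact ((Nat.Prime.coprime_iff_not_dvd Fact.out).mpr T.not_dvd_index).symm
  obtain ⟨hKc, hKe⟩ := hab _ hKp
  -- strongly closed subgroups
  have hclosed : ∀ D : Subgroup Ω, D ≤ S → (D.subgroupOf S).Normal →
      (∀ a ∈ K, ∀ z : S, (z : Ω) ∈ D → (((a : MulAut S) z : S) : Ω) ∈ D) → F.StronglyClosed D := by
    intro D hDS hDn hDK
    refine ⟨hDS, fun R hR φ hφ z => ?_⟩
    obtain ⟨ψ, hψ, he, hψS⟩ := hN.2 R φ hφ
    have hsup : R ⊔ S = S := sup_eq_right.mpr (hR.trans hDS)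
    have hres := F.restrict_mem hψ hsup.ge
    have hr : (ψ.comp (Subgroup.inclusion hsup.ge)).range = S :=
      Subgroup.eq_of_le_of_card_ge (F.range_le hres)
        (Nat.card_congr (MonoidHom.ofInjective (F.injective_of_mem hres)).toEquiv).le
    let α : F.autGroup S := ⟨F.isoOf hres hr, F.isoOf_mem_autGroup hres hr⟩
    obtain ⟨⟨i, k⟩, hik : (i : F.autGroup S) * k = α⟩ := hK.2 α
    obtain ⟨u, hu⟩ := (i.2 : ((i : F.autGroup S) : MulAut S) ∈ Inn S)
    have hzS : (z : Ω) ∈ S := hDS (hR z.2)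
    have h1 : φ z = ((((i : F.autGroup S) : MulAut S) (((k : F.autGroup S) : MulAut S) ⟨z, hzS⟩) : S) : Ω) := by
      have h2 : ((α : MulAut S) ⟨z, hzS⟩ : Ω) = φ z := (congrArg ψ (Subtype.ext rfl)).trans (he z)
      rw [← h2, ← hik]
      rfl
    rw [h1]
    show ((((i : F.autGroup S) : MulAut S) _ : S) : Ω) ∈ D
    rw [show (((i : F.autGroup S)) : MulAut S) = MulAut.conj u from hu.symm]
    exact hDn.conj_mem _ (hDK k k.2 ⟨z, hzS⟩ (hR z.2)) u
  -- minimal steps
  have hnext : ∀ D : {D : Subgroup Ω // D ≤ S ∧ (D.subgroupOf S).Normal ∧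
      ∀ a ∈ K, ∀ z : S, (z : Ω) ∈ D → (((a : MulAut S) z : S) : Ω) ∈ D},
      D.1 ≠ S → ∃ D' : {D : Subgroup Ω // D ≤ S ∧ (D.subgroupOf S).Normal ∧
        ∀ a ∈ K, ∀ z : S, (z : Ω) ∈ D → (((a : MulAut S) z : S) : Ω) ∈ D},
        D.1 < D'.1 ∧ ∃ x ∈ S, D'.1 = D.1 ⊔ Subgroup.zpowers x := by
    rintro ⟨D, hDS, hDn, hDK⟩ hne
    haveI := hDn
    set π := QuotientGroup.mk' (D.subgroupOf S)
    have hπ : ∀ w : S, π w = 1 ↔ (w : Ω) ∈ D := fun w => QuotientGroup.eq_one_iff w
    haveI : Group.IsNilpotent (S ⧸ D.subgroupOf S) := (hS.to_quotient _).isNilpotent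
    haveI : Nontrivial (S ⧸ D.subgroupOf S) := by
      obtain ⟨x, hx, hxD⟩ := SetLike.exists_of_lt (lt_of_le_of_ne hDS hne)
      exact ⟨⟨π ⟨x, hx⟩, 1, fun e => hxD ((hπ _).mp e)⟩⟩
    have hKmap : ∀ a : K, (D.subgroupOf S).map ((a : F.autGroup S) : MulAut S).toMonoidHom = D.subgroupOf S := fun a =>
      Subgroup.eq_of_le_of_card_ge (by rintro _ ⟨z, hz, rfl⟩; exact hDK a a.2 z hz)
        (Subgroup.card_map_of_injective ((a : F.autGroup S) : MulAut S).injective).ge
    let f : K → MulAut (S ⧸ D.subgroupOf S) := fun a =>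
      QuotientGroup.congr _ _ ((a : F.autGroup S) : MulAut S) (hKmap a)
    have hf : ∀ (a : K) (z : S), f a (π z) = π (((a : F.autGroup S) : MulAut S) z) := fun a z => rfl
    let Z : Subgroup (S ⧸ D.subgroupOf S) :=
      { carrier := {q | q ∈ Subgroup.center _ ∧ q ^ p = 1}
        one_mem' := ⟨one_mem _, one_pow _⟩
        mul_mem' := fun {a b} ha hb => ⟨mul_mem ha.1 hb.1, by
          rw [Commute.mul_pow ((Subgroup.mem_center_iff.mp hb.1 a)), ha.2, hb.2, one_mul]⟩
        inv_mem' := fun {a} ha => ⟨InvMemClass.inv_mem ha.1, by rw [inv_pow, ha.2, inv_one]⟩ }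
    have hZ : Z ≠ ⊥ := by
      obtain ⟨c, hc, hc1⟩ := (Subgroup.bot_or_exists_ne_one _).resolve_left
        (CfsgLib.inf_center_ne_bot_of_nilpotent (N := (⊤ : Subgroup (S ⧸ D.subgroupOf S))) bot_ne_top.symm)
      obtain ⟨k, hk⟩ := IsPGroup.iff_orderOf.mp (hS.to_quotient _) c
      have hk0 : k ≠ 0 := fun e => hc1 (orderOf_eq_one_iff.mp (by rw [hk, e, pow_zero]))
      intro e
      have hmem : c ^ p ^ (k - 1) ∈ Z := ⟨pow_mem hc.2 _, by
        rw [← pow_mul, ← pow_succ, show k - 1 + 1 = k by omega, ← hk, pow_orderOf_eq_one]⟩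
      rw [e, Subgroup.mem_bot] at hmem
      have := orderOf_dvd_of_pow_eq_one hmem
      rw [hk] at this
      have h2 := (Nat.pow_dvd_pow_iff_le_right (Fact.out : p.Prime).one_lt).mp this
      omega
    have hZinv : ∀ (a : K), ∀ q ∈ Z, f a q ∈ Z := fun a q hq => ⟨Subgroup.mem_center_iff.mpr fun r => by
      obtain ⟨r', rfl⟩ := (f a).surjective r
      rw [← map_mul, ← map_mul, Subgroup.mem_center_iff.mp hq.1], by rw [← map_pow, hq.2, map_one]⟩
    obtain ⟨X, ⟨hXZ, hX1, hXinv⟩, hXmin⟩ := Set.exists_min_image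
      {X : Subgroup (S ⧸ D.subgroupOf S) | X ≤ Z ∧ X ≠ ⊥ ∧ ∀ a, ∀ q ∈ X, f a q ∈ X}
      (fun X => Nat.card X) (Set.toFinite _) ⟨Z, le_rfl, hZ, hZinv⟩
    have hmin : ∀ Y : Subgroup (S ⧸ D.subgroupOf S), Y ≤ X → Y ≠ ⊥ → (∀ a, ∀ q ∈ Y, f a q ∈ Y) → Y = X :=
      fun Y hY hY1 hYi => Subgroup.eq_of_le_of_card_ge hY (hXmin Y ⟨hY.trans hXZ, hY1, hYi⟩)
    have hff : ∀ a b : K, ∀ q, f a (f b q) = f b (f a q) := by
      intro a b q
      obtain ⟨z, rfl⟩ := QuotientGroup.mk'_surjective _ q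
      rw [hf, hf, hf, hf]
      have h3 := congrArg Subtype.val (hKc.is_comm.comm ⟨_, Subgroup.mem_map_of_mem _ a.2⟩ ⟨_, Subgroup.mem_map_of_mem _ b.2⟩)
      exact congrArg π (DFunLike.congr_fun (show (((a : F.autGroup S) : MulAut S) * ((b : F.autGroup S) : MulAut S)) =
        ((b : F.autGroup S) : MulAut S) * ((a : F.autGroup S) : MulAut S) from h3) z)
    have hfp : ∀ (a : K) (n : ℕ) (z : S), ((f a) ^ n) (π z) = π ((((a : F.autGroup S) : MulAut S) ^ n) z) := by
      intro a n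
      induction n with
      | zero => intro z; simp
      | succ n ih =>
        intro z
        rw [pow_succ, pow_succ, MulAut.mul_apply, MulAut.mul_apply, hf, ih]
    have hscalar : ∀ a : K, ∃ k : ℕ, ∀ q ∈ X, f a q = q ^ k := fun a =>
      CfsgLib.EigenSubgroup.exists_scalar X hX1 (fun q hq r hr => Subgroup.mem_center_iff.mp (hXZ hr).1 q)
        (fun q hq => (hXZ hq).2) f hXinv (fun a b q _ => hff a b q) (fun a q _ => by
          obtain ⟨z, rfl⟩ := QuotientGroup.mk'_surjective _ q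
          have h4 : (((a : F.autGroup S) : MulAut S)) ^ (p - 1) = 1 := hKe _ (Subgroup.mem_map_of_mem _ a.2)
          rw [hfp, h4]
          rfl) hmin a
    obtain ⟨q, hqX, hq1⟩ := (Subgroup.bot_or_exists_ne_one X).resolve_left hX1
    have hXq : Subgroup.zpowers q = X := hmin _ (Subgroup.zpowers_le.mpr hqX)
      (fun e => hq1 (Subgroup.zpowers_eq_bot.mp e)) fun a r hr => by
        obtain ⟨k, hk⟩ := hscalar a
        rw [hk r (Subgroup.zpowers_le.mpr hqX hr)]
        exact Subgroup.pow_mem _ hr k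
    obtain ⟨x, rfl⟩ := QuotientGroup.mk'_surjective _ q
    have hmemX : ∀ z : S, (z : Ω) ∈ D ⊔ Subgroup.zpowers (x : Ω) ↔ π z ∈ X := fun z => by
      rw [mem_sup_zpowers_iff hDS x z, hXq]
    refine ⟨⟨D ⊔ Subgroup.zpowers (x : Ω), sup_le hDS (Subgroup.zpowers_le.mpr x.2), ⟨fun z hz g => ?_⟩,
      fun a ha z hz => ?_⟩, left_lt_sup.mpr fun hle => hq1 ?_, x, x.2, rfl⟩
    · refine (hmemX (g * z * g⁻¹)).mpr ?_
      have h1 := (hmemX z).mp hz
      rw [map_mul, map_mul, Subgroup.mem_center_iff.mp (hXZ h1).1 (π g), map_inv, mul_inv_cancel_right]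
      exact h1
    · exact (hmemX _).mpr (hXinv ⟨a, ha⟩ _ ((hmemX z).mp hz))
    · exact (hπ _).mpr (hle (Subgroup.mem_zpowers _))
  classical
  let P₀ : {D : Subgroup Ω // D ≤ S ∧ (D.subgroupOf S).Normal ∧
      ∀ a ∈ K, ∀ z : S, (z : Ω) ∈ D → (((a : MulAut S) z : S) : Ω) ∈ D} :=
    ⟨⊥, bot_le, by rw [Subgroup.bot_subgroupOf]; infer_instance, fun a _ z hz => by
      have : z = 1 := Subtype.ext (Subgroup.mem_bot.mp hz)
      subst this
      simp⟩
  let next := fun D => if hD : D.1 = S then D else (hnext D hD).choose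
  let Q := fun i : ℕ => next^[i] P₀
  have hQs : ∀ i, Q (i + 1) = next (Q i) := fun i => Function.iterate_succ_apply' next i _
  have hstep : ∀ D, D.1 ≤ (next D).1 ∧ ∃ x ∈ S, (next D).1 = D.1 ⊔ Subgroup.zpowers x := fun D => by
    by_cases hD : D.1 = S
    · rw [show next D = D by simp [next, hD]]
      exact ⟨le_rfl, 1, S.one_mem, by simp⟩
    · rw [show next D = (hnext D hD).choose by simp [next, hD]]
      exact ⟨(hnext D hD).choose_spec.1.le, (hnext D hD).choose_spec.2⟩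
  have hgrow : ∀ i, (Q i).1 = S ∨ i < Nat.card (Q i).1 := by
    intro i
    induction i with
    | zero =>
      right
      haveI := finite_of_le (Q 0).2.1
      exact Nat.card_pos
    | succ i ih =>
      rw [hQs]
      by_cases hD : (Q i).1 = S
      · left; simp [next, hD]
      · right
        have hi := ih.resolve_left hD
        rw [show next (Q i) = (hnext (Q i) hD).choose by simp [next, hD]]
        haveI : Finite (hnext (Q i) hD).choose.1 := finite_of_le (hnext (Q i) hD).choose.2.1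
        have := card_lt_of_lt (hnext (Q i) hD).choose_spec.1
        omega
  refine ⟨Nat.card S, fun i => (Q i).1, rfl, ?_, fun i => hclosed _ (Q i).2.1 (Q i).2.2.1 (Q i).2.2.2, fun i => ?_⟩
  · refine (hgrow _).resolve_right fun hlt => ?_
    have := Subgroup.card_le_of_le (Q (Nat.card S)).2.1
    simp only [Fin.val_last] at hlt
    omega
  · show (Q i).1 ≤ (Q (i + 1)).1 ∧ ∃ x ∈ S, (Q (i + 1)).1 = (Q i).1 ⊔ Subgroup.zpowers x
    rw [hQs]
    exact hstep (Q i)

end FusionSystem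

end Cfsg
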