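import Cfsg.Agent.Lib.Golay.Mathieu
import Cfsg.Agent.Lib.Golay.Fast
import Cfsg.Agent.Lib.CoprimeGen
import Cfsg.Agent.Lib.Elementary
import Cfsg.Agent.Lib.Fusion.RankTwoSimple

/-!
Certified Sylow 2-subgroups of subgroups of the Golay code's group, with simple fusion.
-/

set_option autoImplicit false
set_option linter.unusedSectionVars false

namespace CfsgGolay

open Cfsg CfsgLib.GroupSimple

attribute [local irreducible] codeL octadL dodecadL slpCodes

local notation "P24" => Equiv.Perm GolayPt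

/-! ### Codes -/

/-- The canonical code of a permutation. -/
def codeP (g : P24) : ℕ := pack (fun i => idx (g (pt i))) 24

theorem repr_codeP (g : P24) : Repr (codeP g) g := by
  intro p
  rw [codeP, (pack_spec (fun i => idx (g (pt i))) (fun i => lt_trans (idx_lt _) (by norm_num)) 24).2 _ (idx_lt p),
    pt_idx]

theorem codeP_injective : Function.Injective codeP := fun g h e =>
  (repr_codeP g).unique (e ▸ repr_codeP h)

theorem pack_congr {f g : ℕ → ℕ} : ∀ k, (∀ i < k, f i = g i) → pack f k = pack g k := by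
  intro k
  induction k with
  | zero => intro _; rfl
  | succ k ih =>
    intro h
    simp only [pack]
    rw [ih fun i hi => h i (Nat.lt_succ_of_lt hi), h k (Nat.lt_succ_self k)]

theorem pcomp_eq_codeP {c d : ℕ} {g h : P24} (hc : Repr c g) (hd : Repr d h) : pcomp c d = codeP (g * h) := by
  refine pack_congr 24 fun i hi => ?_
  rw [Equiv.Perm.mul_apply, hc, hd, idx_pt hi]

theorem pid_eq_codeP : pid = codeP 1 := by
  refine pack_congr 24 fun i hi => ?_
  rw [Equiv.Perm.one_apply, idx_pt hi, Nat.mod_eq_of_lt (by omega)]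

theorem papp_codeP (g : P24) {i : ℕ} (hi : i < 24) : papp (codeP g) i = idx (g (pt i)) := by
  rw [repr_codeP g (pt i) |> fun h => (by rwa [idx_pt hi] at h : idx (g (pt i)) = papp (codeP g) i)]

/-! ### Spans of polycyclic generator lists -/

/-- The group generated by coded permutations. -/
def spanH (cs : List ℕ) : Subgroup P24 := Subgroup.closure {g | ∃ c ∈ cs, Repr c g}

/-- Double a list by a further generator. -/
def dblC (c : ℕ) (S : List ℕ) : List ℕ := S ++ S.map (pcomp c)

/-- All products of the generators, latest first. -/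
def spanC : List ℕ → List ℕ
  | [] => [pid]
  | c :: l => dblC c (spanC l)

/-- Membership test. -/
def memB (c : ℕ) (S : List ℕ) : Bool := S.any fun e => Nat.beq c e

theorem of_memB {c : ℕ} {S : List ℕ} (h : memB c S = true) : c ∈ S := by
  obtain ⟨e, he, h'⟩ := List.any_eq_true.mp h
  exact Nat.eq_of_beq_eq_true h' ▸ he

/-- Each generator normalises the earlier span and squares into it. -/
def pcOK : List ℕ → Bool
  | [] => true
  | c :: l => (memB (pcomp c c) (spanC l) &&
      l.all fun d => memB (pcomp c d) ((spanC l).map fun e => pcomp e c)) && pcOK l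

/-- No repetitions. -/
def distinctB : List ℕ → Bool
  | [] => true
  | c :: l => !(memB c l) && distinctB l

theorem nodup_of_distinctB : ∀ {l : List ℕ}, distinctB l = true → l.Nodup
  | [], _ => List.nodup_nil
  | c :: l, h => by
    simp only [distinctB, Bool.and_eq_true, Bool.not_eq_true'] at h
    refine List.nodup_cons.mpr ⟨fun hm => ?_, nodup_of_distinctB h.2⟩
    have : memB c l = true := List.any_eq_true.mpr ⟨c, hm, Nat.beq_refl c⟩
    rw [h.1] at this
    exact absurd this (by simp)

theorem spanH_cons_le {c : ℕ} {l : List ℕ} : spanH l ≤ spanH (c :: l) :=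
  Subgroup.closure_mono fun _ ⟨d, hd, hr⟩ => ⟨d, List.mem_cons_of_mem _ hd, hr⟩

theorem mem_spanH {c : ℕ} {cs : List ℕ} {g : P24} (hc : c ∈ cs) (hg : Repr c g) : g ∈ spanH cs :=
  Subgroup.subset_closure ⟨c, hc, hg⟩

theorem spanC_sound : ∀ {cs : List ℕ}, (∀ c ∈ cs, permOK c = true) →
    ∀ x ∈ spanC cs, ∃ g ∈ spanH cs, codeP g = x
  | [], _, x, hx => ⟨1, one_mem _, by simp only [spanC, List.mem_singleton] at hx; rw [hx, pid_eq_codeP]⟩
  | c :: l, hok, x, hx => by
    obtain ⟨u, hu⟩ := exists_repr_of_permOK (hok c (List.mem_cons_self ..))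
    have ih := spanC_sound (cs := l) fun d hd => hok d (List.mem_cons_of_mem _ hd)
    simp only [spanC, dblC, List.mem_append, List.mem_map] at hx
    rcases hx with hx | ⟨y, hy, rfl⟩
    · obtain ⟨g, hg, he⟩ := ih x hx
      exact ⟨g, spanH_cons_le hg, he⟩
    · obtain ⟨g, hg, rfl⟩ := ih y hy
      exact ⟨u * g, mul_mem (mem_spanH (List.mem_cons_self ..) hu) (spanH_cons_le hg),
        (pcomp_eq_codeP hu (repr_codeP g)).symm⟩

theorem spanC_complete : ∀ {cs : List ℕ}, (∀ c ∈ cs, permOK c = true) → pcOK cs = true →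
    ∀ g ∈ spanH cs, codeP g ∈ spanC cs
  | [], _, _, g, hg => by
    have : g = 1 := by
      rw [spanH] at hg
      simpa using hg
    simp [spanC, this, pid_eq_codeP]
  | c :: l, hok, hpc, g, hg => by
    obtain ⟨u, hu⟩ := exists_repr_of_permOK (hok c (List.mem_cons_self ..))
    have hok' : ∀ d ∈ l, permOK d = true := fun d hd => hok d (List.mem_cons_of_mem _ hd)
    simp only [pcOK, Bool.and_eq_true, List.all_eq_true] at hpc
    obtain ⟨⟨hsq, hconj⟩, hpc'⟩ := hpc
    have ih := spanC_complete (cs := l) hok' hpc'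
    set H := spanH l
    have huu : u * u ∈ H := by
      obtain ⟨a, ha, he⟩ := spanC_sound hok' _ (of_memB hsq)
      rw [pcomp_eq_codeP hu hu] at he
      exact codeP_injective he ▸ ha
    have hle : H.map (MulAut.conj u).toMonoidHom ≤ H := by
      rw [Subgroup.map_le_iff_le_comap]
      refine (Subgroup.closure_le _).mpr ?_
      rintro a ⟨d, hd, hda⟩
      show u * a * u⁻¹ ∈ H
      obtain ⟨e, he, hee⟩ := List.mem_map.mp (of_memB (hconj d hd))
      obtain ⟨b, hb, rfl⟩ := spanC_sound hok' _ he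
      rw [pcomp_eq_codeP hu hda, pcomp_eq_codeP (repr_codeP b) hu] at hee
      rw [← codeP_injective hee, mul_inv_cancel_right]
      exact hb
    have hnorm : ∀ a, a ∈ H → u * a * u⁻¹ ∈ H := fun a ha => hle ⟨a, ha, rfl⟩
    have hnorm' : ∀ a, a ∈ H → u⁻¹ * a * u ∈ H := by
      intro a ha
      have h1 := hnorm _ (mul_mem (mul_mem (inv_mem huu) ha) huu)
      rwa [show u * ((u * u)⁻¹ * a * (u * u)) * u⁻¹ = u⁻¹ * a * u by simp [mul_assoc]] at h1
    let K : Subgroup P24 :=
      { carrier := {a | a ∈ H ∨ u⁻¹ * a ∈ H}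
        one_mem' := Or.inl (one_mem H)
        mul_mem' := by
          rintro a b (ha | ha) (hb | hb)
          · exact Or.inl (mul_mem ha hb)
          · right
            have := mul_mem (hnorm' a ha) hb
            simpa [mul_assoc] using this
          · right
            have := mul_mem ha hb
            simpa [mul_assoc] using this
          · left
            have := mul_mem (mul_mem (hnorm _ ha) huu) hb
            simpa [mul_assoc] using this
        inv_mem' := by
          rintro a (ha | ha)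
          · exact Or.inl (inv_mem ha)
          · right
            have := mul_mem (hnorm' _ (inv_mem ha)) (inv_mem huu)
            simpa [mul_assoc] using this }
    have hK : spanH (c :: l) ≤ K := by
      refine (Subgroup.closure_le K).mpr ?_
      rintro a ⟨d, hd, hda⟩
      rcases List.mem_cons.mp hd with rfl | hd
      · exact Or.inr (by rw [hda.unique hu, inv_mul_cancel]; exact one_mem H)
      · exact Or.inl (mem_spanH hd hda)
    simp only [spanC, dblC, List.mem_append, List.mem_map]
    rcases hK hg with h | h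
    · exact Or.inl (ih g h)
    · exact Or.inr ⟨_, ih _ h, by rw [pcomp_eq_codeP hu (repr_codeP _), mul_inv_cancel_left]⟩

theorem card_spanH {cs : List ℕ} (hok : ∀ c ∈ cs, permOK c = true) (hpc : pcOK cs = true)
    (hd : distinctB (spanC cs) = true) : Nat.card (spanH cs) = (spanC cs).length := by
  classical
  have himg : codeP '' (spanH cs : Set P24) = ((spanC cs).toFinset : Set ℕ) := by
    ext x
    rw [List.coe_toFinset]
    exact ⟨fun ⟨g, hg, e⟩ => e ▸ spanC_complete hok hpc g hg, fun hx => spanC_sound hok x hx⟩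
  calc Nat.card (spanH cs) = (spanH cs : Set P24).ncard := Nat.card_coe_set_eq _
    _ = (codeP '' (spanH cs : Set P24)).ncard := (Set.ncard_image_of_injective _ codeP_injective).symm
    _ = _ := by rw [himg, Set.ncard_coe_finset, List.toFinset_card_of_nodup (nodup_of_distinctB hd)]

theorem spanH_split : ∀ {as bs : List ℕ}, (∀ c ∈ as ++ bs, permOK c = true) → pcOK (as ++ bs) = true →
    ∀ x ∈ spanC (as ++ bs), ∃ r f : P24, codeP r ∈ spanC as ∧ r ∈ spanH (as ++ bs) ∧ f ∈ spanH bs ∧ codeP (r * f) = x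
  | [], bs, hok, _, x, hx => by
    obtain ⟨g, hg, rfl⟩ := spanC_sound (cs := bs) hok x hx
    exact ⟨1, g, by simp [spanC, pid_eq_codeP], one_mem _, hg, by rw [one_mul]⟩
  | a :: as, bs, hok, hpc, x, hx => by
    rw [List.cons_append] at hok hpc hx
    simp only [pcOK, Bool.and_eq_true] at hpc
    obtain ⟨u, hu⟩ := exists_repr_of_permOK (hok a (List.mem_cons_self ..))
    have ih := spanH_split (as := as) (bs := bs) (fun d hd => hok d (List.mem_cons_of_mem _ hd)) hpc.2
    simp only [spanC, dblC, List.mem_append, List.mem_map] at hx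
    rcases hx with hx | ⟨y, hy, rfl⟩
    · obtain ⟨r, f, h1, h2, h3, h4⟩ := ih x hx
      exact ⟨r, f, by simp [spanC, dblC, h1], spanH_cons_le h2, h3, h4⟩
    · obtain ⟨r, f, h1, h2, h3, rfl⟩ := ih y hy
      refine ⟨u * r, f, ?_, mul_mem (mem_spanH (List.mem_cons_self ..) hu) (spanH_cons_le h2), h3, ?_⟩
      · simp only [spanC, dblC, List.mem_append, List.mem_map]
        exact Or.inr ⟨_, h1, pcomp_eq_codeP hu (repr_codeP r)⟩
      · rw [pcomp_eq_codeP hu (repr_codeP _), mul_assoc]

/-! ### The certificate -/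

/-- A certified Sylow 2-subgroup. -/
structure SylData where
  l : List ℕ
  invs : List ℕ
  phiG : List ℕ
  sqW : List (List ℕ)
  repG : List ℕ
  z : ℕ
  szs : List ℕ
  steps : List (ℕ × ℕ × ℕ × ℕ)

namespace SylData

variable (D : SylData)

/-- The generators. -/
def gens : List ℕ := D.repG ++ D.phiG

/-- The code belongs to the ambient group. -/
def okG (c : ℕ) : Bool := permOK c && gensKept c && inSub D.l D.invs c

/-- The weight of a point. -/
def wt (i : ℕ) : ℕ := Nat.pow 32 (D.szs.getD i 0)

/-- Weighted fixed points. -/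
def fixW (c : ℕ) : ℕ := ((List.range 24).map fun i => if Nat.beq (papp c i) i then D.wt i else 0).sum

/-- The signature. -/
def sigC (c : ℕ) : ℕ := D.fixW c + Nat.pow 32 17 * D.fixW (pcomp c c)

/-- The colour of a coset. -/
def colC (u : ℕ) : ℕ := ((spanC D.phiG).map fun f => Nat.pow (D.sigC (pcomp u f)) 2).sum

/-- The orbit mask of a point. -/
def orbC (L : List ℕ) (i : ℕ) : ℕ := orBits (L.map fun c => papp c i)

/-- A product of squares. -/
def sqProd : List ℕ → ℕ
  | [] => pid
  | u :: w => pcomp (pcomp u u) (sqProd w)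

def checkBasic : Bool :=
  D.gens.all D.okG && pcOK D.gens && distinctB (spanC D.gens) && pcOK D.phiG

def checkPhi : Bool :=
  (spanC D.gens).all (fun c => memB (pcomp c c) (spanC D.phiG)) &&
  decide (D.phiG.length = D.sqW.length) &&
  (D.phiG.zip D.sqW).all (fun cw => Nat.beq (sqProd cw.2) cw.1 && cw.2.all fun u => memB u (spanC D.gens))

def checkOrb : Bool :=
  let ob := (List.range 24).map (orbC (spanC D.gens))
  (List.range 24).all (fun i => Nat.beq (pc (ob.getD i 0)) (D.szs.getD i 0)) &&
  (List.range 24).all fun i => (List.range 24).all fun j => (List.range 24).all fun k =>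
    !(Nat.beq (D.szs.getD i 0) (D.szs.getD j 0) && Nat.beq (D.szs.getD i 0) (D.szs.getD k 0)) ||
      (Nat.beq (ob.getD i 0) (ob.getD j 0) || Nat.beq (ob.getD i 0) (ob.getD k 0) || Nat.beq (ob.getD j 0) (ob.getD k 0))

def checkCol : Bool :=
  let R := spanC D.repG
  let col := R.map D.colC
  (List.range R.length).all fun i => (List.range R.length).all fun j => (List.range R.length).all fun k =>
    !(Nat.beq (col.getD i 0) (col.getD j 0) && Nat.beq (col.getD i 0) (col.getD k 0)) ||
      (Nat.beq i j || Nat.beq i k || Nat.beq j k)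

def checkCen : Bool :=
  (spanC D.gens).all fun c => !(D.gens.all fun d => Nat.beq (pcomp c d) (pcomp d c)) || (Nat.beq c pid || Nat.beq c D.z)

/-- The fusion steps. -/
def runSteps : List (ℕ × ℕ × ℕ × ℕ) → List ℕ → Option (List ℕ)
  | [], acc => some acc
  | (g, i, j, t) :: r, acc =>
    if D.okG g && (memB t (spanC D.gens) &&
      Nat.beq (pcomp g (pcomp (acc.getD i pid) (acc.getD j pid))) (pcomp t g))
    then runSteps r (acc ++ [t]) else none

def checkSteps : Bool :=
  match D.runSteps D.steps [pid, D.z] with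
  | none => false
  | some acc => D.gens.all fun c => memB c acc

/-- The ambient group. -/
def amb : Subgroup P24 := subG D.l D.invs

variable {D}

theorem okG_spec {c : ℕ} (h : D.okG c = true) : permOK c = true ∧ ∀ g, Repr c g → g ∈ D.amb := by
  simp only [okG, Bool.and_eq_true] at h
  exact ⟨h.1.1, fun g hg => mem_subG_of_inSub (mem_M24_of_gensKept hg h.1.2) hg h.2⟩

section Checked

variable (hB : D.checkBasic = true)
include hB

theorem permOK_gens : ∀ c ∈ D.gens, permOK c = true := fun c hc => by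
  simp only [checkBasic, Bool.and_eq_true, List.all_eq_true] at hB
  exact (okG_spec (hB.1.1.1 c hc)).1

theorem permOK_phi : ∀ c ∈ D.phiG, permOK c = true := fun c hc =>
  permOK_gens hB c (List.mem_append_right _ hc)

theorem pc_gens : pcOK D.gens = true := by simp only [checkBasic, Bool.and_eq_true] at hB; exact hB.1.1.2

theorem pc_phi : pcOK D.phiG = true := by simp only [checkBasic, Bool.and_eq_true] at hB; exact hB.2

theorem spanH_le_amb : spanH D.gens ≤ D.amb := by
  simp only [checkBasic, Bool.and_eq_true, List.all_eq_true] at hB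
  exact (Subgroup.closure_le _).mpr fun g ⟨c, hc, hg⟩ => (okG_spec (hB.1.1.1 c hc)).2 g hg

theorem phi_le : spanH D.phiG ≤ spanH D.gens :=
  Subgroup.closure_mono fun _ ⟨c, hc, hg⟩ => ⟨c, List.mem_append_right _ hc, hg⟩

theorem card_U : Nat.card (spanH D.gens) = (spanC D.gens).length :=
  card_spanH (permOK_gens hB) (pc_gens hB) (by simp only [checkBasic, Bool.and_eq_true] at hB; exact hB.1.2)

theorem orb_spec (p q : GolayPt) :
    q ∈ toSet (orbC (spanC D.gens) (idx p)) ↔ ∃ u ∈ spanH D.gens, u p = q := by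
  simp only [mem_toSet, orbC, testBit_orBits, List.mem_map]
  constructor
  · rintro ⟨c, hc, he⟩
    obtain ⟨u, hu, rfl⟩ := spanC_sound (permOK_gens hB) c hc
    refine ⟨u, hu, idx_injective ?_⟩
    rw [← he, ← repr_codeP u]
  · rintro ⟨u, hu, rfl⟩
    exact ⟨_, spanC_complete (permOK_gens hB) (pc_gens hB) u hu, (repr_codeP u p).symm⟩

theorem squares_phi (hP : D.checkPhi = true) {u : P24} (hu : u ∈ spanH D.gens) : u * u ∈ spanH D.phiG := by
  simp only [checkPhi, Bool.and_eq_true, List.all_eq_true] at hP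
  obtain ⟨g, hg, he⟩ := spanC_sound (permOK_phi hB) _
    (of_memB (hP.1.1 _ (spanC_complete (permOK_gens hB) (pc_gens hB) u hu)))
  rw [pcomp_eq_codeP (repr_codeP u) (repr_codeP u)] at he
  exact codeP_injective he ▸ hg

theorem phi_le_squares (hP : D.checkPhi = true) :
    spanH D.phiG ≤ Subgroup.closure {x | ∃ u ∈ spanH D.gens, u * u = x} := by
  simp only [checkPhi, Bool.and_eq_true, List.all_eq_true, decide_eq_true_eq] at hP
  obtain ⟨⟨-, hlen⟩, hw⟩ := hP
  refine (Subgroup.closure_le _).mpr ?_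
  rintro g ⟨c, hc, hg⟩
  obtain ⟨i, hi, rfl⟩ := List.mem_iff_getElem.mp hc
  have hmem : (D.phiG[i], D.sqW[i]'(hlen ▸ hi)) ∈ D.phiG.zip D.sqW := by
    refine List.mem_iff_getElem.mpr ⟨i, by simp [List.length_zip, hlen ▸ hi, hi], ?_⟩
    simp
  obtain ⟨he, hu⟩ := hw _ hmem
  have key : ∀ w : List ℕ, (∀ u ∈ w, memB u (spanC D.gens) = true) →
      ∃ a ∈ Subgroup.closure {x | ∃ u ∈ spanH D.gens, u * u = x}, codeP a = sqProd w := by
    intro w
    induction w with
    | nil => exact fun _ => ⟨1, one_mem _, pid_eq_codeP.symm⟩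
    | cons b w ih =>
      intro h
      obtain ⟨a, ha, hae⟩ := ih fun u hu => h u (List.mem_cons_of_mem _ hu)
      obtain ⟨v, hv, rfl⟩ := spanC_sound (permOK_gens hB) b (of_memB (h b (List.mem_cons_self ..)))
      refine ⟨v * v * a, mul_mem (Subgroup.subset_closure ⟨v, hv, rfl⟩) ha, ?_⟩
      rw [sqProd, pcomp_eq_codeP (repr_codeP v) (repr_codeP v), ← hae, pcomp_eq_codeP (repr_codeP _) (repr_codeP a)]
  obtain ⟨a, ha, hae⟩ := key _ hu
  have : Repr (D.phiG[i]) a := by
    have hc' : sqProd _ = D.phiG[i] := Nat.eq_of_beq_eq_true he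
    rw [← hc', ← hae]; exact repr_codeP a
  exact hg.unique this ▸ ha

/-- An element of odd order normalising the Sylow subgroup is trivial. -/
theorem eq_one_of_normalizes (hP : D.checkPhi = true) (hO : D.checkOrb = true) (hC : D.checkCol = true)
    {k : ℕ} (hlen : (spanC D.gens).length = 2 ^ k) {n : P24}
    (hn : n ∈ Subgroup.normalizer (spanH D.gens : Set P24)) (hodd : Odd (orderOf n)) : n = 1 := by
  classical
  haveI : Fact (Nat.Prime 2) := ⟨Nat.prime_two⟩
  set H := spanH D.gens with hH
  set Φ := spanH D.phiG with hΦdef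
  have hconjH : ∀ {a : P24}, a ∈ H → n * a * n⁻¹ ∈ H := fun {a} ha => (Subgroup.mem_normalizer_iff.mp hn a).mp ha
  have hconjH' : ∀ {a : P24}, a ∈ H → n⁻¹ * a * n ∈ H := fun {a} ha => (Subgroup.mem_normalizer_iff''.mp hn a).mp ha
  obtain ⟨m, hm⟩ := hodd
  have hnm : n ^ (2 * m + 1) = 1 := hm ▸ pow_orderOf_eq_one n
  -- orbits
  set ob : GolayPt → Finset GolayPt := fun p => toSet (orbC (spanC D.gens) (idx p)) with hob
  have hob_mem : ∀ p q, q ∈ ob p ↔ ∃ u ∈ H, u p = q := orb_spec hB
  have hobn : ∀ p, ob (n p) = (ob p).image n := by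
    intro p
    ext q
    rw [hob_mem, Finset.mem_image]
    constructor
    · rintro ⟨u, hu, rfl⟩
      exact ⟨(n⁻¹ * u * n) p, (hob_mem _ _).mpr ⟨_, hconjH' hu, rfl⟩, by simp⟩
    · rintro ⟨r, hr, rfl⟩
      obtain ⟨u, hu, rfl⟩ := (hob_mem _ _).mp hr
      exact ⟨n * u * n⁻¹, hconjH hu, by simp⟩
  simp only [checkOrb, Bool.and_eq_true, List.all_eq_true, List.mem_range] at hO
  obtain ⟨hsz, htriple⟩ := hO
  have hgetOb : ∀ i < 24, ((List.range 24).map (orbC (spanC D.gens))).getD i 0 = orbC (spanC D.gens) i := by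
    intro i hi
    simp [List.getD, hi]
  set sz : GolayPt → ℕ := fun p => D.szs.getD (idx p) 0 with hszdef
  have hszcard : ∀ p, sz p = (ob p).card := fun p => by
    have h := Nat.eq_of_beq_eq_true (hsz _ (idx_lt p))
    rw [hgetOb _ (idx_lt p)] at h
    rw [hszdef, hob]
    simp only
    rw [card_toSet, h]
  have hszn : ∀ p, sz (n p) = sz p := fun p => by
    rw [hszcard, hszcard, hobn, Finset.card_image_of_injective _ n.injective]
  -- signatures
  set W : GolayPt → ℕ := fun p => D.wt (idx p) with hWdef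
  have hWn : ∀ p, W (n p) = W p := fun p => by
    simp only [hWdef, wt]
    rw [show D.szs.getD (idx (n p)) 0 = D.szs.getD (idx p) 0 from hszn p]
  set fixP : P24 → ℕ := fun g => ∑ p : GolayPt, if g p = p then W p else 0 with hfixP
  have hfix : ∀ g, D.fixW (codeP g) = fixP g := by
    intro g
    rw [fixW, hfixP]
    simp only
    rw [← List.sum_toFinset _ List.nodup_range, List.toFinset_range]
    refine Finset.sum_bij' (fun i _ => pt i) (fun p _ => idx p) (fun i _ => Finset.mem_univ _)
      (fun p _ => Finset.mem_range.mpr (idx_lt p)) (fun i hi => idx_pt (Finset.mem_range.mp hi))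
      (fun p _ => pt_idx p) fun i hi => ?_
    have hi' := Finset.mem_range.mp hi
    rw [papp_codeP g hi']
    by_cases hgp : g (pt i) = pt i
    · rw [if_pos hgp, if_pos (by rw [hgp, idx_pt hi']; exact Nat.beq_refl i), hWdef]
      simp only
      rw [idx_pt hi']
    · rw [if_neg hgp, if_neg]
      intro hb
      refine hgp (idx_injective ?_)
      rw [Nat.eq_of_beq_eq_true hb, idx_pt hi']
  have hfixn : ∀ g, fixP (n * g * n⁻¹) = fixP g := by
    intro g
    rw [hfixP]
    simp only
    rw [← Equiv.sum_comp n]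
    refine Finset.sum_congr rfl fun p _ => ?_
    rw [hWn]
    simp [Equiv.apply_eq_iff_eq]
  set sigP : P24 → ℕ := fun g => fixP g + Nat.pow 32 17 * fixP (g * g) with hsigP
  have hsig : ∀ g, D.sigC (codeP g) = sigP g := fun g => by
    rw [sigC, pcomp_eq_codeP (repr_codeP g) (repr_codeP g), hfix, hfix]
  have hsign : ∀ g, sigP (n * g * n⁻¹) = sigP g := fun g => by
    simp only [hsigP]
    rw [show n * g * n⁻¹ * (n * g * n⁻¹) = n * (g * g) * n⁻¹ by simp [mul_assoc], hfixn, hfixn]
  -- the subgroup of squares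
  have hΦn : ∀ {f : P24}, f ∈ Φ → n * f * n⁻¹ ∈ Φ := by
    intro f hf
    have hle : Subgroup.closure {x | ∃ u ∈ H, u * u = x} ≤ Φ.comap (MulAut.conj n).toMonoidHom := by
      refine (Subgroup.closure_le _).mpr ?_
      rintro _ ⟨u, hu, rfl⟩
      show n * (u * u) * n⁻¹ ∈ Φ
      rw [show n * (u * u) * n⁻¹ = n * u * n⁻¹ * (n * u * n⁻¹) by simp [mul_assoc]]
      exact squares_phi hB hP (hconjH hu)
    exact hle (phi_le_squares hB hP hf)
  have hΦn' : ∀ {f : P24}, f ∈ Φ → n⁻¹ * f * n ∈ Φ := by
    intro f hf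
    have : ∀ j : ℕ, n ^ j * f * (n ^ j)⁻¹ ∈ Φ := fun j => by
      induction j with
      | zero => simpa using hf
      | succ j ih =>
        have := hΦn ih
        rwa [pow_succ', mul_inv_rev, show n * n ^ j * f * ((n ^ j)⁻¹ * n⁻¹) = n * (n ^ j * f * (n ^ j)⁻¹) * n⁻¹ by
          simp [mul_assoc]]
    have h2m : n ^ (2 * m) = n⁻¹ := eq_inv_of_mul_eq_one_left (by rw [← pow_succ]; exact hnm)
    simpa [h2m] using this (2 * m)
  have hΦH : ∀ {u f : P24}, u ∈ H → f ∈ Φ → u * f * u⁻¹ ∈ Φ := by
    intro u f hu hf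
    have hle : Subgroup.closure {x | ∃ v ∈ H, v * v = x} ≤ Φ.comap (MulAut.conj u).toMonoidHom := by
      refine (Subgroup.closure_le _).mpr ?_
      rintro _ ⟨v, hv, rfl⟩
      show u * (v * v) * u⁻¹ ∈ Φ
      rw [show u * (v * v) * u⁻¹ = u * v * u⁻¹ * (u * v * u⁻¹) by simp [mul_assoc]]
      exact squares_phi hB hP (mul_mem (mul_mem hu hv) (inv_mem hu))
    exact hle (phi_le_squares hB hP hf)
  -- colours
  set Φs : Finset P24 := Finset.univ.filter (fun f => f ∈ Φ) with hΦs
  set colP : P24 → ℕ := fun u => ∑ f ∈ Φs, Nat.pow (sigP (u * f)) 2 with hcolP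
  have hcol : ∀ u, D.colC (codeP u) = colP u := by
    intro u
    rw [colC, hcolP]
    simp only
    rw [← List.sum_toFinset _ (by
      refine List.Nodup.sublist ?_ (nodup_of_distinctB (l := spanC D.gens) (by
        simp only [checkBasic, Bool.and_eq_true] at hB; exact hB.1.2))
      rw [gens]
      generalize D.repG = as
      induction as with
      | nil => exact List.Sublist.refl _
      | cons a as ih => exact ih.trans (List.sublist_append_left _ _))]
    have hset : (spanC D.phiG).toFinset = Φs.image codeP := by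
      ext x
      simp only [List.mem_toFinset, Finset.mem_image, hΦs, Finset.mem_filter, Finset.mem_univ, true_and]
      exact ⟨fun hx => spanC_sound (permOK_phi hB) x hx,
        fun ⟨g, hg, e⟩ => e ▸ spanC_complete (permOK_phi hB) (pc_phi hB) g hg⟩
    rw [hset, Finset.sum_image fun a _ b _ h => codeP_injective h]
    refine Finset.sum_congr rfl fun f _ => ?_
    rw [pcomp_eq_codeP (repr_codeP u) (repr_codeP f), hsig]
  have hcoln : ∀ u, colP (n * u * n⁻¹) = colP u := by
    intro u
    simp only [hcolP]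
    symm
    refine Finset.sum_bij' (fun f _ => n * f * n⁻¹) (fun f _ => n⁻¹ * f * n) (fun f hf => ?_) (fun f hf => ?_)
      (fun f _ => by simp [mul_assoc]) (fun f _ => by simp [mul_assoc]) fun f _ => ?_
    · simp only [hΦs, Finset.mem_filter, Finset.mem_univ, true_and] at hf ⊢; exact hΦn hf
    · simp only [hΦs, Finset.mem_filter, Finset.mem_univ, true_and] at hf ⊢; exact hΦn' hf
    · rw [← hsign (u * f)]
      congr 2
      simp [mul_assoc]
  have hcolf : ∀ u {f}, f ∈ Φ → colP (u * f) = colP u := by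
    intro u f hf
    simp only [hcolP]
    refine Finset.sum_bij' (fun a _ => f * a) (fun a _ => f⁻¹ * a) (fun a ha => ?_) (fun a ha => ?_)
      (fun a _ => by simp) (fun a _ => by simp) fun a _ => by rw [mul_assoc]
    · simp only [hΦs, Finset.mem_filter, Finset.mem_univ, true_and] at ha ⊢; exact mul_mem hf ha
    · simp only [hΦs, Finset.mem_filter, Finset.mem_univ, true_and] at ha ⊢; exact mul_mem (inv_mem hf) ha
  -- the action on the cosets
  set R := spanC D.repG with hR
  simp only [checkCol, List.all_eq_true, List.mem_range] at hC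
  have hdecomp : ∀ a ∈ H, ∃ r f : P24, codeP r ∈ R ∧ r ∈ H ∧ f ∈ Φ ∧ r * f = a := by
    intro a ha
    obtain ⟨r, f, h1, h2, h3, h4⟩ := spanH_split (permOK_gens hB) (pc_gens hB) _
      (spanC_complete (permOK_gens hB) (pc_gens hB) a ha)
    exact ⟨r, f, h1, h2, h3, codeP_injective h4⟩
  have hfixcoset : ∀ r : P24, codeP r ∈ R → r ∈ H → r⁻¹ * (n * r * n⁻¹) ∈ Φ := by
    intro r hr hrH
    obtain ⟨r₁, f₁, hr₁, hr₁H, hf₁, he₁⟩ := hdecomp _ (hconjH hrH)
    obtain ⟨r₂, f₂, hr₂, hr₂H, hf₂, he₂⟩ := hdecomp _ (hconjH hr₁H)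
    have hc1 : colP r₁ = colP r := by rw [← hcolf r₁ hf₁, he₁, hcoln]
    have hc2 : colP r₂ = colP r := by rw [← hcolf r₂ hf₂, he₂, hcoln, hc1]
    obtain ⟨i, hi, hie⟩ := List.mem_iff_getElem.mp hr
    obtain ⟨j, hj, hje⟩ := List.mem_iff_getElem.mp hr₁
    obtain ⟨l, hl, hle⟩ := List.mem_iff_getElem.mp hr₂
    have hget : ∀ (a : ℕ) (ha : a < R.length), (R.map D.colC).getD a 0 = D.colC R[a] := by
      intro a ha
      simp [List.getD, ha]
    have h := hC i hi j hj l hl
    rw [hget i hi, hget j hj, hget l hl, hie, hje, hle, hcol, hcol, hcol, hc1, hc2] at h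
    simp only [Nat.beq_refl, Bool.and_self, Bool.not_true, Bool.false_or, Bool.or_eq_true] at h
    have e1 : r⁻¹ * (n * r * n⁻¹) = r⁻¹ * r₁ * f₁ := by rw [← he₁, mul_assoc]
    have e2 : r₁⁻¹ * (n * r₁ * n⁻¹) = r₁⁻¹ * r₂ * f₂ := by rw [← he₂, mul_assoc]
    rcases h with (h | h) | h
    · have : r = r₁ := codeP_injective (by
        rw [← hie, ← hje]; congr 1; exact Nat.eq_of_beq_eq_true h)
      rw [e1, this, inv_mul_cancel, one_mul]; exact hf₁
    · -- the square fixes the coset
      have : r = r₂ := codeP_injective (by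
        rw [← hie, ← hle]; congr 1; exact Nat.eq_of_beq_eq_true h)
      have h2 : r⁻¹ * (n ^ 2 * r * (n ^ 2)⁻¹) ∈ Φ := by
        rw [sq, show n * n * r * (n * n)⁻¹ = n * (n * r * n⁻¹) * n⁻¹ by simp [mul_assoc], ← he₁,
          show n * (r₁ * f₁) * n⁻¹ = n * r₁ * n⁻¹ * (n * f₁ * n⁻¹) by simp [mul_assoc], ← he₂, ← this,
          mul_assoc, inv_mul_cancel_left]
        exact mul_mem hf₂ (hΦn hf₁)
      have hall : ∀ t : ℕ, r⁻¹ * ((n ^ 2) ^ t * r * ((n ^ 2) ^ t)⁻¹) ∈ Φ := by
        intro t
        induction t with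
        | zero => simp
        | succ t ih =>
          have hb := hΦn (hΦn ih)
          have := mul_mem h2 hb
          refine (congrArg (· ∈ Φ) ?_).mp this
          rw [pow_succ' (n ^ 2) t, sq]
          simp [mul_assoc]
      have := hall (m + 1)
      rwa [← pow_mul, show 2 * (m + 1) = 2 * m + 1 + 1 by ring, pow_succ, hnm, one_mul] at this
    · have : r₁ = r₂ := codeP_injective (by
        rw [← hje, ← hle]; congr 1; exact Nat.eq_of_beq_eq_true h)
      -- the image coset is fixed, hence so is the coset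
      have h1 : r₁⁻¹ * (n * r₁ * n⁻¹) ∈ Φ := by rw [e2, this, inv_mul_cancel, one_mul]; exact hf₂
      have hr' : r = n⁻¹ * r₁ * n * (n⁻¹ * f₁ * n) := by
        rw [show n⁻¹ * r₁ * n * (n⁻¹ * f₁ * n) = n⁻¹ * (r₁ * f₁) * n by simp [mul_assoc], he₁]
        simp [mul_assoc]
      have h3 : r₁⁻¹ * r ∈ Φ := by
        rw [show r₁⁻¹ * r = n⁻¹ * (r₁⁻¹ * (n * r₁ * n⁻¹))⁻¹ * n * (n⁻¹ * f₁ * n) by rw [hr']; simp [mul_assoc]]
        exact mul_mem (hΦn' (inv_mem h1)) (hΦn' hf₁)
      have h4 := mul_mem (inv_mem h3) hf₁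
      rwa [mul_inv_rev, inv_inv, ← e1] at h4
  have htriv : ∀ a ∈ H, n * a * n⁻¹ * a⁻¹ ∈ Φ := by
    intro a ha
    obtain ⟨r, f, hr, hrH, hf, rfl⟩ := hdecomp a ha
    have h1 := hΦH hrH (mul_mem (mul_mem (hfixcoset r hr hrH) (hΦn hf)) (inv_mem hf))
    refine (congrArg (· ∈ Φ) ?_).mp h1
    simp [mul_assoc]
  -- so `n` centralizes the Sylow subgroup
  have hHp : IsPGroup 2 H := IsPGroup.of_card (n := k) (by rw [hH, card_U hB, hlen])
  have hΦfr : Φ ≤ (frattini H).map H.subtype := by
    refine (phi_le_squares hB hP).trans ((Subgroup.closure_le _).mpr ?_)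
    rintro _ ⟨u, hu, rfl⟩
    refine ⟨⟨u, hu⟩ ^ 2, CfsgLib.pow_mem_frattini_pGroup hHp _, ?_⟩
    simp [sq]
  have hcent : Subgroup.zpowers n ≤ Subgroup.centralizer (H : Set P24) := by
    refine CfsgLib.centralize_of_trivial_mod_frattini (Subgroup.zpowers_le.mpr hn) ?_ ?_
    · obtain ⟨j, hj⟩ := (hHp.to_subgroup (frattini H)).exists_card_eq
      rw [Nat.card_zpowers, hj]
      exact (Nat.coprime_two_right.mpr ⟨m, hm⟩).pow_right j
    · intro a ha b hb
      refine hΦfr ?_
      obtain ⟨i, rfl⟩ := mem_powers_iff_mem_zpowers.mpr ha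
      clear ha
      show n ^ i * b * (n ^ i)⁻¹ * b⁻¹ ∈ Φ
      induction i with
      | zero => simp
      | succ i ih =>
        have := mul_mem (hΦn ih) (htriv b hb)
        refine (congrArg (· ∈ Φ) ?_).mp this
        rw [pow_succ']
        simp [mul_assoc]
  have hcomm : ∀ u ∈ H, ∀ p, u (n p) = n (u p) := fun u hu p => by
    have := Subgroup.mem_centralizer_iff.mp (hcent (Subgroup.mem_zpowers n)) u hu
    exact congrArg (fun g : P24 => g p) this
  refine Equiv.ext fun p => ?_
  -- `n p` lies in the orbit of `p`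
  have horb : ∃ u ∈ H, u p = n p := by
    have hself : ∀ q, q ∈ ob q := fun q => (hob_mem q q).mpr ⟨1, one_mem _, rfl⟩
    have heq : ∀ q r, ob q = ob r → ∃ u ∈ H, u q = r := fun q r h => (hob_mem q r).mp (h ▸ hself r)
    have h := htriple _ (idx_lt p) _ (idx_lt (n p)) _ (idx_lt (n (n p)))
    rw [hgetOb _ (idx_lt p), hgetOb _ (idx_lt (n p)), hgetOb _ (idx_lt (n (n p)))] at h
    rw [show D.szs.getD (idx (n p)) 0 = D.szs.getD (idx p) 0 from hszn p,
      show D.szs.getD (idx (n (n p))) 0 = D.szs.getD (idx p) 0 from (hszn _).trans (hszn p)] at h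
    simp only [Nat.beq_refl, Bool.and_self, Bool.not_true, Bool.false_or, Bool.or_eq_true] at h
    rcases h with (h | h) | h
    · exact heq _ _ (congrArg toSet (Nat.eq_of_beq_eq_true h))
    · obtain ⟨u, hu, hup⟩ := heq p (n (n p)) (congrArg toSet (Nat.eq_of_beq_eq_true h))
      have hall : ∀ t : ℕ, ((n ^ 2) ^ t) p = (u ^ t) p := by
        intro t
        induction t with
        | zero => rfl
        | succ t ih =>
          rw [pow_succ', Equiv.Perm.mul_apply, ih, sq, Equiv.Perm.mul_apply, ← hcomm _ (pow_mem hu t),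
            ← hcomm _ (pow_mem hu t), ← hup, ← Equiv.Perm.mul_apply, ← pow_succ]
      refine ⟨u ^ (m + 1), pow_mem hu _, ?_⟩
      rw [← hall, ← pow_mul, show 2 * (m + 1) = 2 * m + 1 + 1 by ring, pow_succ, hnm, one_mul]
    · obtain ⟨u, hu, hup⟩ := heq (n p) (n (n p)) (congrArg toSet (Nat.eq_of_beq_eq_true h))
      exact ⟨u, hu, n.injective (by rw [← hcomm u hu, hup])⟩
  obtain ⟨u, hu, hup⟩ := horb
  have hpow : ∀ t : ℕ, (n ^ t) p = (u ^ t) p := by
    intro t
    induction t with
    | zero => rfl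
    | succ t ih =>
      rw [pow_succ', Equiv.Perm.mul_apply, ih, ← hcomm _ (pow_mem hu t), ← hup, ← Equiv.Perm.mul_apply, ← pow_succ]
  obtain ⟨e, he⟩ := hHp ⟨u, hu⟩
  have he' : u ^ (2 ^ e) = 1 := congrArg Subtype.val he
  have h2e : (n ^ 2 ^ e) ∈ MulAction.stabilizer P24 p := by
    show (n ^ 2 ^ e) p = p
    rw [hpow, he']; rfl
  have hord : (orderOf n).Coprime (2 ^ e) := (Nat.coprime_two_right.mpr ⟨m, hm⟩).pow_right e
  obtain ⟨t, ht⟩ := exists_pow_eq_self_of_coprime hord.symm
  have : n ∈ MulAction.stabilizer P24 p := by rw [← ht]; exact pow_mem h2e t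
  exact this

end Checked

/-- A certified subgroup gives a simple fusion system. -/
theorem isSimple (hB : D.checkBasic = true) (hP : D.checkPhi = true) (hO : D.checkOrb = true)
    (hC : D.checkCol = true) (hZ : D.checkCen = true) (hS : D.checkSteps = true)
    {G : Subgroup P24} (hG : G = D.amb) {k m : ℕ} (hk : k ≠ 0) (hlen : (spanC D.gens).length = 2 ^ k)
    (hcard : Nat.card G = 2 ^ k * m) (hm : ¬ 2 ∣ m) (S : Sylow 2 G) :
    (Cfsg.groupFusionSystem (S : Subgroup G)).IsSimple 2 := by
  haveI : Fact (Nat.Prime 2) := ⟨Nat.prime_two⟩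
  subst hG
  set H := spanH D.gens with hH
  have hHG : H ≤ D.amb := spanH_le_amb hB
  have hcardU : Nat.card (H.subgroupOf D.amb) = 2 ^ k := by
    rw [Nat.card_congr (Subgroup.subgroupOfEquivOfLe hHG).toEquiv, card_U hB, hlen]
  have hm0 : m ≠ 0 := fun h => hm (h ▸ dvd_zero 2)
  have hfac : (Nat.card D.amb).factorization 2 = k := by
    rw [hcard, Nat.factorization_mul (by positivity) hm0, Finsupp.add_apply,
      Nat.factorization_eq_zero_of_not_dvd hm, add_zero, Nat.factorization_pow, Finsupp.smul_apply,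
      Nat.Prime.factorization_self Nat.prime_two, smul_eq_mul, mul_one]
  let U : Sylow 2 D.amb := Sylow.ofCard (H.subgroupOf D.amb) (by rw [hfac, hcardU])
  refine isSimple_group U S (fun h => ?_) (fun T hT h1 => ?_) (fun g hg => ?_)
  · change H.subgroupOf D.amb = ⊥ at h
    rw [h, Subgroup.card_bot] at hcardU
    exact absurd hcardU.symm (Nat.one_lt_two_pow hk).ne'
  · obtain ⟨c, hcT, hcc, hc2⟩ := CfsgLib.RankTwoSimple.exists_central U hT h1
    have hcH : ((c : D.amb) : P24) ∈ H := c.2
    have hcz : codeP ((c : D.amb) : P24) = D.z := by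
      simp only [checkCen, List.all_eq_true] at hZ
      have h := hZ _ (spanC_complete (permOK_gens hB) (pc_gens hB) _ hcH)
      have hall : D.gens.all (fun d => Nat.beq (pcomp (codeP ((c : D.amb) : P24)) d)
          (pcomp d (codeP ((c : D.amb) : P24)))) = true := by
        refine List.all_eq_true.mpr fun d hd => ?_
        obtain ⟨u, hu⟩ := exists_repr_of_permOK (permOK_gens hB d hd)
        rw [pcomp_eq_codeP (repr_codeP _) hu, pcomp_eq_codeP hu (repr_codeP _)]
        have huH := mem_spanH hd hu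
        have := Subgroup.mem_center_iff.mp hcc ⟨⟨u, hHG huH⟩, huH⟩
        have h' : u * ((c : D.amb) : P24) = ((c : D.amb) : P24) * u :=
          congrArg (fun w : (U : Subgroup D.amb) => ((w : D.amb) : P24)) this
        rw [h']
        exact Nat.beq_refl _
      rw [hall, Bool.not_true, Bool.false_or, Bool.or_eq_true] at h
      rcases h with h | h
      · exfalso
        have : ((c : D.amb) : P24) = 1 := codeP_injective (by rw [Nat.eq_of_beq_eq_true h, pid_eq_codeP])
        rw [← Subgroup.orderOf_coe, ← Subgroup.orderOf_coe, this, orderOf_one] at hc2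
        omega
      · exact Nat.eq_of_beq_eq_true h
    set T' := T.map D.amb.subtype with hT'
    have hinv : ∀ (st : List (ℕ × ℕ × ℕ × ℕ)) (acc acc' : List ℕ), D.runSteps st acc = some acc' →
        (∀ x ∈ acc, ∃ a ∈ T', codeP a = x) → ∀ x ∈ acc', ∃ a ∈ T', codeP a = x := by
      intro st
      induction st with
      | nil => intro acc acc' h hacc; simp only [runSteps, Option.some.injEq] at h; exact h ▸ hacc
      | cons q st ih =>
        obtain ⟨g, i, j, t⟩ := q
        intro acc acc' h hacc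
        simp only [runSteps] at h
        split_ifs at h with hcond
        simp only [Bool.and_eq_true] at hcond
        obtain ⟨hg, ht, heq⟩ := hcond
        refine ih _ _ h fun x hx => ?_
        rcases List.mem_append.mp hx with hx | hx
        · exact hacc x hx
        rw [List.mem_singleton] at hx
        subst hx
        have hget : ∀ i, ∃ a ∈ T', codeP a = acc.getD i pid := by
          intro i
          rcases lt_or_ge i acc.length with hi | hi
          · rw [List.getD_eq_getElem _ _ hi]; exact hacc _ (List.getElem_mem hi)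
          · rw [List.getD_eq_default _ _ hi]; exact ⟨1, one_mem _, pid_eq_codeP.symm⟩
        obtain ⟨a, ⟨a', ha', rfl⟩, ea⟩ := hget i
        obtain ⟨b, ⟨b', hb', rfl⟩, eb⟩ := hget j
        obtain ⟨hgp, hgmem⟩ := okG_spec hg
        obtain ⟨γ, hγ⟩ := exists_repr_of_permOK hgp
        obtain ⟨τ, hτ, rfl⟩ := spanC_sound (permOK_gens hB) _ (of_memB ht)
        have heq' := Nat.eq_of_beq_eq_true heq
        rw [← ea, ← eb, pcomp_eq_codeP (repr_codeP _) (repr_codeP _), pcomp_eq_codeP hγ (repr_codeP _),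
          pcomp_eq_codeP (repr_codeP τ) hγ] at heq'
        have hval := codeP_injective heq'
        let γ' : D.amb := ⟨γ, hgmem γ hγ⟩
        have hconj : γ' * (a' * b') * γ'⁻¹ = ⟨τ, hHG hτ⟩ := Subtype.ext (by
          show γ * (D.amb.subtype a' * D.amb.subtype b') * γ⁻¹ = τ
          rw [hval, mul_inv_cancel_right])
        have hmem := hT.2 _ (mul_mem ha' hb') γ' (by rw [hconj]; exact hτ)
        rw [hconj] at hmem
        exact ⟨τ, ⟨_, hmem, rfl⟩, rfl⟩
    simp only [checkSteps] at hS
    split at hS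
    · exact absurd hS (by simp)
    next acc hacc =>
    have hfin := hinv _ _ _ hacc (by
      intro x hx
      simp only [List.mem_cons, List.not_mem_nil, or_false] at hx
      rcases hx with rfl | rfl
      · exact ⟨1, one_mem _, pid_eq_codeP.symm⟩
      · exact ⟨_, ⟨_, hcT, rfl⟩, hcz⟩)
    simp only [List.all_eq_true] at hS
    intro u hu
    have hle : H ≤ T' := (Subgroup.closure_le _).mpr fun a ⟨d, hd, had⟩ => by
      obtain ⟨b, hb, he⟩ := hfin d (of_memB (hS d hd))
      have : Repr d b := he ▸ repr_codeP b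
      exact had.unique this ▸ hb
    obtain ⟨u', hu', he⟩ := hle (show (u : P24) ∈ H from hu)
    exact Subtype.ext he ▸ hu'
  · have hoddone : ∀ w : D.amb, w ∈ Subgroup.normalizer ((U : Subgroup D.amb) : Set D.amb) →
        Odd (orderOf w) → w = 1 := by
      intro w hw hwo
      refine Subtype.ext (eq_one_of_normalizes hB hP hO hC hlen ?_ (by rwa [Subgroup.orderOf_coe]))
      refine Subgroup.mem_normalizer_iff.mpr fun a => ⟨fun ha => ?_, fun ha => ?_⟩
      · exact (Subgroup.mem_normalizer_iff.mp hw ⟨a, hHG ha⟩).mp ha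
      · have haG : a ∈ D.amb := by
          have := mul_mem (mul_mem (inv_mem w.2) (hHG ha)) w.2
          simpa [mul_assoc] using this
        exact (Subgroup.mem_normalizer_iff.mp hw ⟨a, haG⟩).mpr ha
    refine Subgroup.subset_closure ⟨hg, (U : Subgroup D.amb), le_rfl, Subgroup.le_normalizer, inf_le_left,
      Subgroup.subset_closure ⟨hg, ?_⟩⟩
    obtain ⟨e, o, ho, heo⟩ := Nat.exists_eq_pow_mul_and_not_dvd (orderOf_pos g).ne' 2 (by norm_num)
    have hoo : orderOf (g ^ 2 ^ e) = o := by
      rw [orderOf_pow, heo, Nat.gcd_eq_right (Nat.dvd_mul_right ..), Nat.mul_div_cancel_left _ (by positivity)]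
    have hodd : Odd o := Nat.not_even_iff_odd.mp fun h => ho (even_iff_two_dvd.mp h)
    have h1 := hoddone (g ^ 2 ^ e) (pow_mem hg _) (hoo ▸ hodd)
    rw [h1, orderOf_one] at hoo
    exact ⟨e, by rw [heo, ← hoo, mul_one]⟩

end SylData

end CfsgGolay
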