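import Cfsg.Agent.Lib.Fusion.Criterion
import Cfsg.Agent.Lib.Tate
import Cfsg.Agent.Lib.PComplement

/-!
Tate's criterion for fusion systems: a normal subgroup between the derived subgroup and the Frattini
subgroup of `S`, together with inner automorphisms of `S`, forces the inner system.
-/

set_option autoImplicit false
set_option linter.unusedSectionVars false

universe u

namespace Cfsg.FusionSystem

open scoped commutatorElement

variable {Ω : Type u} [Group Ω] {S : Subgroup Ω} {F : FusionSystem S} {p : ℕ} {Q : Subgroup Ω}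

theorem IsModel.range_eq_top_of_tate {L : Type u} [Group L] {ι : S →* L} (hL : F.IsModel p L ι)
    [Fact p.Prime] [Finite S] (hS : IsPGroup p S) (hQn : F.IsNormal Q)
    (hsin : ∀ φ ∈ F.Hom S, ∃ g ∈ S, ∀ x : S, φ x = g * (x : Ω) * g⁻¹)
    (h1 : (commutator S).map S.subtype ≤ Q) (h2 : Q ≤ (frattini S).map S.subtype) :
    ι.range = ⊤ := by
  haveI := hL.1
  have hQS : Q ≤ S := hQn.1
  have hmap := hL.map_core hS
  obtain ⟨hinj, -⟩ := hL.2.1
  obtain ⟨T, hT⟩ := hL.2.2.1
  have hC := hL.2.2.2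
  set Q' := (Q.subgroupOf S).map ι with hQ'
  have hQcore : Q' ≤ pCore p L := by
    rw [← hmap]
    exact Subgroup.map_mono (Subgroup.comap_mono hQn.le_core)
  have hQ'T : Q' ≤ (T : Subgroup L) := by
    rw [hT]; exact Subgroup.map_le_range _ _
  haveI hn : Q'.Normal := by
    refine ⟨fun y hy l => ?_⟩
    obtain ⟨x, hx, rfl⟩ := hy
    obtain ⟨ψ, hψ, hψι, -⟩ := hL.exists_map (R := ⊥) bot_le (l := l) (by
      refine Subgroup.mem_normalizer_iff.mpr fun z => ?_
      simp)
    have hxX : (x : Ω) ∈ ((pCore p L).comap ι).map S.subtype ⊔ ⊥ :=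
      Subgroup.mem_sup_left ⟨x, hQcore ⟨x, hx, rfl⟩, rfl⟩
    have hmem : ψ ⟨x, hxX⟩ ∈ Q := hQn.stronglyClosed.apply_mem_of_mem hψ hx
    refine ⟨⟨_, hQS hmem⟩, hmem, ?_⟩
    exact hψι ⟨x, hxX⟩ (hQS hmem) x.2
  have hN : Subgroup.normalizer ((T : Subgroup L) : Set L) ≤ (T : Subgroup L) := by
    intro l hl
    have hl' : l ∈ Subgroup.normalizer ((S.subgroupOf S).map ι : Set L) := by
      rw [Subgroup.subgroupOf_self, ← MonoidHom.range_eq_map, ← hT]
      exact hl
    obtain ⟨ψ, hψ, hψι, -⟩ := hL.exists_map (R := S) le_rfl hl'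
    have hle : S ≤ ((pCore p L).comap ι).map S.subtype ⊔ S := le_sup_right
    obtain ⟨g, hg, hge⟩ := hsin _ (F.restrict_mem hψ hle)
    rw [hT]
    refine hL.mem_range_of_conj hg fun s _ => ?_
    have hs : ψ ⟨s, Subgroup.mem_sup_right s.2⟩ = g * (s : Ω) * g⁻¹ := hge s
    refine Eq.trans ?_ (hψι ⟨s, Subgroup.mem_sup_right s.2⟩ (F.apply_mem hψ _) s.2)
    exact congrArg ι (Subtype.ext hs.symm)
  -- the quotient by `Q'`
  let f : L →* L ⧸ Q' := QuotientGroup.mk' Q'
  have hf : Function.Surjective f := QuotientGroup.mk'_surjective Q'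
  let Tb : Sylow p (L ⧸ Q') := T.mapSurjective hf
  have hTb : (Tb : Subgroup (L ⧸ Q')) = (T : Subgroup L).map f := rfl
  have hcomap : (Tb : Subgroup (L ⧸ Q')).comap f = (T : Subgroup L) := by
    rw [hTb, Subgroup.comap_map_eq, QuotientGroup.ker_mk', sup_eq_left]
    exact hQ'T
  have hab : (Tb : Subgroup (L ⧸ Q')) ≤ Subgroup.centralizer ((Tb : Subgroup (L ⧸ Q')) : Set (L ⧸ Q')) := by
    rw [hTb]
    rintro _ ⟨a, ha, rfl⟩
    refine Subgroup.mem_centralizer_iff.mpr ?_
    rintro _ ⟨b, hb, rfl⟩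
    have ha' : a ∈ ι.range := hT ▸ ha
    have hb' : b ∈ ι.range := hT ▸ hb
    obtain ⟨a, rfl⟩ := ha'
    obtain ⟨b, rfl⟩ := hb'
    rw [← map_mul, ← map_mul, ← map_mul, ← map_mul]
    show QuotientGroup.mk' Q' _ = QuotientGroup.mk' Q' _
    rw [QuotientGroup.mk'_eq_mk']
    refine ⟨ι ((b * a)⁻¹ * (a * b)), ⟨_, h1 ⟨_, ?_, rfl⟩, rfl⟩, by rw [← map_mul, mul_inv_cancel_left]⟩
    rw [show (b * a)⁻¹ * (a * b) = ⁅a⁻¹, b⁻¹⁆ by rw [commutatorElement_def]; group]
    exact Subgroup.commutator_mem_commutator (Subgroup.mem_top _) (Subgroup.mem_top _)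
  have hNb : Subgroup.normalizer ((Tb : Subgroup (L ⧸ Q')) : Set (L ⧸ Q')) ≤
      Subgroup.centralizer ((Tb : Subgroup (L ⧸ Q')) : Set (L ⧸ Q')) := by
    intro y hy
    obtain ⟨l, rfl⟩ := hf y
    refine hab (show f l ∈ (Tb : Subgroup (L ⧸ Q')) from ⟨l, hN ?_, rfl⟩)
    rw [← hcomap]
    refine Subgroup.mem_normalizer_iff.mpr fun z => ?_
    rw [Subgroup.mem_comap, Subgroup.mem_comap, map_mul, map_mul, map_inv]
    exact Subgroup.mem_normalizer_iff.mp hy (f z)
  obtain ⟨Tc, Mb, hMn, hMc⟩ := CfsgLib.hasNormalPComplement_of_normalizer_le_centralizer Tb hNb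
  haveI := hMn
  have hidx : (Tc : Subgroup (L ⧸ Q')).index = Nat.card Mb := hMc.index_eq_card
  have hMcop : (Nat.card Mb).Coprime p := by
    rw [← hidx]
    exact ((Fact.out : p.Prime).coprime_iff_not_dvd.mpr (Sylow.not_dvd_index Tc)).symm
  set M := Mb.comap f with hM
  haveI : M.Normal := hMn.comap f
  have hMT : M ⊓ (T : Subgroup L) ≤ Q' := by
    intro x hx
    have hxM : f x ∈ Mb := hx.1
    have hxT : f x ∈ (Tb : Subgroup (L ⧸ Q')) := ⟨x, hx.2, rfl⟩
    have hcop : (Nat.card Mb).Coprime (Nat.card (Tb : Subgroup (L ⧸ Q'))) := by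
      obtain ⟨n, hn⟩ := IsPGroup.iff_card.mp Tb.2
      rw [hn]
      exact hMcop.pow_right n
    have h3 : f x ∈ Mb ⊓ (Tb : Subgroup (L ⧸ Q')) := ⟨hxM, hxT⟩
    rw [Subgroup.inf_eq_bot_of_coprime hcop, Subgroup.mem_bot] at h3
    exact (QuotientGroup.eq_one_iff x).mp h3
  have hfr : Q' ≤ (frattini T).map (T : Subgroup L).subtype := by
    suffices ∀ R : Subgroup L, R = ι.range → Q' ≤ (frattini R).map R.subtype from this _ hT
    rintro R rfl _ ⟨x, hx, rfl⟩
    obtain ⟨y, hy, e⟩ := h2 hx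
    obtain rfl : y = x := Subtype.ext e
    exact ⟨ι.rangeRestrict y,
      frattini_le_comap_frattini_of_surjective ι.rangeRestrict_surjective hy, rfl⟩
  obtain hK := CfsgLib.hasNormalPComplement_iff_pResidual.mp
    (CfsgLib.hasNormalPComplement_of_inf_le_frattini T M (hMT.trans hfr))
  set K := (pResidual p M).map M.subtype with hKdef
  haveI hKn : K.Normal := inferInstance
  have hKcop : (Nat.card K).Coprime p := by
    rw [hKdef, Subgroup.card_map_of_injective M.subtype_injective]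
    exact hK
  have hKbot : K = ⊥ := by
    have hcop : (Nat.card K).Coprime (Nat.card (pCore p L)) := by
      obtain ⟨n, hn⟩ := IsPGroup.iff_card.mp (CfsgLib.isPGroup_pCore (G := L) p)
      rw [hn]
      exact hKcop.pow_right n
    have hd : Disjoint K (pCore p L) := disjoint_iff.mpr (Subgroup.inf_eq_bot_of_coprime hcop)
    have hle : K ≤ pCore p L := fun k hk => hC (Subgroup.mem_centralizer_iff.mpr fun z hz =>
      (Subgroup.commute_of_normal_of_disjoint K _ hKn inferInstance hd k z hk hz).eq.symm)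
    exact le_bot_iff.mp (le_of_le_of_eq (le_inf le_rfl hle) (disjoint_iff.mp hd))
  have hMp : IsPGroup p M := by
    have h3 := (CfsgLib.isPGroup_quotient_of_pResidual_le (N := pResidual p M) le_rfl)
    have h4 : pResidual p M = ⊥ := (Subgroup.map_eq_bot_iff_of_injective _ M.subtype_injective).mp hKbot
    exact h3.of_equiv ((QuotientGroup.quotientMulEquivOfEq h4).trans QuotientGroup.quotientBot)
  have hMb : Mb = ⊥ := by
    have h3 : IsPGroup p (M.map f) := hMp.map f
    rw [hM, Subgroup.map_comap_eq_self_of_surjective hf] at h3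
    obtain ⟨n, hn⟩ := IsPGroup.iff_card.mp h3
    have h4 := hMcop
    rw [hn] at h4
    refine Subgroup.card_eq_one.mp ?_
    rw [hn]
    rcases n with _ | n
    · rfl
    · exact absurd ((Nat.coprime_pow_left_iff n.succ_pos _ _).mp h4)
        (by rw [Nat.coprime_self]; exact (Fact.out : p.Prime).ne_one)
  have hLb : IsPGroup p (L ⧸ Q') := by
    have h3 : (Tc : Subgroup (L ⧸ Q')) = ⊤ := by
      rw [← Subgroup.index_eq_one, hidx, hMb, Subgroup.card_bot]
    exact (h3 ▸ Tc.2 : IsPGroup p (⊤ : Subgroup (L ⧸ Q'))).of_equiv Subgroup.topEquiv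
  have hLp : IsPGroup p L := by
    obtain ⟨a, ha⟩ := IsPGroup.iff_card.mp hLb
    obtain ⟨b, hb⟩ := IsPGroup.iff_card.mp (T.2.to_le hQ'T)
    exact IsPGroup.of_card (n := a + b) (by rw [Subgroup.card_eq_card_quotient_mul_card_subgroup Q', ha, hb, pow_add])
  rw [← hT]
  exact T.3 (hLp.to_subgroup ⊤) le_top ▸ rfl

theorem IsConstrained.isInner_of_tate [Fact p.Prime] [Finite S] (hF : F.IsConstrained p) (hS : IsPGroup p S)
    (hQn : F.IsNormal Q) (hsin : ∀ φ ∈ F.Hom S, ∃ g ∈ S, ∀ x : S, φ x = g * (x : Ω) * g⁻¹)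
    (h1 : (commutator S).map S.subtype ≤ Q) (h2 : Q ≤ (frattini S).map S.subtype) : F.IsInner := by
  obtain ⟨L, _, ι, hL⟩ := (hF.setup_core hS).exists_isModel
  have htop := hL.range_eq_top_of_tate hS hQn hsin h1 h2
  intro P φ hφ
  obtain ⟨-, ⟨hinj, hiff⟩, -, -⟩ := hL
  obtain ⟨l, hl⟩ := (hiff P (F.source_le hφ) φ fun x => F.apply_mem hφ x).mp hφ
  obtain ⟨g, rfl⟩ : l ∈ ι.range := htop.ge (Subgroup.mem_top l)
  refine ⟨F.source_le hφ, g, g.2, fun x => ?_⟩
  have h3 := hl x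
  rw [← map_inv, ← map_mul, ← map_mul] at h3
  exact congrArg Subtype.val (hinj h3)

/-- A saturated system with a normal subgroup between `[S, S]` and `Φ(S)` and a `p`-group `Aut(S)` is
inner. -/
theorem IsSaturated.isInner_of_tate [Fact p.Prime] [Finite S] (hF : F.IsSaturated p) (hS : IsPGroup p S)
    (hQn : F.IsNormal Q) (hsin : ∀ φ ∈ F.Hom S, ∃ g ∈ S, ∀ x : S, φ x = g * (x : Ω) * g⁻¹)
    (h1 : (commutator S).map S.subtype ≤ Q) (h2 : Q ≤ (frattini S).map S.subtype) : F.IsInner := by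
  haveI := finite_mulAut_of_le (le_refl S)
  have hSS : IsPGroup p (F.autGroup S) := by
    refine (isPGroup_autInducedBy hS).to_le (K := autInducedBy S S) fun α hα => ?_
    obtain ⟨φ, hφ, -, he⟩ := F.exists_map_of_mem_autGroup le_rfl hα
    obtain ⟨g, hg, hge⟩ := hsin φ hφ
    exact mem_autInducedBy_iff.mpr ⟨g, hg, Subgroup.le_normalizer hg, fun x => (he x).symm.trans (hge x)⟩
  refine hF.isInner_of_essential hS hSS fun R hR => ?_
  have hRS : R ≤ S := hR.1.1
  haveI := finite_mulAut_of_le hRS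
  have hQR : Q ≤ R := hQn.le_of_centric_radical hS hR.1 (hR.isRadical hS hF)
  have hSR : S ≤ Subgroup.normalizer (R : Set Ω) := by
    intro s hs
    refine Subgroup.mem_normalizer_iff.mpr fun x => ⟨fun hx => ?_, fun hx => ?_⟩
    · have h3 : (⁅(⟨s, hs⟩ : S), (⟨x, hRS hx⟩ : S)⁆ : S) ∈ commutator S :=
        Subgroup.commutator_mem_commutator (Subgroup.mem_top _) (Subgroup.mem_top _)
      have h4 := R.mul_mem (hQR (h1 ⟨_, h3, rfl⟩)) hx
      simpa [commutatorElement_def, mul_assoc] using h4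
    · have hy : s * x * s⁻¹ ∈ R := hx
      have h3 : (⁅(⟨s, hs⟩ : S)⁻¹, (⟨_, hRS hy⟩ : S)⁆ : S) ∈ commutator S :=
        Subgroup.commutator_mem_commutator (Subgroup.mem_top _) (Subgroup.mem_top _)
      have h4 := R.mul_mem (hQR (h1 ⟨_, h3, rfl⟩)) hy
      simpa [commutatorElement_def, mul_assoc] using h4
  have hE := F.normalizerSystem_isNormalizerSystem R hRS
  have hEc := hF.normalizer_isConstrained hS hR.2.1 hR.1 hE
  suffices ∀ (T : Subgroup Ω), T = S → ∀ E : FusionSystem T, E.IsConstrained p → E.IsSubsystemOf F →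
      E.IsNormal Q → E.IsInner by
    have hT := normalizerIn_eq_of_le_normalizer hSR
    have hEQ : (F.normalizerSystem R hRS).IsNormal Q := by
      refine ⟨(hT.symm ▸ hQn.1 : Q ≤ normalizerIn S R), fun P φ hφ => ?_⟩
      obtain ⟨-, hPN, -, χ, hχ, hχe, hχR⟩ := id hφ
      have hχE : χ ∈ (F.normalizerSystem R hRS).Hom (P ⊔ R) := by
        refine ⟨hχ, sup_le (hT.symm ▸ F.source_le hφ.1) (hT.symm ▸ hRS), fun x => hT.symm ▸ F.apply_mem hχ x,
          χ.comp (Subgroup.inclusion (sup_le le_rfl le_sup_right)), F.restrict_mem hχ _, fun x => rfl, ?_⟩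
        ext y
        constructor
        · rintro ⟨x, hx, rfl⟩
          exact hχR.le ⟨⟨x, Subgroup.mem_sup_right hx⟩, hx, rfl⟩
        · intro hy
          obtain ⟨x, hx, rfl⟩ := hχR.ge hy
          exact ⟨⟨x, Subgroup.mem_sup_right hx⟩, hx, rfl⟩
      refine ⟨_, (F.normalizerSystem R hRS).restrict_mem hχE (sup_le_sup_left hQR P), fun x => hχe x, ?_⟩
      exact hQn.stronglyClosed.map_eq (F.restrict_mem hχ (sup_le_sup_left hQR P)) le_sup_right
    have hEi := this _ hT _ hEc hE.subsystem hEQ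
    refine (isPGroup_autInducedBy hS).to_le (K := autInducedBy S R) fun α hα => ?_
    obtain ⟨φ, hφ, hr, he⟩ := F.exists_map_of_mem_autGroup hRS hα
    have hφE : φ ∈ (F.normalizerSystem R hRS).Hom R :=
      ⟨hφ, hT.symm ▸ hRS, fun x => hT.symm ▸ F.apply_mem hφ x,
        φ.comp (Subgroup.inclusion (sup_le le_rfl le_rfl)), F.restrict_mem hφ _, fun x => rfl, by
        ext y
        constructor
        · rintro ⟨x, -, rfl⟩
          exact hr.le ⟨_, rfl⟩
        · intro hy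
          obtain ⟨x, rfl⟩ := hr.ge hy
          exact ⟨⟨x, Subgroup.mem_sup_right x.2⟩, x.2, rfl⟩⟩
    obtain ⟨-, g, hg, hge⟩ := hEi R hφE
    have hgN : g ∈ Subgroup.normalizer (R : Set Ω) := hSR (hT ▸ hg)
    exact mem_autInducedBy_iff.mpr ⟨g, hT ▸ hg, hgN, fun x => (he x).symm.trans (hge x)⟩
  rintro T rfl E hEc hEF hEQ
  exact hEc.isInner_of_tate hS hEQ (fun φ hφ => hsin φ (hEF _ hφ)) h1 h2

end Cfsg.FusionSystem
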