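import Cfsg.Agent.Lib.Fusion.Transfer.Tate
import Cfsg.Agent.Lib.Fusion.Relative
import Cfsg.Agent.Lib.Fusion.Generation
import Cfsg.Agent.Lib.Fusion.Induction
import Cfsg.Agent.Lib.YoshidaTransfer
import Cfsg.Agent.S2807

/-!
# Yoshida's transfer theorem for fusion systems
-/

set_option autoImplicit false
set_option linter.unusedVariables false
set_option linter.unusedSectionVars false

universe u v

namespace Cfsg.FusionSystem

variable {Ω : Type u} [Group Ω] {S : Subgroup Ω} {F : FusionSystem S} {p : ℕ}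

namespace Cocycle

variable (C : F.Cocycle) {A : Type v} [CommGroup A]

/-- The homomorphism on a point stabilizer. -/
def stabHom (π : S →* A) (y : C.Y) : MulAction.stabilizer S y →* A :=
  MonoidHom.mk' (fun σ => π (C.η σ y)) fun σ σ' => by
    rw [← map_mul, Subgroup.coe_mul, C.η_mul, show (σ' : S) • y = y from σ'.2]

theorem stabHom_apply (π : S →* A) (y : C.Y) (σ : MulAction.stabilizer S y) :
    C.stabHom π y σ = π (C.η σ y) := rfl

open CfsgLib.HallWielandt in
open Classical in
/-- The transfer along a biset decomposes along its orbits. -/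
theorem transfer_eq_prod_orbits [Finite S] [Fintype (MulAction.orbitRel.Quotient S C.Y)] (π : S →* A) (g : S) :
    C.transfer π g =
      ∏ O : MulAction.orbitRel.Quotient S C.Y, MonoidHom.transfer (C.stabHom π (Quotient.out O)) g := by
  rw [transfer_apply,
    ← Fintype.prod_fiberwise (fun y : C.Y => (⟦y⟧ : MulAction.orbitRel.Quotient S C.Y))]
  refine Finset.prod_congr rfl fun O _ => ?_
  set r := Quotient.out O with hr
  set R := MulAction.stabilizer S r with hR
  haveI := Fintype.ofFinite (S ⧸ R)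
  have hO : ∀ c : S ⧸ R, (⟦MulAction.ofQuotientStabilizer S r c⟧ : MulAction.orbitRel.Quotient S C.Y) = O := by
    intro c
    induction c using QuotientGroup.induction_on with
    | H a =>
      refine (Quotient.sound (MulAction.orbitRel_apply.mpr ?_)).trans (Quotient.out_eq O)
      rw [MulAction.ofQuotientStabilizer_mk]
      exact MulAction.mem_orbit _ a
  let f : S ⧸ R → S := Quotient.out
  have hf : ∀ c, (f c : S ⧸ R) = c := QuotientGroup.out_eq'
  have hfr : ∀ c, MulAction.ofQuotientStabilizer S r c = f c • r := fun c => by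
    conv_lhs => rw [← hf c]
    exact MulAction.ofQuotientStabilizer_mk S r (f c)
  let e : S ⧸ R ≃ {y : C.Y // (⟦y⟧ : MulAction.orbitRel.Quotient S C.Y) = O} :=
    Equiv.ofBijective (fun c => ⟨MulAction.ofQuotientStabilizer S r c, hO c⟩) (by
      refine ⟨fun a b h => MulAction.injective_ofQuotientStabilizer S _ (congrArg Subtype.val h), ?_⟩
      rintro ⟨y, hy⟩
      have h1 : y ∈ MulAction.orbit S r :=
        MulAction.orbitRel_apply.mp (Quotient.exact (hy.trans (Quotient.out_eq O).symm))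
      obtain ⟨a, ha⟩ := h1
      exact ⟨(a : S ⧸ R), Subtype.ext ((MulAction.ofQuotientStabilizer_mk S r a).trans ha)⟩)
  rw [← Fintype.prod_equiv e (fun c => π (C.η g (f c • r))) _ (fun c => by
    show π (C.η g (f c • r)) = π (C.η g (MulAction.ofQuotientStabilizer S r c))
    rw [hfr]), transfer_eq_prod_section _ f hf]
  have hterm : ∀ c, π (C.η g (f c • r)) =
      ext (C.stabHom π r) ((f (g • c))⁻¹ * g * f c) *
        (π (C.η (f (g • c)) r) / π (C.η (f c) r)) := by
    intro c
    have hmem : (f (g • c))⁻¹ * g * f c ∈ R := by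
      rw [mul_assoc, ← QuotientGroup.eq, hf]
      show g • c = ((g * f c : S) : S ⧸ R)
      conv_lhs => rw [← hf c]
      rfl
    rw [ext_of_mem _ hmem, stabHom_apply]
    have h1 := C.η_mul g (f c) r
    have h2 := C.η_mul (f (g • c)) ((f (g • c))⁻¹ * g * f c) r
    rw [show f (g • c) * ((f (g • c))⁻¹ * g * f c) = g * f c by group, h1,
      show ((f (g • c))⁻¹ * g * f c) • r = r from hmem] at h2
    have h3 := congrArg π h2
    rw [map_mul, map_mul] at h3
    rw [← mul_div_assoc, eq_div_iff_mul_eq', h3, mul_comm]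
  rw [Finset.prod_congr rfl fun c _ => hterm c, Finset.prod_mul_distrib, Finset.prod_div_distrib,
    Fintype.prod_equiv (MulAction.toPerm g) (fun c => π (C.η (f (g • c)) r)) (fun c => π (C.η (f c) r))
      fun _ => rfl, div_self', mul_one]

end Cocycle

/-- The commutator map. -/
abbrev yoshidaComm {P : Type*} [Group P] (z : P) : P → P := fun y => y⁻¹ * z⁻¹ * y * z

/-- No iterated commutator `[x, z; p - 1]` lies in a maximal subgroup outside its Frattini subgroup. -/
def YoshidaGood (p : ℕ) (P : Type*) [Group P] : Prop :=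
  ∀ (x z : P) (W₀ : Subgroup P), IsCoatom W₀ → (yoshidaComm z)^[p - 1] x ∈ W₀ →
    (yoshidaComm z)^[p - 1] x ∈ (frattini ↥W₀).map W₀.subtype

open CfsgLib.HallWielandt in
/-- The transfer is the power map of the degree. -/
theorem Cocycle.transfer_eq_pow_of_good [Finite S] [Fact p.Prime] (hS : IsPGroup p S) (C : F.Cocycle)
    (hd : (Fintype.card C.Y).Coprime p) (hgood : YoshidaGood p ↥S)
    {A : Type v} [CommGroup A] (hA : ∀ a : A, a ^ p = 1) (φ : S →* A)
    (hinv : ∀ (α : S →* Ω) (hα : α ∈ F.Hom S) (u : S), φ ⟨α u, F.apply_mem hα u⟩ = φ u) (x : S) :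
    C.transfer φ x = φ x ^ Fintype.card C.Y := by
  classical
  induction hn : orderOf x using Nat.strong_induction_on generalizing x with
  | _ n ih =>
  subst hn
  haveI := Fintype.ofFinite (MulAction.orbitRel.Quotient S C.Y)
  rw [C.transfer_eq_prod_orbits, Fintype.card, ← Finset.prod_const,
    ← Fintype.prod_fiberwise (fun y : C.Y => (⟦y⟧ : MulAction.orbitRel.Quotient S C.Y))]
  refine Finset.prod_congr rfl fun O _ => ?_
  set r := Quotient.out O with hr
  set R := MulAction.stabilizer S r with hR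
  have horb : Nat.card {y : C.Y // (⟦y⟧ : MulAction.orbitRel.Quotient S C.Y) = O} = R.index := by
    rw [hR, MulAction.index_stabilizer, ← Nat.card_coe_set_eq]
    refine Nat.card_congr (Equiv.subtypeEquivRight fun y => ?_)
    show _ ↔ y ∈ MulAction.orbit S r
    rw [← MulAction.orbitRel_apply]
    conv_lhs => rw [← Quotient.out_eq O]
    exact ⟨fun h => Quotient.exact h, fun h => Quotient.sound h⟩
  rw [Finset.prod_const, Finset.card_univ, ← Nat.card_eq_fintype_card, horb]
  haveI := Fintype.ofFinite (S ⧸ R)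
  by_cases hRt : R = ⊤
  · rw [hRt, Subgroup.index_top, pow_one]
    haveI : Subsingleton (S ⧸ R) := by rw [hRt]; exact QuotientGroup.subsingleton_quotient_top
    rw [transfer_eq_prod_section _ (fun _ => 1) fun c => Subsingleton.elim _ _,
      Fintype.prod_subsingleton _ ((1 : S) : S ⧸ R), inv_one, one_mul, mul_one,
      ext_of_mem _ (show x ∈ R from hRt ▸ Subgroup.mem_top x), Cocycle.stabHom_apply]
    obtain ⟨P, α, hα, hdg⟩ := C.diag r
    have hfix : ∀ g : S, g • r = r := fun g => show g ∈ R from hRt ▸ Subgroup.mem_top g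
    haveI : Finite P := finite_of_le (F.source_le hα)
    have hPS : P = S := by
      refine Subgroup.eq_of_le_of_card_ge (F.source_le hα) ?_
      refine Nat.card_le_card_of_surjective (fun u : P => (⟨α u, F.apply_mem hα u⟩ : S)) fun g => ?_
      obtain ⟨h', e'⟩ := hdg g (hfix g)
      exact ⟨⟨_, h'⟩, Subtype.ext e'⟩
    subst hPS
    obtain ⟨h, e⟩ := hdg x (hfix x)
    have h1 := hinv α hα (C.η x r)
    rw [show (⟨α (C.η x r), F.apply_mem hα _⟩ : P) = x from Subtype.ext e] at h1
    exact h1.symm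
  -- a proper stabilizer: the orbit contributes nothing
  obtain ⟨S₀, hS₀, hRS₀⟩ := (eq_top_or_exists_le_coatom R).resolve_left hRt
  obtain ⟨hS₀n, hidx⟩ := CfsgLib.YoshidaTransfer.coatom_data hS hS₀
  have hpow : φ x ^ R.index = 1 := by
    obtain ⟨k, hk⟩ := hidx ▸ Subgroup.index_dvd_of_le hRS₀
    rw [hk, pow_mul, hA, one_pow]
  rw [hpow]
  obtain ⟨z, -, hzS⟩ := SetLike.not_le_iff_exists.mp (fun h : (⊤ : Subgroup S) ≤ S₀ => hS₀.1 (top_le_iff.mp h))
  set ψ := C.stabHom φ r with hψ
  rw [CfsgLib.YoshidaTransfer.transfer_trans hRS₀ ψ]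
  set ψ₀ : S₀ →* A := MonoidHom.transfer (ψ.comp (Subgroup.subgroupOfEquivOfLe hRS₀).toMonoidHom) with hψ₀
  have hcomm : ∀ u ∈ S₀, ext ψ₀ ((fun y => y⁻¹ * z⁻¹ * y * z)^[p - 1] u) = 1 := by
    intro u hu
    have hmem : ∀ k, (yoshidaComm z)^[k] u ∈ S₀ := by
      intro k
      induction k with
      | zero => exact hu
      | succ k ih' =>
        rw [Function.iterate_succ_apply']
        have := S₀.mul_mem (S₀.inv_mem ih') ((inferInstance : S₀.Normal).conj_mem _ ih' z⁻¹)
        simpa [yoshidaComm, mul_assoc] using this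
    obtain ⟨w, hw, e⟩ := hgood u z S₀ hS₀ (hmem _)
    rw [show ((fun y => y⁻¹ * z⁻¹ * y * z)^[p - 1] u) = (w : S) from e.symm, ext_of_mem _ w.2]
    exact CfsgLib.YoshidaTransfer.frattini_le_ker hA ψ₀ hw
  obtain ⟨hT1, hT2⟩ := CfsgLib.YoshidaTransfer.index_prime_transfer hA hidx ψ₀ hzS hcomm
  by_cases hxS : x ∈ S₀
  · exact hT1 x hxS
  rw [hT2 x hxS]
  have hxp : x ^ p ∈ S₀ := by
    rw [← QuotientGroup.eq_one_iff, QuotientGroup.mk_pow]
    exact orderOf_dvd_iff_pow_eq_one.mp ((orderOf_dvd_natCard _).trans hidx.dvd)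
  rw [ext_of_mem _ hxp]
  have hlt : orderOf (x ^ p) < orderOf x := by
    obtain ⟨j, hj⟩ := IsPGroup.iff_orderOf.mp hS x
    have hj0 : j ≠ 0 := fun e => hxS (by
      rw [show x = 1 from orderOf_eq_one_iff.mp (by rw [hj, e, pow_zero])]; exact one_mem _)
    rw [orderOf_pow, hj, Nat.gcd_eq_right (dvd_pow_self p hj0)]
    exact Nat.div_lt_self (pow_pos (Fact.out : p.Prime).pos _) (Fact.out : p.Prime).one_lt
  show MonoidHom.transfer (ψ.comp (Subgroup.subgroupOfEquivOfLe hRS₀).toMonoidHom) (⟨x ^ p, hxp⟩ : S₀) = 1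
  haveI := Fintype.ofFinite
    (Quotient (MulAction.orbitRel (Subgroup.zpowers (⟨x ^ p, hxp⟩ : S₀)) (↥S₀ ⧸ R.subgroupOf S₀)))
  rw [MonoidHom.transfer_eq_prod_quotient_orbitRel_zpowers_quot]
  refine Finset.prod_eq_one fun o _ => ?_
  have hkill : ∀ (w : S) (hw : w ∈ R), orderOf w < orderOf x → (∃ v : S, w = v ^ p) → ψ ⟨w, hw⟩ = 1 := by
    intro w hw hwlt hv
    obtain ⟨v, hv⟩ := hv
    obtain ⟨P, α, hα, hdg⟩ := C.diag r
    obtain ⟨h, e⟩ := hdg w hw
    have h1 := C.transfer_map φ hα (⟨_, h⟩ : P)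
    rw [show (⟨α ⟨_, h⟩, F.apply_mem hα _⟩ : S) = w from Subtype.ext e] at h1
    have h2 : C.transfer φ w = 1 := by rw [hv, map_pow, hA]
    have h3 : orderOf (C.η w r) = orderOf w := by
      have hi : Function.Injective α := F.injective_of_mem hα
      rw [← Subgroup.orderOf_coe w, ← e, orderOf_injective α hi, ← Subgroup.orderOf_coe (⟨_, h⟩ : P)]
      exact (Subgroup.orderOf_coe _).symm
    have h4 := ih (orderOf (C.η w r)) (h3 ▸ hwlt) (C.η w r) rfl
    rw [h2] at h1
    rw [show (⟨(⟨_, h⟩ : P), F.source_le hα h⟩ : S) = C.η w r from Subtype.ext rfl, h4] at h1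
    rw [hψ, Cocycle.stabHom_apply]
    refine orderOf_eq_one_iff.mp (Nat.dvd_one.mp (hd.gcd_eq_one ▸ Nat.dvd_gcd ?_ ?_))
    · exact orderOf_dvd_of_pow_eq_one h1.symm
    · exact orderOf_dvd_of_pow_eq_one (hA _)
  have hgen : ∀ (e : S₀) (k : ℕ),
      orderOf (((e⁻¹ * (⟨x ^ p, hxp⟩ : S₀) ^ k * e : S₀) : S)) ∣ orderOf (x ^ p) ∧
      ∃ v : S, ((e⁻¹ * (⟨x ^ p, hxp⟩ : S₀) ^ k * e : S₀) : S) = v ^ p := by
    intro e k
    have heq : (((e⁻¹ * (⟨x ^ p, hxp⟩ : S₀) ^ k * e : S₀) : S)) = ((e : S)⁻¹ * x ^ k * (e : S)⁻¹⁻¹) ^ p := by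
      rw [conj_pow, inv_inv, ← pow_mul, mul_comm k p, pow_mul]
      push_cast
      rfl
    refine ⟨?_, _, heq⟩
    rw [heq, ← MulAut.conj_apply, ← map_pow, MulEquiv.orderOf_eq, ← pow_mul, mul_comm k p, pow_mul]
    exact orderOf_pow_dvd k
  exact hkill _ _ (lt_of_le_of_lt (Nat.le_of_dvd (orderOf_pos _) (hgen o.out.out _).1) hlt) (hgen o.out.out _).2

/-- A saturated system and a subsystem with the automorphisms of `S` have equal focal subgroups unless `S`
maps onto `C_p ≀ C_p`. -/
theorem IsSaturated.focal_le_of_good [Finite S] [Fact p.Prime] (hF : F.IsSaturated p) (hS : IsPGroup p S)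
    (hgood : YoshidaGood p ↥S) {T : Subgroup Ω} (hT : T = S) (N : FusionSystem T) (hN : N.IsSaturated p)
    (hNF : N.IsSubsystemOf F) (haut : F.Hom S ⊆ N.Hom S) : F.focalSubgroup ≤ N.focalSubgroup := by
  subst hT
  set M : Subgroup T := frattini T ⊔ N.focalSubgroup.subgroupOf T with hM
  haveI hMn : M.Normal := ⟨fun m hm g => by
    have h1 : g * m * g⁻¹ * m⁻¹ ∈ M :=
      Subgroup.mem_sup_left (CfsgLib.commutator_le_frattini_pGroup hS
        (Subgroup.commutator_mem_commutator (Subgroup.mem_top g) (Subgroup.mem_top m)))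
    simpa using M.mul_mem h1 hm⟩
  have hcomm : ∀ a b : T ⧸ M, a * b = b * a := by
    intro a b
    induction a using QuotientGroup.induction_on with
    | H a =>
      induction b using QuotientGroup.induction_on with
      | H b =>
        rw [← QuotientGroup.mk_mul, ← QuotientGroup.mk_mul, QuotientGroup.eq]
        refine Subgroup.mem_sup_left (CfsgLib.commutator_le_frattini_pGroup hS ?_)
        rw [commutator_def]
        have := Subgroup.commutator_mem_commutator (Subgroup.mem_top b⁻¹) (Subgroup.mem_top a⁻¹)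
        simpa [commutatorElement_def, mul_assoc] using this
  letI : CommGroup (T ⧸ M) := { (inferInstance : Group (T ⧸ M)) with mul_comm := hcomm }
  have hA : ∀ a : T ⧸ M, a ^ p = 1 := by
    intro a
    induction a using QuotientGroup.induction_on with
    | H a =>
      rw [← QuotientGroup.mk_pow, QuotientGroup.eq_one_iff]
      exact Subgroup.mem_sup_left (CfsgLib.pow_mem_frattini_pGroup hS a)
  set φ : T →* T ⧸ M := QuotientGroup.mk' M with hφ
  have hinv : ∀ (α : T →* Ω) (hα : α ∈ F.Hom T) (u : T), φ ⟨α u, F.apply_mem hα u⟩ = φ u := by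
    intro α hα u
    refine (QuotientGroup.eq.mpr (Subgroup.mem_sup_right ?_)).symm
    show ((u : Ω))⁻¹ * α u ∈ N.focalSubgroup
    exact focal_gen_mem (haut hα) u
  obtain ⟨C, hd⟩ := hF.exists_cocycle hS
  have hle : F.focalSubgroup ≤ M.map T.subtype := by
    rw [FusionSystem.focalSubgroup, Subgroup.closure_le]
    rintro _ ⟨P, β, x, hβ, rfl⟩
    refine ⟨⟨x, F.source_le hβ x.2⟩⁻¹ * ⟨β x, F.apply_mem hβ x⟩, ?_, rfl⟩
    show _ ∈ M
    rw [← QuotientGroup.eq]
    have h1 := C.transfer_map φ hβ x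
    rw [C.transfer_eq_pow_of_good hS hd hgood hA φ hinv, C.transfer_eq_pow_of_good hS hd hgood hA φ hinv] at h1
    have h2 : ((⟨x, F.source_le hβ x.2⟩ : T) : T ⧸ M)⁻¹ * ((⟨β x, F.apply_mem hβ x⟩ : T) : T ⧸ M) = 1 := by
      refine orderOf_eq_one_iff.mp (Nat.dvd_one.mp (hd.gcd_eq_one ▸ Nat.dvd_gcd ?_ ?_))
      · refine orderOf_dvd_of_pow_eq_one ?_
        rw [mul_pow, inv_pow, inv_mul_eq_one]
        exact h1.symm
      · exact orderOf_dvd_of_pow_eq_one (hA _)
    exact inv_mul_eq_one.mp h2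
  have hhyp : F.hyperfocalSubgroup p = N.hyperfocalSubgroup p := by
    refine hF.hyperfocal_eq hS hNF hN (hle.trans ?_)
    rw [hM, Subgroup.map_sup]
    refine sup_le_sup_left ?_ _
    rintro _ ⟨y, hy, rfl⟩
    exact hy
  rw [hF.focalSubgroup_eq hS, hN.focalSubgroup_eq hS, hhyp]

theorem IsSaturated.exists_wreath_quotient [Finite S] [Fact p.Prime] (hS : IsPGroup p S) (hF : F.IsSaturated p)
    {N : FusionSystem (normalizerIn S S)} (hN : F.IsNormalizerSystem S N)
    (hne : N.focalSubgroup ≠ F.focalSubgroup) :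
    ∃ (W : Sylow p (Equiv.Perm (Fin (p ^ 2)))) (f : ↥S →* ↥(W : Subgroup (Equiv.Perm (Fin (p ^ 2))))),
      Function.Surjective f := by
  by_contra hcon
  have hgood : YoshidaGood p ↥S := by
    intro x z W₀ hW₀ hv
    by_contra hv'
    haveI := (CfsgLib.YoshidaTransfer.coatom_data hS hW₀).1
    exact hcon (Cfsg.Agent.S2807.maps_onto hS W₀ (CfsgLib.YoshidaTransfer.coatom_data hS hW₀).2 x z hv hv')
  have hT : normalizerIn S S = S := normalizerIn_eq_of_le_normalizer Subgroup.le_normalizer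
  have hfn : F.IsFullyNormalized S := isFullyNormalized_of_le_normalizer le_rfl Subgroup.le_normalizer
  have hsub : N.IsSubsystemOf F := hN.subsystem
  refine hne (le_antisymm ?_ (hF.focal_le_of_good hS hgood hT N
    (hF.isSaturated_normalizerSystem hS hfn hN) hsub fun φ hφ => ?_))
  · rw [FusionSystem.focalSubgroup, Subgroup.closure_le]
    rintro _ ⟨P, φ, x, hφ, rfl⟩
    exact focal_gen_mem (hsub P hφ) x
  · refine hN.mem_of_normalizes hφ le_rfl hT.ge ?_
    rw [Subgroup.subgroupOf_self, ← MonoidHom.range_eq_map]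
    refine Subgroup.eq_of_le_of_card_ge ?_ ?_
    · rintro _ ⟨x, rfl⟩
      exact F.apply_mem hφ x
    · exact (Nat.card_congr (MonoidHom.ofInjective (F.injective_of_mem hφ)).toEquiv).le

end Cfsg.FusionSystem
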