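import Cfsg.Agent.Lib.Fusion.NormalFunctor
import Cfsg.Agent.Lib.Quadratic.Stable

/-!
At odd primes the centre of the Thompson subgroup is normal in a `Qd(p)`-free system.
-/

set_option autoImplicit false
set_option linter.unusedSectionVars false

universe u

namespace Cfsg.FusionSystem

variable {p : ℕ} [Fact p.Prime]

/-- The centre of the abelian Thompson subgroup as a functor. -/
noncomputable def zjFunctor : ∀ (Q : Type u) [Group Q], Subgroup Q := fun Q _ => CfsgLib.ZJ.zj 0 (⊤ : Subgroup Q)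

theorem zjFunctor_ne_bot (Q : Type u) [Group Q] [Finite Q] (hQ : IsPGroup p Q) (h : Nontrivial Q) :
    zjFunctor Q ≠ ⊥ :=
  CfsgLib.ZJ.zj_ne_bot (Or.inl rfl) (hQ.of_equiv Subgroup.topEquiv.symm) top_ne_bot

theorem zjFunctor_map (Q R : Type u) [Group Q] [Group R] [Finite Q] (φ : Q ≃* R) :
    (zjFunctor Q).map φ.toMonoidHom = zjFunctor R := by
  haveI : Finite R := Finite.of_equiv Q φ.toEquiv
  show (CfsgLib.ZJ.zj 0 (⊤ : Subgroup Q)).map φ.toMonoidHom = CfsgLib.ZJ.zj 0 (⊤ : Subgroup R)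
  rw [← CfsgLib.ZJ.zj_map 0 (f := φ.toMonoidHom) φ.injective, Subgroup.map_top_of_surjective _ φ.surjective]

theorem functorOn_zjFunctor {Ω : Type u} [Group Ω] (S : Subgroup Ω) [Finite S] :
    functorOn zjFunctor S = centerThompsonAOf S := by
  rw [functorOn, CfsgLib.ZJ.centerThompsonAOf_eq]
  show (CfsgLib.ZJ.zj 0 (⊤ : Subgroup S)).map S.subtype = _
  rw [← CfsgLib.ZJ.zj_map 0 S.subtype_injective, ← MonoidHom.range_eq_map, Subgroup.range_subtype]

/-- The `ZJ`-theorem for `Qd(p)`-free systems. -/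
theorem IsSaturated.isNormal_zj (hp : p ≠ 2) {Ω : Type u} [Group Ω] {S : Subgroup Ω} [Finite S]
    {F : FusionSystem S} (hF : F.IsSaturated p) (hS : IsPGroup p S) (hfree : ¬ F.QdWitness p) :
    F.IsNormal (centerThompsonAOf S) := by
  rw [← functorOn_zjFunctor]
  refine isNormal_functorOn_aux p zjFunctor (fun Q _ _ => zjFunctor_ne_bot Q)
    (fun Q R _ _ _ _ => zjFunctor_map Q R) (fun L _ _ T hC hi => ?_) _ _ F rfl rfl hF hS hfree
  rw [functorOn_zjFunctor, ← CfsgLib.ZJ.zj_zero]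
  exact CfsgLib.ZJ.zj_normal hp (Or.inl rfl) hC (CfsgLib.Quadratic.quadStable_of_isNormalizerPStable
    (CfsgLib.Quadratic.isNormalizerPStable_of_free hp hi)) T

end Cfsg.FusionSystem
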